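import Cfsg.Agent.Block.A9ModN

/-!
# The group `A₉`: permutation models and finite facts
-/

set_option autoImplicit false
set_option maxRecDepth 100000
set_option linter.unusedSimpArgs false
set_option linter.unusedVariables false
set_option maxHeartbeats 1000000

namespace Cfsg.Lib.A9L

open Subgroup Cfsg.Lib.Spor Cfsg.Lib.Spor.Bulk Cfsg.Lib.Spor.PK Cfsg.Lib.Spor.WF Cfsg.Lib.L3

variable {G : Type*} [Group G] {x y z s r i p b c t w v α β γ δ ι ρ σ τ μ f : G}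

/-- The alternating group of degree nine. -/
@[reducible] def MA : PM where
  w := 7
  n := 9
  cs := [4062995741946381184,
    4062995741946152711,
    4062995741946265614,
    4062995262803772288,
    4062995499578524544,
    3058160861414916992,
    3554713506658091904,
    1012748903592283669,
    2537871231916316842,
    3562532994715714432,
    2037409939156223744,
    3562533233354721024,
    3554713027515483008,
    3058160619047060352,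
    3058160382272079623,
    3554713264290119694,
    2037410177795457920,
    2537872447747883904,
    4062903144374567808,
    4062995741902227221]
  SW := [([[1],[2],[3],[4],[5],[6],[7],[8],[9],[10],[11],[12],[13],[14],[15],[16],[17],[18],[19]],
    [⟨0, [128, 65, 390, 199, 518, 327, 454, 263], [[1, 13], [18, 6]]⟩,
     ⟨3, [320, 385, 256, 129, 512, 65, 449], [[0, 1, 0, 1, 1, 0], [1, 0, 1, 0, 0]]⟩,
     ⟨6, [448, 129, 512, 257, 320, 65], [[1, 0, 1, 1, 0, 1], [0, 1, 0]]⟩,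
     ⟨4, [128, 448, 65, 513, 321], [[0, 1, 1], [0, 1, 0, 1]]⟩,
     ⟨1, [128, 320, 512, 448], [[0, 0, 1, 0, 0, 0, 0], [0, 0, 0, 1, 0]]⟩,
     ⟨2, [512, 449, 321], [[1, 1, 0, 1]]⟩,
     ⟨5, [448, 512], []⟩])]

instance : NeZero MA.n := ⟨by decide⟩

theorem MA_ok : MA.ok = true := by decide +kernel

theorem MA_subs : MA.subsOK = true := by decide +kernel

theorem MA_sat : MA.satB 20 io rA = true := by decide +kernel

theorem MA_top : sub MA.m (MA.W 0) = alternatingGroup (Fin 9) := by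
  refine Equiv.Perm.eq_alternatingGroup_of_index_eq_two ?_
  have := (sub MA.m (MA.W 0)).card_mul_index
  rw [PM.card_sub MA_ok MA_subs 0, Nat.card_perm, Nat.card_eq_fintype_card, Fintype.card_fin,
    show certOrder (MA.K 0) = 181440 by decide +kernel, show Nat.factorial MA.n = 362880 by decide] at this
  omega

theorem MA_emb (h : Sat (gH x y z s r i p b c t w v) 20 io rA) (x1 : x ≠ 1) : Emb MA.m (gH x y z s r i p b c t w v) := by
  obtain ⟨hm, φ, -, e⟩ := PM.exists_hom MA_ok MA_subs (PM.sat MA_ok MA_sat) h rfl cardA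
    (by decide +kernel)
  refine ⟨_, hm, φ, (MonoidHom.ker_eq_bot_iff φ).1 ?_, e⟩
  have : IsSimpleGroup (sub MA.m (MA.W 0)) :=
    MA_top ▸ alternatingGroup.isSimpleGroup (α := Fin 9) (by simp)
  refine (IsSimpleGroup.eq_bot_or_eq_top_of_normal _ inferInstance).resolve_right fun ht => ?_
  exact x1 ((e 1).symm.trans (ht ▸ mem_top _ : (⟨_, hm 1⟩ : sub MA.m (MA.W 0)) ∈ φ.ker))

theorem MA_cent : MA.centB (MA.W 0)
    [⟨0, [128, 65, 390, 199, 518, 327, 454, 263], [[18, 6], [1, 18, 1]]⟩,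
     ⟨1, [512, 129, 320, 448, 193, 256, 384], [[1, 1, 0, 0, 1], [1, 0, 1, 0, 0]]⟩,
     ⟨2, [320, 385, 448, 193, 513, 256], [[0, 0, 1, 1, 0], [0, 0, 1, 0, 1]]⟩,
     ⟨3, [385, 256, 513, 449, 320], [[1, 0, 1], [1, 1, 1, 0, 1, 0, 1, 1]]⟩,
     ⟨4, [384, 321, 448, 512], [[1, 1, 0, 0, 0], [0, 0, 1, 0, 0]]⟩,
     ⟨5, [384, 449, 513], [[1, 0]]⟩,
     ⟨6, [512, 448], []⟩]
    [1, 2] [14] 181440 81 [[1], [12]] = true := by decide +kernel

/-- The letters. -/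
def gA (x y z s r i p b c t w v α β γ δ ι ρ σ τ μ f : G) : ℕ → G :=
  lf [1, x, x⁻¹, y, z, z⁻¹, s, s⁻¹, r, i, p, b, c, t, w, v, α, β, γ, δ, ι, ρ, σ, τ, μ, f]

theorem gA_0 : gA x y z s r i p b c t w v α β γ δ ι ρ σ τ μ f 0 = 1 := rfl
theorem gA_1 : gA x y z s r i p b c t w v α β γ δ ι ρ σ τ μ f 1 = x := rfl
theorem gA_2 : gA x y z s r i p b c t w v α β γ δ ι ρ σ τ μ f 2 = x⁻¹ := rfl
theorem gA_3 : gA x y z s r i p b c t w v α β γ δ ι ρ σ τ μ f 3 = y := rfl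
theorem gA_4 : gA x y z s r i p b c t w v α β γ δ ι ρ σ τ μ f 4 = z := rfl
theorem gA_5 : gA x y z s r i p b c t w v α β γ δ ι ρ σ τ μ f 5 = z⁻¹ := rfl
theorem gA_6 : gA x y z s r i p b c t w v α β γ δ ι ρ σ τ μ f 6 = s := rfl
theorem gA_7 : gA x y z s r i p b c t w v α β γ δ ι ρ σ τ μ f 7 = s⁻¹ := rfl
theorem gA_8 : gA x y z s r i p b c t w v α β γ δ ι ρ σ τ μ f 8 = r := rfl
theorem gA_9 : gA x y z s r i p b c t w v α β γ δ ι ρ σ τ μ f 9 = i := rfl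
theorem gA_10 : gA x y z s r i p b c t w v α β γ δ ι ρ σ τ μ f 10 = p := rfl
theorem gA_11 : gA x y z s r i p b c t w v α β γ δ ι ρ σ τ μ f 11 = b := rfl
theorem gA_12 : gA x y z s r i p b c t w v α β γ δ ι ρ σ τ μ f 12 = c := rfl
theorem gA_13 : gA x y z s r i p b c t w v α β γ δ ι ρ σ τ μ f 13 = t := rfl
theorem gA_14 : gA x y z s r i p b c t w v α β γ δ ι ρ σ τ μ f 14 = w := rfl
theorem gA_15 : gA x y z s r i p b c t w v α β γ δ ι ρ σ τ μ f 15 = v := rfl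
theorem gA_16 : gA x y z s r i p b c t w v α β γ δ ι ρ σ τ μ f 16 = α := rfl
theorem gA_17 : gA x y z s r i p b c t w v α β γ δ ι ρ σ τ μ f 17 = β := rfl
theorem gA_18 : gA x y z s r i p b c t w v α β γ δ ι ρ σ τ μ f 18 = γ := rfl
theorem gA_19 : gA x y z s r i p b c t w v α β γ δ ι ρ σ τ μ f 19 = δ := rfl
theorem gA_20 : gA x y z s r i p b c t w v α β γ δ ι ρ σ τ μ f 20 = ι := rfl
theorem gA_21 : gA x y z s r i p b c t w v α β γ δ ι ρ σ τ μ f 21 = ρ := rfl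
theorem gA_22 : gA x y z s r i p b c t w v α β γ δ ι ρ σ τ μ f 22 = σ := rfl
theorem gA_23 : gA x y z s r i p b c t w v α β γ δ ι ρ σ τ μ f 23 = τ := rfl
theorem gA_24 : gA x y z s r i p b c t w v α β γ δ ι ρ σ τ μ f 24 = μ := rfl
theorem gA_25 : gA x y z s r i p b c t w v α β γ δ ι ρ σ τ μ f 25 = f := rfl

set_option hygiene false in
/-- A subgroup of the configuration. -/
scoped notation "𝐀" => Cfsg.Lib.Spor.PK.gen [α, β, γ, δ]

set_option hygiene false in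
/-- A subgroup of the configuration. -/
scoped notation "𝐁" => Cfsg.Lib.Spor.PK.gen [α, β, γ, δ, x, z, σ, τ]

set_option hygiene false in
/-- A subgroup of the configuration. -/
scoped notation "𝐓" => Cfsg.Lib.Spor.PK.gen [σ, β, δ, τ]

set_option hygiene false in
/-- A subgroup of the configuration. -/
scoped notation "𝐐" => Cfsg.Lib.Spor.PK.gen [α, σ, μ, τ]

/-- The alternating group of degree nine, with further letters. -/
@[reducible] def MA2 : PM where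
  w := 7
  n := 9
  cs := [4062995741946381184,
    4062995741946152711,
    4062995741946265614,
    4062995262803772288,
    3058160861414916992,
    3554713506658091904,
    1012748903592283669,
    2537871231916316842,
    3562532994715714432,
    2037409939156223744,
    3562533233354721024,
    3554713027515483008,
    3058160382272079623,
    2037410177795457920,
    4062903144374567808,
    4062995741902227221,
    3562440874422141824,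
    3038488399429469056,
    4062995734430074652,
    4062995736309009934,
    3562440866905835292,
    1536977733886903224,
    4062903383013574400,
    512285665900911658,
    3038488393792097806,
    3554589887791482659]
  SW := [([[1],[3],[4],[6],[8],[9]],
    [⟨0, [128, 387, 64, 515, 195, 451, 323, 261], [[0, 3, 5, 4, 3, 0, 0], [0, 3, 1, 5, 3, 0]]⟩,
     ⟨3, [384, 257, 512, 320, 448], [[0, 1, 0, 1, 0, 1], [0, 1, 1, 0, 0, 1]]⟩,
     ⟨6, [449, 512], [[0], [1, 1, 1]]⟩,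
     ⟨4, [321], [[0]]⟩,
     ⟨1, [128], []⟩]),
   ([[1],[3],[4],[13],[14]],
    [⟨0, [128, 64], [[2, 3], [4, 2]]⟩,
     ⟨3, [384, 513, 320, 256, 449], [[0, 1], [0, 0, 1, 1, 0, 0]]⟩,
     ⟨6, [256, 321, 448, 512], [[0, 0, 0, 1, 0, 0, 0], [0, 1, 0, 0, 0, 0]]⟩,
     ⟨4, [512, 449, 320], [[1, 0, 1]]⟩,
     ⟨5, [512, 448], []⟩]),
   ([[1],[3],[4],[13],[14],[10]],
    [⟨0, [128, 64], [[3, 4, 4], [5, 1, 4]]⟩,
     ⟨3, [384, 257, 512, 320, 449], [[1, 1, 0], [0, 1]]⟩,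
     ⟨6, [512, 257, 320, 449], [[0, 0, 0, 1], [1, 0]]⟩,
     ⟨4, [512, 448, 320], [[0, 0, 0, 1, 0], [1]]⟩,
     ⟨1, [128], [[0, 1]]⟩,
     ⟨5, [512, 448], []⟩]),
   ([[1],[4]],
    [⟨0, [128, 64], [[1]]⟩,
     ⟨6, [512, 448], []⟩]),
   ([[16],[17],[18],[19]],
    [⟨3, [384, 449, 513], [[2], [3]]⟩,
     ⟨0, [256, 129, 65], []⟩]),
   ([[16],[17],[18],[19],[1],[4],[22],[23]],
    [⟨3, [384, 449, 263, 513, 7, 135, 67], [[7, 4, 7, 7, 5, 7], [2, 7, 6, 7], [7, 6, 7, 7, 4, 7]]⟩,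
     ⟨0, [64, 258, 128], [[0, 2, 0, 0], [0, 0, 2, 0], [2, 1, 2]]⟩,
     ⟨1, [257, 130], [[1, 2, 1], [0]]⟩,
     ⟨6, [448, 513], [[0, 1, 0]]⟩,
     ⟨2, [256], []⟩]),
   ([[22],[17],[19],[23]],
    [⟨1, [128, 258, 515, 2, 451, 195, 385], [[3, 0, 3], [0, 1, 0]]⟩,
     ⟨3, [513, 448, 385], [[0]]⟩,
     ⟨0, [256], []⟩]),
   ([[16],[22],[24],[23]],
    [⟨3, [384, 450, 259, 514, 3, 131, 66], [[3, 0, 3], [0, 1]]⟩,
     ⟨1, [128], [[0, 1]]⟩,
     ⟨0, [256], []⟩])]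

instance : NeZero MA2.n := ⟨by decide⟩

theorem MA2_ok : MA2.ok = true := by decide +kernel

theorem MA2_subs : MA2.subsOK = true := by decide +kernel

theorem MA2_s0 : sub (gA x y z s r i p b c t w v α β γ δ ι ρ σ τ μ f) (MA2.W 0) = 𝐇 := by
  change gen (List.map (wv _) [[1],[3],[4],[6],[8],[9]]) = _
  simp only [List.map_cons, List.map_nil, wv_cons, wv_nil, one_mul, gen_one, gA_1, gA_2, gA_3, gA_4, gA_5,
    gA_6, gA_7, gA_8, gA_9, gA_10, gA_11, gA_12, gA_13, gA_14, gA_15, gA_16, gA_17, gA_18, gA_19,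
    gA_20, gA_21, gA_22, gA_23, gA_24, gA_25]

theorem MA2_s1 : sub (gA x y z s r i p b c t w v α β γ δ ι ρ σ τ μ f) (MA2.W 1) = 𝐗 := by
  change gen (List.map (wv _) [[1],[3],[4],[13],[14]]) = _
  simp only [List.map_cons, List.map_nil, wv_cons, wv_nil, one_mul, gen_one, gA_1, gA_2, gA_3, gA_4, gA_5,
    gA_6, gA_7, gA_8, gA_9, gA_10, gA_11, gA_12, gA_13, gA_14, gA_15, gA_16, gA_17, gA_18, gA_19,
    gA_20, gA_21, gA_22, gA_23, gA_24, gA_25]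

theorem MA2_s2 : sub (gA x y z s r i p b c t w v α β γ δ ι ρ σ τ μ f) (MA2.W 2) = 𝐌 := by
  change gen (List.map (wv _) [[1],[3],[4],[13],[14],[10]]) = _
  simp only [List.map_cons, List.map_nil, wv_cons, wv_nil, one_mul, gen_one, gA_1, gA_2, gA_3, gA_4, gA_5,
    gA_6, gA_7, gA_8, gA_9, gA_10, gA_11, gA_12, gA_13, gA_14, gA_15, gA_16, gA_17, gA_18, gA_19,
    gA_20, gA_21, gA_22, gA_23, gA_24, gA_25]

theorem MA2_s3 : sub (gA x y z s r i p b c t w v α β γ δ ι ρ σ τ μ f) (MA2.W 3) = 𝐃 := by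
  change gen (List.map (wv _) [[1],[4]]) = _
  simp only [List.map_cons, List.map_nil, wv_cons, wv_nil, one_mul, gen_one, gA_1, gA_2, gA_3, gA_4, gA_5,
    gA_6, gA_7, gA_8, gA_9, gA_10, gA_11, gA_12, gA_13, gA_14, gA_15, gA_16, gA_17, gA_18, gA_19,
    gA_20, gA_21, gA_22, gA_23, gA_24, gA_25]

theorem MA2_s4 : sub (gA x y z s r i p b c t w v α β γ δ ι ρ σ τ μ f) (MA2.W 4) = 𝐀 := by
  change gen (List.map (wv _) [[16],[17],[18],[19]]) = _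
  simp only [List.map_cons, List.map_nil, wv_cons, wv_nil, one_mul, gen_one, gA_1, gA_2, gA_3, gA_4, gA_5,
    gA_6, gA_7, gA_8, gA_9, gA_10, gA_11, gA_12, gA_13, gA_14, gA_15, gA_16, gA_17, gA_18, gA_19,
    gA_20, gA_21, gA_22, gA_23, gA_24, gA_25]

theorem MA2_s5 : sub (gA x y z s r i p b c t w v α β γ δ ι ρ σ τ μ f) (MA2.W 5) = 𝐁 := by
  change gen (List.map (wv _) [[16],[17],[18],[19],[1],[4],[22],[23]]) = _
  simp only [List.map_cons, List.map_nil, wv_cons, wv_nil, one_mul, gen_one, gA_1, gA_2, gA_3, gA_4, gA_5,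
    gA_6, gA_7, gA_8, gA_9, gA_10, gA_11, gA_12, gA_13, gA_14, gA_15, gA_16, gA_17, gA_18, gA_19,
    gA_20, gA_21, gA_22, gA_23, gA_24, gA_25]

theorem MA2_s6 : sub (gA x y z s r i p b c t w v α β γ δ ι ρ σ τ μ f) (MA2.W 6) = 𝐓 := by
  change gen (List.map (wv _) [[22],[17],[19],[23]]) = _
  simp only [List.map_cons, List.map_nil, wv_cons, wv_nil, one_mul, gen_one, gA_1, gA_2, gA_3, gA_4, gA_5,
    gA_6, gA_7, gA_8, gA_9, gA_10, gA_11, gA_12, gA_13, gA_14, gA_15, gA_16, gA_17, gA_18, gA_19,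
    gA_20, gA_21, gA_22, gA_23, gA_24, gA_25]

theorem MA2_s7 : sub (gA x y z s r i p b c t w v α β γ δ ι ρ σ τ μ f) (MA2.W 7) = 𝐐 := by
  change gen (List.map (wv _) [[16],[22],[24],[23]]) = _
  simp only [List.map_cons, List.map_nil, wv_cons, wv_nil, one_mul, gen_one, gA_1, gA_2, gA_3, gA_4, gA_5,
    gA_6, gA_7, gA_8, gA_9, gA_10, gA_11, gA_12, gA_13, gA_14, gA_15, gA_16, gA_17, gA_18, gA_19,
    gA_20, gA_21, gA_22, gA_23, gA_24, gA_25]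

/-- Standard elements of `A₉`. -/
structure EA (x y z s r i p b c t w v α β γ δ ι ρ σ τ μ f : G) : Prop where
  embA : Emb MA2.m (gA x y z s r i p b c t w v α β γ δ ι ρ σ τ μ f)

theorem EA.of (h : Emb MA.m (gH x y z s r i p b c t w v)) : ∃ γ δ ι ρ σ τ μ f,
    EA x y z s r i p b c t w v (w * r) (z * w * r * z⁻¹) γ δ ι ρ σ τ μ f := by
  have := emb_sg MA_ok MA2_ok h [[], [1], [2], [3], [5], [6], [7], [8], [9], [10], [11], [12], [14], [16], [18], [19], [9, 18],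
    [6, 9, 18, 5], [4, 19, 3], [2, 4, 19, 3, 1], [4, 19, 3, 9, 18], [13, 18, 3, 19, 12, 19, 4, 18,
    12], [18, 9, 11], [10, 8, 3], [2, 4, 19, 3, 1, 6, 9, 18, 5], [19, 4, 18, 12]] (by decide +kernel)
  simp only [List.map_cons, List.map_nil, wv_cons, wv_nil, one_mul, gH_1, gH_2, gH_3, gH_4, gH_5, gH_6, gH_7, gH_8, gH_9, gH_10, gH_11, gH_12, gH_13, gH_14, gH_15,
    gH_16, gH_17, gH_18, gH_19] at this
  exact ⟨_, _, _, _, _, _, _, _, ⟨this⟩⟩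

theorem EA.cardA (h : EA x y z s r i p b c t w v α β γ δ ι ρ σ τ μ f) : Nat.card 𝐀 = 16 := by
  have := PM.card_of_emb MA2_ok MA2_subs h.embA 4
  rwa [MA2_s4, show certOrder (MA2.K 4) = 16 by decide +kernel] at this

theorem EA.cardT (h : EA x y z s r i p b c t w v α β γ δ ι ρ σ τ μ f) : Nat.card 𝐓 = 64 := by
  have := PM.card_of_emb MA2_ok MA2_subs h.embA 6
  rwa [MA2_s6, show certOrder (MA2.K 6) = 64 by decide +kernel] at this

theorem EA.cardQ (h : EA x y z s r i p b c t w v α β γ δ ι ρ σ τ μ f) : Nat.card 𝐐 = 32 := by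
  have := PM.card_of_emb MA2_ok MA2_subs h.embA 7
  rwa [MA2_s7, show certOrder (MA2.K 7) = 32 by decide +kernel] at this

theorem EA.eqsA (h : EA x y z s r i p b c t w v α β γ δ ι ρ σ τ μ f) :
    x * γ = δ * x ∧ x * δ = γ * δ * x ∧ x * α = α * x ∧ x * β = β * x ∧ z * α = β * z ∧ z * β = α *
    β * z ∧ z * γ = γ * z ∧ z * δ = δ * z ∧ ι = α * γ ∧ μ = β * δ ∧ f * i = ι * f ∧ f * b = ρ * f ∧
    w * y * v * c * t * v * b * s = c * w * y * v * c * t * v * b ∧ y * w * y * y * r = α * y * w *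
    y * y ∧ τ * α = γ * τ ∧ ι * ι = 1 ∧ β * β = 1 ∧ γ * δ = δ * γ ∧ ¬ ι = 1 ∧ ¬ μ = ι ∧ ¬ α = ι ∧ ¬
    α = 1 ∧ ¬ γ = α ∧ ¬ γ = β ∧ ¬ γ = α * β ∧ (∃ d ∈ 𝐃, d * ι = μ * d) ∧ ι ∈ 𝐐 ∧ γ ∈ 𝐐 ∧ α ∈ 𝐓 ∧ γ ∈
    𝐓 ∧ ι ∈ 𝐓 ∧ (¬ β * ρ * β * ρ * β * ρ = 1 ∧ ¬ β * ρ * β * ρ * β * ρ = ι) := by
  have := PM.holds MA2_ok MA2_subs h.embA (p := (.and (.eq [18,1] [1,19]) (.and (.eq [19,1] [1,19,18]) (.and (.eq [16,1] [1,16]) (.and (.eq
      [17,1] [1,17]) (.and (.eq [16,4] [4,17]) (.and (.eq [17,4] [4,17,16]) (.and (.eq [18,4] [4,18])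
      (.and (.eq [19,4] [4,19]) (.and (.eq [20] [18,16]) (.and (.eq [24] [19,17]) (.and (.eq [9,25]
      [25,20]) (.and (.eq [11,25] [25,21]) (.and (.eq [6,11,15,13,12,15,3,14]
      [11,15,13,12,15,3,14,12]) (.and (.eq [8,3,3,14,3] [3,3,14,3,16]) (.and (.eq [16,23] [23,18])
      (.and (.eq [20,20] []) (.and (.eq [17,17] []) (.and (.eq [19,18] [18,19]) (.and (.not (.eq [20]
      [])) (.and (.not (.eq [24] [20])) (.and (.not (.eq [16] [20])) (.and (.not (.eq [16] [])) (.and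
      (.not (.eq [18] [16])) (.and (.not (.eq [18] [17])) (.and (.not (.eq [18] [17,16])) (.and (.ex 3
      40 (.eq [20,40] [40,24])) (.and (.ex 7 39 (.eq [20] [39])) (.and (.ex 7 39 (.eq [18] [39]))
      (.and (.ex 6 39 (.eq [16] [39])) (.and (.ex 6 39 (.eq [18] [39])) (.and (.ex 6 39 (.eq [20]
      [39])) (.and (.not (.eq [21,17,21,17,21,17] [])) (.not (.eq [21,17,21,17,21,17]
      [20]))))))))))))))))))))))))))))))))))) (by decide +kernel)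
  simp only [Fm.sem, wv_cons, wv_nil, one_mul, upd_apply, Nat.reduceEqDiff, ↓reduceIte, exists_eq_right',
    gA_1, gA_3, gA_4, gA_6, gA_8, gA_9, gA_11, gA_12, gA_13, gA_14, gA_15, gA_16, gA_17, gA_18,
    gA_19, gA_20, gA_21, gA_23, gA_24, gA_25, MA2_s3, MA2_s6, MA2_s7] at this
  exact this

theorem EA.xγ (h : EA x y z s r i p b c t w v α β γ δ ι ρ σ τ μ f) :
    x * γ = δ * x := h.eqsA.1

theorem EA.xδ (h : EA x y z s r i p b c t w v α β γ δ ι ρ σ τ μ f) :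
    x * δ = γ * δ * x := h.eqsA.2.1

theorem EA.xα (h : EA x y z s r i p b c t w v α β γ δ ι ρ σ τ μ f) :
    x * α = α * x := h.eqsA.2.2.1

theorem EA.xβ (h : EA x y z s r i p b c t w v α β γ δ ι ρ σ τ μ f) :
    x * β = β * x := h.eqsA.2.2.2.1

theorem EA.zα (h : EA x y z s r i p b c t w v α β γ δ ι ρ σ τ μ f) :
    z * α = β * z := h.eqsA.2.2.2.2.1

theorem EA.zβ (h : EA x y z s r i p b c t w v α β γ δ ι ρ σ τ μ f) :
    z * β = α * β * z := h.eqsA.2.2.2.2.2.1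

theorem EA.zγ (h : EA x y z s r i p b c t w v α β γ δ ι ρ σ τ μ f) :
    z * γ = γ * z := h.eqsA.2.2.2.2.2.2.1

theorem EA.zδ (h : EA x y z s r i p b c t w v α β γ δ ι ρ σ τ μ f) :
    z * δ = δ * z := h.eqsA.2.2.2.2.2.2.2.1

theorem EA.eι (h : EA x y z s r i p b c t w v α β γ δ ι ρ σ τ μ f) :
    ι = α * γ := h.eqsA.2.2.2.2.2.2.2.2.1

theorem EA.eμ (h : EA x y z s r i p b c t w v α β γ δ ι ρ σ τ μ f) :
    μ = β * δ := h.eqsA.2.2.2.2.2.2.2.2.2.1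

theorem EA.fi (h : EA x y z s r i p b c t w v α β γ δ ι ρ σ τ μ f) :
    f * i = ι * f := h.eqsA.2.2.2.2.2.2.2.2.2.2.1

theorem EA.fb (h : EA x y z s r i p b c t w v α β γ δ ι ρ σ τ μ f) :
    f * b = ρ * f := h.eqsA.2.2.2.2.2.2.2.2.2.2.2.1

theorem EA.sc (h : EA x y z s r i p b c t w v α β γ δ ι ρ σ τ μ f) :
    w * y * v * c * t * v * b * s = c * w * y * v * c * t * v * b := h.eqsA.2.2.2.2.2.2.2.2.2.2.2.2.1

theorem EA.rα (h : EA x y z s r i p b c t w v α β γ δ ι ρ σ τ μ f) :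
    y * w * y * y * r = α * y * w * y * y := h.eqsA.2.2.2.2.2.2.2.2.2.2.2.2.2.1

theorem EA.τα (h : EA x y z s r i p b c t w v α β γ δ ι ρ σ τ μ f) :
    τ * α = γ * τ := h.eqsA.2.2.2.2.2.2.2.2.2.2.2.2.2.2.1

theorem EA.ι2 (h : EA x y z s r i p b c t w v α β γ δ ι ρ σ τ μ f) :
    ι * ι = 1 := h.eqsA.2.2.2.2.2.2.2.2.2.2.2.2.2.2.2.1

theorem EA.β2 (h : EA x y z s r i p b c t w v α β γ δ ι ρ σ τ μ f) :
    β * β = 1 := h.eqsA.2.2.2.2.2.2.2.2.2.2.2.2.2.2.2.2.1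

theorem EA.γδ (h : EA x y z s r i p b c t w v α β γ δ ι ρ σ τ μ f) :
    γ * δ = δ * γ := h.eqsA.2.2.2.2.2.2.2.2.2.2.2.2.2.2.2.2.2.1

theorem EA.ι1 (h : EA x y z s r i p b c t w v α β γ δ ι ρ σ τ μ f) :
    ¬ ι = 1 := h.eqsA.2.2.2.2.2.2.2.2.2.2.2.2.2.2.2.2.2.2.1

theorem EA.μι (h : EA x y z s r i p b c t w v α β γ δ ι ρ σ τ μ f) :
    ¬ μ = ι := h.eqsA.2.2.2.2.2.2.2.2.2.2.2.2.2.2.2.2.2.2.2.1

theorem EA.αι (h : EA x y z s r i p b c t w v α β γ δ ι ρ σ τ μ f) :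
    ¬ α = ι := h.eqsA.2.2.2.2.2.2.2.2.2.2.2.2.2.2.2.2.2.2.2.2.1

theorem EA.α1 (h : EA x y z s r i p b c t w v α β γ δ ι ρ σ τ μ f) :
    ¬ α = 1 := h.eqsA.2.2.2.2.2.2.2.2.2.2.2.2.2.2.2.2.2.2.2.2.2.1

theorem EA.γα (h : EA x y z s r i p b c t w v α β γ δ ι ρ σ τ μ f) :
    ¬ γ = α := h.eqsA.2.2.2.2.2.2.2.2.2.2.2.2.2.2.2.2.2.2.2.2.2.2.1

theorem EA.γβ (h : EA x y z s r i p b c t w v α β γ δ ι ρ σ τ μ f) :
    ¬ γ = β := h.eqsA.2.2.2.2.2.2.2.2.2.2.2.2.2.2.2.2.2.2.2.2.2.2.2.1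

theorem EA.γαβ (h : EA x y z s r i p b c t w v α β γ δ ι ρ σ τ μ f) :
    ¬ γ = α * β := h.eqsA.2.2.2.2.2.2.2.2.2.2.2.2.2.2.2.2.2.2.2.2.2.2.2.2.1

theorem EA.ιμ (h : EA x y z s r i p b c t w v α β γ δ ι ρ σ τ μ f) :
    ∃ d ∈ 𝐃, d * ι = μ * d := h.eqsA.2.2.2.2.2.2.2.2.2.2.2.2.2.2.2.2.2.2.2.2.2.2.2.2.2.1

theorem EA.ιQ (h : EA x y z s r i p b c t w v α β γ δ ι ρ σ τ μ f) :
    ι ∈ 𝐐 := h.eqsA.2.2.2.2.2.2.2.2.2.2.2.2.2.2.2.2.2.2.2.2.2.2.2.2.2.2.1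

theorem EA.γQ (h : EA x y z s r i p b c t w v α β γ δ ι ρ σ τ μ f) :
    γ ∈ 𝐐 := h.eqsA.2.2.2.2.2.2.2.2.2.2.2.2.2.2.2.2.2.2.2.2.2.2.2.2.2.2.2.1

theorem EA.αT (h : EA x y z s r i p b c t w v α β γ δ ι ρ σ τ μ f) :
    α ∈ 𝐓 := h.eqsA.2.2.2.2.2.2.2.2.2.2.2.2.2.2.2.2.2.2.2.2.2.2.2.2.2.2.2.2.1

theorem EA.γT (h : EA x y z s r i p b c t w v α β γ δ ι ρ σ τ μ f) :
    γ ∈ 𝐓 := h.eqsA.2.2.2.2.2.2.2.2.2.2.2.2.2.2.2.2.2.2.2.2.2.2.2.2.2.2.2.2.2.1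

theorem EA.ιT (h : EA x y z s r i p b c t w v α β γ δ ι ρ σ τ μ f) :
    ι ∈ 𝐓 := h.eqsA.2.2.2.2.2.2.2.2.2.2.2.2.2.2.2.2.2.2.2.2.2.2.2.2.2.2.2.2.2.2.1

theorem EA.βρ (h : EA x y z s r i p b c t w v α β γ δ ι ρ σ τ μ f) :
    ¬ β * ρ * β * ρ * β * ρ = 1 ∧ ¬ β * ρ * β * ρ * β * ρ = ι := h.eqsA.2.2.2.2.2.2.2.2.2.2.2.2.2.2.2.2.2.2.2.2.2.2.2.2.2.2.2.2.2.2.2

theorem EA.cA1 (h : EA x y z s r i p b c t w v α β γ δ ι ρ σ τ μ f) :
    ∀ k ∈ 𝐗, k * α = α * k → k * β = β * k → k * γ = γ * k → k * δ = δ * k → k ∈ 𝐀 := by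
  have := PM.holds MA2_ok MA2_subs h.embA (p := (.all 1 40 (.imp (.eq [16,40] [40,16]) (.imp (.eq [17,40] [40,17]) (.imp (.eq [18,40] [40,18])
      (.imp (.eq [19,40] [40,19]) (.ex 4 39 (.eq [40] [39])))))))) (by decide +kernel)
  simp only [Fm.sem, wv_cons, wv_nil, one_mul, upd_apply, Nat.reduceEqDiff, ↓reduceIte, exists_eq_right',
    gA_16, gA_17, gA_18, gA_19, MA2_s1, MA2_s4] at this
  exact this

theorem EA.cA2 (h : EA x y z s r i p b c t w v α β γ δ ι ρ σ τ μ f) :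
    ∀ g ∈ 𝐗, (s⁻¹ * g * s) * α = α * (s⁻¹ * g * s) → (s⁻¹ * g * s) * β = β * (s⁻¹ * g * s) → (s⁻¹ *
    g * s) * γ = γ * (s⁻¹ * g * s) → (s⁻¹ * g * s) * δ = δ * (s⁻¹ * g * s) → (s⁻¹ * g * s) ∈ 𝐀 := by
  have := PM.holds MA2_ok MA2_subs h.embA (p := (.all 1 40 (.bind 41 [6,40,7] (.imp (.eq [16,41] [41,16]) (.imp (.eq [17,41] [41,17]) (.imp (.eq
      [18,41] [41,18]) (.imp (.eq [19,41] [41,19]) (.ex 4 39 (.eq [41] [39]))))))))) (by decide +kernel)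
  simp only [Fm.sem, wv_cons, wv_nil, one_mul, upd_apply, Nat.reduceEqDiff, ↓reduceIte, exists_eq_right',
    gA_6, gA_7, gA_16, gA_17, gA_18, gA_19, MA2_s1, MA2_s4] at this
  exact this

theorem EA.cA3 (h : EA x y z s r i p b c t w v α β γ δ ι ρ σ τ μ f) :
    ∀ k ∈ 𝐇, k * α = α * k → k * β = β * k → k * γ = γ * k → k * δ = δ * k → k ∈ 𝐀 := by
  have := PM.holds MA2_ok MA2_subs h.embA (p := (.all 0 40 (.imp (.eq [16,40] [40,16]) (.imp (.eq [17,40] [40,17]) (.imp (.eq [18,40] [40,18])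
      (.imp (.eq [19,40] [40,19]) (.ex 4 39 (.eq [40] [39])))))))) (by decide +kernel)
  simp only [Fm.sem, wv_cons, wv_nil, one_mul, upd_apply, Nat.reduceEqDiff, ↓reduceIte, exists_eq_right',
    gA_16, gA_17, gA_18, gA_19, MA2_s0, MA2_s4] at this
  exact this

/-- The six involutions of `A` with two fixed blocks. -/
def Rt (α β γ δ u : G) : Prop := u = α ∨ u = β ∨ u = α * β ∨ u = γ ∨ u = δ ∨ u = γ * δ

theorem EA.memA (h : EA x y z s r i p b c t w v α β γ δ ι ρ σ τ μ f) :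
    ∀ k ∈ 𝐀, k * k = 1 ∧ (k * α = α * k ∧ k * β = β * k ∧ k * γ = γ * k ∧ k * δ = δ * k) ∧ (k = 1 ∨
    (∃ d ∈ 𝐃, d * ι = k * d) ∨ Rt α β γ δ k) ∧ (k * x⁻¹ * k * x⁻¹ * k * x⁻¹ = 1 → (∃ a ∈ 𝐀, a * x⁻¹
    = k * x⁻¹ * a)) := by
  have := PM.holds MA2_ok MA2_subs h.embA (p := (.all 4 40 (.and (.eq [40,40] []) (.and (.and (.eq [16,40] [40,16]) (.and (.eq [17,40] [40,17])
      (.and (.eq [18,40] [40,18]) (.eq [19,40] [40,19])))) (.and (.or (.eq [40] []) (.or (.ex 3 41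
      (.eq [20,41] [41,40])) (.or (.eq [40] [16]) (.or (.eq [40] [17]) (.or (.eq [40] [17,16]) (.or
      (.eq [40] [18]) (.or (.eq [40] [19]) (.eq [40] [19,18])))))))) (.imp (.eq [2,40,2,40,2,40] [])
      (.ex 4 42 (.eq [2,42] [42,2,40])))))))) (by decide +kernel)
  simp only [Fm.sem, wv_cons, wv_nil, one_mul, upd_apply, Nat.reduceEqDiff, ↓reduceIte, exists_eq_right',
    gA_2, gA_16, gA_17, gA_18, gA_19, gA_20, MA2_s3, MA2_s4] at this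
  exact this

theorem EA.autA (h : EA x y z s r i p b c t w v α β γ δ ι ρ σ τ μ f) :
    ∀ a ∈ 𝐀, Rt α β γ δ a → (∀ e ∈ 𝐀, Rt α β γ δ e → Rt α β γ δ (a * e) → (∀ k ∈ 𝐀, Rt α β γ δ k → ¬
    k = a → ¬ k = e → ¬ k = a * e → (∀ l ∈ 𝐀, Rt α β γ δ l → Rt α β γ δ (k * l) → (∃ n ∈ 𝐁, n * α =
    a * n ∧ n * β = e * n ∧ ((n * γ = k * n ∧ n * δ = l * n) ∨ (n * δ = k * n ∧ n * γ = l * n)))))) := by
  have := PM.holds MA2_ok MA2_subs h.embA (p := (.all 4 40 (.imp (.or (.eq [40] [16]) (.or (.eq [40] [17]) (.or (.eq [40] [17,16]) (.or (.eq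
      [40] [18]) (.or (.eq [40] [19]) (.eq [40] [19,18])))))) (.all 4 41 (.imp (.or (.eq [41] [16])
      (.or (.eq [41] [17]) (.or (.eq [41] [17,16]) (.or (.eq [41] [18]) (.or (.eq [41] [19]) (.eq [41]
      [19,18])))))) (.imp (.or (.eq [41,40] [16]) (.or (.eq [41,40] [17]) (.or (.eq [41,40] [17,16])
      (.or (.eq [41,40] [18]) (.or (.eq [41,40] [19]) (.eq [41,40] [19,18])))))) (.all 4 42 (.imp (.or
      (.eq [42] [16]) (.or (.eq [42] [17]) (.or (.eq [42] [17,16]) (.or (.eq [42] [18]) (.or (.eq [42]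
      [19]) (.eq [42] [19,18])))))) (.imp (.not (.eq [42] [40])) (.imp (.not (.eq [42] [41])) (.imp
      (.not (.eq [42] [41,40])) (.all 4 43 (.imp (.or (.eq [43] [16]) (.or (.eq [43] [17]) (.or (.eq
      [43] [17,16]) (.or (.eq [43] [18]) (.or (.eq [43] [19]) (.eq [43] [19,18])))))) (.imp (.or (.eq
      [43,42] [16]) (.or (.eq [43,42] [17]) (.or (.eq [43,42] [17,16]) (.or (.eq [43,42] [18]) (.or
      (.eq [43,42] [19]) (.eq [43,42] [19,18])))))) (.ex 5 44 (.and (.eq [16,44] [44,40]) (.and (.eq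
      [17,44] [44,41]) (.or (.and (.eq [18,44] [44,42]) (.eq [19,44] [44,43])) (.and (.eq [19,44]
      [44,42]) (.eq [18,44] [44,43])))))))))))))))))))) (by decide +kernel)
  simp only [Fm.sem, wv_cons, wv_nil, one_mul, upd_apply, Nat.reduceEqDiff, ↓reduceIte, exists_eq_right',
    gA_16, gA_17, gA_18, gA_19, MA2_s4, MA2_s5] at this
  exact this

theorem EA.nM (h : EA x y z s r i p b c t w v α β γ δ ι ρ σ τ μ f) :
    ∀ n ∈ 𝐌, ¬ (n * α = α * n ∧ n * β = β * n ∧ n * γ = δ * n ∧ n * δ = γ * n) := by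
  have := PM.holds MA2_ok MA2_subs h.embA (p := (.all 2 40 (.not (.and (.eq [16,40] [40,16]) (.and (.eq [17,40] [40,17]) (.and (.eq [18,40]
      [40,19]) (.eq [19,40] [40,18]))))))) (by decide +kernel)
  simp only [Fm.sem, wv_cons, wv_nil, one_mul, upd_apply, Nat.reduceEqDiff, ↓reduceIte, exists_eq_right',
    gA_16, gA_17, gA_18, gA_19, MA2_s2] at this
  exact this

theorem EA.normB (h : EA x y z s r i p b c t w v α β γ δ ι ρ σ τ μ f) :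
    ∀ n ∈ 𝐁, (∃ a ∈ 𝐀, n * α = a * n) ∧ (∃ a ∈ 𝐀, n * β = a * n) ∧ (∃ a ∈ 𝐀, n * γ = a * n) ∧ (∃ a ∈
    𝐀, n * δ = a * n) ∧ (n * ι = ι * n → n ∈ 𝐓) := by
  have := PM.holds MA2_ok MA2_subs h.embA (p := (.all 5 40 (.and (.ex 4 41 (.eq [16,40] [40,41])) (.and (.ex 4 41 (.eq [17,40] [40,41])) (.and
      (.ex 4 41 (.eq [18,40] [40,41])) (.and (.ex 4 41 (.eq [19,40] [40,41])) (.imp (.eq [20,40]
      [40,20]) (.ex 6 39 (.eq [40] [39]))))))))) (by decide +kernel)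
  simp only [Fm.sem, wv_cons, wv_nil, one_mul, upd_apply, Nat.reduceEqDiff, ↓reduceIte, exists_eq_right',
    gA_16, gA_17, gA_18, gA_19, gA_20, MA2_s4, MA2_s5, MA2_s6] at this
  exact this

theorem EA.h5 (h : EA x y z s r i p b c t w v α β γ δ ι ρ σ τ μ f) :
    ∀ k ∈ 𝐓, k ∈ 𝐀 ∨ (∃ j ∈ 𝐓, j * k = k * j ∧ ¬ j * j = 1) := by
  have := PM.holds MA2_ok MA2_subs h.embA (p := (.all 6 40 (.or (.ex 4 39 (.eq [40] [39])) (.ex 6 41 (.and (.eq [40,41] [41,40]) (.not (.eq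
      [41,41] []))))))) (by decide +kernel)
  simp only [Fm.sem, wv_cons, wv_nil, one_mul, upd_apply, Nat.reduceEqDiff, ↓reduceIte, exists_eq_right',
    MA2_s4, MA2_s6] at this
  exact this

theorem EA.h6 (h : EA x y z s r i p b c t w v α β γ δ ι ρ σ τ μ f) :
    ∀ j ∈ 𝐓, (j * β = β * j ∨ j * α * β = α * β * j ∨ j * δ = δ * j ∨ j * γ * δ = γ * δ * j) → j * j
    = 1 := by
  have := PM.holds MA2_ok MA2_subs h.embA (p := (.all 6 40 (.imp (.or (.eq [17,40] [40,17]) (.or (.eq [17,16,40] [40,17,16]) (.or (.eq [19,40]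
      [40,19]) (.eq [19,18,40] [40,19,18])))) (.eq [40,40] [])))) (by decide +kernel)
  simp only [Fm.sem, wv_cons, wv_nil, one_mul, upd_apply, Nat.reduceEqDiff, ↓reduceIte, exists_eq_right',
    gA_16, gA_17, gA_18, gA_19, MA2_s6] at this
  exact this

theorem EA.h8 (h : EA x y z s r i p b c t w v α β γ δ ι ρ σ τ μ f) :
    ∀ k ∈ 𝐓, k * k * k * k = 1 ∧ k * ι = ι * k ∧ (k ∈ 𝐐 ∨ k * β ∈ 𝐐) := by
  have := PM.holds MA2_ok MA2_subs h.embA (p := (.all 6 40 (.and (.eq [40,40,40,40] []) (.and (.eq [20,40] [40,20]) (.or (.ex 7 39 (.eq [40]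
      [39])) (.ex 7 39 (.eq [17,40] [39]))))))) (by decide +kernel)
  simp only [Fm.sem, wv_cons, wv_nil, one_mul, upd_apply, Nat.reduceEqDiff, ↓reduceIte, exists_eq_right',
    gA_17, gA_20, MA2_s6, MA2_s7] at this
  exact this

theorem EA.q1 (h : EA x y z s r i p b c t w v α β γ δ ι ρ σ τ μ f) :
    ∀ k ∈ 𝐐, k ∈ 𝐓 ∧ (k * k = 1 ∨ k * k = ι) ∧ (∃ u ∈ 𝐐, ρ * k = u * ρ) ∧ (α * k = k * α → σ * k = k
    * σ → μ * k = k * μ → τ * k = k * τ → (k = 1 ∨ k = ι)) := by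
  have := PM.holds MA2_ok MA2_subs h.embA (p := (.all 7 40 (.and (.ex 6 39 (.eq [40] [39])) (.and (.or (.eq [40,40] []) (.eq [40,40] [20]))
      (.and (.ex 7 41 (.eq [40,21] [21,41])) (.imp (.eq [40,16] [16,40]) (.imp (.eq [40,22] [22,40])
      (.imp (.eq [40,24] [24,40]) (.imp (.eq [40,23] [23,40]) (.or (.eq [40] []) (.eq [40]
      [20]))))))))))) (by decide +kernel)
  simp only [Fm.sem, wv_cons, wv_nil, one_mul, upd_apply, Nat.reduceEqDiff, ↓reduceIte, exists_eq_right',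
    gA_16, gA_20, gA_21, gA_22, gA_23, gA_24, MA2_s6, MA2_s7] at this
  exact this

end Cfsg.Lib.A9L
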