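import Cfsg.Agent.Block.A9Mod

/-!
# The group `(S₃ × S₆) ∩ A₉`: permutation models and finite facts
-/

set_option autoImplicit false
set_option maxRecDepth 100000
set_option linter.unusedSimpArgs false
set_option linter.unusedVariables false
set_option maxHeartbeats 1000000

namespace Cfsg.Lib.A9L

open Subgroup Cfsg.Lib.Spor Cfsg.Lib.Spor.Bulk Cfsg.Lib.Spor.PK Cfsg.Lib.Spor.WF Cfsg.Lib.L3

variable {G : Type*} [Group G] {x y z s r i p b c t w v α β ε T Y W Y' W' U : G}

/-- The letters. -/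
def g6 (T Y W Y' W' U : G) : ℕ → G := lf [1, T, Y, W, Y', W', U]

theorem g6_0 : g6 T Y W Y' W' U 0 = 1 := rfl
theorem g6_1 : g6 T Y W Y' W' U 1 = T := rfl
theorem g6_2 : g6 T Y W Y' W' U 2 = Y := rfl
theorem g6_3 : g6 T Y W Y' W' U 3 = W := rfl
theorem g6_4 : g6 T Y W Y' W' U 4 = Y' := rfl
theorem g6_5 : g6 T Y W Y' W' U 5 = W' := rfl
theorem g6_6 : g6 T Y W Y' W' U 6 = U := rfl

/-- The symmetric group of degree six. -/
@[reducible] def M6 : PM where
  w := 7
  n := 6
  cs := [1210151306112,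
    244276842005,
    1210151077639,
    1210107152149,
    967783220999,
    244320768384,
    1210107265941]
  SW := [([[1],[2],[3]],
    [⟨0, [192, 129, 256, 65, 320], [[0, 2], [1, 2, 1]]⟩,
     ⟨1, [320, 193, 129, 256], [[1, 1, 0, 1, 0, 1], [1, 0, 1, 1]]⟩,
     ⟨3, [257, 320, 128], [[1, 0, 1, 0, 1]]⟩,
     ⟨2, [320, 256], []⟩]),
   ([[1],[4],[5]],
    [⟨0, [192, 129, 257, 65, 321], [[1, 2, 0, 1], [0, 1, 1, 0, 1, 1]]⟩,
     ⟨1, [256, 129, 192, 320], [[1, 0], [0, 1, 0, 0, 0]]⟩,
     ⟨2, [256, 193, 320], [[0, 1]]⟩,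
     ⟨3, [256, 320], []⟩]),
   ([[1],[2],[3],[6]],
    [⟨0, [192, 129, 256, 65, 320], [[0, 3], [1, 3, 1, 1]]⟩,
     ⟨1, [320, 193, 128, 256], [[0, 0, 0, 1, 0], [1, 0, 1]]⟩,
     ⟨2, [257, 193, 320], [[1, 1, 0, 1], [0]]⟩,
     ⟨4, [320, 192], [[1]]⟩,
     ⟨3, [320], []⟩]),
   ([[1],[6]],
    [⟨0, [192], [[0, 1]]⟩,
     ⟨1, [320, 128, 256], []⟩])]

instance : NeZero M6.n := ⟨by decide⟩

theorem M6_ok : M6.ok = true := by decide +kernel

theorem M6_subs : M6.subsOK = true := by decide +kernel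

theorem M6_s0 : sub (g6 T Y W Y' W' U) (M6.W 0) = gen [T, Y, W] := by
  change gen (List.map (wv _) [[1],[2],[3]]) = _
  simp only [List.map_cons, List.map_nil, wv_cons, wv_nil, one_mul, gen_one, g6_1, g6_2, g6_3, g6_4, g6_5,
    g6_6]

theorem M6_s1 : sub (g6 T Y W Y' W' U) (M6.W 1) = gen [T, Y', W'] := by
  change gen (List.map (wv _) [[1],[4],[5]]) = _
  simp only [List.map_cons, List.map_nil, wv_cons, wv_nil, one_mul, gen_one, g6_1, g6_2, g6_3, g6_4, g6_5,
    g6_6]

theorem M6_s2 : sub (g6 T Y W Y' W' U) (M6.W 2) = gen [T, Y, W, U] := by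
  change gen (List.map (wv _) [[1],[2],[3],[6]]) = _
  simp only [List.map_cons, List.map_nil, wv_cons, wv_nil, one_mul, gen_one, g6_1, g6_2, g6_3, g6_4, g6_5,
    g6_6]

theorem M6_s3 : sub (g6 T Y W Y' W' U) (M6.W 3) = gen [T, U] := by
  change gen (List.map (wv _) [[1],[6]]) = _
  simp only [List.map_cons, List.map_nil, wv_cons, wv_nil, one_mul, gen_one, g6_1, g6_2, g6_3, g6_4, g6_5,
    g6_6]

theorem E6.card (h : Emb M6.m (g6 T Y W Y' W' U)) : Nat.card (gen [T, Y, W]) = 360 := by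
  have := PM.card_of_emb M6_ok M6_subs h 0
  rwa [M6_s0, show certOrder (M6.K 0) = 360 by decide +kernel] at this

theorem E6.card2 (h : Emb M6.m (g6 T Y W Y' W' U)) : Nat.card (gen [T, Y', W']) = 360 := by
  have := PM.card_of_emb M6_ok M6_subs h 1
  rwa [M6_s1, show certOrder (M6.K 1) = 360 by decide +kernel] at this

theorem E6.four (h : Emb M6.m (g6 T Y W Y' W' U)) :
    ∀ k ∈ gen [T, Y, W], k * k * k * k = 1 → ¬ k * k = 1 → (∃ g ∈ gen [T, Y, W, U], g * k = T * g) := by
  have := PM.holds M6_ok M6_subs h (p := (.all 0 40 (.imp (.eq [40,40,40,40] []) (.imp (.not (.eq [40,40] [])) (.ex 2 41 (.eq [40,41]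
      [41,1])))))) (by decide +kernel)
  simp only [Fm.sem, wv_cons, wv_nil, one_mul, upd_apply, Nat.reduceEqDiff, ↓reduceIte, exists_eq_right',
    g6_1, M6_s0, M6_s2] at this
  exact this

theorem E6.three (h : Emb M6.m (g6 T Y W Y' W' U)) :
    ∀ k ∈ gen [T, Y, W], k * k * k = 1 → T * T * k * T * T * k = 1 → T * k * T * T * T * k = k * T *
    k * T * T * T → ¬ T * k = k * T → ¬ T * k = k * k * T → (∃ g ∈ gen [T, U], g * T = T * g ∧ (g *
    k = Y * g ∨ g * k = Y' * g)) := by
  have := PM.holds M6_ok M6_subs h (p := (.all 0 40 (.imp (.eq [40,40,40] []) (.imp (.eq [40,1,1,40,1,1] []) (.imp (.eq [40,1,1,1,40,1]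
      [1,1,1,40,1,40]) (.imp (.not (.eq [40,1] [1,40])) (.imp (.not (.eq [40,1] [1,40,40])) (.ex 3 41
      (.and (.eq [1,41] [41,1]) (.or (.eq [40,41] [41,2]) (.eq [40,41] [41,4]))))))))))) (by decide +kernel)
  simp only [Fm.sem, wv_cons, wv_nil, one_mul, upd_apply, Nat.reduceEqDiff, ↓reduceIte, exists_eq_right',
    g6_1, g6_2, g6_4, M6_s0, M6_s3] at this
  exact this

theorem E6.w1 (h : Emb M6.m (g6 T Y W Y' W' U)) :
    W ∈ gen [T, Y, W] ∧ (W * W = 1 ∧ W * T * W * T = 1 ∧ W * Y * W * Y * W * Y = 1 ∧ W * T * T * T *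
    Y * T * T * T * W * T * T * T * Y * T * T * T * W * T * T * T * Y * T * T * T = 1 ∧ W * T * Y *
    T * Y * T * T * T * W * T * Y * T * Y * T * T * T * W * T * Y * T * Y * T * T * T = 1) ∧ (∀ k ∈
    gen [T, Y, W], k * k = 1 → k * T * k * T = 1 → k * Y * k * Y * k * Y = 1 → k = W) := by
  have := PM.holds M6_ok M6_subs h (p := (.and (.ex 0 39 (.eq [3] [39])) (.and (.and (.eq [3,3] []) (.and (.eq [1,3,1,3] []) (.and (.eq
      [2,3,2,3,2,3] []) (.and (.eq [1,1,1,2,1,1,1,3,1,1,1,2,1,1,1,3,1,1,1,2,1,1,1,3] []) (.eq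
      [1,1,1,2,1,2,1,3,1,1,1,2,1,2,1,3,1,1,1,2,1,2,1,3] []))))) (.all 0 40 (.imp (.eq [40,40] [])
      (.imp (.eq [1,40,1,40] []) (.imp (.eq [2,40,2,40,2,40] []) (.eq [40] [3])))))))) (by decide +kernel)
  simp only [Fm.sem, wv_cons, wv_nil, one_mul, upd_apply, Nat.reduceEqDiff, ↓reduceIte, exists_eq_right',
    g6_1, g6_2, g6_3, M6_s0] at this
  exact this

theorem E6.w2 (h : Emb M6.m (g6 T Y W Y' W' U)) :
    W' ∈ gen [T, Y, W] ∧ (W' * W' = 1 ∧ W' * T * W' * T = 1 ∧ W' * Y' * W' * Y' * W' * Y' = 1 ∧ W' *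
    T * T * T * Y' * T * T * T * W' * T * T * T * Y' * T * T * T * W' * T * T * T * Y' * T * T * T =
    1 ∧ W' * T * Y' * T * Y' * T * T * T * W' * T * Y' * T * Y' * T * T * T * W' * T * Y' * T * Y' *
    T * T * T = 1) ∧ (∀ k ∈ gen [T, Y, W], k * k = 1 → k * T * k * T = 1 → k * Y' * k * Y' * k * Y'
    = 1 → k = W') := by
  have := PM.holds M6_ok M6_subs h (p := (.and (.ex 0 39 (.eq [5] [39])) (.and (.and (.eq [5,5] []) (.and (.eq [1,5,1,5] []) (.and (.eq
      [4,5,4,5,4,5] []) (.and (.eq [1,1,1,4,1,1,1,5,1,1,1,4,1,1,1,5,1,1,1,4,1,1,1,5] []) (.eq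
      [1,1,1,4,1,4,1,5,1,1,1,4,1,4,1,5,1,1,1,4,1,4,1,5] []))))) (.all 0 40 (.imp (.eq [40,40] [])
      (.imp (.eq [1,40,1,40] []) (.imp (.eq [4,40,4,40,4,40] []) (.eq [40] [5])))))))) (by decide +kernel)
  simp only [Fm.sem, wv_cons, wv_nil, one_mul, upd_apply, Nat.reduceEqDiff, ↓reduceIte, exists_eq_right',
    g6_1, g6_4, g6_5, M6_s0] at this
  exact this

theorem emb6 : Emb M6.m (g6 (Equiv.swap 0 3 * Equiv.swap 1 4 * Equiv.swap 4 2 * Equiv.swap 2 5) (Equiv.swap 0 1 * Equiv.swap 1 2) (Equiv.swap 0 3 * Equiv.swap 1 2) (Equiv.swap 0 1 * Equiv.swap 1 2 * Equiv.swap 3 5 * Equiv.swap 5 4)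
    (Equiv.swap 1 5 * Equiv.swap 2 4) (Equiv.swap 0 3) : ℕ → Equiv.Perm (Fin 6)) :=
  emb_of_inj M6_ok (MonoidHom.id _) Function.injective_id (al := [1, _, _, _, _, _, _])
    (by decide +kernel) (MonoidHom.id _) Function.injective_id

/-- The normalizer of a three-cycle in `A₉`. -/
@[reducible] def MN : PM where
  w := 7
  n := 9
  cs := [4062995741946381184,
    4062995741946152711,
    4062995741946265614,
    4062995262803772288,
    4062995499578524544,
    3058160861414916992,
    3554713506658091904,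
    4062995741946381184,
    4062995741946381184,
    3562532994715714432,
    2037409939156223744,
    3562533233354721024,
    3554713027515483008,
    3058160619047060352,
    3058160382272079623,
    3554713264290119694,
    2037410177795457920,
    2537872447747883904,
    4062903144374567808,
    4062995741946381184]
  SW := [([[1],[2],[3],[4],[5],[6],[9],[10],[11],[12],[13],[14],[15],[16],[17],[18]],
    [⟨0, [128, 65], [[7, 15], [15, 5]]⟩,
     ⟨3, [449, 256, 513, 321, 385], [[0], [1, 0, 1, 1, 0, 1, 1]]⟩,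
     ⟨6, [321, 448, 513, 256], [[1, 1, 0, 0, 1], [1, 0, 1]]⟩,
     ⟨4, [320, 449, 512], [[0, 0, 1], [1, 1, 0, 0]]⟩,
     ⟨1, [128], [[0, 1, 0]]⟩,
     ⟨5, [448, 512], []⟩])]

instance : NeZero MN.n := ⟨by decide⟩

theorem MN_ok : MN.ok = true := by decide +kernel

theorem MN_subs : MN.subsOK = true := by decide +kernel

theorem MN_sat : MN.satB 20 io rN = true := by decide +kernel

/-- The letters. -/
def gN (x y z r i p t w α β ε : G) : ℕ → G :=
  lf [1, x, x⁻¹, y, y⁻¹, z, z⁻¹, r, i, p, t, w, α, β, ε]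

theorem gN_0 : gN x y z r i p t w α β ε 0 = 1 := rfl
theorem gN_1 : gN x y z r i p t w α β ε 1 = x := rfl
theorem gN_2 : gN x y z r i p t w α β ε 2 = x⁻¹ := rfl
theorem gN_3 : gN x y z r i p t w α β ε 3 = y := rfl
theorem gN_4 : gN x y z r i p t w α β ε 4 = y⁻¹ := rfl
theorem gN_5 : gN x y z r i p t w α β ε 5 = z := rfl
theorem gN_6 : gN x y z r i p t w α β ε 6 = z⁻¹ := rfl
theorem gN_7 : gN x y z r i p t w α β ε 7 = r := rfl
theorem gN_8 : gN x y z r i p t w α β ε 8 = i := rfl
theorem gN_9 : gN x y z r i p t w α β ε 9 = p := rfl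
theorem gN_10 : gN x y z r i p t w α β ε 10 = t := rfl
theorem gN_11 : gN x y z r i p t w α β ε 11 = w := rfl
theorem gN_12 : gN x y z r i p t w α β ε 12 = α := rfl
theorem gN_13 : gN x y z r i p t w α β ε 13 = β := rfl
theorem gN_14 : gN x y z r i p t w α β ε 14 = ε := rfl

set_option hygiene false in
/-- A subgroup of the configuration. -/
scoped notation "𝐌" => Cfsg.Lib.Spor.PK.gen [x, y, z, t, w, p]

set_option hygiene false in
/-- A subgroup of the configuration. -/
scoped notation "𝐗" => Cfsg.Lib.Spor.PK.gen [x, y, z, t, w]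

set_option hygiene false in
/-- A subgroup of the configuration. -/
scoped notation "𝐕" => Cfsg.Lib.Spor.PK.gen [α, β]

set_option hygiene false in
/-- A subgroup of the configuration. -/
scoped notation "𝐖" => Cfsg.Lib.Spor.PK.gen [α, β, x, ε]

set_option hygiene false in
/-- A subgroup of the configuration. -/
scoped notation "𝐏" => Cfsg.Lib.Spor.PK.gen [α, β, ε, w]

set_option hygiene false in
/-- A subgroup of the configuration. -/
scoped notation "𝐎" => Cfsg.Lib.Spor.PK.gen [α, β, w]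

set_option hygiene false in
/-- A subgroup of the configuration. -/
scoped notation "𝐘" => Cfsg.Lib.Spor.PK.gen [y, r]

/-- The normalizer of a three-cycle in `A₉`, with further letters. -/
@[reducible] def MN2 : PM where
  w := 7
  n := 9
  cs := [4062995741946381184,
    4062995741946152711,
    4062995741946265614,
    4062995262803772288,
    4062995499578524544,
    3058160861414916992,
    3554713506658091904,
    3562532994715714432,
    2037409939156223744,
    3562533233354721024,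
    2037410177795457920,
    4062903144374567808,
    3562440874422141824,
    3038488399429469056,
    4062995503307147008]
  SW := [([[1],[3],[5],[10],[11],[9]],
    [⟨0, [128, 64], [[5, 1], [2, 4]]⟩,
     ⟨3, [320, 385, 256, 513, 448], [[0, 0, 0], [1, 0, 1, 0, 1]]⟩,
     ⟨6, [257, 321, 513, 448], [[1, 1, 0, 1, 0, 1], [1, 1, 1, 0, 1]]⟩,
     ⟨4, [449, 512, 320], [[1, 0, 1, 1], [0]]⟩,
     ⟨1, [128], [[0, 1, 0]]⟩,
     ⟨5, [512, 448], []⟩]),
   ([[1],[3],[5],[10],[11]],
    [⟨0, [128, 64], [[2, 1], [4, 1]]⟩,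
     ⟨3, [320, 385, 256, 512, 448], [[1, 0, 1, 0, 0, 1, 1], [1, 0, 0, 1, 0, 1, 1]]⟩,
     ⟨6, [513, 257, 448, 320], [[1, 1, 0, 0, 1, 0, 1], [1, 1, 0, 1, 0, 0, 1]]⟩,
     ⟨4, [448, 321, 512], [[1, 1, 0]]⟩,
     ⟨5, [448, 512], []⟩]),
   ([[12],[13]],
    [⟨3, [384, 449, 513], []⟩]),
   ([[12],[13],[1],[14]],
    [⟨3, [384, 449, 513], [[2], [3]]⟩,
     ⟨0, [128, 64], [[1]]⟩,
     ⟨1, [128], []⟩]),
   ([[12],[13],[14],[11]],
    [⟨3, [384, 449, 513], [[2], [0, 3]]⟩,
     ⟨1, [128], [[1]]⟩,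
     ⟨4, [320], []⟩]),
   ([[12],[13],[11]],
    [⟨3, [384, 449, 513], [[0, 2]]⟩,
     ⟨4, [320], []⟩]),
   ([[3],[7]],
    [⟨3, [320, 256], [[1]]⟩,
     ⟨4, [320], []⟩]),
   ([[1]],
    [⟨0, [128, 64], []⟩])]

instance : NeZero MN2.n := ⟨by decide⟩

theorem MN2_ok : MN2.ok = true := by decide +kernel

theorem MN2_subs : MN2.subsOK = true := by decide +kernel

theorem MN2_s0 : sub (gN x y z r i p t w α β ε) (MN2.W 0) = 𝐌 := by
  change gen (List.map (wv _) [[1],[3],[5],[10],[11],[9]]) = _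
  simp only [List.map_cons, List.map_nil, wv_cons, wv_nil, one_mul, gen_one, gN_1, gN_2, gN_3, gN_4, gN_5,
    gN_6, gN_7, gN_8, gN_9, gN_10, gN_11, gN_12, gN_13, gN_14]

theorem MN2_s1 : sub (gN x y z r i p t w α β ε) (MN2.W 1) = 𝐗 := by
  change gen (List.map (wv _) [[1],[3],[5],[10],[11]]) = _
  simp only [List.map_cons, List.map_nil, wv_cons, wv_nil, one_mul, gen_one, gN_1, gN_2, gN_3, gN_4, gN_5,
    gN_6, gN_7, gN_8, gN_9, gN_10, gN_11, gN_12, gN_13, gN_14]

theorem MN2_s2 : sub (gN x y z r i p t w α β ε) (MN2.W 2) = 𝐕 := by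
  change gen (List.map (wv _) [[12],[13]]) = _
  simp only [List.map_cons, List.map_nil, wv_cons, wv_nil, one_mul, gen_one, gN_1, gN_2, gN_3, gN_4, gN_5,
    gN_6, gN_7, gN_8, gN_9, gN_10, gN_11, gN_12, gN_13, gN_14]

theorem MN2_s3 : sub (gN x y z r i p t w α β ε) (MN2.W 3) = 𝐖 := by
  change gen (List.map (wv _) [[12],[13],[1],[14]]) = _
  simp only [List.map_cons, List.map_nil, wv_cons, wv_nil, one_mul, gen_one, gN_1, gN_2, gN_3, gN_4, gN_5,
    gN_6, gN_7, gN_8, gN_9, gN_10, gN_11, gN_12, gN_13, gN_14]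

theorem MN2_s4 : sub (gN x y z r i p t w α β ε) (MN2.W 4) = 𝐏 := by
  change gen (List.map (wv _) [[12],[13],[14],[11]]) = _
  simp only [List.map_cons, List.map_nil, wv_cons, wv_nil, one_mul, gen_one, gN_1, gN_2, gN_3, gN_4, gN_5,
    gN_6, gN_7, gN_8, gN_9, gN_10, gN_11, gN_12, gN_13, gN_14]

theorem MN2_s5 : sub (gN x y z r i p t w α β ε) (MN2.W 5) = 𝐎 := by
  change gen (List.map (wv _) [[12],[13],[11]]) = _
  simp only [List.map_cons, List.map_nil, wv_cons, wv_nil, one_mul, gen_one, gN_1, gN_2, gN_3, gN_4, gN_5,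
    gN_6, gN_7, gN_8, gN_9, gN_10, gN_11, gN_12, gN_13, gN_14]

theorem MN2_s6 : sub (gN x y z r i p t w α β ε) (MN2.W 6) = 𝐘 := by
  change gen (List.map (wv _) [[3],[7]]) = _
  simp only [List.map_cons, List.map_nil, wv_cons, wv_nil, one_mul, gen_one, gN_1, gN_2, gN_3, gN_4, gN_5,
    gN_6, gN_7, gN_8, gN_9, gN_10, gN_11, gN_12, gN_13, gN_14]

theorem MN2_s7 : sub (gN x y z r i p t w α β ε) (MN2.W 7) = zpowers x := by
  change gen (List.map (wv _) [[1]]) = _
  simp only [List.map_cons, List.map_nil, wv_cons, wv_nil, one_mul, gen_one, gN_1, gN_2, gN_3, gN_4, gN_5,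
    gN_6, gN_7, gN_8, gN_9, gN_10, gN_11, gN_12, gN_13, gN_14]

/-- Standard generators of `(S₃ × S₆) ∩ A₉`. -/
structure EN (x y z r i p t w α β ε : G) : Prop where
  embN : Emb MN2.m (gN x y z r i p t w α β ε)

theorem EN.of (h : Emb MN.m (gH x y z 1 r i p b c t w 1)) :
    EN x y z r i p t w (w * r) (z * w * r * z⁻¹) (p * r) := by
  have := emb_sg MN_ok MN2_ok h [[],[1],[2],[3],[4],[5],[6],[9],[10],[11],[16],[18],[9,18],[6,9,18,5],[9,11]] (by decide +kernel)
  simp only [List.map_cons, List.map_nil, wv_cons, wv_nil, one_mul, gH_1, gH_2, gH_3, gH_4, gH_5, gH_6,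
    gH_9, gH_10, gH_11, gH_16, gH_18] at this
  exact ⟨this⟩

theorem EN.cardV (h : EN x y z r i p t w α β ε) : Nat.card 𝐕 = 4 := by
  have := PM.card_of_emb MN2_ok MN2_subs h.embN 2
  rwa [MN2_s2, show certOrder (MN2.K 2) = 4 by decide +kernel] at this

theorem EN.cardW (h : EN x y z r i p t w α β ε) : Nat.card 𝐖 = 24 := by
  have := PM.card_of_emb MN2_ok MN2_subs h.embN 3
  rwa [MN2_s3, show certOrder (MN2.K 3) = 24 by decide +kernel] at this

theorem EN.cardP (h : EN x y z r i p t w α β ε) : Nat.card 𝐏 = 16 := by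
  have := PM.card_of_emb MN2_ok MN2_subs h.embN 4
  rwa [MN2_s4, show certOrder (MN2.K 4) = 16 by decide +kernel] at this

theorem EN.cardO (h : EN x y z r i p t w α β ε) : Nat.card 𝐎 = 8 := by
  have := PM.card_of_emb MN2_ok MN2_subs h.embN 5
  rwa [MN2_s5, show certOrder (MN2.K 5) = 8 by decide +kernel] at this

theorem EN.eqsN (h : EN x y z r i p t w α β ε) :
    α = w * r ∧ β = z * w * r * z⁻¹ ∧ ε = p * r ∧ z * α = β * z ∧ z * β = α * β * z ∧ α * α = 1 ∧ β
    * β = 1 ∧ ε * ε = 1 ∧ w * w = 1 ∧ α * β = β * α ∧ x * α = α * x ∧ x * β = β * x ∧ ε * α = α * ε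
    ∧ ε * β = β * ε ∧ ε * x = x⁻¹ * ε ∧ z * ε = ε * z ∧ w * x * w * x⁻¹ = 1 ∧ w * r * w * r = 1 ∧ w
    * p * w * p = 1 ∧ w * y * w * y * w * y = 1 ∧ w * r * z * w * r * z * w * r * z = 1 ∧ w * t * w
    * t = 1 ∧ w * t * y * z * w * t * y * z * w * t * y * z = 1 ∧ ¬ (z * α = α * z ∧ z * β = β * z)
    ∧ ¬ x ∈ 𝐕 := by
  have := PM.holds MN2_ok MN2_subs h.embN (p := (.and (.eq [12] [7,11]) (.and (.eq [13] [6,7,11,5]) (.and (.eq [14] [7,9]) (.and (.eq [12,5]
      [5,13]) (.and (.eq [13,5] [5,13,12]) (.and (.eq [12,12] []) (.and (.eq [13,13] []) (.and (.eq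
      [14,14] []) (.and (.eq [11,11] []) (.and (.eq [13,12] [12,13]) (.and (.eq [12,1] [1,12]) (.and
      (.eq [13,1] [1,13]) (.and (.eq [12,14] [14,12]) (.and (.eq [13,14] [14,13]) (.and (.eq [1,14]
      [14,2]) (.and (.eq [14,5] [5,14]) (.and (.eq [2,11,1,11] []) (.and (.eq [7,11,7,11] []) (.and
      (.eq [9,11,9,11] []) (.and (.eq [3,11,3,11,3,11] []) (.and (.eq [5,7,11,5,7,11,5,7,11] []) (.and
      (.eq [10,11,10,11] []) (.and (.eq [5,3,10,11,5,3,10,11,5,3,10,11] []) (.and (.not (.and (.eq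
      [12,5] [5,12]) (.eq [13,5] [5,13]))) (.not (.ex 2 39 (.eq [1] [39])))))))))))))))))))))))))))) (by decide +kernel)
  simp only [Fm.sem, wv_cons, wv_nil, one_mul, upd_apply, Nat.reduceEqDiff, ↓reduceIte, exists_eq_right',
    gN_1, gN_2, gN_3, gN_5, gN_6, gN_7, gN_9, gN_10, gN_11, gN_12, gN_13, gN_14, MN2_s2] at this
  exact this

theorem EN.eα (h : EN x y z r i p t w α β ε) :
    α = w * r := h.eqsN.1

theorem EN.eβ (h : EN x y z r i p t w α β ε) :
    β = z * w * r * z⁻¹ := h.eqsN.2.1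

theorem EN.eε (h : EN x y z r i p t w α β ε) :
    ε = p * r := h.eqsN.2.2.1

theorem EN.zα (h : EN x y z r i p t w α β ε) :
    z * α = β * z := h.eqsN.2.2.2.1

theorem EN.zβ (h : EN x y z r i p t w α β ε) :
    z * β = α * β * z := h.eqsN.2.2.2.2.1

theorem EN.α2 (h : EN x y z r i p t w α β ε) :
    α * α = 1 := h.eqsN.2.2.2.2.2.1

theorem EN.β2 (h : EN x y z r i p t w α β ε) :
    β * β = 1 := h.eqsN.2.2.2.2.2.2.1

theorem EN.ε2 (h : EN x y z r i p t w α β ε) :
    ε * ε = 1 := h.eqsN.2.2.2.2.2.2.2.1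

theorem EN.w2 (h : EN x y z r i p t w α β ε) :
    w * w = 1 := h.eqsN.2.2.2.2.2.2.2.2.1

theorem EN.αβ (h : EN x y z r i p t w α β ε) :
    α * β = β * α := h.eqsN.2.2.2.2.2.2.2.2.2.1

theorem EN.xα (h : EN x y z r i p t w α β ε) :
    x * α = α * x := h.eqsN.2.2.2.2.2.2.2.2.2.2.1

theorem EN.xβ (h : EN x y z r i p t w α β ε) :
    x * β = β * x := h.eqsN.2.2.2.2.2.2.2.2.2.2.2.1

theorem EN.εα (h : EN x y z r i p t w α β ε) :
    ε * α = α * ε := h.eqsN.2.2.2.2.2.2.2.2.2.2.2.2.1

theorem EN.εβ (h : EN x y z r i p t w α β ε) :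
    ε * β = β * ε := h.eqsN.2.2.2.2.2.2.2.2.2.2.2.2.2.1

theorem EN.εx (h : EN x y z r i p t w α β ε) :
    ε * x = x⁻¹ * ε := h.eqsN.2.2.2.2.2.2.2.2.2.2.2.2.2.2.1

theorem EN.zε (h : EN x y z r i p t w α β ε) :
    z * ε = ε * z := h.eqsN.2.2.2.2.2.2.2.2.2.2.2.2.2.2.2.1

theorem EN.k1 (h : EN x y z r i p t w α β ε) :
    w * x * w * x⁻¹ = 1 := h.eqsN.2.2.2.2.2.2.2.2.2.2.2.2.2.2.2.2.1

theorem EN.k2 (h : EN x y z r i p t w α β ε) :
    w * r * w * r = 1 := h.eqsN.2.2.2.2.2.2.2.2.2.2.2.2.2.2.2.2.2.1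

theorem EN.k3 (h : EN x y z r i p t w α β ε) :
    w * p * w * p = 1 := h.eqsN.2.2.2.2.2.2.2.2.2.2.2.2.2.2.2.2.2.2.1

theorem EN.k4 (h : EN x y z r i p t w α β ε) :
    w * y * w * y * w * y = 1 := h.eqsN.2.2.2.2.2.2.2.2.2.2.2.2.2.2.2.2.2.2.2.1

theorem EN.k5 (h : EN x y z r i p t w α β ε) :
    w * r * z * w * r * z * w * r * z = 1 := h.eqsN.2.2.2.2.2.2.2.2.2.2.2.2.2.2.2.2.2.2.2.2.1

theorem EN.k6 (h : EN x y z r i p t w α β ε) :
    w * t * w * t = 1 := h.eqsN.2.2.2.2.2.2.2.2.2.2.2.2.2.2.2.2.2.2.2.2.2.1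

theorem EN.k7 (h : EN x y z r i p t w α β ε) :
    w * t * y * z * w * t * y * z * w * t * y * z = 1 := h.eqsN.2.2.2.2.2.2.2.2.2.2.2.2.2.2.2.2.2.2.2.2.2.2.1

theorem EN.zV (h : EN x y z r i p t w α β ε) :
    ¬ (z * α = α * z ∧ z * β = β * z) := h.eqsN.2.2.2.2.2.2.2.2.2.2.2.2.2.2.2.2.2.2.2.2.2.2.2.1

theorem EN.xV (h : EN x y z r i p t w α β ε) :
    ¬ x ∈ 𝐕 := h.eqsN.2.2.2.2.2.2.2.2.2.2.2.2.2.2.2.2.2.2.2.2.2.2.2.2

theorem EN.cV (h : EN x y z r i p t w α β ε) :
    ∀ k ∈ 𝐗, k * α = α * k → k * β = β * k → (k * k * k * k * k * k = 1 ∧ (k ∈ 𝐕 ∨ k * x⁻¹ ∈ 𝐕 ∨ k *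
    x ∈ 𝐕) ∧ (k * z = z * k → k ∈ zpowers x)) := by
  have := PM.holds MN2_ok MN2_subs h.embN (p := (.all 1 40 (.imp (.eq [12,40] [40,12]) (.imp (.eq [13,40] [40,13]) (.and (.eq
      [40,40,40,40,40,40] []) (.and (.or (.ex 2 39 (.eq [40] [39])) (.or (.ex 2 39 (.eq [2,40] [39]))
      (.ex 2 39 (.eq [1,40] [39])))) (.imp (.eq [5,40] [40,5]) (.ex 7 39 (.eq [40] [39]))))))))) (by decide +kernel)
  simp only [Fm.sem, wv_cons, wv_nil, one_mul, upd_apply, Nat.reduceEqDiff, ↓reduceIte, exists_eq_right',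
    gN_1, gN_2, gN_5, gN_12, gN_13, MN2_s1, MN2_s2, MN2_s7] at this
  exact this

theorem EN.memV (h : EN x y z r i p t w α β ε) :
    ∀ k ∈ 𝐕, k * k = 1 ∧ k * x = x * k ∧ k * ε = ε * k ∧ k * α = α * k ∧ k * β = β * k ∧ (k = 1 ∨ (∃
    n ∈ 𝐌, n * i = ε * k * n)) := by
  have := PM.holds MN2_ok MN2_subs h.embN (p := (.all 2 40 (.and (.eq [40,40] []) (.and (.eq [1,40] [40,1]) (.and (.eq [14,40] [40,14]) (.and
      (.eq [12,40] [40,12]) (.and (.eq [13,40] [40,13]) (.or (.eq [40] []) (.ex 0 41 (.eq [8,41]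
      [41,40,14])))))))))) (by decide +kernel)
  simp only [Fm.sem, wv_cons, wv_nil, one_mul, upd_apply, Nat.reduceEqDiff, ↓reduceIte, exists_eq_right',
    gN_1, gN_8, gN_12, gN_13, gN_14, MN2_s0, MN2_s2] at this
  exact this

/-- Elements that generate a larger subgroup together with `⟨y, r⟩`. -/
def Good (y z r w u : G) : Prop :=
  (u * u = 1 ∧ ∃ d ∈ 𝐘, d * u = w * d ∨ d * u = z * w * z⁻¹ * d) ∨ (u * y = y * u ∧ ¬ u ∈ 𝐘)

theorem EN.over (h : EN x y z r i p t w α β ε) :
    ∀ g ∈ 𝐗, g ∈ 𝐘 ∨ (∃ a ∈ 𝐘, Good y z r w (((g * a) * (g * a)) * ((g * a) * (g * a)))) ∨ (∃ a ∈ 𝐘,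
    Good y z r w (g * a)) ∨ (∃ a ∈ 𝐘, ∃ e ∈ 𝐘, Good y z r w (((g * a * g) * g * e) * g) ∨ Good y z r
    w (((g * a * g) * g * e) * (g * a * g))) := by
  have := PM.holds MN2_ok MN2_subs h.embN (p := (.bind 40 [6,11,5] (.all 1 41 (.or (.ex 6 39 (.eq [41] [39])) (.or (.ex 6 42 (.bind 43 [42,41]
      (.bind 44 [43,43] (.bind 45 [44,44] (.or (.and (.eq [45,45] []) (.ex 6 46 (.or (.eq [45,46]
      [46,11]) (.eq [45,46] [46,40])))) (.and (.eq [3,45] [45,3]) (.not (.ex 6 39 (.eq [45]
      [39]))))))))) (.or (.ex 6 42 (.bind 45 [42,41] (.or (.and (.eq [45,45] []) (.ex 6 46 (.or (.eq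
      [45,46] [46,11]) (.eq [45,46] [46,40])))) (.and (.eq [3,45] [45,3]) (.not (.ex 6 39 (.eq [45]
      [39]))))))) (.ex 6 42 (.bind 43 [41,42,41] (.ex 6 47 (.bind 44 [47,41,43] (.or (.bind 45 [41,44]
      (.or (.and (.eq [45,45] []) (.ex 6 46 (.or (.eq [45,46] [46,11]) (.eq [45,46] [46,40])))) (.and
      (.eq [3,45] [45,3]) (.not (.ex 6 39 (.eq [45] [39])))))) (.bind 45 [43,44] (.or (.and (.eq
      [45,45] []) (.ex 6 46 (.or (.eq [45,46] [46,11]) (.eq [45,46] [46,40])))) (.and (.eq [3,45]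
      [45,3]) (.not (.ex 6 39 (.eq [45] [39]))))))))))))))))) (by decide +kernel)
  simp only [Fm.sem, wv_cons, wv_nil, one_mul, upd_apply, Nat.reduceEqDiff, ↓reduceIte, exists_eq_right',
    gN_3, gN_5, gN_6, gN_11, MN2_s1, MN2_s6] at this
  exact this

theorem EN.memY (h : EN x y z r i p t w α β ε) :
    ∀ k ∈ 𝐘, k * k * k = 1 ∨ (k * k = 1 ∧ k * y = y⁻¹ * k) := by
  have := PM.holds MN2_ok MN2_subs h.embN (p := (.all 6 40 (.or (.eq [40,40,40] []) (.and (.eq [40,40] []) (.eq [3,40] [40,4]))))) (by decide +kernel)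
  simp only [Fm.sem, wv_cons, wv_nil, one_mul, upd_apply, Nat.reduceEqDiff, ↓reduceIte, exists_eq_right',
    gN_3, gN_4, MN2_s6] at this
  exact this

theorem EN.memW (h : EN x y z r i p t w α β ε) :
    ∀ k ∈ 𝐖, k * k * k = 1 → k ∈ zpowers x := by
  have := PM.holds MN2_ok MN2_subs h.embN (p := (.all 3 40 (.imp (.eq [40,40,40] []) (.ex 7 39 (.eq [40] [39]))))) (by decide +kernel)
  simp only [Fm.sem, wv_cons, wv_nil, one_mul, upd_apply, Nat.reduceEqDiff, ↓reduceIte, exists_eq_right',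
    MN2_s3, MN2_s7] at this
  exact this

theorem EN.memP (h : EN x y z r i p t w α β ε) :
    ∀ k ∈ 𝐏, k * k * k * k = 1 ∧ (k * k = 1 → (k = 1 ∨ (∃ u ∈ 𝐕, k = ε * u) ∨ (∃ n ∈ 𝐌, n * r = k *
    n ∨ n * p = k * n))) := by
  have := PM.holds MN2_ok MN2_subs h.embN (p := (.all 4 40 (.and (.eq [40,40,40,40] []) (.imp (.eq [40,40] []) (.or (.eq [40] []) (.or (.ex 2 41
      (.eq [40] [41,14])) (.ex 0 42 (.or (.eq [7,42] [42,40]) (.eq [9,42] [42,40]))))))))) (by decide +kernel)
  simp only [Fm.sem, wv_cons, wv_nil, one_mul, upd_apply, Nat.reduceEqDiff, ↓reduceIte, exists_eq_right',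
    gN_7, gN_9, gN_14, MN2_s0, MN2_s2, MN2_s4] at this
  exact this

theorem EN.nP (h : EN x y z r i p t w α β ε) :
    ∀ n ∈ 𝐌, (∃ k ∈ 𝐕, n * α = k * n) → (∃ k ∈ 𝐕, n * β = k * n) → (∃ k ∈ 𝐏, n * ε = k * n) → (∃ k ∈
    𝐏, n * w = k * n) → n ∈ 𝐏 := by
  have := PM.holds MN2_ok MN2_subs h.embN (p := (.all 0 40 (.imp (.ex 2 41 (.eq [12,40] [40,41])) (.imp (.ex 2 41 (.eq [13,40] [40,41])) (.imp
      (.ex 4 41 (.eq [14,40] [40,41])) (.imp (.ex 4 41 (.eq [11,40] [40,41])) (.ex 4 39 (.eq [40]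
      [39])))))))) (by decide +kernel)
  simp only [Fm.sem, wv_cons, wv_nil, one_mul, upd_apply, Nat.reduceEqDiff, ↓reduceIte, exists_eq_right',
    gN_11, gN_12, gN_13, gN_14, MN2_s0, MN2_s2, MN2_s4] at this
  exact this

theorem EN.memO (h : EN x y z r i p t w α β ε) :
    ∀ k ∈ 𝐎, k * k = 1 → (k = 1 ∨ (∃ n ∈ 𝐌, n * r = k * n)) := by
  have := PM.holds MN2_ok MN2_subs h.embN (p := (.all 5 40 (.imp (.eq [40,40] []) (.or (.eq [40] []) (.ex 0 41 (.eq [7,41] [41,40])))))) (by decide +kernel)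
  simp only [Fm.sem, wv_cons, wv_nil, one_mul, upd_apply, Nat.reduceEqDiff, ↓reduceIte, exists_eq_right',
    gN_7, MN2_s0, MN2_s5] at this
  exact this

/-- The group `Sp₆(2)` on `63` points. -/
@[reducible] def MS : PM where
  w := 11
  n := 63
  cs := [13691470819991645994286236004027527815887459740508826842556433653508508694914888945101748975082025693363891173132126299500247159615209803855570927212150179474591169556505801646382086877162823835255681841125376,
    9276233926392948430020097175842417854896358691265478854711872783373941667009652036013743986793265814192926769103856857203190899471531948719492728060598909042944114171951247920584656788932109558910301218297856,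
    13027142683190124665310079375105751734698216896660574296993657325043710192197407328005198379599720599106759316303700844395247043491098225317400985736744392945703833071110007113459553627556132512867159977777152,
    11484014299323950943020785484094585013489565536075937892386373077983608579060504329973622162208131886833603394675594392825049547754423807664574032130359569322658519443561144955053887291814863087245164252518400,
    11925031265387345603604882891088860046067774797888791307955053579313080465547721067823614175191861523313494950393462033791765965708871527486637971052092204928164269747620713380825619285236513987730555084494848,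
    9937759848494002581443872171055402348330555011918155997453878960024974647967641403085879142342047826304746303199895234152104056040849766793229362516810800155862123887226924824393991833494825066088262682062859,
    12366694304764411706583209742009721778709296722448307252365919185074132764605670186875969923040414089301916814879224231570188387457869008201001544696506059953068101120042980018353321359196264829098755983671318,
    13691146809443176626795256021103566504240476084855345660229597066524285666099773567262401008783912366169327991826900803418727554426557551644377678286688508576812897257085394238296694864750168162961219867797537,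
    13690392065716513812067351363011508975865271013003402714929794668650699007678478660399931016611374484898271512274061082176396476415754753566773234223799196713481703887694663008720825040808975509943881075703852,
    12807496298834266853954812333041148948160466359485124602104612979442445049604676514631144203268904588130454945512844456299423805571424702615811960734460315415846541867985835769630540426838878021272562265249814,
    12587095275589835743000262781752324429407374148983614420156620600511682937713198207624445701108314931985495435575626020089374025937723457927271446396572013220271732418291222420559789463306046893417187829268535,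
    11263182279597728487035208045323413950927360211458576867757075335731506228027361982324543361886558313389573151777671922590000411561751089139544356494128531848044098640178551543896620826697905993438643364059158,
    13248944050623440756136236625108700635470390527614195678871025185098837673891416986393896320109692098603882545026863160121931069524682532486455031429447569468059137296899556086027981846865733254853904658595862,
    9716066309426416379174628826230040566730468448845539182439630990958918083345453986526036538087409008940021323848294402871845077619555340309467090018627004652126080738173174622996274626058990146218945618685963,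
    10820332289000521162794655789931575901554410247046686856954452835400025596866915405922424359354862630179942525264340460582856386498965385460870607416988545753178256614227211913265946177721066557266358616240139,
    12586233071561604394560328613758275706368376778087525743010807605440000981822763605345145074736075357896427769612874868574628225081466968913986133775400265649362989637233526009323748611583296569779057013555222,
    11925246237381010626863488219978341620421321662141114486324346109587560556849460397383900482250150670384205993099765264485837150517273690186729719025205648692936377836683613074326631611604099663443832068030519,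
    12366909908254929240150432735242063285207656191245936830612442488759807865012542612361262911016607463169705461682135384461737935829346905172228591650204321594438132402718459801204324510871765698015117250314284,
    11925461525123064231409122995096551841426957198213483974082294534877033769077287815545559725382628906949009103446030960125950986366861176623663950163169990696523311769253462057485126378891305040600887088666690,
    13028542974960040155666307552602429090790568163040650631851422764776319974522191075957110284842909805911567543204114267009339968338838895124242661515790114034693907311836917291509638008517924168585097575946240]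
  SW := [([[1],[2],[3],[4],[5],[6],[7],[8],[9],[10],[11],[12],[13],[14],[15],[16],[17],[18],[19]],
    [⟨3, [576, 449, 6, 263, 722, 134, 327, 1426, 70, 519, 401, 785, 850, 1537, 1666, 1603, 1734, 1225, 1805, 1487,
    657, 913, 978, 1923, 1990, 1090, 1027, 1156, 1291, 1358, 1874, 2374, 2566, 2121, 2447, 2897, 2246, 2833,
    2961, 2514, 3025, 2770, 2066, 3089, 3217, 2322, 2194, 2642, 2706, 3138, 3341, 3278, 3857, 3537, 3410,
    3972, 3589, 3723, 3917, 3460, 3780, 3659], [[18, 2, 17, 5, 9, 13, 18, 17, 6], [18, 3, 17, 4, 10, 12, 17,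
    14, 18]]⟩,
     ⟨4, [1344, 3713, 2432, 3457, 3328, 897, 768, 128, 1473, 1280, 1665, 3584, 1601, 2880, 641, 1152, 0, 3969,
    1025, 384, 1089, 321, 2816, 65, 512, 2560, 3840, 2752, 704], [[1, 1, 1, 0, 0, 1, 0, 1], [1, 0, 1, 0, 0, 0,
    0, 1, 0], [1, 1, 0, 1, 0, 1, 1, 0, 1, 1, 1]]⟩,
     ⟨0, [3968, 769, 2882, 1473, 66, 1088, 3586, 1281, 2432, 130, 2561], [[1, 2, 0, 2, 2, 0], [0, 1, 1], [0, 1, 2,
    0, 2, 2], [2, 2, 2], [2, 1, 1, 2, 2, 0], [0, 1, 0, 1, 2]]⟩,
     ⟨1, [3584, 129, 773, 2881, 2437, 1093, 1477], [[1, 2], [3], [1, 4]]⟩,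
     ⟨5, [513, 706, 1602], [[0]]⟩,
     ⟨7, [576], []⟩])]

instance : NeZero MS.n := ⟨by decide⟩

theorem MS_ok : MS.ok = true := by decide +kernel

theorem MS_subs : MS.subsOK = true := by decide +kernel

theorem MS_sat : MS.satB 20 io rS = true := by decide +kernel

theorem sp_nu (h : Sat (gH x y z s r i p b c t w v) 20 io rS) :
    x * (v * w * s * y⁻¹ * w * y * v * y * w) = (v * w * s * y⁻¹ * w * y * v * y * w) * z ∧ y * (v *
    w * s * y⁻¹ * w * y * v * y * w) = (v * w * s * y⁻¹ * w * y * v * y * w) * x * x ∧ z * (v * w *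
    s * y⁻¹ * w * y * v * y * w) = (v * w * s * y⁻¹ * w * y * v * y * w) * y := by
  have := pos_of_hom MS_ok MS_subs (PM.exists_hom MS_ok MS_subs (PM.sat MS_ok MS_sat) h rfl cardS (by decide +kernel)) (p := (.bind 40 [18,3,19,3,18,4,7,18,19] (.and (.eq [40,1] [5,40]) (.and (.eq [40,3] [1,1,40]) (.eq
      [40,5] [3,40]))))) rfl (by decide +kernel)
  simp only [Fm.sem, wv_cons, wv_nil, one_mul, upd_apply, Nat.reduceEqDiff, ↓reduceIte, exists_eq_right',
    gH_1, gH_3, gH_4, gH_5, gH_7, gH_18, gH_19] at this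
  exact this

end Cfsg.Lib.A9L
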