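import Cfsg.Agent.Block.MonTab
import Cfsg.Agent.Known.TabSD

/-!
The even monomial group `3 ^ 3 : S₄` on nine points as a table group.
-/

set_option autoImplicit false

namespace Cfsg.Lib.Block.Mon

open Cfsg.Lib.Known GTab Cfsg.Lib.Spor.PK

def nmuT : ℕ := 0xd639495c1f120ca1008e645ab79ca99c698e6a56a7c6032900209907aded2a4f1acb9ac5a93183ca41882041cd7b569396b38525707c5ac704023990419672a671ab56e95a9f1831cd0082641c6524a93c6b35bd96a4c60f735820810731483a4e5ace2f6ac1f16b1ca4ace64106508059c6ad5bce547c60c7352b51907194801071acd6f69527183dcd62d4941cc520c4106b38bdab49c8832840239916ade72a671a6b1ca4ae0f88ca40082641eb7b4a93c6b2c7352b53e30290620810735ed5a4e5ace1cd62d498c1e1008e6410659ca99c6ad5ba92b83e2d638020990719492a4f1acd6f64ad4f8c18e6882041cc520e9396b38bdaab526307b9ac39904194201671ab56f39520f8b58e5256641c6520041c6b35bda549be30639a95a907314831041ace2f6ad2728c1ee6b16a4dab79ca99c69ac7292b83e241942011cc8aded2a4f1acb1cd4ad4f8c06520041320f7b569396b387358b52630794831040839a72a671ab56ea4ae0f8b58e08047320832ca93c6b35bd92b53e30639a0104c838ca4a4e5ace2f6aad498c1ee6b041020e629079c6ad5bce5483e2d6394959cc820ca100b1acd6f69526f8c18e6a56a320e3290020eb38bdab49ca307b9ac5a928398a418820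

def nivT : ℕ := 0x35cc845ea5a6d7ae7589d24428ce830440

def kmuT : ℕ := 0x443214c74254b635cf84653a56d71882031c855a92873d8d8c272ad2f610c01398a44a16a6b1ee9ca30b5e9508062290e652d097b9ac94e11bdab452d0973d8d08062214c7ad2f6846534a16a635cf10c0131c85a56d78c2724254b6b1ee00443290e6b5e9594e115a9287b9ac18820398a4bdab49ca3031c8510c018c272a56d74a16a635cf290e60044394e11b5e954254b6b1ee214c70806284653ad2f652d0973d8d398a4188209ca30bdab45a9287b9ac84653a56d7214c700443635cf4254b9ca30b5e95398a410c016b1ee4a16a94e11bdab4290e6080627b9ac52d098c272ad2f631c851882073d8d5a928635cf4254ba56d78465300443214c77b9ac52d09bdab494e1108062290e673d8d5a928ad2f68c2721882031c856b1ee4a16ab5e959ca3010c01398a4b5e9594e116b1ee4254b290e600443ad2f68465373d8d52d09214c708062a56d78c272635cf4a16a31c8510c01bdab49ca307b9ac5a928398a418820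

def kivT : ℕ := 0xbd2b6735ec8ce505a5483988518820

def phT : ℕ := 0x6d890c9d530bae58e90ba09951bf064c811d21d72ae82864edb11530bf0665469902ee2ea28a2c56693303cd41ab07879a4906607b34935075145dc5a2c5879aac1c920864f1d21f8336c475caca8d530ae824c80eb95b6232a38e910c9df832e8254c29902cd25dc5ab07981f51461e69a83458a4906a28cc0f879aee2d9a4ab07458a6a0c92074577d50a81360ab66643858f4d71219816ccdb0510e1bea8e8aca81571263d233020d566d33903172f57a20a27b138ac8c306af48b96828b369c1aa39038ac9ec498606c14e8ad8f4db33bea95c48870950219817d52d99d7127456d8298f4950221c23303369eaf4c56506aa2e5bd8939028288c3045cb8354f62757a66d3c5648288e4098606b996bd4851c22fceb074194b4ce9208819d621179d06b5ead730851ce9252d21102307eb3841cce6b2f6a94835a9349c84105ed57358520f59c460f41cd49c96a48820b5eb9d6274935cc845ea5a48519d06088108bdae62969ceb16bd67491d0621461101cd6460f5a937b5759c5272290683984106b38bdab49ca307b9ac5a928398a418820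

def tN : GTab where
  n := 27
  mu i j := Nat.land (Nat.shiftRight nmuT (Nat.mul 5 (Nat.add (Nat.mul 27 i) j))) 31
  iv i := Nat.land (Nat.shiftRight nivT (Nat.mul 5 i)) 31

def tQ : GTab where
  n := 24
  mu i j := Nat.land (Nat.shiftRight kmuT (Nat.mul 5 (Nat.add (Nat.mul 24 i) j))) 31
  iv i := Nat.land (Nat.shiftRight kivT (Nat.mul 5 i)) 31

def ph (k a : ℕ) : ℕ := Nat.land (Nat.shiftRight phT (Nat.mul 5 (Nat.add (Nat.mul 27 k) a))) 31

instance instOkN : tN.Ok := ok_of_chk (by decide +kernel)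

instance instOkQ : tQ.Ok := ok_of_chk (by decide +kernel)

/-- The table of `3 ^ 3 : S₄`. -/
noncomputable def tK : GTab := sd tN tQ ph

instance instOkK : tK.Ok := ok_sd (by decide +kernel)

/-- An action checked on generators. -/
theorem exists_emb' {t : GTab} [t.Ok] {d : ℕ} {act : ℕ → ℕ → ℕ} (gens : List ℕ)
    (X : Set (Equiv.Perm (Fin d))) (a0 : ∀ x < d, act 0 x = x)
    (a1 : ∀ a : t.El, ∀ x < d, act a.1 x < d)
    (a2 : ∀ a : t.El, ∀ g ∈ gens, ∀ x < d, act (a * t.el g).1 x = act a.1 (act (t.el g).1 x))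
    (a3 : ∀ a : t.El, (∀ x < d, act a.1 x = x) → a = 1)
    (h1 : ∀ g ∈ gens, g < t.n ∧ ∃ σ ∈ X, ∀ x : Fin d, (σ x).1 = act g x.1)
    (h2 : ∀ σ ∈ X, ∃ g < t.n, ∀ x : Fin d, (σ x).1 = act g x.1)
    (h3 : ∀ a : t.El, bit (t.clos gens) a.1 = true)
    {G : Type*} [Group G] {H : Subgroup G} (e : H ≃* Subgroup.closure X) :
    ∃ f : t.El →* G, Function.Injective f ∧ f.range = H := by
  let L : Subgroup t.El :=
    { carrier := {b | ∀ a : t.El, ∀ x < d, act (a * b).1 x = act a.1 (act b.1 x)}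
      one_mem' := fun a x hx => by rw [mul_one, val_one, a0 x hx]
      mul_mem' := fun {b c} hb hc a x hx => by
        rw [← mul_assoc, hc _ x hx, hb a _ (a1 c x hx), hc b x hx]
      inv_mem' := fun {b} hb a x hx => by
        have h4 : ∀ y < d, act (b⁻¹).1 (act b.1 y) = y := fun y hy => by
          rw [← hb _ y hy, inv_mul_cancel, val_one, a0 y hy]
        have h5 : Function.Injective fun y : Fin d => (⟨act b.1 y, a1 b y y.2⟩ : Fin d) :=
          fun y y' h => Fin.ext (by
            rw [← h4 y y.2, ← h4 y' y'.2]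
            exact congrArg _ (congrArg Fin.val h))
        obtain ⟨y, hy⟩ := Finite.surjective_of_injective h5 ⟨x, hx⟩
        obtain rfl : act b.1 y = x := congrArg Fin.val hy
        rw [← hb _ y y.2, h4 y y.2, inv_mul_cancel_right] }
  have hL : ∀ b, b ∈ L := fun b =>
    clos_sound L gens (fun g hg => ⟨(h1 g hg).1, fun a => a2 a g hg⟩) b (h3 b)
  letI : MulAction t.El (Fin d) :=
    { smul := fun g x => ⟨act g.1 x.1, a1 g x x.2⟩
      mul_smul := fun a b x => Fin.ext (hL b a x x.2)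
      one_smul := fun x => Fin.ext (a0 x x.2) }
  let φ := MulAction.toPermHom t.El (Fin d)
  have hinj : Function.Injective φ := (injective_iff_map_eq_one φ).2 fun a ha =>
    a3 a fun x hx => congrArg Fin.val (Equiv.ext_iff.1 ha ⟨x, hx⟩)
  have hφ : ∀ g < t.n, ∀ σ : Equiv.Perm (Fin d), (∀ x : Fin d, (σ x).1 = act g x.1) →
      φ (t.el g) = σ := fun g hg σ hσ => Equiv.ext fun x => Fin.ext (by
    rw [hσ]
    change act (t.el g).1 x.1 = _
    rw [val_el hg])
  have hr : φ.range = Subgroup.closure X := by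
    refine le_antisymm ?_ ((Subgroup.closure_le _).2 fun σ hσ => ?_)
    · rintro _ ⟨a, rfl⟩
      refine clos_sound ((Subgroup.closure X).comap φ) gens (fun g hg => ?_) a (h3 a)
      obtain ⟨hg', σ, hσ, hσ'⟩ := h1 g hg
      refine ⟨hg', ?_⟩
      rw [Subgroup.mem_comap, hφ g hg' σ hσ']
      exact Subgroup.subset_closure hσ
    · obtain ⟨g, hg, hσ'⟩ := h2 σ hσ
      exact ⟨_, hφ g hg σ hσ'⟩
  let e' : t.El ≃* H := ((MonoidHom.ofInjective (f := φ) hinj).trans
    (MulEquiv.subgroupCongr hr)).trans e.symm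
  refine ⟨H.subtype.comp e'.toMonoidHom, H.subtype_injective.comp e'.injective, ?_⟩
  rw [MonoidHom.range_comp, MonoidHom.range_eq_top.2 e'.surjective, ← MonoidHom.range_eq_map,
    Subgroup.range_subtype]

theorem exists_embK {G : Type*} [Group G] {H : Subgroup G}
    (e : H ≃* (Subgroup.closure ({Equiv.swap (0 : Fin 9) 1 * Equiv.swap 1 2,
      Equiv.swap (0 : Fin 9) 3 * Equiv.swap 3 6 * (Equiv.swap (1 : Fin 9) 4 * Equiv.swap 4 7) *
        (Equiv.swap (2 : Fin 9) 5 * Equiv.swap 5 8),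
      Equiv.swap (0 : Fin 9) 1 * Equiv.swap 3 4,
      Equiv.swap (0 : Fin 9) 3 * Equiv.swap 1 4 * Equiv.swap 2 5 * Equiv.swap 6 7} :
        Set (Equiv.Perm (Fin 9))))) :
    ∃ f : tK.El →* G, Function.Injective f ∧ f.range = H := by
  refine exists_emb' (act := act) [1, 324, 85, 225] _ (by decide +kernel) (by decide +kernel)
    (by decide +kernel) (by decide +kernel) ?_ ?_ (by decide +kernel) e
  · simp only [List.forall_mem_cons, Set.mem_insert_iff, Set.mem_singleton_iff, exists_eq_or_imp,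
      exists_eq_left]
    decide +kernel
  · simp only [Set.mem_insert_iff, Set.mem_singleton_iff, forall_eq_or_imp, forall_eq]
    exact ⟨⟨1, by decide +kernel⟩, ⟨324, by decide +kernel⟩, ⟨85, by decide +kernel⟩,
      ⟨225, by decide +kernel⟩⟩

/-- The subgroup of order `108`. -/
noncomputable def incl : (tab 108).El →* tK.El :=
  MonoidHom.mk' (fun a => tK.el a.1) (by decide +kernel)

theorem incl_val : ∀ a : (tab 108).El, (incl a).1 = a.1 := by decide +kernel

end Cfsg.Lib.Block.Mon
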