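import Cfsg.Agent.Block.PimBasis
import Cfsg.Agent.Block.CoverIrr
import Cfsg.Agent.Block.DefectNum
import Cfsg.Agent.Char.Clifford

/-!
# The rank of a covered block; normal subgroups of index two
-/

set_option autoImplicit false

open MonoidAlgebra Cfsg Cfsg.Lib.Char Cfsg.Lib.Block.Idem Cfsg.Lib.Block.Pim
open scoped ComplexConjugate

namespace Cfsg.Lib.Block

variable {G : Type*} [Group G] [Finite G] {p : ℕ} {M : Ideal AlgInt}

theorem evalFn_domCongr {H : Type*} [Group H] [Finite H] (e : H ≃* G) (χ : G → ℂ) (a : ℂ[H]) :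
    evalFn χ (domCongr ℂ ℂ e a) = evalFn (fun h => χ (e h)) a := by
  have := Fintype.ofFinite G
  have := Fintype.ofFinite H
  rw [evalFn_apply, evalFn_apply, ← Equiv.sum_comp e.toEquiv]
  simp

theorem pc_domCongr (e : G ≃* G) (a : ℂ[G]) :
    pc (domCongr ℂ ℂ e.symm a) = fun g => pc a (e g) := by
  funext g
  simp only [pc, Finset.sum_apply, Pi.smul_apply, evalFn_domCongr]
  rw [← Equiv.sum_comp (irrComap e)]
  simp

theorem mem_PIM_univ_comp (e : G ≃* G) {Φ : G → ℂ} (h : Φ ∈ PIM M (Set.univ : Set (IrrCharacter G))) :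
    (fun g => Φ (e g)) ∈ PIM M (Set.univ : Set (IrrCharacter G)) := by
  obtain ⟨c, hc, -, rfl⟩ := h
  let f := domCongr (kM M) (kM M) e.symm
  refine ⟨f c, ⟨trivial, hc.idem.map f, by simpa using hc.ne_zero, fun d _ hd h1 h2 => ?_⟩,
    by rw [eB, fB_univ, redG_one, mul_one], ?_⟩
  · obtain ⟨d, rfl⟩ := f.surjective d
    rw [← map_mul, f.injective.eq_iff] at h1 h2
    rcases hc.prim d trivial (f.injective (by rw [map_mul]; exact hd)) h1 h2 with h | h
    · left; rw [h, map_zero]
    · right; rw [h]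
  · have h1 : f c = redG M (domCongr ℂ ℂ e.symm (idemLift M c)) := by
      refine galg_ext fun g => ?_
      rw [coeff_redG, coeff_domCongr, coeff_domCongr, ← coeff_redG, redG_idemLift hc.idem]
    rw [h1, pim_redG (mem_OG.2 fun g => by
      rw [coeff_domCongr]; exact mem_OG.1 (idemLift_mem hc.idem) _)
      ((idemLift_idem hc.idem).map _), pc_domCongr, pim]

theorem PIM_subset_univ (B : Set (IrrCharacter G)) :
    PIM M B ⊆ PIM M (Set.univ : Set (IrrCharacter G)) := by
  rintro _ ⟨c, hc, -, rfl⟩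
  exact ⟨c, hc, by rw [eB, fB_univ, redG_one, mul_one], rfl⟩

variable {N : Subgroup G} [hN : N.Normal] {B : Set (IrrCharacter G)} {b : Set (IrrCharacter N)}

omit [Finite G] in
theorem pRegularPart_conjChar (θ : N → ℂ) (g : G) :
    pRegularPart p (conjChar N θ g) = conjChar N (pRegularPart p θ) g :=
  pRegularPart_comp_equiv (MulAut.conjNormal g) θ

/-- The restriction of functions to a subgroup. -/
def resLin (N : Subgroup G) : (G → ℂ) →ₗ[ℂ] (N → ℂ) := LinearMap.funLeft ℂ ℂ N.subtype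

/-- The rank of a covered block. -/
theorem Covers.blockRank_le_index_mul (hM : IsPModular p M) (h : Covers N B b) (hB : IsPBlock M B)
    (hb : IsPBlock M b) : blockRank p b ≤ N.index * blockRank p B := by
  classical
  have := Fact.mk hM.1
  have := Fintype.ofFinite G
  have := Fintype.ofFinite N
  let S : (N → ℂ) →ₗ[ℂ] (N → ℂ) := ∑ g : G, LinearMap.funLeft ℂ ℂ (MulAut.conjNormal g : N ≃* N)
  have hS : ∀ θ, S θ = ∑ g : G, conjChar N θ g := fun θ => by
    simp only [S, LinearMap.sum_apply]; rfl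
  let U := (Submodule.span ℂ ((fun χ : IrrCharacter G => pRegularPart p (χ : G → ℂ)) '' B)).map
    (resLin N)
  have hU : ∀ Φ : PIM M b, S Φ ∈ U := by
    intro Φ
    have h1 : (Φ : N → ℂ) ∈ Submodule.span ℂ (Set.range fun Φ : PIM M b => (Φ : N → ℂ)) :=
      Submodule.subset_span ⟨Φ, rfl⟩
    rw [span_PIM hM hb] at h1
    refine (Submodule.span_le (p := U.comap S)).2 ?_ h1
    rintro _ ⟨θ, hθ, rfl⟩
    obtain ⟨χ, hχ, ho⟩ := Ht.Covers.exists_over hM h hB hb hθ
    have h2 := over_iff.1 ho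
    have h3 := clifford_res χ.2 θ.2 h2
    refine ⟨((Nat.card (inertia N (θ : N → ℂ)) : ℂ) / classInner (fun n : N => (χ : G → ℂ) n) θ) •
      pRegularPart p (χ : G → ℂ), Submodule.smul_mem _ _ (Submodule.subset_span ⟨χ, hχ, rfl⟩), ?_⟩
    rw [map_smul, hS]
    simp only [← pRegularPart_conjChar]
    rw [← Ht.reg_sum, sum_conjChar_eq (θ : N → ℂ) fun x => x]
    change _ • (fun n : N => pRegularPart p (χ : G → ℂ) n) = _
    rw [← Ht.reg_res, ← Ht.reg_smul]
    congr 1
    conv_lhs => arg 2; rw [h3]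
    rw [smul_smul, div_mul_cancel₀ _ h2, Nat.cast_smul_eq_nsmul]
  have hli := linearIndependent_PIM (M := M) (B := (Set.univ : Set (IrrCharacter N)))
  have hf : ∀ Φ : PIM M b, ∃ f : (N → ℂ) →ₗ[ℂ] ℂ,
      ∀ Ψ ∈ PIM M (Set.univ : Set (IrrCharacter N)), f Ψ = if Ψ = Φ then 1 else 0 := by
    intro Φ
    obtain ⟨f, hf⟩ := LinearMap.exists_extend
      (Finsupp.lapply (⟨Φ, PIM_subset_univ b Φ.2⟩ : PIM M Set.univ) ∘ₗ hli.repr)
    refine ⟨f, fun Ψ hΨ => ?_⟩
    have := LinearMap.congr_fun hf ⟨Ψ, Submodule.subset_span ⟨⟨Ψ, hΨ⟩, rfl⟩⟩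
    simp only [LinearMap.comp_apply, Submodule.subtype_apply, Finsupp.lapply_apply] at this
    rw [this, hli.repr_eq_single ⟨Ψ, hΨ⟩ _ rfl, Finsupp.single_apply]
    simp only [Subtype.ext_iff]
  choose f hf using hf
  have hfS : ∀ Φ Ψ : PIM M b, f Φ (S Ψ) =
      (Finset.univ.filter fun g : G => conjChar N (Ψ : N → ℂ) g = Φ).card := by
    intro Φ Ψ
    rw [hS, map_sum, ← Finset.sum_boole]
    exact Finset.sum_congr rfl fun g _ => hf Φ _
      (mem_PIM_univ_comp (MulAut.conjNormal g) (PIM_subset_univ b Ψ.2))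
  have hself : ∀ Φ : PIM M b, f Φ (S Φ) ≠ 0 := fun Φ => by
    rw [hfS, Nat.cast_ne_zero, Finset.card_ne_zero]
    exact ⟨1, by simp⟩
  have hmem : ∀ Φ Ψ : PIM M b, f Φ (S Ψ) ≠ 0 → (Φ : N → ℂ) ∈ conjSet N (Ψ : N → ℂ) := by
    intro Φ Ψ h
    rw [hfS, Nat.cast_ne_zero, Finset.card_ne_zero] at h
    obtain ⟨g, hg⟩ := h
    exact mem_conjSet.2 ⟨g, (Finset.mem_filter.1 hg).2⟩
  let Y := Finset.univ.image fun Φ : PIM M b => S Φ
  have hY : ∀ y : Y, ∃ Φ : PIM M b, S Φ = y := fun y => by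
    obtain ⟨Φ, -, h⟩ := Finset.mem_image.1 y.2
    exact ⟨Φ, h⟩
  choose r hr using hY
  have h1 : Y.card ≤ blockRank p B := by
    have hli' : LinearIndependent ℂ fun y : Y => (⟨y, hr y ▸ hU _⟩ : U) := by
      refine LinearIndependent.of_comp U.subtype (Fintype.linearIndependent_iff.2 fun c hc y => ?_)
      have := congrArg (f (r y)) hc
      rw [map_sum, map_zero, Finset.sum_eq_single y] at this
      · simp only [Function.comp_apply, Submodule.subtype_apply, map_smul, smul_eq_mul] at this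
        rw [← hr y] at this
        exact (mul_eq_zero.1 this).resolve_right (hself _)
      · intro z _ hz
        simp only [Function.comp_apply, Submodule.subtype_apply, map_smul, smul_eq_mul]
        rw [← hr z]
        by_contra h0
        obtain ⟨g, hg⟩ := mem_conjSet.1 (hmem _ _ (right_ne_zero_of_mul h0))
        refine hz (Subtype.ext ?_)
        rw [← hr z, ← hr y, ← hg, hS, hS, ← Equiv.sum_comp (Equiv.mulLeft g)]
        simp only [Equiv.coe_mulLeft, conjChar_mul]
      · simp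
    have := hli'.fintype_card_le_finrank
    rw [Fintype.card_coe] at this
    exact this.trans (Submodule.finrank_map_le _ _)
  rw [← card_PIM hM hb, ← Finset.card_univ]
  refine (Finset.card_le_mul_card_image (f := fun Φ : PIM M b => S Φ) _ N.index
    fun y hy => ?_).trans (Nat.mul_le_mul_left _ h1)
  refine le_trans (Finset.card_le_card_of_injOn (t := conjSet N (r ⟨y, hy⟩ : N → ℂ))
    (fun Φ => (Φ : N → ℂ)) (fun Φ hΦ => hmem _ _ ?_) fun _ _ _ _ e => Subtype.ext e) ?_
  · rw [hr]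
    exact (Finset.mem_filter.1 hΦ).2 ▸ hself Φ
  · rw [card_conjSet]
    exact Subgroup.index_antitone (le_inertia (PIM.isCharacter _).isClassFunction)

/-- If all the characters of the covering block restrict irreducibly. -/
theorem Covers.blockRank_le_of_res (hM : IsPModular p M) (h : Covers N B b) (hB : IsPBlock M B)
    (hb : IsPBlock M b) (hres : ∀ χ ∈ B, ∀ θ : IrrCharacter N, Over N (χ : G → ℂ) (θ : N → ℂ) →
      (fun n : N => (χ : G → ℂ) n) = θ) : blockRank p b ≤ blockRank p B := by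
  refine le_trans (Submodule.finrank_mono (Submodule.span_le.2 ?_))
    (Submodule.finrank_map_le (resLin N) _)
  rintro _ ⟨θ, hθ, rfl⟩
  obtain ⟨χ, hχ, ho⟩ := Ht.Covers.exists_over hM h hB hb hθ
  exact ⟨_, Submodule.subset_span ⟨χ, hχ, rfl⟩, by
    simp only [← hres χ hχ θ ho]; exact (Ht.reg_res p _ N).symm⟩

/-- Clifford theory for a subgroup of index two. -/
theorem Over.index_two (h2 : N.index = 2) {χ : IrrCharacter G} {θ : IrrCharacter N}
    (ho : Over N (χ : G → ℂ) (θ : N → ℂ)) :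
    (fun n : N => (χ : G → ℂ) n) = θ ∨
      ((∀ g, g ∉ N → (χ : G → ℂ) g = 0) ∧ (χ : G → ℂ) 1 = 2 * (θ : N → ℂ) 1) := by
  classical
  have := Fintype.ofFinite G
  have := Fintype.ofFinite N
  have h1 := over_iff.1 ho
  obtain ⟨e, he, h3, h4⟩ := clifford_res_nat χ.2 θ.2 h1
  have h5 := clifford_norm χ.2 θ.2 h1
  have h6 := clifford_degree χ.2 θ.2 h1
  rw [h3] at h5 h6
  have h7 : ∑ g, Complex.normSq ((χ : G → ℂ) g) = Nat.card G := by
    have := χ.2.classInner_self
    rw [classInner, inv_mul_eq_one₀ (by simp)] at this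
    simp only [Complex.mul_conj] at this
    exact_mod_cast this.symm
  have h8 : ∑ n : N, Complex.normSq ((χ : G → ℂ) n) =
      Nat.card N * (e ^ 2 * (inertia N (θ : N → ℂ)).index : ℕ) := by
    rw [classInner, inv_mul_eq_iff_eq_mul₀ (by simp)] at h5
    simp only [Complex.mul_conj] at h5
    exact_mod_cast h5
  rw [← Finset.sum_filter_add_sum_filter_not _ (· ∈ N),
    Finset.sum_subtype (p := (· ∈ N)) _ (by simp), h8, ← N.card_mul_index, h2] at h7
  have h9 : 0 ≤ ∑ g ∈ Finset.univ.filter (· ∉ N), Complex.normSq ((χ : G → ℂ) g) :=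
    Finset.sum_nonneg fun _ _ => Complex.normSq_nonneg _
  have hc : (0 : ℝ) < Nat.card N := by exact_mod_cast Nat.card_pos
  have ht : 0 < (inertia N (θ : N → ℂ)).index := Nat.pos_of_ne_zero Subgroup.index_ne_zero_of_finite
  have h10 : e ^ 2 * (inertia N (θ : N → ℂ)).index ≤ 2 := by
    have : ((e ^ 2 * (inertia N (θ : N → ℂ)).index : ℕ) : ℝ) ≤ 2 := by
      push_cast at h7 ⊢; nlinarith
    exact_mod_cast this
  obtain rfl : e = 1 := by nlinarith
  rw [one_pow, one_mul] at h10 h7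
  rcases (by omega : (inertia N (θ : N → ℂ)).index = 1 ∨ (inertia N (θ : N → ℂ)).index = 2)
    with h | h
  · left
    rw [h4, conjSet_of_invariant (inertia_eq_top_iff.1 (Subgroup.index_eq_one.1 h))]
    simp
  · right
    rw [h] at h6 h7
    refine ⟨fun g hg => Complex.normSq_eq_zero.1 ((Finset.sum_eq_zero_iff_of_nonneg
      fun _ _ => Complex.normSq_nonneg _).1 (by push_cast at h7; linarith) g (by simpa using hg)),
      by rw [h6]; simp⟩

end Cfsg.Lib.Block
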