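import Cfsg.Agent.Block.SymRank
import Cfsg.Agent.Block.CoverRank
import Cfsg.Agent.S4438
import Mathlib.GroupTheory.SpecificGroups.Alternating

/-!
# The blocks of the alternating groups
-/

set_option autoImplicit false

open Equiv Finset Cfsg Cfsg.Lib.Char Cfsg.Lib.Block Subgroup

namespace Cfsg.Lib.SymChar

variable {ι : Type*} [Fintype ι] [DecidableEq ι] {Ω : Type*} [Fintype Ω] [DecidableEq Ω]
  {p w : ℕ} {M : Ideal AlgInt} {β β' : ι → ℕ} {ψ ψ' : IrrCharacter (Perm Ω)}
  {b : Set (IrrCharacter (alternatingGroup Ω))} {D : Subgroup (alternatingGroup Ω)}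
  {P : Subgroup (Perm Ω)}

theorem exists_cover_alt (hM : IsPModular p M) (hN : Fintype.card Ω ≤ Fintype.card ι)
    (hb : IsPBlock M b) (hD : IsDefectGroup p M b D) :
    ∃ (ψ : IrrCharacter (Perm Ω)) (β : ι → ℕ) (P : Subgroup (Perm Ω)), Lab ψ β ∧
      Covers (alternatingGroup Ω) (blockOf M (ψ : Perm Ω → ℂ)) b ∧
      IsDefectGroup p M (blockOf M (ψ : Perm Ω → ℂ)) P ∧
      P ⊓ alternatingGroup Ω = D.map (alternatingGroup Ω).subtype := by
  classical
  have := Fact.mk hM.1
  obtain ⟨B, ⟨ψ, rfl⟩, hc⟩ := exists_covers_above hM hb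
  obtain ⟨β, h⟩ := exists_lab hN ψ
  obtain ⟨P, h1, h2⟩ := Cfsg.Agent.S4438.result p M hM (alternatingGroup Ω) b hb
    (D.map (alternatingGroup Ω).subtype) (map_subtype_le D)
    (by rwa [subgroupOf, comap_map_eq_self_of_injective (subtype_injective _)]) _
    (isPBlock_blockOf ψ) (covers_iff.1 hc)
  exact ⟨ψ, β, P, h, hc, h1, h2⟩

/-- A homomorphism into the defect group of the covered block. -/
theorem exists_hom_of_inf (hP : P ⊓ alternatingGroup Ω = D.map (alternatingGroup Ω).subtype)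
    {A : Type*} [Group A] (f : A →* Perm Ω) (h1 : ∀ a, f a ∈ P) (h2 : ∀ a, Perm.sign (f a) = 1) :
    ∃ g : A →* D, ∀ a, ((g a : alternatingGroup Ω) : Perm Ω) = f a := by
  have : ∀ a, f.codRestrict (alternatingGroup Ω) h2 a ∈ D := fun a => by
    obtain ⟨x, hx, e⟩ : f a ∈ D.map (alternatingGroup Ω).subtype := hP ▸ ⟨h1 a, h2 a⟩
    rwa [show f.codRestrict (alternatingGroup Ω) h2 a = x from Subtype.ext e.symm]
  exact ⟨(f.codRestrict _ h2).codRestrict D this, fun _ => rfl⟩

theorem sign_eq_one_of_pow (hp : Odd p) {g : Perm Ω} {k : ℕ} (h : g ^ p ^ k = 1) :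
    Perm.sign g = 1 := by
  rcases Int.units_eq_one_or (Perm.sign g) with h1 | h1
  · exact h1
  · have := congrArg Perm.sign h
    rw [map_pow, h1, map_one, (hp.pow (n := k)).neg_one_pow] at this
    exact absurd this (by decide)

theorem le_alternatingGroup_of_odd (hp : Odd p) (hP : IsPGroup p P) : P ≤ alternatingGroup Ω := by
  intro g hg
  obtain ⟨k, hk⟩ := hP ⟨g, hg⟩
  exact sign_eq_one_of_pow hp (congrArg Subtype.val hk)

theorem blockDefect_alt_of_odd (hM : IsPModular p M) (hp : Odd p) (hb : IsPBlock M b)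
    (hD : IsDefectGroup p M b D) (hP : IsDefectGroup p M (blockOf M (ψ : Perm Ω → ℂ)) P)
    (hPD : P ⊓ alternatingGroup Ω = D.map (alternatingGroup Ω).subtype) :
    blockDefect p b = blockDefect p (blockOf M (ψ : Perm Ω → ℂ)) := by
  have := Fact.mk hM.1
  rw [blockDefect_eq_factorization hM hb hD, blockDefect_eq_factorization hM (isPBlock_blockOf ψ) hP,
    ← card_map_of_injective (subtype_injective _), ← hPD,
    inf_eq_left.2 (le_alternatingGroup_of_odd hp (defect_isPGroup hP))]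

theorem blockDefect_alt_two (hM : IsPModular 2 M) (hN : Fintype.card Ω ≤ Fintype.card ι)
    (h : Lab ψ β) (hw : 0 < wt 2 β) (hb : IsPBlock M b)
    (hD : IsDefectGroup 2 M b D) (hP : IsDefectGroup 2 M (blockOf M (ψ : Perm Ω → ℂ)) P)
    (hPD : P ⊓ alternatingGroup Ω = D.map (alternatingGroup Ω).subtype) :
    blockDefect 2 b + 1 = blockDefect 2 (blockOf M (ψ : Perm Ω → ℂ)) := by
  obtain ⟨f, -, h1, h2⟩ := h.exists_embedding hM hN hP (X := Fin 2) (by simp; omega)
    (IsPGroup.of_card (n := 1) (by simp [Fintype.card_perm])) (MonoidHom.id _) fun _ _ => id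
  have h3 : f (swap 0 1) ∉ alternatingGroup Ω := by
    rw [Perm.mem_alternatingGroup, h2]; decide
  have : Nontrivial Ω := by
    by_contra hn
    rw [not_nontrivial_iff_subsingleton] at hn
    exact h3 (by rw [Subsingleton.elim (f _) 1]; exact one_mem _)
  have h4 : (alternatingGroup Ω).relIndex P = 2 := by
    have := relIndex_dvd_index_of_normal (alternatingGroup Ω) P
    rw [alternatingGroup.index_eq_two] at this
    exact ((Nat.dvd_prime Nat.prime_two).1 this).resolve_left fun e =>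
      h3 (relIndex_eq_one.1 e (h1 _))
  have h5 := ((alternatingGroup Ω).subgroupOf P).card_mul_index
  rw [← relIndex, h4, ← card_map_of_injective P.subtype_injective, subgroupOf_map_subtype,
    inf_comm, hPD, card_map_of_injective (subtype_injective _), card_defect hM hb hD,
    card_defect hM (isPBlock_blockOf ψ) hP, ← pow_succ] at h5
  exact Nat.pow_right_injective le_rfl h5

theorem Lab.exists_odd_ne_zero (hN : Fintype.card Ω ≤ Fintype.card ι) (h : Lab ψ β)
    (hw : Odd (wt 2 β)) : ∃ g, g ∉ alternatingGroup Ω ∧ (ψ : Perm Ω → ℂ) g ≠ 0 := by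
  obtain ⟨S, _, hS⟩ := exists_pred_card (h.mul_wt_le two_pos)
  obtain ⟨v, hv⟩ := exists_parts_replicate two_pos hS
  obtain ⟨κ, hκ⟩ := h.exists_lab_core two_pos hN hS
  obtain ⟨e, he, hval⟩ := h.exists_apply_jj two_pos hv hκ
  refine ⟨jj S (v, 1), fun h1 => ?_, ?_⟩
  · rw [Perm.mem_alternatingGroup, sign_jj, map_one, mul_one] at h1
    have := sg_eq_parts v
    rw [sg, h1, hv, hS, Multiset.card_replicate, pow_add, pow_mul, hw.neg_one_pow] at this
    norm_num at this
  · rw [hval]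
    refine mul_ne_zero (mul_ne_zero ?_ ?_) κ.2.apply_one_ne_zero
    · rcases he with rfl | rfl <;> simp
    · exact_mod_cast (NP_pos two_pos h.injective).ne'

theorem Lab.exists_lab_of_mem (hM : IsPModular p M) (hN : Fintype.card Ω ≤ Fintype.card ι)
    (h : Lab ψ β) (hψ : ψ' ∈ blockOf M (ψ : Perm Ω → ℂ)) :
    ∃ β' : ι → ℕ, Lab ψ' β' ∧ cnt p β' = cnt p β ∧ wt p β' = wt p β := by
  obtain ⟨β', h'⟩ := exists_lab hN ψ'
  have := (h.sameBlock_iff hM hN h').1 hψ
  exact ⟨β', h', this, wt_eq_of_cnt hM.1.pos h h' this⟩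

theorem Lab.exists_klein (hM : IsPModular 2 M) (hN : Fintype.card Ω ≤ Fintype.card ι)
    (h : Lab ψ β) (hP : IsDefectGroup 2 M (blockOf M (ψ : Perm Ω → ℂ)) P) :
    ∃ f : (Fin (wt 2 β / 2) → Fin 2 → Multiplicative (ZMod 2)) →* Perm Ω, Function.Injective f ∧
      (∀ a, f a ∈ P) ∧ ∀ a, Perm.sign (f a) = 1 := by
  obtain ⟨f, h1, h2, h3⟩ := h.exists_embedding hM hN hP
    (A := Fin (wt 2 β / 2) → Fin 2 → Multiplicative (ZMod 2)) (by simp; omega)
    (isPGroup_of_pow fun a => funext fun i => pow_eq_one_pi _ 2 (a i)) _ (baseHom_injective _ _)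
  refine ⟨f, h1, h2, fun a => (h3 a).trans ?_⟩
  have : ∀ v : Fin 2 → Multiplicative (ZMod 2), Perm.sign (Equiv.mulLeft v) = 1 := by decide
  exact (Perm.sign_prodCongrRight _).trans (Finset.prod_eq_one fun i _ => this _)

end Cfsg.Lib.SymChar
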