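import Cfsg.Agent.Block.AltBlock
import Cfsg.Agent.Char.SymTri
import Cfsg.Agent.Char.WreathDeg

/-!
# Heights in the blocks of symmetric and alternating groups
-/

set_option autoImplicit false

open Equiv Finset Cfsg Cfsg.Lib.Char Cfsg.Lib.Block Subgroup

namespace Cfsg.Lib.Block

variable {G : Type*} [Group G] [Finite G] {p : ℕ} {M : Ideal AlgInt} {N : Subgroup G}
  [hN : N.Normal] {B : Set (IrrCharacter G)} {b : Set (IrrCharacter N)} {χ : IrrCharacter G}
  {θ : IrrCharacter N}

theorem Covers.exists_under (hM : IsPModular p M) (h : Covers N B b) (hB : IsPBlock M B)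
    (hb : IsPBlock M b) (hχ : χ ∈ B) : ∃ θ ∈ b, Over N (χ : G → ℂ) (θ : N → ℂ) := by
  obtain ⟨θ, hθ⟩ := exists_over_under N χ
  obtain ⟨g, hg⟩ := h.mem_orbB hM hB hb hχ hθ
  exact ⟨_, hg, (over_cjI χ.2.isClassFunction g θ).2 hθ⟩

omit hN in
theorem blockHeight_eq_of_deg (hχ : χ ∈ B) (hθ : θ ∈ b)
    (h1 : (charDegree (χ : G → ℂ)).factorization p = (charDegree (θ : N → ℂ)).factorization p)
    (h2 : blockDefect p b + N.index.factorization p = blockDefect p B) :
    blockHeight p b (θ : N → ℂ) = blockHeight p B (χ : G → ℂ) := by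
  have h3 := Ht.blockDefect_add_minVal p ⟨χ, hχ⟩
  have h4 := Ht.blockDefect_add_minVal p ⟨θ, hθ⟩
  rw [Ht.factorization_charDegree_eq hχ, Ht.factorization_charDegree_eq hθ] at h1
  rw [← N.card_mul_index, Nat.factorization_mul Nat.card_pos.ne' N.index_ne_zero_of_finite,
    Finsupp.add_apply] at h3
  omega

theorem Over.blockHeight_eq_of_odd (hp : p.Prime) (hodd : Odd p) (h2 : N.index = 2) (hχ : χ ∈ B)
    (hθ : θ ∈ b) (ho : Over N (χ : G → ℂ) (θ : N → ℂ)) (hd : blockDefect p b = blockDefect p B) :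
    blockHeight p b (θ : N → ℂ) = blockHeight p B (χ : G → ℂ) := by
  have h0 : (2 : ℕ).factorization p = 0 := Nat.factorization_eq_zero_of_not_dvd fun e => by
    rw [(Nat.prime_dvd_prime_iff_eq hp Nat.prime_two).1 e] at hodd
    exact absurd hodd (by decide)
  refine blockHeight_eq_of_deg hχ hθ ?_ (by rw [h2, h0, hd, add_zero])
  rcases ho.index_two h2 with e | ⟨-, e⟩
  · rw [← e]; rfl
  · rw [← Ht.cast_charDegree_irr θ, ← Nat.cast_ofNat, ← Nat.cast_mul] at e
    rw [Ht.charDegree_of_eq e, Nat.factorization_mul two_ne_zero (Ht.charDegree_ne_zero θ.2),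
      Finsupp.add_apply, h0, zero_add]

theorem Over.blockHeight_eq_two (h2 : N.index = 2) (hχ : χ ∈ B) (hθ : θ ∈ b)
    (ho : Over N (χ : G → ℂ) (θ : N → ℂ)) {g : G} (hg : g ∉ N) (h0 : (χ : G → ℂ) g ≠ 0)
    (hd : blockDefect 2 b + 1 = blockDefect 2 B) :
    blockHeight 2 b (θ : N → ℂ) = blockHeight 2 B (χ : G → ℂ) := by
  refine blockHeight_eq_of_deg hχ hθ ?_ (by rw [h2, Nat.prime_two.factorization_self, hd])
  rw [← (ho.index_two h2).resolve_right fun e => h0 (e.1 g hg)]; rfl

theorem isMulCommutative_of_card_pow {D : Type*} [Group D] [Fact p.Prime] {d : ℕ} (hd : d ≤ 2)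
    (h : Nat.card D = p ^ d) : IsMulCommutative D := by
  rcases (by omega : d = 0 ∨ d = 1 ∨ d = 2) with rfl | rfl | rfl
  · have := (Nat.card_eq_one_iff_unique.1 (h.trans (pow_zero p))).1
    exact ⟨⟨fun _ _ => Subsingleton.elim _ _⟩⟩
  · have := isCyclic_of_prime_card (h.trans (pow_one p))
    infer_instance
  · exact IsPGroup.isMulCommutative_of_card_eq_prime_sq h

end Cfsg.Lib.Block

namespace Cfsg.Lib.SymChar

variable {ι : Type*} [Fintype ι] [DecidableEq ι] {Ω : Type*} [Fintype Ω] [DecidableEq Ω]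
  {p w : ℕ} {M : Ideal AlgInt} {β β' : ι → ℕ} {ψ ψ' : IrrCharacter (Perm Ω)}
  {b : Set (IrrCharacter (alternatingGroup Ω))} {D : Subgroup (alternatingGroup Ω)}
  {P : Subgroup (Perm Ω)}

theorem Lab.wt_core_add (hp : 0 < p) (h : Lab ψ β) :
    wt 1 (core p β) + p * wt p β = Fintype.card Ω := by
  have h1 := sum_del_add (core_injective hp h.injective)
  have h2 := sum_core_add hp h.injective
  have h3 := mem_T.1 h.mem_TT
  omega

theorem Lab.exists_mv (hN : Fintype.card Ω ≤ Fintype.card ι) (h : Lab ψ β) {a a' c : ι}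
    (ht : Tops p (core p β) a a' c) {x z y m : ℕ} (hw : x + z + y = wt p β) (hm : m ≠ 0)
    (hF : ∀ μ, F (Multiset.replicate (wt p β) p + μ) (mv p (core p β) a a' c x z y) =
      (m : ℂ) * F μ (core p β)) :
    ∃ ψ' : IrrCharacter (Perm Ω), Lab ψ' (mv p (core p β) a a' c x z y) ∧
      NP p (mv p (core p β) a a' c x z y) = m ∧ wt p (mv p (core p β) a a' c x z y) = wt p β := by
  have hi : Function.Injective (mv p (core p β) a a' c x z y) := (anti_F _).injective (by
    rw [hF]; exact mul_ne_zero (Nat.cast_ne_zero.2 hm) (F_replicate_one_ne_zero ht.core.1))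
  obtain ⟨ψ', h'⟩ := exists_lab_of_injective hN hi (mem_T.2 (by
    rw [ht.sum_mv, hw, sum_core_add ht.pos h.injective, mem_T.1 h.mem_TT]))
  have h1 := (ht.wt_mv hi).trans hw
  exact ⟨ψ', h', ht.core.NP_eq ht.pos hi (Tops.cnt_mv x z y) (by rwa [h1]), h1⟩

theorem Lab.apply_ne_zero (h : Lab ψ β) {g : Perm Ω} (h0 : F (parts g) β ≠ 0) :
    (ψ : Perm Ω → ℂ) g ≠ 0 := by
  obtain ⟨e, he, h1⟩ := h.exists_eq'
  rw [h1, Pi.smul_apply, chi_apply, smul_eq_mul]
  exact mul_ne_zero (by rcases he with rfl | rfl <;> simp) h0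

theorem Lab.apply_eq_zero (h : Lab ψ β) {g : Perm Ω} (h0 : F (parts g) β = 0) :
    (ψ : Perm Ω → ℂ) g = 0 := by
  obtain ⟨e, -, h1⟩ := h.exists_eq'
  rw [h1, Pi.smul_apply, chi_apply, h0, smul_zero]

theorem mem_alternatingGroup_iff_parts {g : Perm Ω} :
    g ∈ alternatingGroup Ω ↔ Even (Fintype.card Ω + Multiset.card (parts g)) := by
  rw [Perm.mem_alternatingGroup, ← neg_one_pow_eq_one_iff_even (R := ℂ) (by norm_num),
    ← sg_eq_parts, sg]
  rcases Int.units_eq_one_or (Perm.sign g) with e | e <;> norm_num [e]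

/-- A block of weight at least `p` of a symmetric group has a character of height one. -/
theorem Lab.exists_NP (hp : p.Prime) (hN : (p + 1) * Fintype.card Ω ≤ Fintype.card ι)
    (h : Lab ψ β) (hw : p ≤ wt p β) :
    ∃ (ψ' : IrrCharacter (Perm Ω)) (β' : ι → ℕ), Lab ψ' β' ∧ cnt p β' = cnt p β ∧
      (NP p β').factorization p = 1 ∧
      (p = 2 → 3 ≤ wt p β → ∃ g, g ∉ alternatingGroup Ω ∧ (ψ' : Perm Ω → ℂ) g ≠ 0) := by
  have hN' : Fintype.card Ω ≤ Fintype.card ι := by nlinarith
  have h2 := hp.two_le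
  have h3 : 2 ≤ Fintype.card Ω := le_trans (by nlinarith) (h.mul_wt_le hp.pos)
  obtain ⟨a, a', c, ht, -⟩ := (isCore_core hp.pos h.injective).exists_tops hp.pos hp.pos hp.one_lt
    zero_ne_one (by rw [cnt_core]; exact h3.trans (h.le_cnt hN hp.pos))
    (by rw [cnt_core]; exact (one_le_two.trans h3).trans (h.le_cnt hN hp.one_lt))
  rcases exists_choose_or hp hw with ⟨y, hy, h4⟩ | ⟨h4, h5, h6⟩
  · obtain ⟨x, hx⟩ := Nat.exists_eq_add_of_le' hy
    obtain ⟨ψ', h', h5, h6⟩ := h.exists_mv hN' ht (x := x) (z := 0) (y := y) hx.symm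
      (Nat.choose_pos hy).ne' fun μ => ht.F_mv_two μ _ _ _ hx.symm
    refine ⟨ψ', _, h', (Tops.cnt_mv _ _ _).trans (cnt_core β), by rw [h5, h4], ?_⟩
    rintro rfl h7
    rcases Nat.even_or_odd (wt 2 β) with ⟨k, hk⟩ | ho
    swap
    · exact h'.exists_odd_ne_zero hN' (h6 ▸ ho)
    have h8 := h.wt_core_add two_pos
    obtain ⟨g, hg⟩ := exists_parts_eq (Ω := Ω) (μ := (2 * 2) ::ₘ
      (Multiset.replicate (wt 2 β - 2) 2 + Multiset.replicate (wt 1 (core 2 β)) 1))
      (by simp [Multiset.mem_replicate]) (by simp; omega)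
    refine ⟨g, fun e => ?_, h'.apply_ne_zero ?_⟩
    · rw [mem_alternatingGroup_iff_parts, hg, Nat.even_iff] at e
      simp at e
      omega
    · rw [hg, ht.F_mv_cons _ 2 _ _ _ two_pos (by omega)]
      refine mul_ne_zero (Nat.cast_ne_zero.2 ?_) (F_replicate_one_ne_zero ht.core.1)
      by_cases h9 : 2 ≤ x
      · have := Nat.choose_pos (show y ≤ wt 2 β - 2 by omega)
        rw [if_pos h9]; omega
      · have := Nat.choose_pos (show y - 2 ≤ wt 2 β - 2 by omega)
        rw [if_pos (show 2 ≤ y by omega)]; omega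
  · obtain ⟨y, hy⟩ := Nat.exists_eq_add_of_le h4
    have h7 : (wt p β).choose y = (wt p β).choose (p + 1) := Nat.choose_symm_of_eq_add (by omega)
    have h8 := (Nat.choose_pos h4).ne'
    obtain ⟨ψ', h', h9, h10⟩ := h.exists_mv hN' ht (x := p) (z := 1) (y := y) hy.symm
      (mul_ne_zero hp.pos.ne' h8) fun μ => by
        rw [← h7, show wt p β = p + y + 1 by omega]
        exact ht.F_mv_three μ _ _ _ rfl
    refine ⟨ψ', _, h', (Tops.cnt_mv _ _ _).trans (cnt_core β), ?_, ?_⟩
    · rw [h9, Nat.factorization_mul hp.pos.ne' h8, Finsupp.add_apply, hp.factorization_self, h6]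
    · rintro rfl -
      exact h'.exists_odd_ne_zero hN' (h10 ▸ Nat.odd_iff.2 (by omega))

/-- Transport of a character degree from a model of the defect group. -/
theorem Lab.hasDeg_of_model (hM : IsPModular p M) (hN : Fintype.card Ω ≤ Fintype.card ι)
    (h : Lab ψ β) (hb : IsPBlock M b) (hD : IsDefectGroup p M b D)
    (hP : IsDefectGroup p M (blockOf M (ψ : Perm Ω → ℂ)) P)
    (hPD : P ⊓ alternatingGroup Ω = D.map (alternatingGroup Ω).subtype)
    {X A : Type*} [Fintype X] [DecidableEq X] [Group A] (hX : Fintype.card X ≤ p * wt p β)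
    (hA : Nat.card A = p ^ blockDefect p b) (φ : A →* Perm X) (hφ : Function.Injective φ)
    (hs : ∀ a, Perm.sign (φ a) = 1) {m : ℕ} (hm : HasDeg m A) : HasDeg m D := by
  have := Fact.mk hM.1
  obtain ⟨f, h1, h2, h3⟩ := h.exists_embedding hM hN hP hX (IsPGroup.of_card hA) φ hφ
  obtain ⟨g, hg⟩ := exists_hom_of_inf hPD f h2 fun a => (h3 a).trans (hs a)
  exact hm.of_injective g (fun a b e => h1 (by rw [← hg, ← hg, e]))
    ((card_defect hM hb hD).trans hA.symm).le

theorem exists_wr [hp : Fact p.Prime] (hw : p ≤ w) : ∃ Q : Subgroup (Perm (Fin w)),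
    HasDeg p (Wr Q (Multiplicative (ZMod p))) ∧
      Nat.card (Wr Q (Multiplicative (ZMod p))) = p ^ (p * w).factorial.factorization p := by
  obtain ⟨Q⟩ : Nonempty (Sylow p (Perm (Fin w))) := inferInstance
  have h1 : Nat.card (Perm (Fin w)) = w.factorial := by simp [Fintype.card_perm]
  refine ⟨Q, hasDeg_wr_zmod _ Q.isPGroup' (Q.ne_bot_of_dvd_card ?_), ?_⟩
  · rw [h1]; exact hp.out.dvd_factorial.2 hw
  · have := card_wr (Q : Subgroup (Perm (Fin w))) (Multiplicative (ZMod p)) hp.out (by simp)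
      (by rw [Q.card_eq_multiplicity, h1, Fintype.card_fin])
    rwa [Fintype.card_fin] at this

theorem Lab.hasDeg_of_odd (hM : IsPModular p M) (hodd : Odd p)
    (hN : Fintype.card Ω ≤ Fintype.card ι) (h : Lab ψ β) (hb : IsPBlock M b)
    (hD : IsDefectGroup p M b D) (hP : IsDefectGroup p M (blockOf M (ψ : Perm Ω → ℂ)) P)
    (hPD : P ⊓ alternatingGroup Ω = D.map (alternatingGroup Ω).subtype) (hw : p ≤ wt p β) :
    HasDeg p D := by
  have := Fact.mk hM.1
  obtain ⟨Q, h1, h2⟩ := exists_wr hw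
  refine h.hasDeg_of_model hM hN hb hD hP hPD (by simp [mul_comm]) (by
    rw [h2, blockDefect_alt_of_odd hM hodd hb hD hP hPD, h.blockDefect_eq hM hN])
    _ (wrHom_injective Q _) (fun a => sign_eq_one_of_pow hodd (by
      rw [← map_pow, ← h2, pow_card_eq_one', map_one])) h1

theorem Lab.hasDeg_two (hM : IsPModular 2 M) (hN : Fintype.card Ω ≤ Fintype.card ι)
    (h : Lab ψ β) (hb : IsPBlock M b) (hD : IsDefectGroup 2 M b D)
    (hP : IsDefectGroup 2 M (blockOf M (ψ : Perm Ω → ℂ)) P)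
    (hPD : P ⊓ alternatingGroup Ω = D.map (alternatingGroup Ω).subtype) (hw : 3 ≤ wt 2 β) :
    HasDeg 2 D := by
  have hd := blockDefect_alt_two hM hN h (by omega) hb hD hP hPD
  rw [h.blockDefect_eq hM hN] at hd
  rcases Nat.even_or_odd' (wt 2 β) with ⟨k, hk | hk⟩
  · obtain ⟨Q, h1, h2⟩ := exists_wr (p := 2) (w := k) (by omega)
    let R := (wrHom Q (Multiplicative (ZMod 2))).range
    have h3 : Nat.card R = _ := (Nat.card_congr
      (MonoidHom.ofInjective (wrHom_injective Q _)).toEquiv.symm).trans h2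
    have h4 : Fintype.card (Fin k × Multiplicative (ZMod 2)) = wt 2 β := by simp [hk, mul_comm]
    have h5 := card_wr R (Multiplicative (ZMod 2)) Nat.prime_two (by simp) (by rw [h3, h4, hk])
    let s := Perm.sign.comp (wrHom R (Multiplicative (ZMod 2)))
    have h6 : s.ker.index = 2 := by
      rw [index_ker, show s.range = ⊤ from ?_]
      · simp
      rw [MonoidHom.range_eq_top]
      intro e
      rcases Int.units_eq_one_or e with rfl | rfl
      · exact ⟨1, map_one _⟩
      · let i : Fin k × Multiplicative (ZMod 2) := (⟨0, by omega⟩, 1)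
        refine ⟨SemidirectProduct.inl (Pi.mulSingle i (Multiplicative.ofAdd 1)), ?_⟩
        rw [MonoidHom.comp_apply, sign_wrHom, Finset.prod_eq_single i
          (fun j _ hj => by simp [hj]) (by simp)]
        simp only [SemidirectProduct.left_inl, Pi.mulSingle_eq_same, SemidirectProduct.right_inl,
          OneMemClass.coe_one, map_one, one_pow, mul_one]
        decide
    have h7 := s.ker.card_mul_index
    rw [h6, h5, h4, ← hd, pow_succ] at h7
    refine h.hasDeg_of_model hM hN hb hD hP hPD (by simp [hk, mul_comm])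
      (Nat.eq_of_mul_eq_mul_right two_pos h7) ((wrHom R _).comp s.ker.subtype)
      ((wrHom_injective R _).comp s.ker.subtype_injective) (fun a => a.2)
      ((h1.of_injective _ (MonoidHom.ofInjective (wrHom_injective Q _)).injective
        (h3.trans h2.symm).le).of_surjective (SemidirectProduct.rightHom.comp s.ker.subtype)
          fun r => ⟨⟨SemidirectProduct.inr r, ?_⟩, rfl⟩)
    rw [MonoidHom.mem_ker, MonoidHom.comp_apply, sign_wrHom]
    simp
  · obtain ⟨Q, h1, h2⟩ := exists_wr (p := 2) (w := 2 * k) (by omega)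
    let φ := wrHom Q (Multiplicative (ZMod 2))
    refine h.hasDeg_of_model hM hN hb hD hP hPD (X := _ ⊕ ℤˣ) ?_ ?_
      ((Perm.sumCongrHom _ _).comp (φ.prod ((MulAction.toPermHom ℤˣ ℤˣ).comp (Perm.sign.comp φ))))
      (Perm.sumCongrHom_injective.comp fun a b e => wrHom_injective Q _ (congrArg Prod.fst e))
      (fun a => ?_) h1
    · simp [hk]; omega
    · rw [hk, factorization_factorial_mul' Nat.prime_two, Nat.factorial_succ,
        Nat.factorization_mul (by omega) (Nat.factorial_ne_zero _), Finsupp.add_apply,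
        Nat.factorization_eq_zero_of_not_dvd (by omega)] at hd
      rw [h2, factorization_factorial_mul' Nat.prime_two]
      congr 1
      omega
    · have : ∀ e : ℤˣ, e * Perm.sign (MulAction.toPermHom ℤˣ ℤˣ e) = 1 := by decide
      exact (Perm.sign_sumCongr _ _).trans (this _)

end Cfsg.Lib.SymChar
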