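import Cfsg.Agent.Block.BDOls
import Cfsg.Agent.Solv.ExtraSub

/-!
Olsson's bound for defect groups of order `32`.
-/

set_option autoImplicit false

open Cfsg Cfsg.Lib.Block.AG Cfsg.Lib.Fus Cfsg.Lib.Solv Subgroup
open scoped commutatorElement

namespace Cfsg.Lib.Block

universe u

namespace AG

variable {P : Type u} [Group P] [Finite P] {A Q V W : Subgroup P} {a c g t u v x y : P}

theorem inv_mul_mem_of_card (h : V ≤ W) (h1 : Nat.card W = 2 * Nat.card V) (hx : x ∈ W)
    (hy : y ∈ W) (h2 : x ∉ V) (h3 : y ∉ V) : x⁻¹ * y ∈ V := by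
  have h4 := (V.subgroupOf W).index_mul_card
  rw [Nat.card_congr (subgroupOfEquivOfLe h).toEquiv, h1] at h4
  exact (mul_mem_iff_of_index_two (Nat.eq_of_mul_eq_mul_right Nat.card_pos h4)
    (a := ⟨x, hx⟩⁻¹) (b := ⟨y, hy⟩)).2 (by simp [mem_subgroupOf, h2, h3])

theorem two_mul_card_le (hP : IsPGroup 2 P) (hx : x ∉ V) : 2 * Nat.card V ≤ Nat.card P :=
  card_top (G := P) ▸ mul_card_le' hP le_top (mem_top x) hx

/-- A group of order `32` with derived subgroup of order `4` and an abelian maximal subgroup. -/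
structure AI (A : Subgroup P) : Prop where
  card : Nat.card P = 32
  cardC : Nat.card (commutator P) = 4
  cardA : Nat.card A = 16
  ab : IsMulCommutative A

/-- The case of nilpotency class three. -/
structure Th (A : Subgroup P) (g a t : P) : Prop extends AI A where
  ng : g ∉ A
  ma : a ∈ A
  rel : g * a * g⁻¹ = t * a
  nt : t ∉ center P

namespace AI

variable (h : AI A)
include h

omit [Finite P] in
theorem pg : IsPGroup 2 P := .of_card (n := 5) h.card

omit [Finite P] in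
theorem comm (hx : x ∈ A) (hy : y ∈ A) : Commute x y :=
  PG.isMulCommutative_iff_le_centralizer.1 h.ab hy x hx

omit [Finite P] in
theorem index : A.index = 2 := by
  have := A.index_mul_card
  rw [h.card, h.cardA] at this
  omega

omit [Finite P] in
theorem mul_iff : x * y ∈ A ↔ (x ∈ A ↔ y ∈ A) := mul_mem_iff_of_index_two h.index

omit [Finite P] in
theorem normal : A.Normal := normal_of_index_eq_two h.index

omit [Finite P] in
theorem not_comm : ¬ IsMulCommutative P := fun h1 => by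
  have := h.cardC
  rw [PG.isMulCommutative_iff_commutator_eq_bot'.1 h1, card_bot] at this
  omega

theorem cardZ : Nat.card (center P) = 4 := by
  have := h.ab
  have := PG.card_commutator_mul_card_center h.pg h.not_comm h.index
  rw [h.cardC, h.cardA] at this
  omega

omit [Finite P] in
theorem mem_center (hx : x ∈ A) (hy : y ∉ A) (h1 : Commute x y) : x ∈ center P :=
  mem_center_iff.2 fun g => by
    by_cases hg : g ∈ A
    · exact h.comm hg hx
    · have := (h.comm hx (h.mul_iff.2 (iff_of_false hg (mt inv_mem_iff.1 hy)))).mul_right h1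
      rw [inv_mul_cancel_right] at this
      exact this.symm

omit [Finite P] in
theorem exists_not_mem : ∃ g, g ∉ A := by
  by_contra! h1
  have := h.index
  rw [(eq_top_iff' A).2 h1, index_top] at this
  omega

omit [Finite P] in
theorem mem_of_center (hc : c ∈ center P) : c ∈ A := by_contra fun h1 => h.not_comm ⟨⟨fun x y => by
  have h2 : ∀ x, x ∈ center P := fun x => by
    have h3 : ∀ x ∈ A, x ∈ center P := fun x hx => h.mem_center hx h1 (mem_center_iff.1 hc x)
    by_cases hx : x ∈ A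
    · exact h3 x hx
    · simpa using mul_mem (h3 _ (h.mul_iff.2 (iff_of_false hx h1))) (inv_mem hc)
  exact mem_center_iff.1 (h2 y) x⟩⟩

theorem eq_top (h1 : A ≤ Q) (hx : x ∈ Q) (h2 : x ∉ A) : Q = ⊤ := by
  have := mul_card_le' h.pg h1 hx h2
  exact eq_top_of_le_card _ (by rw [h.card]; rw [h.cardA] at this; exact this)

theorem exists_comm (hg : g ∉ A) (hc : c ∈ commutator P) : ∃ a ∈ A, ⁅g, a⁆ = c := by
  have := h.ab
  have := h.normal
  have h1 : g ∈ normalizer (A : Set P) := by rw [normalizer_eq_top]; trivial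
  rwa [← PG.mem_commutator_zpowers_iff A h1, ← PG.commutator_sup_zpowers A h1,
    h.eq_top le_sup_left (mem_sup_right (mem_zpowers g)) hg]

theorem card_cent (hx : x ∉ A) : Nat.card (centralizer ({x} : Set P)) ≤ 8 := by
  have h1 := (A.subgroupOf (centralizer {x})).index_mul_card
  have h2 : (A.subgroupOf (centralizer {x})).index ≤ 2 :=
    Nat.le_of_dvd two_pos (h.index ▸ have := h.normal; relIndex_dvd_index_of_normal _ _)
  have h3 := Nat.card_le_card_of_injective (α := A.subgroupOf (centralizer {x})) (β := center P)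
    (fun y => ⟨y, h.mem_center y.2 hx (mem_centralizer_singleton_iff.1 y.1.2)⟩)
    fun y y' e => Subtype.ext (Subtype.ext (Subtype.mk.inj e))
  rw [h.cardZ] at h3
  nlinarith

theorem aut_mem (e : MulAut P) (hx : x ∈ A) : e x ∈ A := by_contra fun h1 => by
  have h2 := h.card_cent h1
  have h3 := Nat.card_le_card_of_injective (α := A) (β := centralizer {e x})
    (fun y => ⟨e y, mem_centralizer_singleton_iff.2 (by
      rw [← map_mul, h.comm y.2 hx, map_mul])⟩)
    fun y y' e' => Subtype.ext (e.injective (congrArg Subtype.val e'))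
  rw [h.cardA] at h3
  omega

theorem not_essD (hZ : commutator P ≤ center P) {K : Subgroup (MulAut Q)} (hQ : EssD 2 Q K)
    (hu : u ∈ Q) (h1 : u ∉ A) : False := by
  obtain ⟨α, -, H⟩ := hQ.chain h.pg
  have h2 : center P ≤ Q := (center_le_centralizer _).trans hQ.selfC
  have h3 : ∀ x s : P, x⁻¹ * (s * x * s⁻¹) ∈ center P := fun x s =>
    Ess.inv_mul_conj_eq x s ▸ hZ (commutator_mem_commutator (mem_top _) (mem_top _))
  have h4 : ∀ s, s ∈ normalizer (Q : Set P) := fun s => mem_normalizer_of_finite fun x hx => by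
    simpa using mul_mem hx (h2 (h3 x s))
  have h5 : ∀ c ∈ center P, ∀ x ∈ Q, Commute x (autFun α c) := fun c hc x hx => by
    rw [← autFun_autFun_inv α hx, Commute, SemiconjBy, ← mulOn_autFun α _ (autFun_mem _ hx) _ (h2 hc),
      ← mulOn_autFun α _ (h2 hc) _ (autFun_mem _ hx), mem_center_iff.1 hc]
  obtain ⟨t, h6, h7⟩ : ∃ t ∉ Q, ∀ x ∈ Q, autFun α (x⁻¹ * (t * x * t⁻¹)) ∈ center P := by
    by_cases h6 : ∀ c ∈ center P, autFun α c ∈ A
    · obtain ⟨t, -, h7⟩ := SetLike.not_le_iff_exists.1 (mt top_le_iff.1 hQ.ne)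
      exact ⟨t, h7, fun x _ => h.mem_center (h6 _ (h3 x t)) h1 (h5 _ (h3 x t) u hu).symm⟩
    push Not at h6
    obtain ⟨c, h6, h7⟩ := h6
    have h8 : ∀ x ∈ Q, x ∈ A → x ∈ center P := fun x hx hx' => h.mem_center hx' h7 (h5 c h6 x hx)
    obtain ⟨d, h9, h10, h11⟩ : ∃ d ∈ center P, d ≠ 1 ∧ autFun α d ∈ A := by
      obtain ⟨d, h9, h10⟩ : ∃ d : center P, d ≠ 1 ∧ d ≠ ⟨c, h6⟩⁻¹ := by
        by_contra! h9
        have := Nat.card_le_card_of_surjective ![1, (⟨c, h6⟩⁻¹ : center P)] fun d =>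
          (em (d = 1)).elim (fun e => ⟨0, e.symm⟩) fun e => ⟨1, (h9 d e).symm⟩
        simp [h.cardZ] at this
      by_cases h11 : autFun α d ∈ A
      · exact ⟨d, d.2, fun e => h9 (Subtype.ext e), h11⟩
      · refine ⟨d * c, mul_mem d.2 h6, fun e => h10 (Subtype.ext (eq_inv_of_mul_eq_one_left e)), ?_⟩
        rw [mulOn_autFun α _ (h2 d.2) _ (h2 h6), h.mul_iff]
        exact iff_of_false h11 h7
    obtain ⟨t, h12, h13⟩ := h.exists_comm (mt inv_mem_iff.1 h1) (c := d)
      (eq_of_le_of_card_ge hZ (by rw [h.cardZ, h.cardC]) ▸ h9)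
    refine ⟨t, fun h14 => h10 (h13 ▸ commutatorElement_eq_one_iff_mul_comm.2
      (mem_center_iff.1 (h8 t h14 h12) _)), fun x hx => ?_⟩
    by_cases h14 : x ∈ A
    · rw [h.comm h12 h14, mul_inv_cancel_right, inv_mul_cancel, (mulOn_autFun α).map_one]
      exact one_mem _
    · have h15 := mem_center_iff.1 (h8 _ (mul_mem (inv_mem hu) hx)
        (h.mul_iff.2 (iff_of_false (mt inv_mem_iff.1 h1) h14)))
      rw [show x⁻¹ * (t * x * t⁻¹) = (u⁻¹ * x)⁻¹ * (⁅u⁻¹, t⁆ * t * (u⁻¹ * x)) * t⁻¹ by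
        rw [commutatorElement_def]; group, h15, inv_mul_cancel_left, mul_inv_cancel_right, h13]
      exact h.mem_center h11 h1 (h5 d h9 u hu).symm
  have h8 : ∀ x ∈ Q, autFun α x ∈ (((center P).subgroupOf Q).map α.toMonoidHom).map Q.subtype ↔
      x ∈ center P := fun x hx => by
    rw [autFun_of_mem _ hx, ← Q.coe_subtype, mem_map_iff_mem Q.subtype_injective]
    exact mem_map_iff_mem α.injective
  have h9 : ∀ x ∈ center P, t * x * t⁻¹ = x := fun x hx => by
    rw [mem_center_iff.1 hx, mul_inv_cancel_right]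
  exact H t (h4 t) h6 t (h4 t) h6 _ _ inf_le_left (fun x _ => h3 x t)
    (fun x _ hx => by rw [h9 x hx, inv_mul_cancel]; exact one_mem _) (fun x _ hx => h9 x hx.1) h7
    (fun x hx _ => ⟨h7 x hx, (h8 _ (h2 (h3 x t))).2 (h3 x t)⟩) fun x hx h10 => h9 x ((h8 x hx).1 h10.2)

theorem exists_th (hZ : ¬ commutator P ≤ center P) : ∃ g a t, Th A g a t := by
  obtain ⟨g, hg⟩ := h.exists_not_mem
  obtain ⟨t, h1, h2⟩ := SetLike.not_le_iff_exists.1 hZ
  obtain ⟨a, h3, rfl⟩ := h.exists_comm hg h1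
  exact ⟨g, a, _, h, hg, h3, by rw [commutatorElement_def, inv_mul_cancel_right], h2⟩

end AI

namespace Th

variable (h : Th A g a t)
include h

omit [Finite P] in
theorem t_eq : t = ⁅g, a⁆ := by rw [commutatorElement_def, h.rel, mul_inv_cancel_right]

omit [Finite P] in
theorem mt : t ∈ A := h.t_eq ▸ mul_mem (h.normal.conj_mem a h.ma g) (inv_mem h.ma)

omit [Finite P] in
theorem g2 : g ^ 2 ∈ center P :=
  h.mem_center (sq_mem_of_index_two h.index g) h.ng ((Commute.refl g).pow_left 2)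

omit [Finite P] in
theorem inv_t : g * t * g⁻¹ = t⁻¹ := by
  have h1 : g * (g * a * g⁻¹) * g⁻¹ = a := by
    rw [show g * (g * a * g⁻¹) * g⁻¹ = g ^ 2 * a * (g ^ 2)⁻¹ by rw [sq]; group,
      ← mem_center_iff.1 h.g2, mul_inv_cancel_right]
  rw [h.rel, ← conj_mul, h.rel, ← mul_assoc, mul_eq_right] at h1
  exact eq_inv_of_mul_eq_one_left h1

omit [Finite P] in
theorem t2 : t ^ 2 ≠ 1 := fun e => h.nt (h.mem_center h.mt h.ng (by
  have := h.inv_t
  rw [inv_eq_of_mul_eq_one_right (a := t) (sq t ▸ e), mul_inv_eq_iff_eq_mul] at this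
  exact this.symm))

theorem comm_eq : commutator P = zpowers t :=
  (eq_of_le_of_card_ge (zpowers_le.2 (h.t_eq ▸ commutator_mem_commutator (mem_top _) (mem_top _)))
    (by rw [h.cardC, Nat.card_zpowers]; exact le_orderOf h.pg (n := 1) h.t2)).symm

theorem ord_t : orderOf t = 2 ^ (1 + 1) := by rw [← Nat.card_zpowers, ← h.comm_eq, h.cardC]; rfl

omit [Finite P] in
theorem n_mem : t * a ^ 2 ∈ center P := h.mem_center (mul_mem h.mt (pow_mem h.ma 2)) h.ng (by
  have : g * (t * a ^ 2) * g⁻¹ = t * a ^ 2 := by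
    rw [← conj_mul, ← conj_pow, h.inv_t, h.rel, (h.comm h.mt h.ma).mul_pow, sq t, mul_assoc,
      inv_mul_cancel_left]
  exact (mul_inv_eq_iff_eq_mul.1 this).symm)

omit [Finite P] in
theorem sq_ag : (a * g) ^ 2 = t * a ^ 2 * g ^ 2 := by
  rw [show (a * g) ^ 2 = a * (g * a * g⁻¹) * g ^ 2 by rw [sq, sq]; group, h.rel, ← mul_assoc,
    h.comm h.ma h.mt, sq a, mul_assoc t]

omit [Finite P] in
theorem sq_n : (t * a ^ 2) ^ 2 = t ^ 2 * a ^ 4 := by
  rw [(h.comm h.mt (pow_mem h.ma 2)).mul_pow, ← pow_mul]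

theorem exists_eq (hx : x ∈ A) : ∃ i : ℕ, ∃ c ∈ center P, x = a ^ i * c := by
  obtain ⟨i, hi⟩ := mem_powers_iff_mem_zpowers.2
    (h.comm_eq.le (commutator_mem_commutator (mem_top g) (mem_top x)))
  refine ⟨i, (a ^ i)⁻¹ * x, h.mem_center (mul_mem (inv_mem (pow_mem h.ma i)) hx) h.ng ?_, by group⟩
  have : g * ((a ^ i)⁻¹ * x) * g⁻¹ = (a ^ i)⁻¹ * x := by
    rw [← conj_mul, ← conj_inv, ← conj_pow, h.rel, (h.comm h.mt h.ma).mul_pow,
      show g * x * g⁻¹ = ⁅g, x⁆ * x by rw [commutatorElement_def, inv_mul_cancel_right], ← hi]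
    group
  exact (mul_inv_eq_iff_eq_mul.1 this).symm

theorem pow_four (hc : c ∈ center P) : c ^ 4 = 1 :=
  congrArg Subtype.val (h.cardZ ▸ pow_card_eq_one' (x := (⟨c, hc⟩ : center P)))

theorem t2_mem : t ^ 2 ∈ center P := h.mem_center (pow_mem h.mt 2) h.ng (by
  have : g * t ^ 2 * g⁻¹ = t ^ 2 := by
    rw [← conj_pow, h.inv_t, inv_pow, inv_eq_iff_mul_eq_one]
    exact pow_pow_eq_one (n := 1) h.ord_t
  exact (mul_inv_eq_iff_eq_mul.1 this).symm)

theorem four_eq (h4 : a ^ 4 ≠ 1) : (t * a ^ 2) ^ 2 = 1 ∧ a ^ 4 = t ^ 2 := by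
  have h0 : t ^ 2 * t ^ 2 = 1 := pow_pow_eq_one (n := 1) h.ord_t
  have h1 : (t * a ^ 2) ^ 2 = 1 := by_contra fun h1 => h4 (by
    have h2 := eq_of_le_of_card_ge (zpowers_le.2 h.n_mem)
      (by rw [h.cardZ, Nat.card_zpowers]; exact le_orderOf h.pg (n := 1) h1)
    have h3 := eq_of_invol h.pg (pow_mem (mem_zpowers _) 2) (h2 ▸ h.t2_mem) h1 h.t2
      (by rw [← pow_mul]; exact h.pow_four h.n_mem) (sq (t ^ 2) ▸ h0)
    rwa [h.sq_n, mul_eq_left] at h3)
  exact ⟨h1, mul_left_cancel ((h.sq_n.symm.trans h1).trans h0.symm)⟩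

theorem ord_a (h4 : a ^ 4 ≠ 1) : orderOf a = 2 ^ (2 + 1) := orderOf_eq_prime_pow h4 (by
  rw [show 2 ^ (2 + 1) = 4 + 4 from rfl, pow_add, (h.four_eq h4).2]
  exact pow_pow_eq_one (n := 1) h.ord_t)

theorem fix (h4 : a ^ 4 ≠ 1) {φ : P → P} (hφ : PP 2 A φ) (hx : x ∈ A) : φ x = x := by
  have h0 := h.ord_a h4
  have h1 : ∀ x ∈ zpowers a, x ^ 2 = 1 → φ x = x := fun x hx h1 => by
    rcases eq_of_sq_eq_one h0 hx h1 with rfl | rfl
    · exact hφ.map_one
    obtain ⟨i, c, h2, h3⟩ := h.exists_eq (hφ.mem a h.ma)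
    have h5 : φ (a ^ 2 ^ 2) ∈ zpowers a := by
      rw [hφ.map_pow h.ma, h3, Commute.mul_pow (mem_center_iff.1 h2 _),
        show c ^ 2 ^ 2 = 1 from h.pow_four h2, mul_one]
      exact pow_mem (pow_mem (mem_zpowers a) _) _
    exact (eq_of_sq_eq_one h0 h5 (by rw [← hφ.map_pow (pow_mem h.ma _), h1, hφ.map_one])).resolve_left
      fun e => h4 (hφ.inj (pow_mem h.ma _) (one_mem _) (e.trans hφ.map_one.symm))
  refine hφ.fix_of_comm h.pg (fun _ hx _ => h.comm hx) (fun x hx h2 => ?_) hx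
  have h3 : φ x ^ 2 = 1 := by rw [← hφ.map_pow hx, h2, hφ.map_one]
  by_cases h5 : x ∈ zpowers a
  · exact h1 x h5 h2
  by_cases h6 : φ x ∈ zpowers a
  · exact hφ.inj (hφ.mem x hx) hx (h1 _ h6 h3)
  refine hφ.fix_of_mem h.pg hx (h1 _ (inv_mul_mem_of_card (zpowers_le.2 h.ma)
    (by rw [h.cardA, Nat.card_zpowers, h0]; rfl) hx (hφ.mem x hx) h5 h6) ?_)
  rw [(h.comm (inv_mem hx) (hφ.mem x hx)).mul_pow, inv_pow, h2, h3, inv_one, one_mul]

end Th

section NoAb

variable (hP : Nat.card P = 32) (hA : ∀ A : Subgroup P, IsMulCommutative A → Nat.card A ≤ 8)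
include hP hA

theorem cent_le_of_eight [IsMulCommutative V] (h : 8 ≤ Nat.card V) : centralizer (V : Set P) ≤ V :=
  fun x hx => by_contra fun h1 => by
    have := mul_card_le' (p := 2) (.of_card (n := 5) hP) le_sup_left (mem_sup_right (mem_zpowers x)) h1
    have := hA _ (PG.isMulCommutative_sup_zpowers hx)
    omega

theorem card_cent_le (h4 : ∀ x : P, x ^ 4 = 1) (hC : Nat.card (commutator P) = 4) (hv : v ^ 2 ≠ 1) :
    Nat.card (centralizer ({v} : Set P)) ≤ 8 := by
  by_contra! h0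
  have pg : IsPGroup 2 P := .of_card (n := 5) hP
  have ho : orderOf v = 2 ^ (1 + 1) := orderOf_eq_prime_pow hv (h4 v)
  have h1 : ∀ x ∈ centralizer ({v} : Set P), x ∉ zpowers v →
      centralizer ((zpowers v ⊔ zpowers x : Subgroup P) : Set P) ≤ zpowers v ⊔ zpowers x ∧
        Nat.card (zpowers v ⊔ zpowers x : Subgroup P) = 8 := fun x hx h1 => by
    have := PG.isMulCommutative_sup_zpowers (centralizer_zpowers_eq v ▸ hx)
    have h2 := mul_card_le' pg le_sup_left (mem_sup_right (mem_zpowers x)) h1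
    rw [Nat.card_zpowers, ho] at h2
    exact ⟨cent_le_of_eight hP hA h2, le_antisymm (hA _ this) h2⟩
  have h2 : ∀ x ∈ centralizer ({v} : Set P), x * x ∈ zpowers v → ∀ y,
      y ∈ zpowers v ⊔ zpowers x ↔ y ∈ zpowers v ∨ y * x ∈ zpowers v := fun x hx h2 y =>
    mem_sup_iff_of_invol (fun k hk => by
      rwa [comm_of_mem (mem_centralizer_singleton_iff.1 hx) hk, mul_inv_cancel_right]) h2
  have h3 : ∀ x y, x ∈ centralizer ({v} : Set P) → Commute x y →
      x ∈ centralizer ((zpowers v ⊔ zpowers y : Subgroup P) : Set P) := fun x y hx h3 =>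
    le_centralizer_iff.1 (sup_le (le_centralizer_iff.1 (zpowers_le.2 (centralizer_zpowers_eq v ▸ hx)))
      (zpowers_le.2 fun _ hz => (comm_of_mem h3.symm hz).symm)) (mem_zpowers x)
  have h5 : ∀ x : P, x ^ 2 * x ^ 2 = 1 := fun x => by rw [← pow_add, h4]
  have h6 : ∀ g, g ^ 2 ∈ zpowers v := fun g => by_contra fun h6 => by
    by_cases hg : g ∈ centralizer ({v} : Set P)
    · rcases (h2 _ (pow_mem hg 2) (h5 g ▸ one_mem _) g).1 ((h1 _ (pow_mem hg 2) h6).1
        (h3 _ _ hg ((Commute.refl g).pow_right 2))) with h7 | h7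
      · exact h6 (pow_mem h7 2)
      · have := pow_mem h7 2
        rw [← pow_succ', ← pow_mul, show (2 + 1) * 2 = 4 + 2 from rfl, pow_add, h4, one_mul] at this
        exact h6 this
    have h7 := two_mul_card_le pg hg
    have h8 := (centralizer ({v} : Set P)).index_mul_card
    have h9 := dvd_32 (hP ▸ card_subgroup_dvd_card (centralizer ({v} : Set P)))
    have h10 : Nat.card (centralizer ({v} : Set P)) = 16 := by omega
    have h11 : (centralizer ({v} : Set P)).index = 2 := by rw [h10] at h8; omega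
    have h12 := normal_of_index_eq_two h11
    have h13 := sq_mem_of_index_two h11 g
    have h14 : g * v * g⁻¹ ∈ zpowers v := by_contra fun h14 => by
      obtain ⟨h15, h16⟩ := h1 _ (h12.conj_mem v (cent_self_mem rfl) g) h14
      have := card_le_of_le fun x hx => h15 (h3 x _ hx (by
        have := mem_centralizer_singleton_iff.1 (h12.conj_mem x hx g⁻¹)
        simpa [Commute, SemiconjBy, mul_assoc] using congrArg (fun y => g * y * g⁻¹) this))
      omega
    have h15 : g * v * g⁻¹ = v⁻¹ := by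
      rcases eq_of_sq_eq_one ho (mul_mem (inv_mem (mem_zpowers v)) h14) (by
        rw [(comm_of_mem (Commute.refl v) h14).inv_left.mul_pow, inv_pow, inv_mul_eq_one]
        exact ((eq_of_sq_eq_one ho (pow_mem h14 2) (by rw [← pow_mul, h4])).resolve_left
          (by simpa using hv)).symm) with e | e
      · exact (hg (mem_centralizer_singleton_iff.2
          (mul_inv_eq_iff_eq_mul.1 (inv_mul_eq_one.1 e).symm))).elim
      · rw [inv_mul_eq_iff_eq_mul.1 e, eq_inv_iff_mul_eq_one, ← pow_succ', ← pow_succ]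
        exact h4 v
    obtain ⟨h16, h17⟩ := h1 _ h13 h6
    obtain ⟨c, h18, h19⟩ := SetLike.not_le_iff_exists.1 fun e : centralizer ({v} : Set P) ≤
      zpowers v ⊔ zpowers (g ^ 2) => by have := card_le_of_le e; omega
    have h20 : ∀ w ∈ zpowers v ⊔ zpowers (g ^ 2), w * (g * w * g⁻¹) = 1 := fun w hw => by
      rcases (h2 _ h13 (h5 g ▸ one_mem _) w).1 hw with e | e
      · rw [inv_of_mem h15 e, mul_inv_cancel]
      · have e1 := inv_of_mem h15 e
        rw [← conj_mul, ← ((Commute.refl g).pow_left 2).eq, mul_inv_cancel_right, mul_inv_rev,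
          ← eq_mul_inv_iff_mul_eq] at e1
        have e2 := comm_of_mem (mem_centralizer_singleton_iff.1 h13) e
        rw [e1, ← mul_inv_rev, ← mul_inv_rev, mul_inv_eq_one, e2, mul_assoc, h5, mul_one]
    have h21 := h20 _ (inv_mul_mem_of_card (sup_le (zpowers_le.2 (cent_self_mem rfl)) (zpowers_le.2 h13))
      (by omega) h18 (h12.conj_mem c h18 g) h19 fun e => h19 (by
        have h21 := mem_sup_right (S := zpowers v) (mem_zpowers (g ^ 2))
        have h22 := mul_mem (mul_mem (inv_mem h21) e) h21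
        have h23 := inv_eq_of_mul_eq_one_right (h20 _ h22)
        rw [show g * ((g ^ 2)⁻¹ * (g * c * g⁻¹) * g ^ 2) * g⁻¹ = c by group] at h23
        exact h23 ▸ inv_mem h22))
    refine h19 (h16 (h3 _ _ h18 ?_))
    rw [show c⁻¹ * (g * c * g⁻¹) * (g * (c⁻¹ * (g * c * g⁻¹)) * g⁻¹) =
      c⁻¹ * (g ^ 2 * c * (g ^ 2)⁻¹) by rw [sq]; group, inv_mul_eq_one, eq_mul_inv_iff_mul_eq] at h21
    exact h21
  have h7 : ∀ g : P, g ^ 2 ∈ zpowers (v ^ 2) := fun g =>
    mem_zpowers_pow_of_pow (m := 1) ho (h6 g) (by rw [← pow_mul]; exact h4 g)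
  have h8 := card_le_of_le (show commutator P ≤ zpowers (v ^ 2) from
    commutator_le.2 fun x _ y _ => by
      rw [show ⁅x, y⁆ = x ^ 2 * (x⁻¹ * y) ^ 2 * (y ^ 2)⁻¹ by
        rw [commutatorElement_def, sq, sq, sq]; group]
      exact mul_mem (mul_mem (h7 _) (h7 _)) (inv_mem (h7 _)))
  have := orderOf_le_of_pow_eq_one two_pos (sq (v ^ 2) ▸ h5 v)
  rw [hC, Nat.card_zpowers] at h8
  omega

end NoAb

end AG

namespace BD

variable {M : Ideal AlgInt} {P : Type u} [Group P] [Finite P] {b : BD 2 M P} {A Q : Subgroup P}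
  {a g t u : P} {φ : P → P}

theorem ai_le (h : AI A) (hu : ∀ v, b.ef u v → v ∉ A) : b.k0 ≤ 8 :=
  k0_le_of_cent fun v hv => by
    have h1 := h.card_cent (hu v hv)
    have h2 := le_orderOf h.pg (n := 0) (x := v) fun e => hu v hv (pow_one v ▸ e ▸ one_mem A)
    omega

theorem ai_mem (h : AI A) (hφ : b.fu ⊤ φ) (x : P) : φ x ∈ A ↔ x ∈ A := by
  obtain ⟨e, -, he⟩ := hφ.exists_aut
  exact he x ▸ ⟨fun h1 => by simpa using h.aut_mem e⁻¹ h1, h.aut_mem e⟩

theorem ai_le_of_le (h : AI A) (hZ : commutator P ≤ center P) : b.k0 ≤ 8 := by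
  obtain ⟨u, hu⟩ := h.exists_not_mem
  refine ai_le h fun v hv => ef_ind (· ∉ A) (fun d x hx e => hx (by
    simpa [mul_assoc] using h.normal.conj_mem _ e d⁻¹)) (fun Q φ h1 h2 x hx h3 => ?_) hv hu
  rcases h1 with rfl | h1
  · exact mt (ai_mem h h2.fu x).1 h3
  · exact (h.not_essD hZ h1 hx h3).elim

theorem th_fix (h : Th A g a t) (h4 : a ^ 4 ≠ 1) (h1 : SelfC Q) (h2 : b.Odd Q φ) (h3 : a ∈ Q) :
    ∀ x ∈ Q, φ x = x := by
  have h5 : A ≤ Q := fun x hx => by
    obtain ⟨i, c, h5, rfl⟩ := h.exists_eq hx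
    exact mul_mem (pow_mem h3 i) (h1 (center_le_centralizer _ h5))
  have h6 : ∀ x ∈ A, φ x ∈ A := fun x hx => by_contra fun h6 => by
    obtain rfl := h.eq_top h5 (h2.mem x (h5 hx)) h6
    exact h6 ((ai_mem h.toAI h2.fu x).2 hx)
  exact fun x => h2.pp.fix_of_index_two h.pg (A := A) (fun _ _ => h.fix h4 (h2.pp.mono h5 h6))
    fun x _ y _ hx hy => h.mul_iff.2 (iff_of_false (mt inv_mem_iff.1 hx) hy)

theorem th_hks (h : Th A g a t) (h4 : a ^ 4 ≠ 1) (h1 : t * a ^ 2 ∈ zpowers (t ^ 2)) : b.k0 ≤ 8 := by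
  have h8 : a ^ 8 = 1 := pow_orderOf_eq_one a ▸ congrArg (a ^ ·) (h.ord_a h4).symm
  have h2 : ∀ v, b.ef a v → IsConj a v := fun _ => isConj_of_odd fun _ _ => th_fix h h4
  have h3 : g * a * g⁻¹ = a ^ 3 ∨ g * a * g⁻¹ = a ^ 7 := by
    rw [mem_zpowers_invol (t := t ^ 2) (pow_pow_eq_one (n := 1) h.ord_t), ← (h.four_eq h4).2] at h1
    rw [h.rel, ← mul_left_inj a, ← mul_left_inj a (b := t * a), mul_assoc, ← sq, ← pow_succ,
      ← pow_succ, h8]
    exact h1.symm
  have h5 := two_mul_k0_le h8 (rk_eq_one (fc_of_isConj h2) fun _ _ h5 h6 h7 _ _ => th_fix h h4 h5 h6 h7)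
    (fc_of_isConj h2) (by rcases h3 with e | e <;> simp [← e, ef_conj]) fun h5 => h4 ?_
  · obtain ⟨x, hx⟩ := exists_not_mem_cent (x := a) fun e => h4 (h.pow_four e)
    have := two_mul_card_le h.pg hx
    rw [h.card] at this
    omega
  obtain ⟨d, hd⟩ := isConj_iff.1 (h2 _ h5)
  by_cases h6 : d ∈ A
  · rwa [h.comm h6 h.ma, mul_inv_cancel_right, pow_succ, right_eq_mul] at hd
  have h7 := h.comm (h.mul_iff.2 (iff_of_false (mt inv_mem_iff.1 h.ng) h6)) h.ma
  rw [show d * a * d⁻¹ = g * (g⁻¹ * d * a * (g⁻¹ * d)⁻¹) * g⁻¹ by group, h7, mul_inv_cancel_right] at hd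
  have h9 : a ^ 2 = 1 := by
    rcases h3 with h3 | h3 <;> rw [h3] at hd
    · rwa [show 5 = 3 + 2 from rfl, pow_add, left_eq_mul] at hd
    · rwa [show 7 = 5 + 2 from rfl, pow_add, mul_eq_left] at hd
  rw [show 4 = 2 * 2 from rfl, pow_mul, h9, one_pow]

theorem th_le (h : Th A g a t) : b.k0 ≤ 8 := by
  have h0 : a * g ∉ A := mt (mul_mem_cancel_left h.ma).1 h.ng
  by_cases h4 : a ^ 4 = 1
  · obtain ⟨u, hu⟩ : ∃ u : P, u ^ 4 ≠ 1 := by
      by_contra! h1
      have h2 := h1 (a * g)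
      rw [show 4 = 2 * 2 from rfl, pow_mul, h.sq_ag, Commute.mul_pow (mem_center_iff.1 h.g2 _), h.sq_n,
        ← pow_mul, h1, h1, mul_one, mul_one] at h2
      exact h.t2 h2
    refine ai_le h.toAI (u := u) fun v hv h1 => hu (hv.symm.pow_eq_one ?_)
    obtain ⟨i, c, h2, rfl⟩ := h.exists_eq h1
    rw [Commute.mul_pow (mem_center_iff.1 h2 _), h.pow_four h2, ← pow_mul, mul_comm i, pow_mul, h4,
      one_pow, one_mul]
  by_cases h1 : t * a ^ 2 ∈ zpowers (t ^ 2)
  · exact th_hks h h4 h1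
  obtain ⟨h2, h3⟩ := h.four_eq h4
  have h5 : t ^ 2 * t ^ 2 = 1 := pow_pow_eq_one (n := 1) h.ord_t
  have h6 : ∀ c ∈ center P, c ^ 2 = 1 := fun c hc => by
    have h6 := mul_card_le' h.pg (le_sup_left (b := zpowers (t * a ^ 2)))
      (mem_sup_right (mem_zpowers _)) h1
    have h7 := one_lt_card (mem_zpowers (t ^ 2)) h.t2
    rw [← eq_of_le_of_card_ge (sup_le (zpowers_le.2 h.t2_mem) (zpowers_le.2 h.n_mem))
      (by rw [h.cardZ]; omega), mem_sup_iff_of_invol (fun k hk => by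
        rwa [← mem_center_iff.1 h.n_mem, mul_inv_cancel_right]) (sq (t * a ^ 2) ▸ h2 ▸ one_mem _),
      mem_zpowers_invol h5, mem_zpowers_invol h5] at hc
    have h8 := Commute.mul_pow (mem_center_iff.1 h.n_mem c) 2
    rw [h2, mul_one] at h8
    rcases hc with (e | e) | e | e <;> simp [e, ← h8, sq (t ^ 2), h5]
  obtain ⟨u, h7, h8⟩ : ∃ u : P, u ^ 2 ∈ center P ∧ u ^ 2 ∉ zpowers (t ^ 2) := by
    by_cases h7 : g ^ 2 ∈ zpowers (t ^ 2)
    · exact ⟨a * g, h.sq_ag ▸ ⟨mul_mem h.n_mem h.g2, mt (mul_mem_cancel_right h7).1 h1⟩⟩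
    · exact ⟨g, h.g2, h7⟩
  refine ai_le h.toAI (u := u) fun v hv h9 => h8 ?_
  obtain ⟨i, c, h10, h11⟩ := h.exists_eq h9
  rcases eq_of_sq_eq_one (h.ord_a h4) (y := v ^ 2) (by
    rw [h11, Commute.mul_pow (mem_center_iff.1 h10 _), h6 c h10, mul_one]
    exact pow_mem (pow_mem (mem_zpowers a) _) _) ((hv.pow 2).pow_eq_one (h6 _ h7)) with e | e
  · exact hv.symm.pow_eq_one e ▸ one_mem _
  obtain ⟨α, -, h12⟩ := (hv.symm.pow 2).exists_aut (e ▸ h3 ▸ h.t2_mem) h7
  refine (mem_zpowers_invol h5).2 (eq_of_sq_eq_one h.ord_t (h.comm_eq.le ?_) (h6 _ h7))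
  exact h12 ▸ characteristic_iff_le_comap.1 inferInstance α
    (h.comm_eq.ge (e ▸ h3 ▸ pow_mem (mem_zpowers t) 2))

theorem k0_le_eight (hP : Nat.card P = 32) (hC : Nat.card (commutator P) = 4) : b.k0 ≤ 8 := by
  by_cases hA : ∀ A : Subgroup P, IsMulCommutative A → Nat.card A ≤ 8
  · by_cases h4 : ∀ x : P, x ^ 4 = 1
    · obtain ⟨u, hu⟩ := exists_sq_ne_one (P := P) fun e => by
        have := hA ⊤ ⟨⟨fun x y => Subtype.ext (e _ _)⟩⟩
        rw [card_top] at this
        omega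
      refine k0_le_of_cent (u := u) fun v hv => ?_
      have h1 : v ^ 2 ≠ 1 := fun e => hu (hv.symm.pow_eq_one e)
      have := card_cent_le hP hA h4 hC h1
      have := le_orderOf b.isPGroup (n := 1) h1
      omega
    push Not at h4
    obtain ⟨u, hu⟩ := h4
    refine k0_le_of_cent (u := u) fun v hv => ?_
    have h1 := le_orderOf b.isPGroup (n := 2) fun e => hu (hv.symm.pow_eq_one e)
    have h2 := card_le_of_le (cent_le_of_eight hP hA (V := zpowers v) (Nat.card_zpowers v ▸ h1))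
    have := hA (zpowers v) inferInstance
    rw [centralizer_zpowers_eq] at h2
    omega
  push Not at hA
  obtain ⟨A, h1, h2⟩ := hA
  have h3 : AI A := ⟨hP, hC, by
    obtain ⟨x, -, hx⟩ := SetLike.not_le_iff_exists.1 fun e : ⊤ ≤ A => by
      rw [top_le_iff.1 e, PG.isMulCommutative_iff_commutator_eq_bot] at h1
      rw [commutator_def, h1, card_bot] at hC
      omega
    have := two_mul_card_le b.isPGroup hx
    have := dvd_32 (hP ▸ card_subgroup_dvd_card A)
    omega, h1⟩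
  by_cases hZ : commutator P ≤ center P
  · exact ai_le_of_le h3 hZ
  · obtain ⟨g, a, t, h⟩ := h3.exists_th hZ
    exact th_le h

omit [Finite P] in
/-- Olsson's bound for defect at most five. -/
theorem k0_le_index (hP : Nat.card P ≤ 32) : b.k0 ≤ (commutator P).index := by
  have := b.finite
  have h1 := (commutator P).index_mul_card
  by_cases h2 : Nat.card (commutator P) = 1
  · rw [h2, mul_one] at h1
    exact h1 ▸ k0_le_card hP
  by_cases h3 : Nat.card (commutator P) = 2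
  · have := two_mul_k0_le_of_two (b := b) hP h3
    rw [h3] at h1
    omega
  obtain ⟨n, hn⟩ := b.isPGroup.exists_card_eq
  obtain ⟨i, hi⟩ := (b.isPGroup.to_quotient (commutator P)).exists_card_eq
  obtain ⟨j, hj⟩ := (b.isPGroup.to_subgroup (commutator P)).exists_card_eq
  change (commutator P).index = _ at hi
  have h4 : 2 ≤ i := by
    by_contra! h4
    have : IsCyclic (P ⧸ commutator P) := by
      interval_cases i
      · exact @isCyclic_of_subsingleton _ _ (Nat.card_eq_one_iff_unique.1 hi).1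
      · exact isCyclic_of_prime_card (p := 2) hi
    obtain ⟨x, hx⟩ := IsCyclic.exists_zpow_surjective (G := P ⧸ commutator P)
    obtain ⟨x, rfl⟩ := QuotientGroup.mk_surjective x
    have := b.isPGroup.isNilpotent
    have := Ess.isCyclic_of_zpowers_sup_frattini (a := x) (eq_top_iff.2 fun y _ => by
      obtain ⟨k, hk⟩ := hx y
      simpa using mul_mem_sup (zpow_mem (mem_zpowers x) k)
        (commutator_le_frattini_of_isNilpotent (QuotientGroup.eq.1 hk)))
    rw [PG.isMulCommutative_iff_commutator_eq_bot'.1 IsCyclic.isMulCommutative, card_bot] at h2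
    exact h2 rfl
  have h5 : 2 ≤ j := by
    by_contra! h5
    interval_cases j <;> omega
  rw [hi, hj, hn, ← pow_add, Nat.pow_right_inj one_lt_two] at h1
  have h6 : n ≤ 5 := (Nat.pow_le_pow_iff_right one_lt_two).1 (hn ▸ hP)
  rcases h4.eq_or_lt with rfl | h4
  · obtain ⟨m, rfl⟩ : ∃ m, n = m + 3 := ⟨n - 3, by omega⟩
    exact (k0_eq_four hn hi).le.trans hi.ge
  · obtain rfl : i = 3 := by omega
    obtain rfl : j = 2 := by omega
    subst h1
    exact (k0_le_eight hn hj).trans hi.ge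

end BD

end Cfsg.Lib.Block
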