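import Cfsg.Agent.Block.BDNe
import Cfsg.Agent.Block.BDAI

/-!
Two-generator groups of order `64`: generalities.
-/

set_option autoImplicit false

open Cfsg Cfsg.Lib.Fus Cfsg.Lib.Fus.Ess Cfsg.Lib.Solv Subgroup
open scoped commutatorElement

namespace Cfsg.Lib.Block.AG

universe u

variable {P : Type u} [Group P] {N K Q V : Subgroup P} {a b c d g h t x y z : P} {S : Set P}

theorem cm_mul_left (a b c : P) : ⁅a * b, c⁆ = a * ⁅b, c⁆ * a⁻¹ * ⁅a, c⁆ := by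
  simp only [commutatorElement_def]; group

theorem cm_mul_right (a b c : P) : ⁅a, b * c⁆ = ⁅a, b⁆ * (b * ⁅a, c⁆ * b⁻¹) := by
  simp only [commutatorElement_def]; group

theorem cm_sq_left (a c : P) : ⁅a ^ 2, c⁆ = ⁅a, ⁅a, c⁆⁆ * ⁅a, c⁆ ^ 2 := by
  simp only [commutatorElement_def, sq]; group

theorem cm_sq_right (a c : P) : ⁅a, c ^ 2⁆ = ⁅a, c⁆ * ⁅c, ⁅a, c⁆⁆ * ⁅a, c⁆ := by
  simp only [commutatorElement_def, sq]; group

theorem mul_sq' (a b : P) : (a * b) ^ 2 = a * ⁅b, a⁆ * a⁻¹ * a ^ 2 * b ^ 2 := by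
  simp only [commutatorElement_def, sq]; group

theorem cm_symm : ⁅a, b⁆ ∈ N ↔ ⁅b, a⁆ ∈ N := by rw [← commutatorElement_inv, inv_mem_iff]

theorem cm_one : ⁅a, b⁆ = 1 ↔ Commute a b := commutatorElement_eq_one_iff_commute

theorem cm_mem_D (a b : P) : ⁅a, b⁆ ∈ commutator P := commutator_mem_commutator (mem_top _) (mem_top _)

/-- The commutator with the whole group. -/
abbrev ct (N : Subgroup P) : Subgroup P := ⁅N, ⊤⁆

variable (P) in
/-- The third term of the lower central series. -/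
abbrev WW : Subgroup P := ct (commutator P)

theorem cm_mem_W (ha : a ∈ N) (b : P) : ⁅a, b⁆ ∈ ct N := commutator_mem_commutator ha (mem_top _)

theorem conj_cen (hc : c ∈ center P) (g : P) : g * c * g⁻¹ = c := by
  rw [mem_center_iff.1 hc, mul_inv_cancel_right]

theorem cm_cen (hc : c ∈ center P) (g : P) : ⁅g, c⁆ = 1 := cm_one.2 (mem_center_iff.1 hc g)

/-- The elements centralizing `S` modulo `N`. -/
def Cm (N : Subgroup P) [hN : N.Normal] (S : Set P) : Subgroup P where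
  carrier := {g | ∀ c ∈ S, ⁅g, c⁆ ∈ N}
  one_mem' c _ := by simp
  mul_mem' {a b} ha hb c hc := cm_mul_left a b c ▸ mul_mem (hN.conj_mem _ (hb c hc) a) (ha c hc)
  inv_mem' {a} ha c hc := by
    simpa [commutatorElement_def, mul_assoc] using hN.conj_mem _ (inv_mem (ha c hc)) a⁻¹

theorem mem_Cm [N.Normal] : g ∈ Cm N S ↔ ∀ c ∈ S, ⁅g, c⁆ ∈ N := Iff.rfl

theorem mem_Cm1 [N.Normal] : g ∈ Cm N {c} ↔ ⁅g, c⁆ ∈ N := by simp [mem_Cm]

theorem mem_CmU [N.Normal] : g ∈ Cm N Set.univ ↔ ∀ c, ⁅g, c⁆ ∈ N := by simp [mem_Cm]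

theorem cm_mul_left_iff [N.Normal] (h : ⁅a, c⁆ ∈ N) : ⁅a * b, c⁆ ∈ N ↔ ⁅b, c⁆ ∈ N := by
  rw [← mem_Cm1, ← mem_Cm1, mul_mem_cancel_left (mem_Cm1.2 h)]

theorem cm_mul_left_iff' [N.Normal] (h : ⁅b, c⁆ ∈ N) : ⁅a * b, c⁆ ∈ N ↔ ⁅a, c⁆ ∈ N := by
  rw [← mem_Cm1, ← mem_Cm1, mul_mem_cancel_right (mem_Cm1.2 h)]

/-- The elements of `Q` with square in `N`. -/
def Sq (Q N : Subgroup P) [hN : N.Normal] (h : ∀ a ∈ Q, ∀ b ∈ Q, ⁅a, b⁆ ∈ N) : Subgroup P where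
  carrier := {g | g ∈ Q ∧ g ^ 2 ∈ N}
  one_mem' := ⟨one_mem _, by simp⟩
  mul_mem' {a b} ha hb := ⟨mul_mem ha.1 hb.1,
    mul_sq' a b ▸ mul_mem (mul_mem (hN.conj_mem _ (h b hb.1 a ha.1) a) ha.2) hb.2⟩
  inv_mem' {a} ha := ⟨inv_mem ha.1, inv_pow a 2 ▸ inv_mem ha.2⟩

theorem normal_of_le (h1 : ct K ≤ N) (h2 : N ≤ K) : N.Normal := ⟨fun n hn g => by
  simpa [commutatorElement_def] using mul_mem (cm_symm.1 (h1 (cm_mem_W (h2 hn) g))) hn⟩

variable (P) in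
/-- The elements with square in the derived subgroup. -/
def MM : Subgroup P := Sq ⊤ (commutator P) fun a _ b _ => cm_mem_D a b

theorem mem_MM : g ∈ MM P ↔ g ^ 2 ∈ commutator P := and_iff_right trivial

theorem card_sup_le [Finite P] (h1 : ∀ k ∈ K, t * k * t⁻¹ ∈ K) (h2 : t * t ∈ K) :
    Nat.card (K ⊔ zpowers t : Subgroup P) ≤ 2 * Nat.card K := by
  have := Nat.card_le_card_of_surjective (α := K ⊕ K) (β := (K ⊔ zpowers t : Subgroup P))
    (Sum.elim (fun k => ⟨k, mem_sup_left k.2⟩) fun k => ⟨k * t⁻¹, mul_mem_sup k.2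
      (inv_mem (mem_zpowers t))⟩) fun x => ((mem_sup_iff_of_invol h1 h2).1 x.2).elim
      (fun e => ⟨.inl ⟨_, e⟩, rfl⟩) fun e => ⟨.inr ⟨_, e⟩, Subtype.ext (by simp)⟩
  rw [Nat.card_sum] at this
  omega

theorem mul_mem_of_card [Finite P] (h : V ≤ K) (h1 : Nat.card K = 2 * Nat.card V) (hx : x ∈ K)
    (h2 : x ∉ V) (hy : y ∈ K) : y ∈ V ∨ x⁻¹ * y ∈ V :=
  or_iff_not_imp_left.2 (inv_mul_mem_of_card h h1 hx hy h2)

theorem sq_mem_of_card [Finite P] (h : V ≤ K) (h1 : Nat.card K = 2 * Nat.card V) (hx : x ∈ K) :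
    x ^ 2 ∈ V := by
  by_cases e : x ∈ V
  · exact pow_mem e 2
  · simpa [sq] using inv_mul_mem_of_card h h1 (inv_mem hx) hx (mt inv_mem_iff.1 e) e

theorem le_of_card [Finite P] (h : V ≤ K) (h1 : Nat.card K = 2 * Nat.card V) (hx : x ∈ K)
    (h2 : x ∉ V) (h3 : V ≤ N) (h4 : x ∈ N) : K ≤ N := fun y hy =>
  (mul_mem_of_card h h1 hx h2 hy).elim (@h3 y) fun e => (mul_mem_cancel_left (inv_mem h4)).1 (h3 e)

variable [Finite P]

theorem frattini_le_of_sq (hP : IsPGroup 2 P) (h : ∀ g, g ^ 2 ∈ K) : frattini P ≤ K :=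
  (frattini_le_iff_of_isPGroup hP K).2 ⟨commutator_le.2 fun x _ y _ => by
    rw [show ⁅x, y⁆ = x ^ 2 * (x⁻¹ * y) ^ 2 * (y ^ 2)⁻¹ by
      rw [commutatorElement_def, sq, sq, sq]; group]
    exact mul_mem (mul_mem (h _) (h _)) (inv_mem (h _)), h⟩

theorem frattini_le_Cm (hP : IsPGroup 2 P) [N.Normal] (h1 : ∀ g k : P, ⁅⁅g, c⁆, k⁆ ∈ N)
    (h2 : ∀ g : P, ⁅g, c⁆ ^ 2 ∈ N) (hg : g ∈ frattini P) : ⁅g, c⁆ ∈ N :=
  mem_Cm1.1 (frattini_le_of_sq hP (fun g => mem_Cm1.2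
    (cm_sq_left g c ▸ mul_mem (cm_symm.1 (h1 g g)) (h2 g))) hg)

theorem commute_frattini (hP : IsPGroup 2 P) (h1 : ∀ g : P, ⁅g, c⁆ ∈ center P)
    (h2 : ∀ g : P, ⁅g, c⁆ ^ 2 = 1) (hg : g ∈ frattini P) : Commute g c :=
  cm_one.1 (mem_bot.1 (frattini_le_Cm hP (fun g k => cm_symm.1 (cm_cen (h1 g) k)) h2 hg))

/-- A pair of generators. -/
structure Gn (a b : P) : Prop where
  l : a ∉ frattini P
  r : b ∉ frattini P
  m : a * b ∉ frattini P

variable (P) in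
/-- The groups that remain to be considered. -/
structure S64 : Prop where
  card : Nat.card P = 64
  idx : (frattini P).index = 4
  ze : ∀ c ∈ center P, c ^ 2 = 1
  e8 : ∀ g : P, g ^ 8 = 1

namespace S64

variable (H : S64 P)
include H

omit [Finite P] in
theorem pg : IsPGroup 2 P := .of_card (n := 6) H.card

omit [Finite P] in
theorem cardF : Nat.card (frattini P) = 16 := by
  have := (frattini P).index_mul_card
  rw [H.card, H.idx] at this
  omega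

theorem sqF (g : P) : g ^ 2 ∈ frattini P := pow_mem_frattini H.pg g

theorem DF : commutator P ≤ frattini P := ((frattini_le_iff_of_isPGroup H.pg _).1 le_rfl).1

theorem mem_sup : x ∈ frattini P ⊔ zpowers a ↔ x ∈ frattini P ∨ x * a ∈ frattini P :=
  mem_sup_iff_of_invol (fun k hk => (inferInstance : (frattini P).Normal).conj_mem k hk a)
    (sq a ▸ H.sqF a)

theorem eq_top (h : Gn a b) (ha : a ∈ K) (hb : b ∈ K) : K = ⊤ := by
  have h1 := mul_card_le' H.pg le_sup_left (mem_sup_right (mem_zpowers a)) h.l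
  have h2 := mul_card_le' H.pg (sup_le (le_sup_right (a := K)) ((zpowers_le.2 ha).trans le_sup_left))
    (mem_sup_left hb) fun e => (H.mem_sup.1 e).elim h.r fun e =>
      h.m ((inferInstance : (frattini P).Normal).mem_comm e)
  rw [H.cardF] at h1
  exact frattini_nongenerating (eq_top_of_le_card _ (by rw [H.card]; omega))

theorem mem (h : Gn a b) (ha : a ∈ K) (hb : b ∈ K) (g : P) : g ∈ K := H.eq_top h ha hb ▸ mem_top g

theorem mul_memF (hQ : Q ≠ ⊤) (hg : g ∈ Q) (h1 : g ∉ frattini P) (hx : x ∈ Q)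
    (h2 : x ∉ frattini P) : g⁻¹ * x ∈ frattini P := by_contra fun h3 =>
  hQ (H.eq_top ⟨mt inv_mem_iff.1 h1, h2, h3⟩ (inv_mem hg) hx)

theorem le_of (hQ : Q ≠ ⊤) (hg : g ∈ Q) (h1 : g ∉ frattini P) (h2 : ∀ x ∈ Q, x ∈ frattini P → x ∈ K)
    (h3 : g ∈ K) : Q ≤ K := fun x hx => by
  by_cases h4 : x ∈ frattini P
  · exact h2 x hx h4
  · exact (mul_mem_cancel_left (inv_mem h3)).1
      (h2 _ (mul_mem (inv_mem hg) hx) (H.mul_memF hQ hg h1 hx h4))

omit [Finite P] H in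
theorem gn_of (h1 : frattini P ≤ Q) (ha : a ∉ Q) (hb : b ∈ Q) (h2 : b ∉ frattini P) : Gn a b :=
  ⟨fun e => ha (h1 e), h2, fun e => ha ((mul_mem_cancel_right hb).1 (h1 e))⟩

theorem exists_gn (ha : a ∉ frattini P) : ∃ b, Gn b a := by
  obtain ⟨b, -, hb⟩ := SetLike.not_le_iff_exists.1 fun e : ⊤ ≤ frattini P ⊔ zpowers a => by
    have h1 := Nat.card_zpowers a
    rw [frattini_nongenerating ((sup_comm _ _).trans (top_le_iff.1 e)), card_top, H.card] at h1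
    have := orderOf_le_of_pow_eq_one (by decide) (H.e8 a)
    omega
  exact ⟨b, gn_of le_sup_left hb (mem_sup_right (mem_zpowers a)) ha⟩

theorem index_two (h1 : frattini P ≤ Q) (hQ : Q ≠ ⊤) (hg : g ∈ Q) (h2 : g ∉ frattini P) :
    Q.index = 2 := by
  have h3 := mul_card_le' H.pg h1 hg h2
  obtain ⟨x, -, hx⟩ := SetLike.not_le_iff_exists.1 (mt top_le_iff.1 hQ)
  have h4 := two_mul_card_le H.pg hx
  have h5 := Q.index_mul_card
  rw [H.cardF] at h3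
  rw [H.card] at h4 h5
  rw [show Nat.card Q = 32 by omega] at h5
  omega

theorem aut_eq_one (h1 : frattini P ≤ Q) (hQ : Q ≠ ⊤) (hg : g ∈ Q) (h2 : g ∉ frattini P)
    [Q.Characteristic] (e : MulAut P) (he : (orderOf e).Coprime 2) : e = 1 := by
  have h3 : ∀ x, e x ∈ Q ↔ x ∈ Q := fun x => (AInv.of_char (A := ⊤) Q).mem_iff trivial
  have h4 : ∀ x, e x ∈ frattini P ↔ x ∈ frattini P := fun x =>
    (AInv.of_char (A := ⊤) _).mem_iff trivial
  refine eq_one_of_triv_frattini H.pg he (Triv.trans H.pg he (Y := Q) (fun x _ => ?_)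
    (fun x hx => ?_) fun x => (h4 x).2)
  · rw [mul_mem_iff_of_index_two (H.index_two h1 hQ hg h2), inv_mem_iff, h3]
  · by_cases h5 : x ∈ frattini P
    · exact mul_mem (inv_mem h5) ((h4 x).2 h5)
    · exact H.mul_memF hQ hx h5 ((h3 x).2 hx) (mt (h4 x).1 h5)

theorem D_le (h : Gn a b) [N.Normal] (h1 : ⁅a, b⁆ ∈ N) : commutator P ≤ N :=
  commutator_le.2 fun x _ y _ => mem_CmU.1 (H.mem h
    (mem_CmU.2 fun c => cm_symm.1 (mem_Cm1.1 (H.mem h (mem_Cm1.2 (by simp)) (mem_Cm1.2 (cm_symm.1 h1)) c)))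
    (mem_CmU.2 fun c => cm_symm.1 (mem_Cm1.1 (H.mem h (mem_Cm1.2 h1) (mem_Cm1.2 (by simp)) c))) x) y

theorem cm_all (h : Gn a b) [N.Normal] (h1 : ⁅c, a⁆ ∈ N) (h2 : ⁅c, b⁆ ∈ N) (g : P) : ⁅c, g⁆ ∈ N :=
  cm_symm.1 (mem_Cm1.1 (H.mem h (mem_Cm1.2 (cm_symm.1 h1)) (mem_Cm1.2 (cm_symm.1 h2)) g))

theorem W_le (h : Gn a b) [hN : N.Normal] (h1 : ∀ g, ⁅⁅a, b⁆, g⁆ ∈ N) : WW P ≤ N := by
  have : (Cm N Set.univ).Normal := ⟨fun n hn g => mem_CmU.2 fun c => by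
    simpa [commutatorElement_def, mul_assoc] using hN.conj_mem _ (mem_CmU.1 hn (g⁻¹ * c * g)) g⟩
  exact commutator_le.2 fun d hd g _ => mem_CmU.1 (H.D_le h (mem_CmU.2 h1) hd) g

theorem cm_lt [N.Normal] (h : N ≠ ⊥) : ct N < N :=
  PG.commutator_lt (H.pg.to_subgroup ⊤) (H.pg.to_subgroup N) (normalizer_eq_top N).ge h

theorem two_ct_le [N.Normal] (h : N ≠ ⊥) : 2 * Nat.card (ct N) ≤ Nat.card N :=
  mul_card_le H.pg (card_lt_card_of_lt (H.cm_lt h))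

theorem F_not_le [N.Normal] (h : Gn a b) (h1 : commutator P ≤ N) (ha : a ^ 2 ∈ N) (hb : b ^ 2 ∈ N) :
    16 ≤ Nat.card N :=
  H.cardF ▸ card_le_of_le (frattini_le_of_sq H.pg fun g => (H.mem (K := Sq ⊤ N fun a _ b _ =>
    h1 (cm_mem_D a b)) h ⟨trivial, ha⟩ ⟨trivial, hb⟩ g).2)

theorem exists_gn' : ∃ a b : P, Gn a b := by
  obtain ⟨a, -, ha⟩ := SetLike.not_le_iff_exists.1 fun e : ⊤ ≤ frattini P => by
    have := card_le_of_le e
    rw [card_top, H.card, H.cardF] at this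
    omega
  exact (H.exists_gn ha).imp fun b hb => ⟨a, hb⟩

theorem W_ne_bot : WW P ≠ ⊥ := fun h => by
  have h1 : commutator P ≤ center P := fun d hd => mem_center_iff.2 fun g =>
    (cm_one.1 (mem_bot.1 (h ▸ cm_mem_W hd g))).symm
  have h2 : frattini P ≤ center P := fun c hc => mem_center_iff.2 fun g =>
    (commute_frattini H.pg (fun k => h1 (cm_mem_D k g)) (fun k => H.ze _ (h1 (cm_mem_D k g))) hc).symm
  have h3 : ∀ (K : Subgroup P), ∀ c ∈ center P, Nat.card (K ⊔ zpowers c : Subgroup P) ≤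
      2 * Nat.card K := fun K c hc => card_sup_le (fun k hk => by
    rwa [← mem_center_iff.1 hc, mul_inv_cancel_right]) (sq c ▸ (H.ze c hc).symm ▸ one_mem K)
  obtain ⟨a, b, h4⟩ := H.exists_gn'
  have h5 := h1 (cm_mem_D a b)
  have h6 := h2 (H.sqF a)
  have h7 := h2 (H.sqF b)
  have : (⊥ ⊔ zpowers ⁅a, b⁆ ⊔ zpowers (a ^ 2) ⊔ zpowers (b ^ 2)).Normal :=
    normal_of_le (K := center P) (commutator_le.2 fun c hc g _ => cm_symm.1 (cm_cen hc g ▸ one_mem _))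
      (by simp [h5, h6, h7])
  have h8 := H.F_not_le (N := ⊥ ⊔ zpowers ⁅a, b⁆ ⊔ zpowers (a ^ 2) ⊔ zpowers (b ^ 2)) h4
    (H.D_le h4 (mem_sup_left (mem_sup_left (mem_sup_right (mem_zpowers _)))))
    (mem_sup_left (mem_sup_right (mem_zpowers _))) (mem_sup_right (mem_zpowers _))
  have := h3 ⊥ _ h5
  have := h3 (⊥ ⊔ zpowers ⁅a, b⁆) _ h6
  have := h3 (⊥ ⊔ zpowers ⁅a, b⁆ ⊔ zpowers (a ^ 2)) _ h7
  have := card_bot (G := P)
  omega

theorem D_ne_bot : commutator P ≠ ⊥ := fun h => H.W_ne_bot (by rw [WW, h]; exact commutator_bot_left _)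

theorem cm_not_mem (h : Gn a b) : ⁅a, b⁆ ∉ WW P := fun h1 =>
  (H.cm_lt H.D_ne_bot).not_ge (H.D_le h h1)

theorem cardD : Nat.card (commutator P) = 4 ∨ Nat.card (commutator P) = 8 := by
  have h1 := card_le_of_le H.DF
  have h2 := (commutator P).index_mul_card
  have h3 : 2 * Nat.card (WW P) ≤ _ := H.two_ct_le H.D_ne_bot
  have h4 := (one_lt_card_iff_ne_bot _).2 H.W_ne_bot
  have h5 := dvd_32 ((card_dvd_of_le H.DF).trans (H.cardF ▸ by decide))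
  have h6 : Nat.card (commutator P) ≠ 16 := fun e => by
    rw [e, H.card] at h2
    obtain ⟨C, h6, h7⟩ := Trans.exists_cyclic_index_two_of_commutator_index (m := 3) H.card
      (show (commutator P).index = 4 by omega)
    obtain ⟨g, hg⟩ := h6.exists_ofOrder_eq_natCard
    have h8 := C.index_mul_card
    have := orderOf_le_of_pow_eq_one (x := g) (by decide) (Subtype.ext (H.e8 g))
    rw [H.card, h7] at h8
    omega
  rw [H.cardF] at h1
  omega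

end S64

end Cfsg.Lib.Block.AG
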