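import Cfsg.Agent.Block.BD64

/-!
Two-generator groups of order `64` with derived subgroup of order `4`.
-/

set_option autoImplicit false

open Cfsg Cfsg.Lib.Solv Subgroup
open scoped commutatorElement

namespace Cfsg.Lib.Block.AG

universe u

variable {P : Type u} [Group P] [Finite P] {N K Q : Subgroup P} {a b c d g t x y z : P}

omit [Finite P] in
theorem exists_invol (h : Nat.card N = 2) [hN : N.Normal] :
    ∃ z, z ≠ 1 ∧ z * z = 1 ∧ z ∈ center P ∧ N = zpowers z := by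
  obtain ⟨⟨z, hz⟩, h1, h2⟩ := (Nat.card_eq_two_iff' 1).1 h
  have h3 : ∀ x ∈ N, x ≠ 1 → x = z := fun x hx e =>
    congrArg Subtype.val (h2 ⟨x, hx⟩ fun e' => e (congrArg Subtype.val e'))
  have h4 : z ≠ 1 := fun e => h1 (Subtype.ext e)
  have h5 : z * z = 1 := by_contra fun e => h4 (by simpa using h3 _ (mul_mem hz hz) e)
  exact ⟨z, h4, h5, mem_center_iff.2 fun g => mul_inv_eq_iff_eq_mul.1
    (h3 _ (hN.conj_mem z hz g) (by simpa using h4)), le_antisymm
      (fun x hx => (mem_zpowers_invol h5).2 (or_iff_not_imp_left.2 (h3 x hx))) (zpowers_le.2 hz)⟩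

/-- A central involution. -/
structure CI (z : P) : Prop where
  z1 : z ≠ 1
  z2 : z * z = 1
  zc : z ∈ center P

namespace CI

variable (h : CI z)
include h

omit [Finite P]

theorem normal : (zpowers z).Normal := normal_zpowers h.zc

theorem cen (hx : x ∈ zpowers z) : x ∈ center P := zpowers_le.2 h.zc hx

theorem sq_eq (hx : x ∈ zpowers z) : x ^ 2 = 1 := by
  rcases (mem_zpowers_invol h.z2).1 hx with rfl | rfl
  exacts [one_pow 2, (sq _).trans h.z2]

theorem eq (hx : x ∈ zpowers z) (h1 : x ≠ 1) : x = z := ((mem_zpowers_invol h.z2).1 hx).resolve_left h1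

theorem ord : orderOf z = 2 := orderOf_eq_prime ((sq z).trans h.z2) h.z1

theorem card : Nat.card (zpowers z) = 2 := by rw [Nat.card_zpowers, h.ord]

end CI

theorem S64.commute_F (H : S64 P) (h : CI z) (h1 : ∀ g, ⁅c, g⁆ ∈ zpowers z) (hg : g ∈ frattini P) :
    Commute g c := commute_frattini H.pg (fun g => h.cen (cm_symm.1 (h1 g)))
  (fun g => h.sq_eq (cm_symm.1 (h1 g))) hg

omit [Finite P] in
theorem inv_of_cm (h : ⁅x, y ^ 2⁆ = 1) : y * ⁅x, y⁆ * y⁻¹ = ⁅x, y⁆⁻¹ :=
  eq_inv_of_mul_eq_one_right (by rw [← cm_mul_right, ← sq, h])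

/-- The case `|P'| = 4`. -/
structure SA (z : P) : Prop extends S64 P, CI z where
  cardD : Nat.card (commutator P) = 4
  W : WW P = zpowers z

theorem S64.exists_sa (H : S64 P) (h : Nat.card (commutator P) = 4) : ∃ z : P, SA z := by
  have h1 : 2 * Nat.card (WW P) ≤ _ := H.two_ct_le H.D_ne_bot
  have h2 := (one_lt_card_iff_ne_bot _).2 H.W_ne_bot
  obtain ⟨z, h3, h4, h5, h6⟩ := exists_invol (N := WW P) (by omega)
  exact ⟨z, H, ⟨h3, h4, h5⟩, h, h6⟩

namespace SA

variable (H : SA z)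
include H

omit [Finite P] in
theorem cmD (hd : d ∈ commutator P) (g : P) : ⁅d, g⁆ ∈ zpowers z := H.W ▸ cm_mem_W hd g

theorem zD : zpowers z ≤ commutator P := H.W ▸ (H.cm_lt H.D_ne_bot).le

omit [Finite P] in
theorem cardD' : Nat.card (commutator P) = 2 * Nat.card (zpowers z) := by rw [H.cardD, H.toCI.card]

theorem sqD (hd : d ∈ commutator P) : d ^ 2 ∈ zpowers z := sq_mem_of_card H.zD H.cardD' hd

theorem cmF (hc : c ∈ frattini P) (g : P) : ⁅c, g⁆ ∈ zpowers z :=
  have := H.normal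
  frattini_le_Cm H.pg (fun k => H.cmD (cm_mem_D k g)) (fun k => H.sqD (cm_mem_D k g)) hc

theorem D_le' (h : Gn a b) (h1 : z ∈ K) (h2 : ⁅a, b⁆ ∈ K) : commutator P ≤ K :=
  le_of_card H.zD H.cardD' (cm_mem_D a b) (H.W ▸ H.cm_not_mem h) (zpowers_le.2 h1) h2

theorem aut (e : MulAut P) (he : (orderOf e).Coprime 2) : e = 1 := by
  obtain ⟨a, b, h⟩ := H.exists_gn'
  have h1 : ∀ g, Commute g ⁅a, b⁆ → g ∈ centralizer (commutator P : Set P) := fun g hg d hd =>
    mem_centralizer_singleton_iff.1 (H.D_le' h (K := centralizer {g})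
      (mem_centralizer_singleton_iff.2 (mem_center_iff.1 H.zc g).symm)
      (mem_centralizer_singleton_iff.2 hg.symm) hd)
  obtain ⟨g, h2, h3⟩ : ∃ g ∉ frattini P, Commute g ⁅a, b⁆ := by
    by_contra! h2
    have h3 : ∀ g ∉ frattini P, ⁅g, ⁅a, b⁆⁆ = z := fun g hg =>
      H.eq (cm_symm.1 (H.cmD (cm_mem_D a b) g)) (mt cm_one.1 (h2 g hg))
    have h4 := h3 _ h.m
    rw [cm_mul_left, h3 a h.l, h3 b h.r, conj_cen H.zc, H.z2] at h4
    exact H.z1 h4.symm
  exact H.aut_eq_one (fun c hc => h1 c (H.commute_F H.toCI (H.cmD (cm_mem_D a b)) hc))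
    (fun e => H.W_ne_bot (commutator_eq_bot_iff_le_centralizer.2 (le_centralizer_iff.1 e.ge)))
    (h1 g h3) h2 e he

theorem not_ne (h : NE Q z) : False := by
  have := H.normal
  have h1 : frattini P ≤ Q := fun c hc => h.mem fun x _ => cm_symm.1 (H.cmF hc x)
  obtain ⟨x, hx⟩ := h.exists_not_mem
  have h0 : ∀ q ∈ Q, ⁅q, x⁆ ∈ Q := fun q _ => h1 (H.DF (cm_mem_D q x))
  by_cases h2 : ∀ c ∈ Q, c ^ 2 ∈ zpowers z → c ∈ frattini P
  · exact h.ch1 hx h0 (iv_closure (S := {c | c ∈ Q ∧ c ^ 2 ∈ zpowers z}) (fun _ hc => hc.1)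
      fun φ hφ c hc => ⟨hφ.mem c hc.1, hφ.map_pow hc.1 2 ▸ (hφ.mem_z (pow_mem hc.1 2)).2 hc.2⟩)
      (fun q hq => subset_closure ⟨h0 q hq, H.sqD (cm_mem_D q x)⟩) fun q _ hq =>
        H.cmF ((closure_le _).2 (fun c hc => h2 c hc.1 hc.2) hq) x
  push Not at h2
  obtain ⟨y, hy, h2, h3⟩ := h2
  have hg := S64.gn_of h1 hx hy h3
  have h4 := inv_of_cm (cm_cen (H.cen h2) x)
  have h5 := cm_sq_left x y
  have h6 := cm_mem_D x y
  have h7 := fun g => H.commute_F H.toCI (H.cmD h6) (g := g)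
  set t := ⁅x, y⁆
  by_cases h8 : Commute t y
  · refine h.ch1 hx h0 iv_cent (fun q _ => H.D_le' hg (center_le_centralizer _ H.zc) (fun c hc =>
      mem_centralizer_singleton_iff.1 (H.le_of h.ne hy h3 (fun c _ hc =>
        mem_centralizer_singleton_iff.2 (h7 c hc)) (mem_centralizer_singleton_iff.2 h8.symm) hc))
      (cm_mem_D q x)) fun q hq h9 => H.cmF (by_contra fun h10 => H.W_ne_bot ?_) x
    have h11 : Commute (x ^ 2) q := h9 _ (h1 (H.sqF x))
    have h12 := (H.commute_F H.toCI (H.cmF (H.sqF x)) (H.mul_memF h.ne hq h10 hy h3)).symm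
    rw [← mul_inv_cancel_left q y] at h5
    rw [h8.symm, mul_inv_cancel_right, eq_inv_iff_mul_eq_one, ← sq] at h4
    rw [cm_one.2 (h11.mul_right h12), h4, mul_one] at h5
    exact le_bot_iff.1 (H.W_le hg (H.cm_all hg (cm_symm.1 h5.symm) (cm_one.2 h8)))
  have h9 : t ^ 2 = z := H.eq (H.sqD h6) fun e => h8 (by
    rw [inv_eq_of_mul_eq_one_right (a := t) (sq t ▸ e), mul_inv_eq_iff_eq_mul] at h4
    exact h4.symm)
  obtain ⟨w, h10, h11⟩ : ∃ w ∈ center P, (x ^ 2)⁻¹ * w ∈ commutator P := by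
    by_cases h10 : Commute x t
    · refine ⟨x ^ 2 * t, mem_center_of_gen (S := {x, y})
        (fun K hK => H.eq_top hg (hK (by simp)) (hK (by simp))) ?_, by simpa using h6⟩
      rintro _ (rfl | rfl)
      · exact ((Commute.refl _).pow_right 2).mul_right h10
      · refine (cm_one.1 ?_).symm
        rw [cm_mul_left, h5, cm_one.2 h10, one_mul, commutatorElement_def, mul_assoc t, mul_assoc t,
          ← conj_inv, h4, inv_inv, ← sq, h9, conj_cen H.zc, H.z2]
    · refine ⟨x ^ 2, mem_center_of_gen (S := {x, y})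
        (fun K hK => H.eq_top hg (hK (by simp)) (hK (by simp))) ?_, by simp⟩
      rintro _ (rfl | rfl)
      · exact (Commute.refl _).pow_right 2
      · refine (cm_one.1 ?_).symm
        rw [h5, h9, H.eq (cm_symm.1 (H.cmD h6 x)) (mt cm_one.1 h10), H.z2]
  have h12 := card_sup_le (K := commutator P) (t := w) (fun k hk => by
    rwa [← mem_center_iff.1 h10, mul_inv_cancel_right]) (sq w ▸ (H.ze w h10).symm ▸ one_mem _)
  have : (commutator P ⊔ zpowers w).Normal := normal_of_le (K := ⊤) le_sup_left le_top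
  have := H.F_not_le (N := commutator P ⊔ zpowers w) hg le_sup_left (by
    simpa using mul_mem (mem_sup_right (mem_zpowers w)) (inv_mem (mem_sup_left h11)))
    (mem_sup_left (H.zD h2))
  rw [H.cardD] at h12
  omega

end SA

end Cfsg.Lib.Block.AG
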