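import Cfsg.Agent.Block.BD64A

/-!
Two-generator groups of order `64` with derived subgroup of order `8` and class `3`.
-/

set_option autoImplicit false

open Cfsg Cfsg.Lib.Solv Subgroup
open scoped commutatorElement

namespace Cfsg.Lib.Block.AG

universe u

variable {P : Type u} [Group P] [Finite P] {N K Q : Subgroup P} {a b c d g t x y z : P}

instance : (MM P).Characteristic := characteristic_iff_le_comap.2 fun e _ hg =>
  mem_MM.2 (map_pow e _ 2 ▸ characteristic_iff_le_comap.1 inferInstance e (mem_MM.1 hg))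

variable (P) in
/-- The case `|P'| = 8`. -/
structure S8 : Prop extends S64 P where
  cardD : Nat.card (commutator P) = 8

namespace S8

variable (H : S8 P)
include H

omit [Finite P] in
theorem cardF' : Nat.card (frattini P) = 2 * Nat.card (commutator P) := by rw [H.cardD, H.cardF]

theorem FM : frattini P ≤ MM P := fun _ hc => mem_MM.2 (sq_mem_of_card H.DF H.cardF' hc)

theorem M_ne : MM P ≠ ⊤ := fun e => by
  have := card_le_of_le (frattini_le_of_sq H.pg fun g => mem_MM.1 (e ▸ mem_top g))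
  rw [H.cardF, H.cardD] at this
  omega

theorem exists_x : ∃ x, x ∉ MM P := by
  by_contra! h
  exact H.M_ne ((eq_top_iff' _).2 h)

theorem exists_y : ∃ y ∈ MM P, y ∉ frattini P := by
  obtain ⟨a, b, h⟩ := H.exists_gn'
  by_contra! h1
  refine h.m (h1 _ (mem_MM.2 ?_))
  rw [mul_sq', mul_assoc]
  refine mul_mem ((commutator_normal _ _).conj_mem _ (cm_mem_D b a) a) ?_
  simpa using inv_mul_mem_of_card H.DF H.cardF' (inv_mem (H.sqF a)) (H.sqF b)
    (fun e => h.l (h1 _ (mem_MM.2 (inv_mem_iff.1 e)))) fun e => h.r (h1 _ (mem_MM.2 e))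

theorem aut (e : MulAut P) (he : (orderOf e).Coprime 2) : e = 1 :=
  let ⟨_, h1, h2⟩ := H.exists_y
  H.aut_eq_one H.FM H.M_ne h1 h2 e he

theorem mul_iff : a * b ∈ MM P ↔ (a ∈ MM P ↔ b ∈ MM P) :=
  let ⟨_, h1, h2⟩ := H.exists_y
  mul_mem_iff_of_index_two (H.index_two H.FM H.M_ne h1 h2)

theorem WD : WW P ≤ commutator P := (H.cm_lt H.D_ne_bot).le

theorem cardW : Nat.card (WW P) = 4 := by
  obtain ⟨x, hx⟩ := H.exists_x
  obtain ⟨y, hy, h1⟩ := H.exists_y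
  have h2 := cm_symm.1 (cm_mem_W (mem_MM.1 hy) x)
  have h3 : ∀ k ∈ WW P, ∀ g, g * k * g⁻¹ ∈ WW P := (commutator_normal _ _).conj_mem
  have h4 := card_sup_le (t := ⁅x, y⁆) (fun k hk => h3 k hk _) (by
    rw [cm_sq_right] at h2
    have h5 := mul_mem (inv_mem (h3 _ (cm_symm.1 (cm_mem_W (cm_mem_D x y) y)) ⁅x, y⁆)) h2
    generalize ⁅x, y⁆ = t at h5 ⊢
    generalize ⁅y, t⁆ = c at h5
    rwa [show (t * c * t⁻¹)⁻¹ * (t * c * t) = t * t by group] at h5)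
  have : (WW P ⊔ zpowers ⁅x, y⁆).Normal :=
    normal_of_le le_sup_left (sup_le H.WD (zpowers_le.2 (cm_mem_D x y)))
  have h5 := card_le_of_le (H.D_le (N := WW P ⊔ zpowers ⁅x, y⁆) (S64.gn_of H.FM hx hy h1)
    (mem_sup_right (mem_zpowers _)))
  have h6 : 2 * Nat.card (WW P) ≤ _ := H.two_ct_le H.D_ne_bot
  rw [H.cardD] at h5 h6
  omega

theorem cardD' : Nat.card (commutator P) = 2 * Nat.card (WW P) := by rw [H.cardD, H.cardW]

theorem sqD (hd : d ∈ commutator P) : d ^ 2 ∈ WW P := sq_mem_of_card H.WD H.cardD' hd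

theorem cmF (hc : c ∈ frattini P) (g : P) : ⁅c, g⁆ ∈ WW P :=
  frattini_le_Cm H.pg (fun k => cm_mem_W (cm_mem_D k g)) (fun k => H.sqD (cm_mem_D k g)) hc

theorem D_le' (ht : t ∈ commutator P) (h : t ∉ WW P) (h1 : WW P ≤ K) (h2 : t ∈ K) :
    commutator P ≤ K := le_of_card H.WD H.cardD' ht h h1 h2

theorem F_le (hc : c ∈ frattini P) (h : c ∉ commutator P) (h1 : commutator P ≤ K) (h2 : c ∈ K) :
    frattini P ≤ K := le_of_card H.DF H.cardF' hc h h1 h2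

theorem M_le (hc : c ∈ MM P) (h : c ∉ frattini P) (h1 : frattini P ≤ K) (h2 : c ∈ K) :
    MM P ≤ K := H.le_of H.M_ne hc h (fun _ _ hx => h1 hx) h2

variable (hW : WW P ≤ center P)
include hW

theorem not_commute (hg : g ∉ frattini P) (ht : t ∈ commutator P) (h : t ∉ WW P) :
    ¬ Commute t g := fun h1 => by
  obtain ⟨k, hk⟩ := H.exists_gn hg
  have h2 := hW (inv_mul_mem_of_card H.WD H.cardD' ht (cm_mem_D k g) h (H.cm_not_mem hk))
  have h3 := h1.mul_left (mem_center_iff.1 h2 g).symm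
  rw [mul_inv_cancel_left] at h3
  have h4 := hW (cm_mem_W (cm_mem_D k g) k)
  have := normal_zpowers h4
  have h5 := card_le_of_le (H.W_le hk (H.cm_all hk (mem_zpowers _) (cm_one.2 h3 ▸ one_mem _)))
  have := orderOf_le_of_pow_eq_one two_pos (H.ze _ h4)
  rw [H.cardW, Nat.card_zpowers] at h5
  omega

theorem mem_W (hg : g ∉ frattini P) (ht : t ∈ commutator P) (h : Commute t g) : t ∈ WW P :=
  by_contra fun h1 => H.not_commute hW hg ht h1 h

theorem commF (hc : c ∈ frattini P) (hd : d ∈ frattini P) : Commute c d :=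
  commute_frattini H.pg (fun g => cm_symm.1 (hW (H.cmF hd g)))
    (fun g => H.ze _ (cm_symm.1 (hW (H.cmF hd g)))) hc

theorem sqF' (hc : c ∈ frattini P) : c ^ 2 ∈ WW P := by
  obtain ⟨x, hx⟩ := H.exists_x
  refine H.mem_W hW (fun e => hx (H.FM e)) (H.FM hc).2 (cm_one.1 ?_)
  rw [cm_sq_left, cm_cen (hW (H.cmF hc x)), H.ze _ (hW (H.cmF hc x)), one_mul]

theorem cm_y (x : P) (hy : y ∈ MM P) (h : y ∉ frattini P) :
    y * ⁅x, y⁆ * y⁻¹ = ⁅x, y⁆⁻¹ ∧ ⁅⁅x, y⁆, y⁆ = ⁅x, y⁆ ^ 2 := by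
  have h1 := inv_of_cm (cm_cen (hW (H.mem_W hW h hy.2 ((Commute.refl y).pow_left 2))) x)
  refine ⟨h1, ?_⟩
  rw [commutatorElement_def ⁅x, y⁆, mul_assoc _ y, mul_assoc ⁅x, y⁆, ← conj_inv, h1, inv_inv, sq]

theorem exists_x4 (hy : y ∈ MM P) (h : y ∉ frattini P) : ∃ x ∉ MM P, x ^ 4 ≠ 1 := by
  obtain ⟨x, hx⟩ := H.exists_x
  by_contra! h1
  have h2 := h1 (x * y) (mt (mul_mem_cancel_right hy).1 hx)
  have h3 := hW (H.mem_W hW h hy.2 ((Commute.refl y).pow_left 2))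
  have h4 := H.DF ((commutator_normal _ _).conj_mem _ (cm_mem_D y x) x)
  rw [show 4 = 2 * 2 from rfl, pow_mul, mul_sq', Commute.mul_pow (mem_center_iff.1 h3 _), H.ze _ h3,
    mul_one, (H.commF hW h4 (H.sqF x)).mul_pow, ← pow_mul, h1 x hx, mul_one, conj_pow,
    conj_eq_one_iff, ← commutatorElement_inv, inv_pow, inv_eq_one, ← (H.cm_y hW x hy h).2] at h2
  exact H.not_commute hW h (cm_mem_D x y) (H.cm_not_mem (S64.gn_of H.FM hx hy h)) (cm_one.1 h2)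

end S8

/-- The case of class three. -/
structure SB (x y t z : P) : Prop extends S8 P where
  hW : WW P ≤ center P
  nx : x ∉ MM P
  x4 : x ^ 4 ≠ 1
  my : y ∈ MM P
  ny : y ∉ frattini P
  ht : t = ⁅x, y⁆
  hz : z = ⁅t, x⁆

theorem S8.exists_sb (H : S8 P) (hW : WW P ≤ center P) : ∃ x y t z : P, SB x y t z :=
  let ⟨y, h1, h2⟩ := H.exists_y
  let ⟨x, h3, h4⟩ := H.exists_x4 hW h1 h2
  ⟨x, y, _, _, H, hW, h3, h4, h1, h2, rfl, rfl⟩

namespace SB

variable (H : SB x y t z)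
include H

theorem gn : Gn x y := S64.gn_of H.FM H.nx H.my H.ny

omit [Finite P] in
theorem tD : t ∈ commutator P := H.ht ▸ cm_mem_D x y

theorem tW : t ∉ WW P := H.ht ▸ H.cm_not_mem H.gn

omit [Finite P] in
theorem zW : z ∈ WW P := H.hz ▸ cm_mem_W H.tD x

theorem ci : CI z := ⟨H.hz ▸ mt cm_one.1 (H.not_commute H.hW H.gn.l H.tD H.tW),
  sq z ▸ H.ze z (H.hW H.zW), H.hW H.zW⟩

theorem ty : ⁅t, y⁆ = t ^ 2 := H.ht ▸ (H.cm_y H.hW x H.my H.ny).2

theorem t2 : t ^ 2 ∉ zpowers z := fun h => by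
  have := H.ci.normal
  have := card_le_of_le (H.W_le (N := zpowers z) H.gn (H.ht ▸ H.cm_all (c := t) H.gn
    (H.hz ▸ mem_zpowers z) (H.ty.symm ▸ h)))
  rw [H.cardW, H.ci.card] at this
  omega

theorem cardW' : Nat.card (WW P) = 2 * Nat.card (zpowers z) := by rw [H.cardW, H.ci.card]

theorem wF : x ^ 2 * t ∈ frattini P := mul_mem (H.sqF x) (H.DF H.tD)

omit [Finite P] in
theorem wD : x ^ 2 * t ∉ commutator P := fun h => H.nx (mem_MM.2 ((mul_mem_cancel_right H.tD).1 h))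

theorem wy : ⁅x ^ 2 * t, y⁆ = z := by
  have h1 := H.hW (H.sqD H.tD)
  rw [cm_mul_left, H.ty, conj_cen h1, cm_sq_left, ← H.ht, ← commutatorElement_inv t, ← H.hz,
    ← mul_assoc, mem_center_iff.1 (inv_mem H.ci.zc), mul_assoc, ← sq, H.ze _ h1, mul_one,
    inv_eq_of_mul_eq_one_right H.ci.z2]

theorem wz (g : P) : ⁅x ^ 2 * t, g⁆ ∈ zpowers z := by
  have := H.ci.normal
  refine H.cm_all H.gn ?_ (H.wy.symm ▸ mem_zpowers z) g
  rw [cm_mul_left_iff (cm_one.2 ((Commute.refl x).pow_left 2) ▸ one_mem _), ← H.hz]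
  exact mem_zpowers z

omit [Finite P] in
theorem cen_z (hc : c ∈ WW P) (g : P) : ⁅c, g⁆ ∈ zpowers z :=
  cm_symm.1 (cm_cen (H.hW hc) g ▸ one_mem _)

theorem Fx (hc : c ∈ frattini P) : ⁅c, x⁆ ∈ zpowers z :=
  have := H.ci.normal
  mem_Cm1.1 (H.F_le H.wF H.wD (H.D_le' H.tD H.tW (fun _ hd => mem_Cm1.2 (H.cen_z hd x))
    (mem_Cm1.2 (H.hz ▸ mem_zpowers z))) (mem_Cm1.2 (H.wz x)) hc)

theorem false_of_iv (h : NE Q z) (h1 : frattini P ≤ Q) (h2 : Iv Q z (frattini P)) : False :=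
  let ⟨s, hs⟩ := h.exists_not_mem
  h.ch s hs (fun q _ => h1 (H.DF (cm_mem_D q s))) _ (WW P) h2 (fun _ hφ _ hc h3 => hφ.mem_of H.zW hc
    (pow_mem (h1 (H.DF H.tD)) 2) (hφ.map_pow (h1 (H.DF H.tD)) 2 ▸
      H.sqF' H.hW (h2 _ hφ _ (h1 (H.DF H.tD)) (H.DF H.tD)))
    (mul_mem_of_card (zpowers_le.2 H.zW) H.cardW' (H.sqD H.tD) H.t2 h3))
    (fun q _ => H.DF (cm_mem_D q s)) (fun _ _ hq => H.cmF hq s) fun _ _ hq => H.cen_z hq s

theorem not_ne (h : NE Q z) : False := by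
  have := H.ci.normal
  have h1 : WW P ≤ Q := fun c hc => h.mem fun q _ => cm_symm.1 (H.cen_z hc q)
  have h2 : x ^ 2 * t ∈ Q := h.mem fun q _ => cm_symm.1 (H.wz q)
  obtain ⟨g, hg, h3⟩ : ∃ g ∈ Q, g ∉ frattini P := by
    by_contra! h3
    exact H.gn.l (h3 x (h.mem fun q hq => H.Fx (h3 q hq)))
  have h4 := fun q => H.mul_memF (x := q) h.ne hg h3
  have h5 : ∀ c ∈ frattini P, ∀ d ∈ frattini P, ⁅c, d⁆ ∈ zpowers z := fun c hc d hd =>
    cm_one.2 (H.commF H.hW hc hd) ▸ one_mem _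
  have h6 : t ∈ Q → frattini P ≤ Q := fun ht => H.F_le H.wF H.wD (H.D_le' H.tD H.tW h1 ht) h2
  have h7 : ∀ q ∈ Q, ⁅q, t⁆ ∈ WW P := fun q _ => cm_symm.1 (cm_mem_W H.tD q)
  by_cases hx : x ∈ Q ⊔ frattini P
  · have h8 : Q ⊔ frattini P ≠ ⊤ := fun e => h.ne (frattini_nongenerating e)
    have h9 := fun q => H.mul_memF (x := q) h8 hx H.gn.l
    refine H.false_of_iv h (fun c hc => h.mem fun q hq => mem_Cm1.1 (H.le_of h8 hx H.gn.l
      (fun d _ hd => mem_Cm1.2 (h5 d hd c hc)) (mem_Cm1.2 (cm_symm.1 (H.Fx hc))) (mem_sup_left hq)))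
      fun φ hφ c hc h10 => by_contra fun h11 => H.x4 ?_
    have h12 := h9 _ (mem_sup_left (hφ.mem c hc)) h11
    have h13 : ∀ c ∈ frattini P, c ^ 4 = 1 := fun c hc => by
      rw [show 4 = 2 * 2 from rfl, pow_mul, H.ze _ (H.hW (H.sqF' H.hW hc))]
    have h14 : φ c ^ 4 = 1 := by rw [← hφ.map_pow hc, h13 c h10, hφ.map_one]
    rwa [← mul_inv_cancel_left x (φ c), show 4 = 2 * 2 from rfl, pow_mul, mul_sq',
      conj_cen (H.ci.cen (H.Fx h12)), Commute.mul_pow (mem_center_iff.1 (H.hW (H.sqF' H.hW h12)) _),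
      ← pow_mul _ 2 2, h13 _ h12, mul_one, Commute.mul_pow (mem_center_iff.1 (H.ci.cen (H.Fx h12)) _).symm,
      H.ci.sq_eq (H.Fx h12), one_mul, ← pow_mul] at h14
  by_cases hM : g ∈ MM P
  · have h8 : ∀ q ∈ Q, q ∉ frattini P → ∀ c ∈ frattini P, ⁅c, q⁆ = ⁅c, y⁆ := fun q hq h8 c hc => by
      have h9 := H.mul_memF H.M_ne H.my H.ny (H.le_of h.ne hg h3 (fun _ _ hd => H.FM hd) hM hq) h8
      rw [← mul_inv_cancel_left y q, cm_mul_right, cm_one.2 (H.commF H.hW hc h9), mul_one,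
        mul_inv_cancel, mul_one]
    have h9 : ∀ q ∈ Q, Commute (x ^ 2 * t) q → q ∈ frattini P := fun q hq h9 => by_contra fun h10 =>
      H.ci.z1 (H.wy.symm.trans ((h8 q hq h10 _ H.wF).symm.trans (cm_one.2 h9)))
    by_cases ht : t ∈ Q
    · refine H.false_of_iv h (h6 ht) fun φ hφ c hc h10 => ?_
      obtain ⟨w, h11, h12⟩ := hφ.surj _ h2
      refine h9 _ (hφ.mem c hc) (h12 ▸ hφ.commute h11 hc (H.commF H.hW (by_contra fun h13 => ?_) h10))
      have h14 := H.wz (φ t)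
      rw [← h12, ← hφ.map_cm h11 ht, hφ.mem_z (h1 (h7 w h11)), cm_symm, h8 w h11 h13 t (H.DF H.tD),
        H.ty] at h14
      exact H.t2 h14
    · exact h.ch1 ht (fun q hq => h1 (h7 q hq)) iv_cent
        (fun q hq => center_le_centralizer _ (H.hW (h7 q hq)))
        fun q hq h10 => h5 q (h9 q hq (h10 _ h2)) t (H.DF H.tD)
  have h8 : ∀ q ∈ Q, q ^ 2 ∈ commutator P → q ∈ frattini P := fun q hq h8 => by_contra fun h9 =>
    hM (by simpa using mul_mem (mem_MM.2 h8) (inv_mem (H.FM (h4 q hq h9))))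
  by_cases ht : t ∈ Q
  · refine H.false_of_iv h (h6 ht) fun φ hφ c hc h10 => h8 _ (hφ.mem c hc) ?_
    rw [← hφ.map_pow hc]
    refine hφ.mem_of (H.WD H.zW) (pow_mem hc 2) (h1 (h7 g hg)) (hφ.map_cm hg ht ▸ cm_mem_D _ _)
      (mul_mem_of_card (zpowers_le.2 H.zW) H.cardW' (h7 g hg) (fun e => H.t2 ?_) (H.sqF' H.hW h10))
    exact H.ty ▸ H.cm_all ⟨mt inv_mem_iff.1 H.gn.l, h3, fun e' => hx (by
      simpa using mul_mem_sup hg (inv_mem e'))⟩ (cm_symm.1 (mem_Cm1.1 (inv_mem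
      (mem_Cm1.2 (cm_symm.1 (H.hz ▸ mem_zpowers z)))))) (cm_symm.1 e) y
  · exact h.ch1 ht (fun q hq => h1 (h7 q hq)) (iv_closure (S := {c | c ∈ Q ∧ c ^ 2 = 1})
      (fun _ hc => hc.1) fun φ hφ c hc => ⟨hφ.mem c hc.1, by
        rw [← hφ.map_pow hc.1, hc.2, hφ.map_one]⟩)
      (fun q hq => subset_closure ⟨h1 (h7 q hq), H.ze _ (H.hW (h7 q hq))⟩) fun q _ hq =>
        h5 q ((closure_le _).2 (fun c (hc : c ∈ Q ∧ c ^ 2 = 1) => h8 c hc.1 (hc.2 ▸ one_mem _)) hq) t (H.DF H.tD)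

end SB

end Cfsg.Lib.Block.AG
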