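import Cfsg.Agent.Block.BD64B
import Cfsg.Agent.Block.BDFour
import Cfsg.Agent.Solv.FrattiniP

/-!
Two-generator groups of order `64` and class `4`.
-/

set_option autoImplicit false

open Cfsg Cfsg.Lib.Solv Cfsg.Lib.Fus Subgroup
open scoped commutatorElement

namespace Cfsg.Lib.Block.AG

universe u

variable {P : Type u} [Group P] [Finite P] {N K Q : Subgroup P} {a b c d g m t w x y z : P}

/-- The case of class four. -/
structure SC (z : P) : Prop extends S8 P, CI z where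
  nW : ¬ WW P ≤ center P
  V : ct (WW P) = zpowers z

theorem S8.exists_sc (H : S8 P) (h : ¬ WW P ≤ center P) : ∃ z : P, SC z := by
  have h1 : 2 * Nat.card (ct (WW P)) ≤ _ := H.two_ct_le H.W_ne_bot
  have h2 := (one_lt_card_iff_ne_bot (ct (WW P))).2 fun e => h fun d hd =>
    mem_center_iff.2 fun g => (cm_one.1 (mem_bot.1 (e ▸ cm_mem_W hd g))).symm
  rw [H.cardW] at h1
  obtain ⟨z, h3, h4, h5, h6⟩ := exists_invol (N := ct (WW P)) (by omega)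
  exact ⟨z, H, ⟨h3, h4, h5⟩, h, h6⟩

namespace SC

variable (H : SC z)
include H

omit [Finite P] in
theorem cmW (hw : w ∈ WW P) (g : P) : ⁅w, g⁆ ∈ zpowers z := H.V ▸ cm_mem_W hw g

theorem zW : zpowers z ≤ WW P := H.V ▸ (H.cm_lt H.W_ne_bot).le

theorem cardW' : Nat.card (WW P) = 2 * Nat.card (zpowers z) := by rw [H.cardW, H.toCI.card]

theorem W_le' (hw : w ∈ WW P) (h : w ∉ zpowers z) (h1 : zpowers z ≤ K) (h2 : w ∈ K) : WW P ≤ K :=
  le_of_card H.zW H.cardW' hw h h1 h2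

theorem sqW (hw : w ∈ WW P) : w ^ 2 ∈ zpowers z := sq_mem_of_card H.zW H.cardW' hw

theorem WF (hc : c ∈ frattini P) (hw : w ∈ WW P) : Commute c w := H.commute_F H.toCI (H.cmW hw) hc

theorem cmFF (hc : c ∈ frattini P) (hd : d ∈ frattini P) : ⁅c, d⁆ ∈ zpowers z :=
  have := H.normal
  frattini_le_Cm H.pg (fun g => H.cmW (cm_symm.1 (H.cmF hd g)))
    (fun g => H.sqW (cm_symm.1 (H.cmF hd g))) hc

theorem mem_W (h : Gn a b) (hd : d ∈ commutator P) (ha : ⁅d, a⁆ ∈ zpowers z)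
    (hb : ⁅d, b⁆ ∈ zpowers z) : d ∈ WW P := by_contra fun h1 => by
  have := H.normal
  have h2 : WW P ≤ zpowers z := commutator_le.2 fun c hc g _ => mem_CmU.1 (H.D_le' hd h1
    (fun _ hw => mem_CmU.2 (H.cmW hw)) (mem_CmU.2 (H.cm_all h ha hb)) hc) g
  have := card_le_of_le h2
  rw [H.cardW, H.toCI.card] at this
  omega

theorem mem_V (h : Gn a b) (hw : w ∈ WW P) (ha : Commute w a) (hb : Commute w b) :
    w ∈ zpowers z := by_contra fun h1 =>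
  H.nW (H.W_le' hw h1 (fun _ => H.cen) (mem_center_iff.2 fun g =>
    (cm_one.1 (mem_bot.1 (H.cm_all (N := ⊥) h (cm_one.2 ha) (cm_one.2 hb) g))).symm))

theorem elem (hw : w ∈ WW P) (h : w ∉ zpowers z) (h1 : w ^ 2 = 1) (hc : c ∈ WW P) : c ^ 2 = 1 :=
  (H.W_le' (K := Sq (WW P) ⊥ fun _ ha _ hb => cm_one.2 (H.WF (H.DF (H.WD ha)) hb)) hw h
    (fun _ hd => ⟨H.zW hd, H.sq_eq hd⟩) ⟨hw, h1⟩ hc).2

theorem cm_sq (hc : c ∈ frattini P) (g : P) : ⁅c ^ 2, g⁆ = ⁅c, g⁆ ^ 2 := by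
  rw [cm_sq_left, cm_one.2 (H.WF hc (H.cmF hc g)), one_mul]

theorem sqF' (hc : c ∈ frattini P) : c ^ 2 ∈ WW P :=
  let ⟨a, b, h⟩ := H.exists_gn'
  H.mem_W h (H.FM hc).2 (H.cm_sq hc a ▸ H.sqW (H.cmF hc a)) (H.cm_sq hc b ▸ H.sqW (H.cmF hc b))

omit [Finite P] in
theorem sq_iff (h : ⁅x, y ^ 2⁆ ∈ zpowers z) : ⁅y, ⁅x, y⁆⁆ ∈ zpowers z ↔ ⁅x, y⁆ ^ 2 ∈ zpowers z := by
  rw [cm_sq_right, mul_assoc, H.normal.mem_comm_iff, mul_assoc, ← sq] at h
  exact ⟨fun e => (mul_mem_cancel_left e).1 h, fun e => (mul_mem_cancel_right e).1 h⟩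

theorem sqM (hy : y ∈ MM P) : y ^ 2 ∈ WW P := by_contra fun h1 => by
  have := H.normal
  obtain ⟨x, h⟩ := H.exists_gn (a := y) fun e => h1 (H.sqF' e)
  have h2 : Commute (y ^ 2) y := (Commute.refl y).pow_left 2
  have h3 : ⁅y ^ 2, x⁆ ∉ zpowers z := fun e => h1 (H.mem_W h hy.2 e (cm_one.2 h2 ▸ one_mem _))
  have h4 := inv_mul_mem_of_card H.WD H.cardD' hy.2 (cm_mem_D x y) h1 (H.cm_not_mem h)
  have h5 : (y ^ 2) ^ 2 ∉ zpowers z := fun e => h3 (cm_symm.1 (by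
    rw [cm_sq_right, mul_assoc, this.mem_comm_iff, mul_assoc, ← sq]
    refine mul_mem ?_ ?_ <;> rw [← mul_inv_cancel_left (y ^ 2) ⁅x, y⁆]
    · rw [cm_symm, cm_mul_left_iff (cm_one.2 h2 ▸ one_mem _)]
      exact H.cmW h4 y
    · rw [(H.WF (H.sqF y) h4).mul_pow]
      exact mul_mem e (H.sqW h4)))
  refine h5 (H.mem_V h (H.sqF' (H.sqF y)) (cm_one.1 ?_) (h2.pow_left 2))
  rw [H.cm_sq (H.sqF y)]
  exact H.elem (H.sqF' (H.sqF y)) h5 (by rw [← pow_mul, ← pow_mul, H.e8]) (H.cmF (H.sqF y) x)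

theorem gn (hx : x ∉ MM P) (hy : y ∈ MM P) (h : y ∉ frattini P) : Gn x y := S64.gn_of H.FM hx hy h

theorem cm_y_aux (hx : x ∉ MM P) (hy : y ∈ MM P) (h : y ∉ frattini P)
    (h1 : ⁅⁅x, y⁆, x⁆ ∈ zpowers z) : ⁅⁅x, y⁆, y⁆ ∈ zpowers z := by_contra fun h2 => by
  have h3 := H.gn hx hy h
  have h4 := mt (H.sq_iff (cm_symm.1 (H.cmW (H.sqM hy) x))).2 (mt cm_symm.1 h2)
  have h5 := cm_mem_D x y
  have h6 : ∀ w ∈ WW P, w ^ 2 = 1 → w ∈ zpowers z := fun w hw e => by_contra fun h6 =>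
    h4 (H.mem_V h3 (H.sqD h5) (cm_one.1 ((H.cm_sq (H.DF h5) x).trans (H.sq_eq h1)))
      (cm_one.1 ((H.cm_sq (H.DF h5) y).trans (H.elem hw h6 e (cm_mem_W h5 y)))))
  have h7 := h6 _ (H.sqF' (H.sqF x)) (by rw [← pow_mul, ← pow_mul, H.e8])
  have h8 := h6 _ (H.cmF (H.sqF x) y) ((H.cm_sq (H.sqF x) y).symm.trans
    (cm_one.2 (mem_center_iff.1 (H.cen h7) y).symm))
  rw [cm_sq_left, mul_mem_cancel_left (cm_symm.1 h1)] at h8
  exact h4 h8

theorem cm_y (hx : x ∉ MM P) (hy : y ∈ MM P) (h : y ∉ frattini P) : ⁅⁅x, y⁆, y⁆ ∈ zpowers z := by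
  by_contra h1
  have h2 : ⁅x * y, y⁆ = ⁅x, y⁆ := by simp [cm_mul_left]
  refine h1 (h2 ▸ H.cm_y_aux (mt (mul_mem_cancel_right hy).1 hx) hy h ?_)
  have h3 := cm_mem_W (cm_mem_D x y)
  rw [h2, cm_mul_right, ← inv_inv ⁅⁅x, y⁆, x⁆]
  exact inv_mul_mem_of_card H.zW H.cardW' (inv_mem (h3 x)) ((commutator_normal _ _).conj_mem _ (h3 y) x)
    (fun e => h1 (H.cm_y_aux hx hy h (inv_mem_iff.1 e))) fun e => h1 (by simpa using H.normal.mem_comm e)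

theorem cmDM (hd : d ∈ commutator P) (hm : m ∈ MM P) : ⁅d, m⁆ ∈ zpowers z := by
  have := H.normal
  by_cases h : m ∈ frattini P
  · exact H.cmFF (H.DF hd) h
  obtain ⟨x, hx⟩ := H.exists_x
  exact mem_Cm1.1 (H.D_le' (cm_mem_D x m) (H.cm_not_mem (H.gn hx hm h))
    (fun _ hw => mem_Cm1.2 (H.cmW hw m)) (mem_Cm1.2 (H.cm_y hx hm h)) hd)

theorem mem_W' (hx : x ∉ MM P) (hd : d ∈ commutator P) (h : ⁅d, x⁆ ∈ zpowers z) : d ∈ WW P :=
  let ⟨_, h1, h2⟩ := H.exists_y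
  H.mem_W (H.gn hx h1 h2) hd h (H.cmDM hd h1)

theorem t2 (hx : x ∉ MM P) (hy : y ∈ MM P) (h : y ∉ frattini P) : ⁅x, y⁆ ^ 2 ∈ zpowers z :=
  (H.sq_iff (cm_symm.1 (H.cmW (H.sqM hy) x))).1 (cm_symm.1 (H.cm_y hx hy h))

theorem sqW' (hw : w ∈ WW P) : w ^ 2 = 1 := by
  obtain ⟨x, hx⟩ := H.exists_x
  obtain ⟨y, hy, h⟩ := H.exists_y
  have h1 := cm_mem_D x y
  refine H.elem (cm_mem_W h1 x) (fun e => H.cm_not_mem (H.gn hx hy h) (H.mem_W' hx h1 e)) ?_ hw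
  rw [← H.cm_sq (H.DF h1), cm_one]
  exact (mem_center_iff.1 (H.cen (H.t2 hx hy h)) x).symm

theorem x2y (hx : x ∉ MM P) (hy : y ∈ MM P) (h : y ∉ frattini P) : ⁅x ^ 2, y⁆ ∉ zpowers z := by
  rw [cm_sq_left, mul_mem_cancel_right (H.t2 hx hy h), cm_symm]
  exact fun e => H.cm_not_mem (H.gn hx hy h) (H.mem_W' hx (cm_mem_D x y) e)

theorem WM (hm : m ∈ MM P) (hw : w ∈ WW P) : Commute m w := by
  by_cases h : m ∈ frattini P
  · exact H.WF h hw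
  obtain ⟨x, hx⟩ := H.exists_x
  have h1 := H.cmF (H.sqF x) m
  have h2 := inv_of_cm (cm_one.2 (H.WF (H.sqF x) (H.sqM hm)))
  rw [inv_eq_of_mul_eq_one_right ((sq _).symm.trans (H.sqW' h1)), mul_inv_eq_iff_eq_mul] at h2
  exact mem_centralizer_singleton_iff.1 (H.W_le' (K := centralizer {m}) h1 (H.x2y hx hm h)
    (fun _ hc => center_le_centralizer _ (H.cen hc)) (mem_centralizer_singleton_iff.2 h2.symm) hw) |>.symm

theorem mem_V' (hx : x ∉ MM P) (hw : w ∈ WW P) (h : Commute w x) : w ∈ zpowers z :=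
  let ⟨_, h1, h2⟩ := H.exists_y
  H.mem_V (H.gn hx h1 h2) hw h (H.WM h1 hw).symm

theorem sqF'' (hc : c ∈ frattini P) : c ^ 2 ∈ zpowers z := by
  have := H.normal
  obtain ⟨x, hx⟩ := H.exists_x
  obtain ⟨y, hy, h⟩ := H.exists_y
  exact (H.F_le (K := Sq (frattini P) _ fun _ ha _ hb => H.cmFF ha hb) (H.sqF x) (mt mem_MM.2 hx)
    (H.D_le' (cm_mem_D x y) (H.cm_not_mem (H.gn hx hy h)) (fun _ hw => ⟨H.DF (H.WD hw), H.sqW hw⟩)
      ⟨H.DF (cm_mem_D x y), H.t2 hx hy h⟩) ⟨H.sqF x, H.mem_V' hx (H.sqF' (H.sqF x))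
        (((Commute.refl x).pow_left 2).pow_left 2)⟩ hc).2

theorem mem_W'' (hx : x ∉ MM P) (hd : d ∈ commutator P) (h : Commute d (x ^ 2)) : d ∈ WW P := by
  have h1 := cm_mem_W hd x
  have h2 := inv_of_cm (cm_one.2 h)
  rw [inv_eq_of_mul_eq_one_right ((sq _).symm.trans (H.sqW' h1)), mul_inv_eq_iff_eq_mul] at h2
  exact H.mem_W' hx hd (H.mem_V' hx h1 h2.symm)

theorem cmMM (hm : m ∈ MM P) (hc : c ∈ MM P) : ⁅c, m⁆ ∈ WW P := by
  by_cases h : m ∈ frattini P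
  · exact cm_symm.1 (H.cmF h c)
  · exact mem_Cm1.1 (H.M_le hm h (fun _ hd => mem_Cm1.2 (H.cmF hd m)) (mem_Cm1.2 (by simp)) hc)

theorem iv_W (hd : c ∈ Q) (hg : g ∈ Q) (h1 : ⁅c, g⁆ ∈ WW P) (h2 : ⁅c, g⁆ ∉ zpowers z)
    (h : ∀ φ, Au Q z φ → ⁅φ c, φ g⁆ ∈ WW P) : Iv Q z (WW P) := fun φ hφ _ hw h3 =>
  hφ.mem_of (H.zW (mem_zpowers z)) hw (mul_mem (mul_mem (mul_mem hd hg) (inv_mem hd)) (inv_mem hg))
    ((hφ.map_cm hd hg).symm ▸ h φ hφ) (mul_mem_of_card H.zW H.cardW' h1 h2 h3)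

omit [Finite P] in
theorem W_le_Q (h : NE Q z) : WW P ≤ Q := fun _ hw => h.mem fun q _ => cm_symm.1 (H.cmW hw q)

theorem le_M (h : NE Q z) : Q ≤ MM P := fun g hg => by_contra fun h1 => by
  have h2 : Iv Q z (frattini P) := fun φ hφ c hc h2 => by_contra fun h3 => h1 (by
    have h4 : φ c ∈ MM P := mem_MM.2 (hφ.map_pow hc 2 ▸ H.WD (H.zW ((hφ.mem_z (pow_mem hc 2)).2
      (H.sqF'' h2))))
    exact H.le_of h.ne (hφ.mem c hc) h3 (fun _ _ hd => H.FM hd) h4 hg)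
  have h3 := H.W_le_Q h
  by_cases h4 : commutator P ≤ Q
  · obtain ⟨s, hs⟩ := h.exists_not_mem
    obtain ⟨t, h5, h6⟩ := SetLike.exists_of_lt (H.cm_lt H.D_ne_bot)
    exact h.ch s hs (fun q _ => h4 (cm_mem_D q s)) _ _ h2 (H.iv_W (h4 h5) hg (cm_mem_W h5 g)
      (fun e => h6 (H.mem_W' h1 h5 e)) fun φ hφ => H.cmF (h2 φ hφ t (h4 h5) (H.DF h5)) _)
      (fun q _ => H.DF (cm_mem_D q s)) (fun _ _ hq => H.cmF hq s) fun _ _ hq => H.cmW hq s
  · obtain ⟨t, h5, h6⟩ := SetLike.not_le_iff_exists.1 h4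
    exact h.ch1 h6 (fun q _ => h3 (cm_symm.1 (cm_mem_W h5 q))) h2 (fun q _ => H.DF (cm_mem_D q t))
      fun _ _ hq => H.cmFF hq (H.DF h5)

theorem D_le_Q (h : NE Q z) : commutator P ≤ Q := fun _ hd =>
  h.mem fun _ hq => cm_symm.1 (H.cmDM hd (H.le_M h hq))

theorem not_M_le (h : NE Q z) : ¬ MM P ≤ Q := fun h1 => by
  have := H.normal
  obtain ⟨x, hx⟩ := H.exists_x
  obtain ⟨y, hy, h2⟩ := H.exists_y
  have h3 := H.le_M h
  refine h.ch x (fun e => hx (h3 e)) (fun q _ => H.D_le_Q h (cm_mem_D q x)) _ _ ?_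
    (H.iv_W (h1 (H.FM (H.sqF x))) (h1 hy) (H.cmF (H.sqF x) y) (H.x2y hx hy h2) fun φ hφ =>
      H.cmMM (h3 (hφ.mem _ (h1 hy))) (h3 (hφ.mem _ (h1 (H.FM (H.sqF x))))))
    (fun q _ => cm_mem_D q x) (fun _ _ hq => cm_mem_W hq x) fun _ _ hq => H.cmW hq x
  refine fun φ hφ d hd h4 => by_contra fun h5 => ?_
  have h6 := fun m hm => hφ.cm_all (y := m) hd (fun q hq => H.cmDM h4 (h3 hq)) (h1 hm)
  by_cases h7 : φ d ∈ frattini P
  · exact H.x2y hx hy h2 (mem_Cm1.1 (H.F_le h7 h5 (fun _ hc => mem_Cm1.2 (H.cmDM hc hy))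
      (mem_Cm1.2 (h6 y hy)) (H.sqF x)))
  · exact H.x2y hx (h3 (hφ.mem d hd)) h7 (cm_symm.1 (h6 _ (H.FM (H.sqF x))))

theorem not_ess {K : Subgroup (MulAut Q)} (hQ : EssD 2 Q K) (hK : ∀ a ∈ K, autFun a z = z) :
    False := by
  have h := hQ.nE H.pg H.zc hK
  have h1 := H.le_M h
  have h2 := H.D_le_Q h
  have h3 := H.W_le_Q h
  obtain ⟨s, h4, hs⟩ := SetLike.not_le_iff_exists.1 (H.not_M_le h)
  obtain ⟨q, hq, h5⟩ : ∃ q ∈ Q, q ∉ commutator P := by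
    by_contra! h5
    exact hs (h.mem fun q hq => H.cmDM (h5 q hq) h4)
  obtain ⟨x, hx⟩ := H.exists_x
  have h6 : Nat.card Q = 16 := by
    have h6 := mul_card_le' H.pg h2 hq h5
    have h7 := mul_card_le' H.pg h1 h4 hs
    have h8 := two_mul_card_le H.pg hx
    rw [H.cardD] at h6
    rw [H.card] at h8
    omega
  have h7 : ∀ c ∈ Q, c ∉ commutator P → ∀ K, commutator P ≤ K → c ∈ K → Q ≤ K :=
    fun c hc h7 K => le_of_card h2 (by rw [h6, H.cardD]) hc h7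
  have h8 : ∀ d ∈ commutator P, d ∉ WW P → ∀ m ∈ MM P, Commute d m → ∀ c ∈ commutator P,
      c ∈ centralizer {m} := fun d hd h8 m hm h9 => H.D_le' hd h8
    (fun _ hw => mem_centralizer_singleton_iff.2 (H.WM hm hw).symm) (mem_centralizer_singleton_iff.2 h9)
  obtain ⟨t, h9, h10⟩ := SetLike.exists_of_lt (H.cm_lt H.D_ne_bot)
  have h11 := h8 t h9 h10 t (H.FM (H.DF h9)) rfl
  have h12 : Commute t q := by_contra fun h12 => h.ch1 hs (fun c hc => h3 (H.cmMM h4 (h1 hc))) iv_cent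
    (fun c hc d hd => H.WM (h1 hd) (H.cmMM h4 (h1 hc))) fun c hc h13 => H.cmW (by_contra fun h14 => by
      by_cases h15 : c ∈ commutator P
      · exact h12 (mem_centralizer_singleton_iff.1 (h8 c h15 h14 q (h1 hq) (h13 q hq).symm t h9))
      · exact h12 (mem_centralizer_singleton_iff.1 (h7 c hc h15 _ h11
          (mem_centralizer_singleton_iff.2 (h13 t (h2 h9)).symm) hq)).symm) s
  have h13 := h7 q hq h5 _ h11 (mem_centralizer_singleton_iff.2 h12.symm)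
  have : Q.Normal := normal_of_le (K := ⊤) h2 le_top
  refine hQ.false_of_sixteen (x := x) H.card H.zc hK H.ord h6 (fun c hc d hd => ?_) (fun e => h10
    (H.mem_W'' hx h9 (mem_centralizer_singleton_iff.1 (h13 e)).symm)) h3 H.cardW
    fun w hw => H.WF (H.sqF x) hw
  have h14 := fun m hm => h8 t h9 h10 m (h1 hm) (mem_centralizer_singleton_iff.1 (h13 hm)).symm
  by_cases h15 : d ∈ commutator P
  · exact (mem_centralizer_singleton_iff.1 (h14 c hc d h15)).symm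
  · exact mem_centralizer_singleton_iff.1 (h7 d hd h15 _ (h14 d hd) (mem_centralizer_singleton_iff.2 rfl) hc)

end SC

end Cfsg.Lib.Block.AG

namespace Cfsg.Lib.Block.BD

open AG

universe u

variable {M : Ideal AlgInt} {P : Type u} [Group P] {b : BD 2 M P} {x y : P}

theorem k_le_of_two_gen (hP : Nat.card P ≤ 64) (h : closure {x, y} = ⊤) : b.k ≤ Nat.card P := by
  have := b.finite
  have h0 : ∀ g : P, ∀ n, g ^ 2 ^ n ≠ 1 → (zpowers g).index * 2 ^ (n + 1) ≤ Nat.card P :=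
    fun g n hg => (zpowers g).index_mul_card ▸ Nat.mul_le_mul_left _
      (Nat.card_zpowers g ▸ le_orderOf b.isPGroup hg)
  by_cases h1 : ∃ g : P, g ^ 2 ^ 3 ≠ 1
  · obtain ⟨g, hg⟩ := h1
    exact k_le_of_cyclic (a := g) (by have := h0 g 3 hg; omega)
  by_cases h2 : ∃ c ∈ center P, c ^ 2 ^ 1 ≠ 1
  · obtain ⟨c, hc, h2⟩ := h2
    exact k_le_of_central hc (by have := h0 c 1 h2; omega)
  push Not at h1 h2
  by_cases h3 : Nat.card P = 64
  · have H : S64 P := ⟨h3, index_frattini_eq_sq b.isPGroup (fun e => by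
      obtain ⟨g, hg⟩ := e.exists_ofOrder_eq_natCard
      have := orderOf_le_of_pow_eq_one (by decide) (h1 g)
      omega) h, h2, h1⟩
    rcases H.cardD with h4 | h4
    · obtain ⟨z, H⟩ := H.exists_sa h4
      exact k_le_of_ess H.zc H.aut fun _ _ h5 h6 => H.not_ne (h5.nE H.pg H.zc h6)
    have H : S8 P := ⟨H, h4⟩
    by_cases h5 : WW P ≤ center P
    · obtain ⟨x, y, t, z, H⟩ := H.exists_sb h5
      exact k_le_of_ess H.ci.zc H.aut fun _ _ h5 h6 => H.not_ne (h5.nE H.pg H.ci.zc h6)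
    · obtain ⟨z, H⟩ := H.exists_sc h5
      exact k_le_of_ess H.zc H.aut fun _ _ => H.not_ess
  obtain ⟨n, hn⟩ := b.isPGroup.exists_card_eq
  have h4 : Nat.card P ≤ 32 := by
    rw [hn] at hP h3 ⊢
    exact Nat.pow_le_pow_right two_pos (Nat.le_of_lt_succ ((Nat.pow_lt_pow_iff_right one_lt_two).1
      (show 2 ^ n < 2 ^ 6 by omega)))
  rcases subsingleton_or_nontrivial P with h5 | h5
  · refine k_le_of_central (one_mem _) ((Nat.le_of_dvd Nat.card_pos (index_dvd_card _)).trans ?_)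
    rw [Nat.card_of_subsingleton 1]
    decide
  have := b.isPGroup.center_nontrivial
  obtain ⟨⟨z, hz⟩, h6⟩ := exists_ne (1 : center P)
  exact k_le_of_central hz (by
    have := h0 z 0 fun e => h6 (Subtype.ext ((pow_one z).symm.trans e)); omega)

end Cfsg.Lib.Block.BD
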