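import Cfsg.Agent.Block.BDEss

/-!
Essential subgroups in the centralizer of a central involution.
-/

set_option autoImplicit false

open Cfsg Cfsg.Lib.Block.AG Cfsg.Lib.Fus Cfsg.Lib.Fus.Ess Subgroup
open scoped commutatorElement

namespace Cfsg.Lib.Block

universe u

section Au

variable {P : Type*} [Group P] {Q X Y : Subgroup P} {z x y s : P} {φ : P → P}

/-- Automorphisms of `Q` fixing `z`. -/
structure Au (Q : Subgroup P) (z : P) (φ : P → P) : Prop where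
  mul : ∀ x ∈ Q, ∀ y ∈ Q, φ (x * y) = φ x * φ y
  mem : ∀ x ∈ Q, φ x ∈ Q
  surj : ∀ y ∈ Q, ∃ x ∈ Q, φ x = y
  inj : ∀ x ∈ Q, ∀ y ∈ Q, φ x = φ y → x = y
  mz : z ∈ Q
  fix : φ z = z

namespace Au

variable (h : Au Q z φ)
include h

theorem map_one : φ 1 = 1 := by simpa using h.mul 1 Q.one_mem 1 Q.one_mem

theorem map_inv (hx : x ∈ Q) : φ x⁻¹ = (φ x)⁻¹ :=
  eq_inv_of_mul_eq_one_left (by rw [← h.mul _ (inv_mem hx) _ hx, inv_mul_cancel, h.map_one])

theorem map_pow (hx : x ∈ Q) (n : ℕ) : φ (x ^ n) = φ x ^ n := by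
  induction n with
  | zero => simpa using h.map_one
  | succ n ih => rw [pow_succ, h.mul _ (pow_mem hx n) _ hx, ih, pow_succ]

theorem map_cm (hx : x ∈ Q) (hy : y ∈ Q) : φ ⁅x, y⁆ = ⁅φ x, φ y⁆ := by
  rw [commutatorElement_def, h.mul _ (mul_mem (mul_mem hx hy) (inv_mem hx)) _ (inv_mem hy),
    h.mul _ (mul_mem hx hy) _ (inv_mem hx), h.mul _ hx _ hy, h.map_inv hx, h.map_inv hy,
    commutatorElement_def]

theorem fixz [Finite P] (hx : x ∈ zpowers z) : φ x = x := by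
  obtain ⟨n, rfl⟩ := mem_powers_iff_mem_zpowers.2 hx
  exact (h.map_pow h.mz n).trans (by rw [h.fix])

theorem mem_z [Finite P] (hx : x ∈ Q) : φ x ∈ zpowers z ↔ x ∈ zpowers z :=
  ⟨fun h1 => h.inj _ (h.mem x hx) _ hx (h.fixz h1) ▸ h1, fun h1 => (h.fixz h1).symm ▸ h1⟩

theorem commute (hx : x ∈ Q) (hy : y ∈ Q) (h1 : Commute x y) : Commute (φ x) (φ y) :=
  (h.mul x hx y hy).symm.trans ((congrArg φ h1).trans (h.mul y hy x hx))

theorem comm_all (hx : x ∈ Q) (h1 : ∀ y ∈ Q, Commute x y) (hy : y ∈ Q) : Commute (φ x) y :=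
  let ⟨w, h2, h3⟩ := h.surj y hy
  h3 ▸ h.commute hx h2 (h1 w h2)

theorem cm_all [Finite P] (hx : x ∈ Q) (h1 : ∀ y ∈ Q, ⁅x, y⁆ ∈ zpowers z) (hy : y ∈ Q) :
    ⁅φ x, y⁆ ∈ zpowers z := by
  obtain ⟨w, h2, rfl⟩ := h.surj y hy
  rw [← h.map_cm hx h2, h.fixz (h1 w h2)]
  exact h1 w h2

theorem mem_of [Finite P] (hX : z ∈ X) (hx : x ∈ Q) (hy : y ∈ Q) (h1 : φ y ∈ X)
    (h2 : x ∈ zpowers z ∨ y⁻¹ * x ∈ zpowers z) : φ x ∈ X := by
  rcases h2 with h2 | h2
  · exact (h.fixz h2).symm ▸ zpowers_le.2 hX h2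
  · rw [← mul_inv_cancel_left y x, h.mul _ hy _ (mul_mem (inv_mem hy) hx), h.fixz h2]
    exact mul_mem h1 (zpowers_le.2 hX h2)

end Au

/-- Invariant subgroups. -/
def Iv (Q : Subgroup P) (z : P) (X : Subgroup P) : Prop :=
  ∀ φ, Au Q z φ → ∀ x ∈ Q, x ∈ X → φ x ∈ X

theorem iv_top : Iv Q z ⊤ := fun _ _ _ _ _ => trivial

theorem iv_cent : Iv Q z (centralizer Q) := fun _ h _ hx h1 _ hy =>
  (h.comm_all hx (fun y hy => (h1 y hy).symm) hy).symm

theorem iv_closure {S : Set P} (h1 : ∀ x ∈ S, x ∈ Q) (h2 : ∀ φ, Au Q z φ → ∀ x ∈ S, φ x ∈ S) :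
    Iv Q z (closure S) := fun φ h x _ hx => by
  have h3 : closure S ≤ Q := (closure_le _).2 h1
  induction hx using closure_induction with
  | mem x hx => exact subset_closure (h2 φ h x hx)
  | one => exact h.map_one.symm ▸ one_mem _
  | mul x y hx hy h4 h5 => exact h.mul x (h3 hx) y (h3 hy) ▸ mul_mem (h4 (h3 hx)) (h5 (h3 hy))
  | inv x hx h4 => exact h.map_inv (h3 hx) ▸ inv_mem (h4 (h3 hx))

/-- No outer element stabilizes an invariant chain. -/
structure NE (Q : Subgroup P) (z : P) : Prop where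
  ne : Q ≠ ⊤
  mz : z ∈ Q
  ch : ∀ s ∉ Q, (∀ x ∈ Q, ⁅x, s⁆ ∈ Q) → ∀ X Y, Iv Q z X → Iv Q z Y → (∀ x ∈ Q, ⁅x, s⁆ ∈ X) →
    (∀ x ∈ Q, x ∈ X → ⁅x, s⁆ ∈ Y) → (∀ x ∈ Q, x ∈ Y → ⁅x, s⁆ ∈ zpowers z) → False

theorem NE.ch1 (h : NE Q z) (hs : s ∉ Q) (h0 : ∀ x ∈ Q, ⁅x, s⁆ ∈ Q) (hX : Iv Q z X)
    (h1 : ∀ x ∈ Q, ⁅x, s⁆ ∈ X) (h2 : ∀ x ∈ Q, x ∈ X → ⁅x, s⁆ ∈ zpowers z) : False :=
  h.ch s hs h0 X X hX hX h1 (fun x hx _ => h1 x hx) h2

theorem NE.mem (h : NE Q z) (h1 : ∀ x ∈ Q, ⁅x, s⁆ ∈ zpowers z) : s ∈ Q := by_contra fun hs =>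
  h.ch1 hs (fun x hx => zpowers_le.2 h.mz (h1 x hx)) iv_top (fun _ _ => trivial) fun x hx _ => h1 x hx

theorem NE.exists_not_mem (h : NE Q z) : ∃ s, s ∉ Q := by
  by_contra! h1
  exact h.ne ((eq_top_iff' Q).2 h1)

end Au

theorem AG.pow_commute_of_conj_mem {G : Type*} [Group G] [Finite G] {g h : G} {q : ℕ} (hq : q.Prime)
    (hg : orderOf g = q) (h1 : h * g * h⁻¹ ∈ zpowers g) : Commute (h ^ (q - 1)) g := by
  have := Fact.mk hq
  obtain ⟨j, hj⟩ : ∃ j, g ^ j = _ := mem_powers_iff_mem_zpowers.2 h1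
  have h3 : ∀ n, h ^ n * g * (h ^ n)⁻¹ = g ^ j ^ n := fun n => by
    induction n with
    | zero => simp
    | succ n ih =>
      rw [pow_succ' j, pow_mul, show g ^ j = _ from hj, conj_pow, ← ih, pow_succ']
      group
  have h4 : ¬ q ∣ j := fun h4 => hq.ne_one (by
    rw [show g ^ j = 1 from orderOf_dvd_iff_pow_eq_one.1 (hg ▸ h4), eq_comm, conj_eq_one_iff] at hj
    rw [← hg, hj, orderOf_one])
  have h5 := h3 (q - 1)
  rwa [(pow_eq_pow_iff_modEq (x := g) (m := 1)).2 (hg ▸ Nat.ModEq.pow_card_sub_one_eq_one hq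
    ((Nat.Prime.coprime_iff_not_dvd hq).2 h4).symm), pow_one, mul_inv_eq_iff_eq_mul] at h5

namespace EssD

variable {p : ℕ} {P : Type*} [Group P] [Finite P] [Fact p.Prime] {Q : Subgroup P}
  {K : Subgroup (MulAut Q)} {s z : P}

omit [Finite P] [Fact p.Prime] in
theorem rad (h : EssD p Q K) (hP : IsPGroup p P) (hs : s ∈ normalizer (Q : Set P)) (h1 : s ∉ Q) :
    Rad p K (conjAut Q s hs) :=
  let ⟨_, h2, h3⟩ := h.apart
  ⟨hP.to_subgroup Q, h.syl.le (conjAut_mem_autInducedBy (mem_top s) hs),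
    conjAut_pelt (S := ⊤) (hP.to_subgroup _) trivial hs, fun h4 =>
      h3 s hs h1 s hs h1 _ (isPGroup_pCoreIn _) h4 (conj_mem_pCoreIn h2 h4)⟩

variable (hP : IsPGroup p P) (h : EssD p Q K) (hz : z ∈ center P)
  (hK : ∀ a ∈ K, autFun a z = z)
include h hz hK

omit [Finite P] [Fact p.Prime] in
theorem au {a : MulAut Q} (ha : a ∈ K) : Au Q z (autFun a) :=
  ⟨mulOn_autFun a, fun _ => autFun_mem a, fun _ hy => ⟨_, autFun_mem a⁻¹ hy, autFun_autFun_inv a hy⟩,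
    fun _ hx _ hy e => injOn_autFun a hx hy e, h.selfC (center_le_centralizer _ hz), hK a ha⟩

omit [Finite P] [Fact p.Prime] in
theorem aInv {X : Subgroup P} (hX : Iv Q z X) : AInv K (X.subgroupOf Q) := fun a ha x hx =>
  mem_subgroupOf.2 (autFun_coe a x ▸ hX _ (h.au hz hK ha) x x.2 hx)

omit [Fact p.Prime] in
theorem aInvz : AInv K ((zpowers z).subgroupOf Q) :=
  h.aInv hz hK fun _ h1 _ hx => (h1.mem_z hx).2

omit [Fact p.Prime] in
theorem trivz {a : MulAut Q} (ha : a ∈ K) : Triv a ((zpowers z).subgroupOf Q) ⊥ :=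
  triv_bot_iff.2 fun x hx => Subtype.ext ((autFun_coe a x).symm.trans ((h.au hz hK ha).fixz hx))

include hP

theorem nE : NE Q z := ⟨h.ne, h.selfC (center_le_centralizer _ hz),
  fun s hs h0 X Y hX hY h1 h2 h3 => by
    have h4 : s ∈ normalizer (Q : Set P) := mem_normalizer_of_finite fun x hx => by
      simpa [commutatorElement_def, mul_assoc] using mul_mem hx (h0 _ (inv_mem hx))
    have h5 := h.rad hP h4 hs
    have h6 := h.aInvz hz hK
    refine h5.not_ptr ((h5.ptr aInv_top (h.aInv hz hK hX) (triv_conjAut_top_iff.2 fun x hx => ?_)).trans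
      h5.pg ((h5.ptr (h.aInv hz hK hX) (h.aInv hz hK hY) (triv_conjAut_iff.2 fun x hx hx' => ?_)).trans
      h5.pg ((h5.ptr (h.aInv hz hK hY) h6 (triv_conjAut_iff.2 fun x hx hx' => ?_)).trans h5.pg
      (h5.ptr h6 aInv_bot (h.trivz hz hK h5.mem)) aInv_bot) aInv_bot) aInv_bot) <;>
      rw [inv_mul_conj_eq]
    exacts [h1 _ (inv_mem hx), h2 _ (inv_mem hx) (inv_mem hx'), h3 _ (inv_mem hx) (inv_mem hx')]⟩

end EssD

theorem EssD.false_of_sixteen {P : Type*} [Group P] [Finite P] {Q W : Subgroup P}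
    {K : Subgroup (MulAut Q)} {x z : P} (hP : Nat.card P = 64) (h : EssD 2 Q K) (hz : z ∈ center P)
    (hK : ∀ a ∈ K, autFun a z = z) (h1 : orderOf z = 2) (hQ : Nat.card Q = 16) [Q.Normal]
    (hc : ∀ x ∈ Q, ∀ y ∈ Q, x * y = y * x) (hx : x ^ 2 ∉ Q) (hW : W ≤ Q) (h4 : Nat.card W = 4)
    (h2 : ∀ w ∈ W, Commute (x ^ 2) w) : False := by
  have pg : IsPGroup 2 P := .of_card (n := 6) hP
  have hN : ∀ s, s ∈ normalizer (Q : Set P) := fun s => by rw [normalizer_eq_top]; trivial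
  have hz' : z ∈ Q := h.selfC (center_le_centralizer _ hz)
  have hT : Nat.card (autInducedBy ⊤ Q) = 4 := by
    have h3 := card_normalizerIn_eq ⊤ Q
    rw [normalizerIn_eq_of_le fun s _ => hN s, card_top, hP,
      show FusionSystem.centralizerIn ⊤ Q = Q from le_antisymm (fun _ hy => h.selfC hy.2)
        fun y hy => ⟨trivial, fun w hw => hc w hw y hy⟩, hQ] at h3
    omega
  have : ((zpowers z).subgroupOf Q).Normal := ⟨fun y hy g => by
    rwa [show g * y = y * g from Subtype.ext (hc _ g.2 _ y.2), mul_inv_cancel_right]⟩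
  have h3 : Function.Injective (quoHom (h.aInvz hz hK)) := (injective_iff_map_eq_one _).2 fun a ha => by
    have h3 := ((ptr_of_triv aInv_top (h.aInvz hz hK) a.2 ((quoHom_eq_one_iff _ a).1 ha)).trans
      (pg.to_subgroup Q) (ptr_of_triv (h.aInvz hz hK) aInv_bot a.2 (h.trivz hz hK a.2))
      aInv_bot).mem_pCoreIn
    obtain ⟨s, -, hs, e⟩ := mem_autInducedBy'.1 (h.syl.pCoreIn_le h3)
    by_cases h5 : s ∈ Q
    · exact Subtype.ext (e.trans ((conjAut_eq_one_iff hs).2 fun y hy => hc y hy s h5))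
    · exact ((h.rad pg hs h5).not_mem (e ▸ h3)).elim
  have h5 : Nat.card (Q ⧸ (zpowers z).subgroupOf Q) = 2 ^ 3 := by
    have h5 := ((zpowers z).subgroupOf Q).index_mul_card
    rw [Nat.card_congr (subgroupOfEquivOfLe (zpowers_le.2 hz')).toEquiv, Nat.card_zpowers, h1, hQ] at h5
    change ((zpowers z).subgroupOf Q).index = 8
    omega
  obtain ⟨r, h6, h7⟩ := (Nat.dvd_prime_pow Nat.prime_two).1 (h5 ▸ index_dvd_card (frattini _))
  have h8 : Nat.card K ∣ 168 := (card_dvd_of_injective _ h3).trans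
    ((Agent.S4208.result h5 h7).trans (by interval_cases r <;> decide))
  have h9 := h.sq_le hc
  have h10 := h.syl.not_dvd_relIndex
  have h11 := ((autInducedBy ⊤ Q).subgroupOf K).index_mul_card
  rw [Nat.card_congr (subgroupOfEquivOfLe h.syl.le).toEquiv, hT] at h11
  rw [hT] at h9
  change ¬ 2 ∣ ((autInducedBy ⊤ Q).subgroupOf K).index at h10
  obtain ⟨h12, h13⟩ : 7 ∣ Nat.card K ∧ Nat.card K ∣ 7 * 12 := by
    have := Nat.le_of_dvd (by decide) h8
    generalize ((autInducedBy ⊤ Q).subgroupOf K).index = m at h10 h11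
    rw [← h11] at h8 h9 this ⊢
    have : m ≤ 42 := by omega
    interval_cases m <;> omega
  obtain ⟨a, ha, oa⟩ := exists_prime_mem K (by decide) h12
  have h14 := conjAut_mem_autInducedBy (K := ⊤) trivial (hN x)
  have h15 := pow_commute_of_conj_mem (by decide) oa
    (conj_mem_of_card (by decide) h13 (by decide) (by decide) ha (h.syl.le h14) oa)
  rw [show 7 - 1 = 4 + 2 from rfl, pow_add, show conjAut Q x (hN x) ^ 4 = 1 from congrArg Subtype.val
    (hT ▸ pow_card_eq_one' (x := (⟨_, h14⟩ : autInducedBy ⊤ Q))), one_mul, conjAut_pow] at h15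
  have h16 := card_Fx_modEq (by decide) oa fun _ => Fx_inv h15
  have h17 := card_Fx_modEq (by decide) oa (V := ⊤) fun _ _ => trivial
  have h18 := card_lt (V := ⊤) (W := Fx a) fun h0 =>
    ne_one_of_orderOf (by decide) oa (MulEquiv.ext fun y => h0 (mem_top y))
  have h19 := card_lt (V := ⊤) (W := Fx (conjAut Q (x ^ 2) (hN _))) fun h0 => hx
    (h.selfC ((conjAut_eq_one_iff (hN _)).1 (MulEquiv.ext fun y => h0 (mem_top y))))
  have h20 := card_le_of_le (show W.subgroupOf Q ≤ Fx (conjAut Q (x ^ 2) (hN _)) from fun y hy =>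
    Subtype.ext (mul_inv_eq_iff_eq_mul.2 (h2 y hy)))
  have h21 := one_lt_card (V := Fx a ⊓ Fx (conjAut Q (x ^ 2) (hN _))) (x := ⟨z, hz'⟩)
    ⟨Subtype.ext ((autFun_of_mem a hz').symm.trans (hK a ha)),
      Subtype.ext (mul_inv_eq_iff_eq_mul.2 (mem_center_iff.1 hz _))⟩
    fun e => ne_one_of_orderOf Nat.prime_two h1 (congrArg Subtype.val e)
  have h22 := card_le_of_le (inf_le_left (a := Fx a) (b := Fx (conjAut Q (x ^ 2) (hN _))))
  have h23 := dvd_32 ((hQ ▸ card_subgroup_dvd_card (Fx a)).trans (by decide))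
  have h24 := dvd_32 ((hQ ▸ card_subgroup_dvd_card (Fx (conjAut Q (x ^ 2) (hN _)))).trans (by decide))
  rw [Nat.card_congr (subgroupOfEquivOfLe hW).toEquiv, h4] at h20
  rw [inf_top_eq, card_top, hQ] at h17 h18 h19
  unfold Nat.ModEq at h16 h17
  omega

namespace BD

variable {p : ℕ} {M : Ideal AlgInt} {P : Type u} [Group P] [hp : Fact p.Prime] {b : BD p M P}
  {z : P} {φ : P → P}

theorem k_le_of_ess (hz : z ∈ center P) (h1 : ∀ a : MulAut P, (orderOf a).Coprime p → a = 1)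
    (h2 : ∀ Q K, EssD p Q K → (∀ a ∈ K, autFun a z = z) → False) : b.k ≤ Nat.card P := by
  have hr : (MonoidHom.id P).range = centralizer ({z} : Set P) := by
    rw [MonoidHom.range_eq_top.2 Function.surjective_id]
    exact (centralizer_eq_top_iff_subset.2 (Set.singleton_subset_iff.2 hz)).symm
  obtain ⟨c, hc⟩ := exists_loc (j := MonoidHom.id P) (b.fc_of_mem_center hz) (fun _ _ h => h) hr
  refine k_le_of_good hz (hc.iso.good (Or.inl (le_of_eq_of_le (l_eq_one_of_ess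
    fun Q φ h3 h4 x hx => ?_) one_le_two)))
  rcases h3 with rfl | h3
  · obtain ⟨a, -, h5⟩ := h4.fu.exists_aut
    obtain ⟨n, h6, h7⟩ := h4.ord
    rw [← h5, h1 a (h6.coprime_dvd_left (orderOf_dvd_of_pow_eq_one (MulEquiv.ext fun y => by
      rw [iterate_aut, funext h5, h7 y trivial]; rfl))), MulAut.one_apply]
  · exact (h2 Q _ h3 fun a ha => (mem_autQ.1 ha).apply_of_mem_center
      (h3.selfC (center_le_centralizer _ hz)) hc.cen).elim

end BD

end Cfsg.Lib.Block
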