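import Cfsg.Agent.Block.BlauIneq
import Cfsg.Agent.PrimeOne.SelfCent
import Mathlib.Analysis.Fourier.FiniteAbelian.PontryaginDuality

/-!
# Exceptional characters for a Sylow subgroup of prime order with centralizer `P Z(G)`
-/

set_option autoImplicit false

namespace Cfsg.Lib.Block.Lat

open Module Subgroup Cfsg.Lib.Char Cfsg.Lib.Block.TI Cfsg.Lib.Block.SD
open scoped ComplexConjugate

variable {p : ℕ} [hp : Fact p.Prime] {G : Type*} [Group G] [Finite G]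

theorem exists_tw {x : G} (hx : orderOf x = p) {χ : G → ℂ} (hχ : IsIrrCharacter G χ) {a : ZMod p}
    (ha : a ≠ 0) : ∃ χ' : G → ℂ, IsIrrCharacter G χ' ∧ (∀ j, χ' (xp x j) = χ (xp x (j * a))) ∧
      ∀ g, ¬ p ∣ orderOf g → χ' g = χ g := by
  obtain ⟨k, hk, hk'⟩ := exists_kj (G := G) 1 a
  have hcop : k.Coprime (Nat.card G) := coprime_card_of_pow_ne_one fun g hg h1 => by
    by_cases hpg : p ∣ orderOf g
    · exact ha (by
        rw [← hk, ZMod.natCast_eq_zero_iff]; exact hpg.trans (orderOf_dvd_of_pow_eq_one h1))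
    · rw [hk' g hpg, pow_one] at h1
      rw [h1, orderOf_one] at hg
      exact Nat.not_prime_one hg
  exact ⟨_, (powI hcop ⟨χ, hχ⟩).2, fun j => by rw [powI_apply, xp_pow hx, hk],
    fun g hg => by rw [powI_apply, hk' g hg, pow_one]⟩

theorem exists_mulShift {ψ ψ' : AddChar (ZMod p) ℂ} (hψ : ψ ≠ 1) (hψ' : ψ' ≠ 1) :
    ∃ a, a ≠ 0 ∧ ψ.mulShift a = ψ' := by
  obtain ⟨a, rfl⟩ := ((Fintype.bijective_iff_injective_and_card _).2
    ⟨AddChar.to_mulShift_inj_of_isPrimitive (AddChar.IsPrimitive.of_ne_one hψ),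
      AddChar.card_eq.symm⟩).2 ψ'
  exact ⟨a, fun h => hψ' (by rw [h, AddChar.mulShift_zero]), rfl⟩

section Cnt

variable {H : Subgroup (ZMod p)ˣ} {ψ : AddChar (ZMod p) ℂ}

/-- The number of ways to write `-s` as a sum of two elements of `H`. -/
noncomputable def cnt (H : Subgroup (ZMod p)ˣ) (s : ZMod p) : ℕ :=
  Nat.card {t : H × H // -(((t.1 : (ZMod p)ˣ) : ZMod p) + (t.2 : (ZMod p)ˣ)) = s}

theorem eta_mul (a : H) (j : ZMod p) : eta H ψ (j * (a : (ZMod p)ˣ)) = eta H ψ j := by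
  have := Fintype.ofFinite H
  rw [eta_eq, eta_eq]
  exact Fintype.sum_equiv (Equiv.mulLeft a) _ _ fun b => by simp [mul_assoc]

theorem conj_eta (j : ZMod p) : conj (eta H ψ j) = eta H ψ (-j) := by
  have := Fintype.ofFinite H
  rw [eta_eq, eta_eq, map_sum]
  exact Finset.sum_congr rfl fun b _ => by rw [neg_mul, AddChar.map_neg_eq_conj]

theorem sum_eta (hψ : ψ ≠ 1) : ∑ j, eta H ψ j = 0 := by
  have h1 := sum_eta_mul H hψ 0
  rw [if_neg (by rintro ⟨a, -, ha⟩; exact a.ne_zero ha)] at h1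
  simpa using h1

theorem sum_mul_eta_sq (hψ : ψ ≠ 1) (s : ZMod p) :
    ∑ j, ψ (j * s) * (eta H ψ j * eta H ψ j) = p * cnt H s := by
  classical
  have := Fintype.ofFinite H
  rw [Finset.sum_congr rfl fun j _ => by
    rw [eta_eq, Finset.sum_mul_sum, ← Fintype.sum_prod_type', Finset.mul_sum], Finset.sum_comm, cnt, Nat.card_eq_fintype_card, Fintype.card_subtype, Finset.card_filter,
    Nat.cast_sum, Finset.mul_sum]
  refine Finset.sum_congr rfl fun t _ => ?_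
  have h1 := AddChar.sum_mulShift (s + (((t.1 : (ZMod p)ˣ) : ZMod p) + (t.2 : (ZMod p)ˣ)))
    (AddChar.IsPrimitive.of_ne_one hψ)
  simp only [mul_add, AddChar.map_add_eq_mul, add_eq_zero_iff_eq_neg, @eq_comm _ s] at h1
  rw [h1, ZMod.card]
  split_ifs <;> simp

theorem sum_eta_cube (hψ : ψ ≠ 1) (s : ZMod p) :
    ∑ j, eta H ψ (j * s) * (eta H ψ j * eta H ψ j) = Nat.card H * (p * cnt H s) := by
  have := Fintype.ofFinite H
  rw [← sum_mul_eta_sq hψ, Finset.sum_congr rfl fun j _ => by rw [eta_eq, Finset.sum_mul],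
    Finset.sum_comm, Nat.card_eq_fintype_card, ← Finset.card_univ, ← nsmul_eq_mul,
    ← Finset.sum_const]
  exact Finset.sum_congr rfl fun a _ => Fintype.sum_equiv (a : (ZMod p)ˣ).mulRight _ _ fun j => by
    rw [Units.mulRight_apply, eta_mul, mul_right_comm j]

theorem sum_cnt : ∑ s, cnt H s = Nat.card H * Nat.card H := by
  rw [← Nat.card_prod, ← Nat.card_congr (Equiv.sigmaFiberEquiv fun t : H × H =>
    -(((t.1 : (ZMod p)ˣ) : ZMod p) + (t.2 : (ZMod p)ˣ))), Nat.card_sigma]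
  rfl

theorem add_ne_zero (hp2 : p ≠ 2) (hodd : Odd (Nat.card H)) (a b : H) :
    ((a : (ZMod p)ˣ) : ZMod p) + (b : (ZMod p)ˣ) ≠ 0 := fun h => by
  have h1 : (((a * b⁻¹ : H) : (ZMod p)ˣ) : ZMod p) = -1 := by
    rw [Subgroup.coe_mul, Units.val_mul, eq_neg_of_add_eq_zero_left h, neg_mul, ← Units.val_mul,
      ← Subgroup.coe_mul, mul_inv_cancel]
    rfl
  have h2 := congrArg (fun c : H => ((c : (ZMod p)ˣ) : ZMod p)) (pow_card_eq_one' (x := a * b⁻¹))
  simp only [SubmonoidClass.coe_pow, Units.val_pow_eq_pow_val, h1, hodd.neg_one_pow] at h2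
  have : Fact (2 < p) := ⟨by have := hp.out.two_le; omega⟩
  exact ZMod.neg_one_ne_one h2

theorem cnt_zero (hp2 : p ≠ 2) (hodd : Odd (Nat.card H)) : cnt H 0 = 0 :=
  Nat.card_eq_zero.2 (.inl ⟨fun t => add_ne_zero hp2 hodd _ _ (neg_eq_zero.1 t.2)⟩)

theorem exists_two_le_cnt (hp2 : p ≠ 2) (hodd : Odd (Nat.card H)) (h1 : 1 < Nat.card H) :
    ∃ s, s ≠ 0 ∧ 2 ≤ cnt H s := by
  have := Finite.one_lt_card_iff_nontrivial.1 h1
  obtain ⟨a, ha⟩ := exists_ne (1 : H)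
  exact ⟨_, neg_ne_zero.2 (add_ne_zero hp2 hodd a 1), Finite.one_lt_card_iff_nontrivial.2
    ⟨⟨(a, 1), rfl⟩, ⟨(1, a), by rw [add_comm]⟩, fun h => ha (congrArg (·.1.1) h)⟩⟩

theorem card_fiber_le (hψ : ψ ≠ 1) {b : ZMod p} (hb : b ≠ 0) (J : Finset (ZMod p))
    (hJ : ∀ a ∈ J, a ≠ 0 ∧ ∀ j, j ≠ 0 → eta H ψ (j * a) = eta H ψ (j * b)) :
    J.card ≤ Nat.card H := by
  classical
  have := Fintype.ofFinite H
  rw [Nat.card_eq_fintype_card, ← Finset.card_univ]
  refine le_trans (Finset.card_le_card fun a ha => ?_)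
    (Finset.card_image_le (f := fun h : H => ((h : (ZMod p)ˣ) : ZMod p) * b))
  have h3 := GD.sum_eta_mul' (H := H) hψ (hJ a ha).1 a
  have h4 : ∀ j, eta H ψ (j * a) = eta H ψ (j * b) := fun j => by
    by_cases hj : j = 0
    · rw [hj, zero_mul, zero_mul]
    · exact (hJ a ha).2 j hj
  rw [if_pos ⟨1, one_mem _, (div_self (hJ a ha).1).symm⟩] at h3
  simp only [h4, GD.sum_eta_mul' hψ hb] at h3
  split_ifs at h3 with h5
  · obtain ⟨k, hk, h5⟩ := h5
    exact Finset.mem_image.2 ⟨⟨k, hk⟩, Finset.mem_univ _, by rw [h5, div_mul_cancel₀ _ hb]⟩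
  · exact absurd h3.symm (Nat.cast_ne_zero.2 hp.out.ne_zero)

end Cnt

/-- An exceptional character with the center in its kernel. -/
structure Ex (x : G) (H : Subgroup (ZMod p)ˣ) (ψ : AddChar (ZMod p) ℂ) (ε : ℤ) (ξ : G → ℂ) :
    Prop where
  irr : IsIrrCharacter G ξ
  ker : center G ≤ charKer ξ
  ne : ψ ≠ 1
  sign : ε = 1 ∨ ε = -1
  val : ∀ j, j ≠ 0 → ξ (xp x j) = ε * eta H ψ j

namespace GD

variable {P : Sylow p G} {x : G} {H : Subgroup (ZMod p)ˣ} {E : Subgroup G} {r : G → (ZMod p)ˣ}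
  (h : GD P x H E r)
include h

local notation "N" => normalizer ((P : Subgroup G) : Set G)

theorem lam_tw {χ χ' : G → ℂ} (hχ : IsIrrCharacter G χ) (hχ' : IsIrrCharacter G χ') {a : ZMod p}
    (ha : a ≠ 0) (h1 : ∀ j, χ' (xp x j) = χ (xp x (j * a)))
    (h2 : ∀ g, ¬ p ∣ orderOf g → χ' g = χ g) {g : G} (hg : g ∈ E) :
    lam p x χ' g = lam p x χ g := by
  by_cases hr : r g = 1
  · have hz := (h.r_eq_one_iff' hg).1 hr
    simp only [lam, mem_center_iff.1 hz, apply_mul_of_mem_charCenter' hχ.apply_one_ne_zero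
      (hχ.center_le_charCenter hz), apply_mul_of_mem_charCenter' hχ'.apply_one_ne_zero
      (hχ'.center_le_charCenter hz), h1, h2 g (h.not_dvd hg), h2 1 (h.not_dvd (one_mem _))]
    congr 1
    exact Fintype.sum_equiv (Equiv.mulRight₀ a ha) _ _ fun j => rfl
  · rw [← h.apply_eq_lam hχ.isClassFunction (h.le hg) hr,
      ← h.apply_eq_lam hχ'.isClassFunction (h.le hg) hr, h2 g (h.not_dvd hg)]

theorem exists_sm {ψ ψ' : AddChar (ZMod p) ℂ} {ζ : G → ℂ} (s : Sm x H ψ ζ) (hψ : ψ' ≠ 1) :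
    ∃ ζ', Sm x H ψ' ζ' ∧ (∀ g ∈ E, lam p x ζ' g = lam p x ζ g) ∧
      ∀ g, ¬ p ∣ orderOf g → ζ' g = ζ g := by
  obtain ⟨a, ha, rfl⟩ := exists_mulShift s.ne hψ
  obtain ⟨ζ', h1, h2, h3⟩ := exists_tw h.hx s.irr ha
  exact ⟨ζ', ⟨h1, hψ, by rw [h3 1 (h.not_dvd (one_mem _)), s.deg], fun j hj => by
    rw [h2, s.val _ (mul_ne_zero hj ha), eta_mulShift]⟩,
    fun g hg => h.lam_tw s.irr h1 ha h2 h3 hg, h3⟩

theorem comm_cent {a b : G} (ha : a ∈ centralizer {x}) (hb : b ∈ centralizer {x}) :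
    a * b = b * a := by
  obtain ⟨⟨i, y⟩, h7⟩ := (bijective_xp_mul P h.hxP h.hx h.nZ h.cent).2 ⟨a, ha⟩
  obtain ⟨⟨j, z⟩, h8⟩ := (bijective_xp_mul P h.hxP h.hx h.nZ h.cent).2 ⟨b, hb⟩
  obtain rfl : y * xp x i = a := congrArg Subtype.val h7
  obtain rfl : z * xp x j = b := congrArg Subtype.val h8
  have h10 : ∀ (y : center G) g, Commute (y : G) g := fun y g => (mem_center_iff.1 y.2 g).symm
  exact ((h10 y _).mul_left ((h10 z _).symm.mul_right (Commute.pow_pow_self x _ _))).eq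

/-- Brauer's dichotomy. -/
theorem dich (hH : (centralizer {x}).relIndex N = Nat.card H) {χ : G → ℂ}
    (hχ : IsIrrCharacter G χ) : (∃ v, ∀ j : ZMod p, j ≠ 0 → χ (xp x j) = v) ∨
      ∃ (ψ : AddChar (ZMod p) ℂ) (ε : ℤ), ψ ≠ 1 ∧ (ε = 1 ∨ ε = -1) ∧
        ∀ j, j ≠ 0 → χ (xp x j) = ε * eta H ψ j := by
  classical
  have := Fintype.ofFinite G
  have hx := h.hx
  have hne : ∀ j : ZMod p, j ≠ 0 → xp x j ≠ 1 := fun j hj h => hj ((xp_eq_one_iff hx).1 h)
  have hP : Nat.card (zpowers x) = p := (Nat.card_zpowers x).trans hx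
  by_cases hd : p ∣ charDegree χ
  · exact .inl ⟨0, fun j hj => PrimeOne.apply_eq_zero_of_dvd_degree hp.out
      (PS.not_sq_dvd P h.card_P) ⟨χ, hχ⟩ hd (PS.orderOf_eq_of_card hP (xp_mem j) (hne j hj)).symm.dvd⟩
  obtain ⟨M, hM⟩ := Princ.exists_isPModular hp.out
  have hD := isDefectGroup_of_not_dvd hM P (χ := ⟨χ, hχ⟩) hd
  rw [← h.hxP] at hD hH
  obtain ⟨c, hc⟩ := CD.exists_root hM (isPBlock_blockOf' _) hD
  have hs := CD.setup_of_card hM hD hP hc
  obtain ⟨θ₁, h1, h2⟩ := hs.exists_canon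
  obtain ⟨X, Y, μ, ε, a, hS, -⟩ := hs.exists_struct h1
    (fun n hn => (hs.smul_eq_iff_of_canon h1 h2 n).2 hn) ⟨χ, hχ⟩
  rcases (hS.union ⟨χ, hχ⟩).1 (mem_blockOf_self' hM _) with hX | hY
  · exact .inl ⟨_, fun j hj => hS.value_X_canon h2 hX (xp_mem j) (hne j hj)⟩
  obtain ⟨θ, hθ, hθ₁, hμ⟩ := hS.mu_surj _ hY
  obtain rfl : (μ θ : G → ℂ) = χ := congrArg Subtype.val hμ
  obtain ⟨r, hr, hrk⟩ := exists_hom hx
  have hle := hs.le_Cz
  let ι : ZMod p → zpowers x := fun j => ⟨xp x j, xp_mem j⟩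
  let lam := CD.cen (CD.inclusion_mem_center hle) θ
  let ψ : AddChar (ZMod p) ℂ :=
    { toFun := fun j => lam (ι j)
      map_zero_eq_one' := by rw [show ι 0 = 1 from Subtype.ext xp_zero, map_one]
      map_add_eq_mul' := fun i j => by
        rw [show ι (i + j) = ι i * ι j from Subtype.ext (xp_add hx i j), map_mul] }
  have hψ : ψ ≠ 1 := fun h => hθ₁ (hs.eq_of_canon hθ h1 ((CD.canon_iff hle).2
    (MonoidHom.ext fun y => by
      obtain ⟨j, hj⟩ := exists_xp hx y.2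
      rw [show y = ι j from Subtype.ext hj.symm]
      exact DFunLike.congr_fun h j)) h2)
  have hcard : Nat.card r.ker = Nat.card (CD.Cz (zpowers x)) := by
    rw [hrk, Nat.card_congr (subgroupOfEquivOfLe (CD.Cz_le_Nz _)).toEquiv]
  obtain rfl : r.range = H := eq_of_card_eq (by
    rw [← hH, ← index_ker, hrk, ← PS.centralizer_zpowers]; rfl)
  have hm := θ.2.apply_one_of_comm fun a b => Subtype.ext (h.comm_cent
    (PS.centralizer_zpowers x ▸ a.2) (PS.centralizer_zpowers x ▸ b.2))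
  refine .inr ⟨ψ, ε, hψ, hS.sign, fun j hj => mul_left_cancel₀ (card_ne_zero (CD.Cz (zpowers x))) ?_⟩
  refine (hS.value_Y hθ hθ₁ (inclusion hle (ι j))
    (PS.zpowers_eq_of_card hP (xp_mem j) (hne j hj)).ge).trans ?_
  rw [Finset.sum_congr rfl (g := fun n => ψ (j * r n)) fun n _ => ?_,
    sum_hom r fun h => ψ (j * h), hcard, ← eta_eq, nsmul_eq_mul, mul_left_comm]
  rw [show CD.cjC n (inclusion hle (ι j)) = inclusion hle (ι (j * r n)) * 1 from
    Subtype.ext ((hr n j).trans (mul_one _).symm),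
    irr_mul_center θ.2 (CD.inclusion_mem_center hle _)]
  exact (congrArg (ψ (j * r n) * ·) hm).trans (mul_one _)

theorem sum_E [Fintype E] {f u : G → ℂ} {c : ℂ} (h1 : ∀ g ∈ E, g ∈ center G → f g = u g + c)
    (h2 : ∀ g ∈ E, r g ≠ 1 → f g = u g) : Nat.card H * ((Nat.card E : ℂ)⁻¹ * ∑ g : E, f g) =
      Nat.card H * ((Nat.card E : ℂ)⁻¹ * ∑ g : E, u g) + c := by
  classical
  have h3 : Nat.card E = Nat.card h.rE.ker * Nat.card H := by
    rw [← h.rE.ker.card_mul_index, index_ker, h.range_rE]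
  have h4 : ∑ g : E, f g = ∑ g : E, u g + Nat.card h.rE.ker * c := by
    rw [Nat.card_eq_fintype_card, Fintype.card_subtype, ← nsmul_eq_mul, ← Finset.sum_const,
      Finset.sum_filter, ← Finset.sum_add_distrib]
    refine Finset.sum_congr rfl fun g _ => ?_
    by_cases hg : r g = 1
    · rw [if_pos (show g ∈ h.rE.ker from hg), h1 g g.2 ((h.r_eq_one_iff' g.2).1 hg)]
    · rw [if_neg (show g ∉ h.rE.ker from hg), h2 g g.2 hg, add_zero]
  have := card_ne_zero h.rE.ker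
  have := card_ne_zero H
  rw [h4, h3, Nat.cast_mul]
  field_simp

theorem inner_N [Fintype N] [Fintype E] (f : G → ℂ) :
    (Nat.card N : ℂ)⁻¹ * ∑ n : N, f n = (Nat.card E : ℂ)⁻¹ * ∑ g : E, lam p x f g := by
  rw [h.sum_N, h.card_N, Nat.cast_mul, mul_inv, mul_comm (p : ℂ)⁻¹, mul_assoc, Finset.mul_sum]
  rfl

theorem isCharacter_lam {χ : G → ℂ} (hχ : IsCharacter G χ) :
    IsCharacter E fun g => lam p x χ g := by
  have := Fintype.ofFinite (zpowers x)
  have h1 := UD.isCharacter_avg' hχ (zpowers x) E (h.hxP ▸ h.le)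
  have h2 : ∀ g : E, (Nat.card (zpowers x) : ℂ)⁻¹ * ∑ y : zpowers x, χ (g * y) = lam p x χ g :=
    fun g => by
      rw [Nat.card_zpowers, h.hx, sum_xp h.hx fun y => χ (g * y), lam]
      simp only [hχ.isClassFunction.apply_mul_comm (g : G)]
  rwa [funext h2] at h1

omit h [Finite G] in
theorem lam_center {f : G → ℂ} {z : G} (hz : z ∈ center G) (hf : z ∈ charKer f) :
    lam p x f z = lam p x f 1 := by
  simp only [lam, mem_center_iff.1 hz, apply_mul_of_mem_charKer hf, mul_one]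

variable {ψ : AddChar (ZMod p) ℂ} {ε : ℤ} {ξ ζ₁ ζ₂ : G → ℂ}

theorem deg (e : Ex x H ψ ε ξ) : ∃ m : ℕ, lam p x ξ 1 = m ∧ ξ 1 = m * p + ε * Nat.card H := by
  obtain ⟨m, hm, -⟩ := exists_mult h.hx e.irr.isCharacter 1
  simp only [AddChar.one_apply, mul_one] at hm
  have e1 := sum_eq_zero_term (p := p) (f := fun j => ξ (xp x j) - ε * eta H ψ j)
    fun j hj => by rw [e.val j hj, sub_self]
  simp only [Finset.sum_sub_distrib, hm, ← Finset.mul_sum, sum_eta e.ne, xp_zero, eta_zero] at e1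
  refine ⟨m, ?_, by linear_combination -e1⟩
  simp only [lam, mul_one, hm]
  exact inv_mul_cancel_left₀ (Nat.cast_ne_zero.2 hp.out.ne_zero) _

theorem exists_ex (e : Ex x H ψ ε ξ) {a : ZMod p} (ha : a ≠ 0) :
    ∃ ξ', Ex x H (ψ.mulShift a) ε ξ' ∧ ∀ g ∈ E, lam p x ξ' g = lam p x ξ g := by
  obtain ⟨ξ', h1, h2, h3⟩ := exists_tw h.hx e.irr ha
  have h4 := fun z => not_dvd_orderOf_of_mem_center P h.hxP h.hx h.nZ (z := z)
  exact ⟨ξ', ⟨h1, fun z hz => h1.mem_charKer_iff.2 (by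
    rw [h3 z (h4 z hz), h3 1 (h4 1 (one_mem _)), apply_of_mem_charKer (e.ker hz)]),
    AddChar.IsPrimitive.of_ne_one e.ne ha, e.sign, fun j hj => by
      rw [h2, e.val _ (mul_ne_zero hj ha), eta_mulShift]⟩,
    fun g hg => h.lam_tw e.irr h1 ha h2 h3 hg⟩

variable (s₁ : Sm x H ψ ζ₁) (s₂ : Sm x H (ψ.mulShift (-1)) ζ₂)
  (hl : ∀ g ∈ E, lam p x ζ₂ g = lam p x ζ₁ g)
include s₁ s₂ hl

theorem center_le : center G ≤ charKer (ζ₁ * fun g => conj (ζ₂ g)) := fun z hz g => by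
  have h1 : z ∈ E := by
    obtain ⟨⟨j, e⟩, h1⟩ := h.bij.2 ⟨z, center_le_normalizer _ hz⟩
    obtain rfl : xp x j * e = z := congrArg Subtype.val h1
    have h2 := (h.r_eq_one_iff' e.2).1 ((h.r_eq_one_iff (h.le e.2)).2 ((mul_mem_cancel_left
      (pow_mem (mem_centralizer_singleton_iff.2 rfl) _)).1 (center_le_centralizer _ hz)))
    by_cases hj : j = 0
    · rw [hj, xp_zero, one_mul]; exact e.2
    · exact absurd ((PS.zpowers_eq_of_card ((Nat.card_zpowers x).trans h.hx) (xp_mem j)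
        ((xp_eq_one_iff h.hx).not.2 hj)).ge.trans (zpowers_le.2 ((mul_mem_cancel_right h2).1 hz))
        (mem_zpowers x)) h.nZ
  simp only [Pi.mul_apply, h.apply_center_mul s₁ hz, h.apply_center_mul s₂ hz, hl z h1, map_mul]
  linear_combination ζ₁ g * conj (ζ₂ g) * h.lam_mul_conj s₁ (h.le h1)

omit h hl [Finite G] in
theorem mul_conj_eq {j : ZMod p} (hj : j ≠ 0) :
    ζ₁ (xp x j) * conj (ζ₂ (xp x j)) = eta H ψ j * eta H ψ j := by
  rw [s₁.val j hj, s₂.val j hj, eta_mulShift, map_neg, conj_eta, neg_mul_neg, mul_neg, neg_neg,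
    mul_one]

theorem le_mult [Fintype G] {s : ZMod p} (e : Ex x H (ψ.mulShift s) ε ξ) (h3 : 3 * Nat.card H ≤ p)
    {b : ℕ} (hb : classInner (ξ * ζ₁) ζ₂ = b) :
    (ε = 1 → cnt H s ≤ b) ∧ (ε = -1 → Nat.card H ≤ 2 * b + 2 * cnt H s) := by
  have := Fintype.ofFinite N
  have := Fintype.ofFinite E
  have hp0 : (p : ℂ) ≠ 0 := Nat.cast_ne_zero.2 hp.out.ne_zero
  have h1 := e.irr.isCharacter.mul s₁.irr.isCharacter
  obtain ⟨a, ha⟩ := (h1.res N).exists_nat_classInner (s₂.irr.isCharacter.res N)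
  obtain ⟨D, hD⟩ := (h1.res E).exists_nat_classInner (h.isCharacter_lam s₂.irr.isCharacter)
  obtain ⟨n, hn⟩ := e.irr.isCharacter.exists_nat_degree
  obtain ⟨m₀, -, hm₀⟩ := h.deg e
  obtain ⟨u, hu⟩ : ∃ u, u + 2 * Nat.card H = p := ⟨p - 2 * Nat.card H, by omega⟩
  obtain ⟨m, B, k1, k2, k3⟩ := h.ineqA s₁ s₂ hl e.irr e.ker hn ha hb hD hu
  have hd : ((p - Nat.card H : ℕ) : ℂ) = p - Nat.card H := Nat.cast_sub (by omega)
  set F : G → ℂ := ξ * (ζ₁ * fun g => conj (ζ₂ g)) with hF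
  have h2 : lam p x F 1 = m₀ * (p - Nat.card H) ^ 2 +
      ε * Nat.card H * (p - 2 * Nat.card H + cnt H s) := by
    have e1 := sum_eq_zero_term (p := p) (f := fun j => F (xp x j) -
      ε * (eta H ψ (j * s) * (eta H ψ j * eta H ψ j))) fun j hj => by
        rw [hF, Pi.mul_apply, Pi.mul_apply, mul_conj_eq s₁ s₂ hj, e.val j hj, eta_mulShift, mul_assoc,
          sub_self]
    simp only [Finset.sum_sub_distrib, ← Finset.mul_sum, sum_eta_cube s₁.ne, xp_zero, zero_mul,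
      eta_zero, sub_eq_iff_eq_add] at e1
    simp only [lam, mul_one, e1]
    simp only [hF, Pi.mul_apply, hm₀, s₁.deg, s₂.deg, map_natCast]
    rw [hd]
    field_simp
    ring
  have h4 := h.sum_E (f := lam p x F) (u := fun g => (ξ * ζ₁) g * conj (lam p x ζ₂ g))
    (c := lam p x F 1 - ξ 1 * (p - Nat.card H)) (fun g hg hz => by
      have h5 := h.apply_center_mul s₁ hz 1
      rw [mul_one, s₁.deg, hd] at h5
      rw [lam_center (f := F) hz fun y => congrArg₂ (· * ·) (e.ker hz y) (h.center_le s₁ s₂ hl hz y), Pi.mul_apply,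
        h5, apply_of_mem_charKer (e.ker hz), hl g hg]
      linear_combination -ξ 1 * (p - Nat.card H) * h.lam_mul_conj s₁ (h.le hg)) fun g hg hr => by
      rw [← h.apply_eq_lam (e.irr.isClassFunction.mul (s₁.irr.isClassFunction.mul
        s₂.irr.isClassFunction.conj)) (h.le hg) hr,
        ← h.apply_eq_lam s₂.irr.isClassFunction (h.le hg) hr]
      exact (mul_assoc _ _ _).symm
  rw [← h.inner_N, show _ * _ = (D : ℂ) from hD, show _ * ∑ n : N, F n = (a : ℂ) from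
    (congrArg _ (Finset.sum_congr rfl fun n _ => (mul_assoc _ _ _).symm)).trans ha, h2, hm₀] at h4
  have hu' : (p : ℂ) = u + 2 * Nat.card H := by exact_mod_cast hu.symm
  have h5 : (a : ℤ) + m₀ * (u + Nat.card H) + ε * Nat.card H = D + ε * cnt H s := by
    refine Int.cast_injective (α := ℂ) (mul_left_cancel₀ (card_ne_zero H) ?_)
    rw [hu'] at h4
    push_cast
    linear_combination h4
  have h6 : (n : ℤ) = m₀ * (u + 2 * Nat.card H) + ε * Nat.card H := by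
    refine Int.cast_injective (α := ℂ) ?_
    rw [hn, hu'] at hm₀
    exact_mod_cast hm₀
  zify at k1 k2 k3 h3 hu ⊢
  rw [← hu] at k2 h3
  have he : (0 : ℤ) ≤ Nat.card H := by positivity
  generalize (Nat.card H : ℤ) = e at *
  constructor <;> rintro rfl
  · rcases le_or_gt m m₀ with h7 | h7 <;> nlinarith
  · rcases le_or_gt m₀ m with h7 | h7 <;> nlinarith

end GD

end Cfsg.Lib.Block.Lat
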