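import Cfsg.Agent.Block.BlauSum

/-!
# The extremal case `e = t - 1` does not occur
-/

set_option autoImplicit false

namespace Cfsg.Lib.Block.Lat

open Module Subgroup Representation Polynomial IsLocalRing Matrix Cfsg.Lib.Char Cfsg.Lib.Block.TI
  Cfsg.Lib.Block.SD
open scoped ComplexConjugate

variable {p : ℕ} [hp : Fact p.Prime] {G : Type*} [Group G] {x : G} {H : Subgroup (ZMod p)ˣ}

section Lin

variable {V : Type*} [AddCommGroup V]

omit hp in
theorem eq_zero_of_irr [Finite G] [Module ℂ V] [FiniteDimensional ℂ V] (σ : Representation ℂ G V)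
    {f : End ℂ V} (h : ∀ (W : Submodule ℂ V) (hW : ∀ g, ∀ v ∈ W, σ g v ∈ W),
      (subrepresentation σ W hW).IsIrreducible → ∀ w ∈ W, f w = 0) : f = 0 := by
  refine LinearMap.ext fun v => (?_ : ∀ S : Submodule ℂ V, (∀ g, ∀ v ∈ S, σ g v ∈ S) →
    ∀ v ∈ S, f v = 0) ⊤ (fun _ _ _ => trivial) v trivial
  intro S
  induction S using WellFoundedLT.induction with | ind S ih => ?_
  intro hS
  by_cases h0 : S = ⊥
  · simp [h0]
  by_cases h1 : (subrepresentation σ S hS).IsIrreducible
  · exact h S hS h1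
  rw [Char.isIrreducible_iff, not_and] at h1
  obtain ⟨W, h2⟩ := not_forall.1 (h1 (Submodule.nontrivial_iff_ne_bot.2 h0))
  obtain ⟨hW, h2⟩ := Classical.not_imp.1 h2
  obtain ⟨W', hc, hW'⟩ := exists_inv_compl (subrepresentation σ S hS) ⊤ (card_ne_zero _) W
    fun g _ => hW g
  have h4 : ∀ U : Submodule ℂ S, U ≠ ⊤ → (∀ g, ∀ v ∈ U, subrepresentation σ S hS g v ∈ U) →
      ∀ v ∈ U, f v = 0 := fun U h5 h6 v hv => ih (U.map S.subtype) (by
        simpa using Submodule.map_strictMono_of_injective S.injective_subtype h5.lt_top)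
      (by rintro g _ ⟨a, ha, rfl⟩; exact ⟨_, h6 g a ha, rfl⟩) v ⟨v, hv, rfl⟩
  intro v hv
  obtain ⟨a, ha, b, hb, hab⟩ := Submodule.mem_sup.1 (hc.sup_eq_top.ge (Submodule.mem_top (x := ⟨v, hv⟩)))
  rw [← show (a : V) + b = v from congrArg Subtype.val hab, map_add,
    h4 W (fun h => h2 (.inr h)) hW a ha, h4 W' (fun h => h2 (.inl (by
      simpa [h] using hc.disjoint))) (fun g => hW' g trivial) b hb, add_zero]

variable {K : Type*} [Field K] [Module K V] [FiniteDimensional K V]

omit [FiniteDimensional K V] in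
theorem trace_cE_eq [Fintype G] (σ : Representation K G V) (L : Subgroup G) :
    LinearMap.trace K V (cE σ x H L) = L.index * LinearMap.trace K V (aeval (σ x) (nf H)) := by
  classical
  rw [cE, trN_apply, map_sum, Finset.sum_congr rfl fun s _ => by
    rw [linHom_apply', LinearMap.trace_mul_cycle, ← map_mul, inv_mul_cancel, map_one, one_mul],
    Finset.sum_const, Finset.card_univ, nsmul_eq_mul, index, Nat.card_eq_fintype_card]

omit hp [FiniteDimensional K V] in
theorem trace_aeval_congr {a b : End K V}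
    (h : ∀ k, LinearMap.trace K V (a ^ k) = LinearMap.trace K V (b ^ k)) (q : ℤ[X]) :
    LinearMap.trace K V (aeval a q) = LinearMap.trace K V (aeval b q) := by
  simp only [aeval_eq_sum_range, map_sum, map_zsmul, h]

omit hp in
theorem exists_indep_range (T : End K V) :
    ∃ f : Fin (finrank K (LinearMap.range T)) → V, LinearIndependent K fun i => T (f i) := by
  let b := finBasis K (LinearMap.range T)
  choose f hf using fun i => (b i).2
  exact ⟨f, by simp only [hf]; exact b.linearIndependent.map' _ (Submodule.ker_subtype _)⟩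

omit hp in
theorem le_finrank_range_of_indep {T : End K V} {n : ℕ} {f : Fin n → V}
    (h : LinearIndependent K fun i => T (f i)) : n ≤ finrank K (LinearMap.range T) := by
  simpa using (LinearIndependent.of_comp (v := fun i => (⟨T (f i), _, rfl⟩ : LinearMap.range T))
    (Submodule.subtype _) h).fintype_card_le_finrank

theorem rank_le_of_equiv [Fintype G] {V' : Type*} [AddCommGroup V'] [Module K V']
    [FiniteDimensional K V'] (σ : Representation K G V) (σ' : Representation K G V')
    (Θ : V ≃ₗ[K] V') (hΘ : ∀ g a, Θ (σ g a) = σ' g (Θ a)) (P L : Subgroup G) [Fintype P] [Fintype L]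
    {n : ℕ} (hn : (n : K) ≠ 0) {c : K} (hc : c = 0) :
    finrank K (LinearMap.range (cE σ x H L * ∑ y : P, σ y)) ≤
      finrank K (LinearMap.range (n • (cE σ' x H L * ∑ y : P, σ' y) - c • ∑ y : L, σ' y)) := by
  obtain ⟨u, hu⟩ := exists_indep_range (cE σ x H L * ∑ y : P, σ y)
  refine le_finrank_range_of_indep (f := fun i => (n : K)⁻¹ • Θ (u i)) ?_
  refine (iff_of_eq (congrArg (LinearIndependent K ·) (_root_.funext fun i => ?_))).1
    (hu.map' Θ.toLinearMap Θ.ker)
  rw [hc, zero_smul, sub_zero, map_smul, ← Nat.cast_smul_eq_nsmul K, LinearMap.smul_apply,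
    inv_smul_smul₀ hn]
  simp only [Function.comp_apply, LinearEquiv.coe_coe, Module.End.mul_apply, LinearMap.sum_apply,
    cE_semiconj Θ hΘ, map_sum, hΘ]

end Lin

section Red

variable {R S : Type*} [CommRing R] [CommRing S] {ι κ : Type*} [Fintype ι] [DecidableEq ι]
  [Fintype κ] [DecidableEq κ]

/-- Rectangular matrices as linear maps after a change of rings. -/
noncomputable def mlin (f : R →+* S) : Matrix ι κ R →+ ((κ → S) →ₗ[S] (ι → S)) :=
  (toLin' (R := S)).toLinearMap.toAddMonoidHom.comp f.toAddMonoidHom.mapMatrix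

omit [Fintype ι] [DecidableEq ι] in
theorem mlin_smul (f : R →+* S) (c : R) (a : Matrix ι κ R) : mlin f (c • a) = f c • mlin f a := by
  change toLin' ((c • a).map f) = f c • toLin' (a.map f)
  rw [← map_smul]
  congr 1
  ext i j
  simp

omit [Fintype ι] [DecidableEq ι] in
theorem indep_of_mlin {α : Type*} (f : R →+* S) (v : α → Matrix ι κ R) :
    LinearIndependent S (fun i => mlin f (v i)) ↔
      LinearIndependent S fun i (t : ι × κ) => f (v i t.1 t.2) := by
  let e := (LinearEquiv.curry S S ι κ).trans ((ofLinearEquiv S).trans toLin')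
  rw [← LinearMap.linearIndependent_iff e.toLinearMap e.ker]
  refine iff_of_eq (congrArg (LinearIndependent S ·) (_root_.funext fun i => ?_))
  exact congrArg (toLin' (R := S)) (Matrix.ext fun _ _ => rfl)

omit [DecidableEq ι] in
theorem finrank_range_red_le {F : Type*} [Field F] {O : ValuationSubring F}
    (T : Matrix ι κ O → Matrix ι κ O)
    {T₁ : End (ResidueField O) ((κ → ResidueField O) →ₗ[ResidueField O] (ι → ResidueField O))}
    {T₂ : End F ((κ → F) →ₗ[F] (ι → F))}
    (h₁ : ∀ a, mlin (residue O) (T a) = T₁ (mlin (residue O) a))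
    (h₂ : ∀ a, mlin O.subtype (T a) = T₂ (mlin O.subtype a)) :
    finrank (ResidueField O) (LinearMap.range T₁) ≤ finrank F (LinearMap.range T₂) := by
  obtain ⟨f, hf⟩ := exists_indep_range T₁
  choose m hm using fun i k l => residue_surjective (R := O) (toLin'.symm (f i) k l)
  have h3 : ∀ i, mlin (residue O) (T (of (m i))) = T₁ (f i) := fun i =>
    (h₁ _).trans (congrArg _ (toLin'.symm_apply_eq.1 (Matrix.ext (hm i)).symm).symm)
  have h4 := (indep_of_mlin O.subtype fun i => T (of (m i))).2 ((indep_of_red O _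
    ((indep_of_mlin (residue O) fun i => T (of (m i))).1 (by simpa only [h3] using hf))))
  simp only [h₂] at h4
  exact le_finrank_range_of_indep h4

theorem trace_nf {S : Type*} [Field S] (f : R →+* S) (A : G →* Matrix ι ι R) :
    LinearMap.trace S _ (aeval (mrep f A x) (nf H)) = f (aeval (A x) (nf H)).trace := by
  rw [show aeval (mrep f A x) (nf H) = toLin' ((aeval (A x) (nf H)).map f) from
    aeval_algHom_apply (mhom (ι := ι) f).toIntAlgHom (A x) (nf H), Matrix.trace_toLin'_eq]
  exact (AddMonoidHom.map_trace f.toAddMonoidHom _).symm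

end Red

variable [Fintype G] {P : Sylow p G} {E : Subgroup G} {r : G → (ZMod p)ˣ}

local notation "N" => normalizer ((P : Subgroup G) : Set G)

namespace GD

variable (h : GD P x H E r)
include h

theorem exists_omega {ι : Type*} [Fintype ι] [DecidableEq ι] {O : ValuationSubring ℂ}
    [CharP (ResidueField O) p] (A : G →* Matrix ι ι O) [(mrep O.subtype A).IsIrreducible]
    (hn : ¬ p ∣ Fintype.card ι) :
    ∃ w : O, residue O w = 0 ∧ cE (mrep O.subtype A) x H N = (w : ℂ) • 1 := by
  obtain ⟨c, hc⟩ := exists_eq_smul_one _ fun g =>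
    (linHom_eq_self_iff _ g _).1 (apply_trN (h.nf_inv (mrep O.subtype A)) g)
  obtain ⟨u, hu⟩ : IsUnit (Fintype.card ι : O) := by
    rw [← residue_ne_zero_iff_isUnit, map_natCast]
    exact fun h' => hn ((CharP.cast_eq_zero_iff _ p _).1 h')
  have h1 := trace_cE_eq (x := x) (H := H) (mrep O.subtype A) N
  rw [trace_nf, cE, hc, map_smul, LinearMap.trace_one, finrank_fintype_fun_eq_card] at h1
  refine ⟨(N).index * (aeval (A x) (nf H)).trace * (u⁻¹ : Oˣ), ?_, hc.trans (congrArg (· • 1) ?_)⟩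
  · obtain ⟨U, c, -, h2⟩ := nf_eq_mul H
    rw [map_mul, map_mul, ← trace_nf, (LinearMap.isNilpotent_trace_of_isNilpotent ?_).eq_zero,
      mul_zero, zero_mul]
    rw [h2, map_mul]
    refine ((Commute.all _ _).map _).isNilpotent_mul_right ?_
    rw [map_pow, map_sub, aeval_X, map_one]
    exact (isNilpotent_sub_one _ (h.hxP ▸ h.card_P)).pow_of_pos Nat.card_pos.ne'
  · have h2 := congrArg O.subtype u.mul_inv
    rw [hu, map_mul, map_natCast, map_one] at h2
    rw [← O.subtype_apply, map_mul, map_mul, map_natCast, ← h1, smul_eq_mul, mul_assoc, h2, mul_one]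

variable {V : Type*} [AddCommGroup V] [Module ℂ V] [FiniteDimensional ℂ V]
  (σ : Representation ℂ G V)

theorem cE_eq_zero [σ.IsIrreducible] (hodd : Odd (Nat.card H)) (h1 : H ≠ ⊥) {v : ℂ}
    (hv : ∀ j : ZMod p, j ≠ 0 → σ.character (xp x j) = v) : cE σ x H N = 0 := by
  obtain ⟨c, hc⟩ := exists_eq_smul_one σ fun g =>
    (linHom_eq_self_iff _ g _).1 (apply_trN (h.nf_inv σ) g)
  have h2 := trace_aeval_congr (a := σ x⁻¹) (b := σ x) (fun k => by
    rw [← map_pow, ← map_pow, inv_pow, ← xp_natCast h.hx, ← xp_neg h.hx]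
    by_cases hk : (k : ZMod p) = 0
    · rw [hk, neg_zero]
    · exact (hv _ (neg_ne_zero.2 hk)).trans (hv _ hk).symm) (nf H)
  rw [nf_inv_eq h.hx hodd h1, map_neg, neg_eq_iff_add_eq_zero, add_self_eq_zero] at h2
  have h3 := trace_cE_eq (x := x) (H := H) σ N
  have := nontrivial_of_irr σ
  rw [h2, mul_zero, cE, hc, map_smul, LinearMap.trace_one, smul_eq_zero] at h3
  exact hc.trans (by rw [h3.resolve_right (Nat.cast_ne_zero.2 finrank_pos.ne'), zero_smul])

theorem finrank_inv [Fintype E] : (finrank ℂ (invariants (σ.comp (N).subtype)) : ℂ) =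
    classInner (fun g : E => lam p x σ.character g) fun _ => 1 := by
  have := Fintype.ofFinite N
  have : Invertible (Nat.card N : ℂ) := invertibleOfNonzero (card_ne_zero _)
  rw [← card_inv_mul_sum_char_eq_finrank, classInner_one_right, ← h.inner_N]
  rfl

theorem smul_sum_eq [Fintype P] [Fintype N] (hl : ∀ g ∈ E, lam p x σ.character g = 1) :
    Nat.card E • ∑ y : P, σ y = ∑ n : N, σ n := by
  have := Fintype.ofFinite E
  have : Invertible (Nat.card P : ℂ) := invertibleOfNonzero (card_ne_zero _)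
  have h1 := h.finrank_inv σ
  have h2 := card_inv_mul_sum_char_eq_finrank (σ.comp (P : Subgroup G).subtype)
  have h3 := hl 1 (one_mem _)
  rw [_root_.funext fun g : E => hl g g.2, classInner_one_one, ← h3, lam] at h1
  simp only [mul_one] at h1
  have hxP := h.hxP
  have hc := h.card_P
  have hN := h.card_N
  have hle : (P : Subgroup G) ≤ N := le_normalizer
  generalize N = L at *
  generalize (P : Subgroup G) = Q at *
  subst hxP
  rw [← sum_xp h.hx σ.character, ← hc] at h1
  have h4 : invariants (σ.comp L.subtype) = invariants (σ.comp (zpowers x).subtype) :=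
    Submodule.eq_of_le_of_finrank_eq (fun v hv y => hv ⟨y, hle y.2⟩)
      (Nat.cast_injective (R := ℂ) (h1.trans h2))
  refine LinearMap.ext fun v => smul_right_injective V (Nat.cast_ne_zero.2 hp.out.ne_zero :
    (p : ℂ) ≠ 0) ?_
  have h5 : norm (σ.comp (zpowers x).subtype) v ∈ invariants (σ.comp L.subtype) :=
    h4.ge fun y => self_norm_apply _ y v
  have h6 : norm (σ.comp L.subtype) (norm (σ.comp (zpowers x).subtype) v) =
      (p : ℂ) • norm (σ.comp L.subtype) v := by
    rw [norm.eq_1 (σ.comp (zpowers x).subtype), LinearMap.sum_apply, map_sum]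
    refine (Finset.sum_congr rfl fun (y : zpowers x) _ =>
      norm_self_apply (σ.comp L.subtype) ⟨y, hle y.2⟩ v).trans ?_
    rw [Finset.sum_const, Finset.card_univ, ← Nat.card_eq_fintype_card, hc, Nat.cast_smul_eq_nsmul]
  rw [norm.eq_1 (σ.comp L.subtype), LinearMap.sum_apply, Finset.sum_congr rfl fun (n : L) _ => h5 n,
    Finset.sum_const, Finset.card_univ, ← Nat.card_eq_fintype_card, hN, mul_smul,
    ← Nat.cast_smul_eq_nsmul ℂ p] at h6
  exact h6

theorem two_le_finrank {U : Type*} [AddCommGroup U] [Module ℂ U] [FiniteDimensional ℂ U]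
    (τ : Representation ℂ G U) [τ.IsIrreducible] (hl : ∀ g ∈ E, lam p x τ.character g = 1) {c : ℂ}
    (hc : cE τ x H N = c • 1) {b : ℕ} (hb : classInner σ.character τ.character = b) :
    b ≤ finrank ℂ ↥(invariants (σ.comp (N).subtype) ⊓ LinearMap.ker (cE σ x H N - c • 1)) := by
  have := Fintype.ofFinite E
  have h1 := h.finrank_inv τ
  rw [_root_.funext fun g : E => hl g g.2, classInner_one_one, Nat.cast_eq_one] at h1
  obtain ⟨u, hu, hu0⟩ := (invariants (τ.comp (N).subtype)).exists_mem_ne_zero_of_ne_bot fun h0 => by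
    rw [h0, finrank_bot] at h1; omega
  rw [classInner_rep, Nat.cast_inj] at hb
  let ev : IntertwiningMap τ σ →ₗ[ℂ] V := ⟨⟨fun f => f u, fun _ _ => rfl⟩, fun _ _ => rfl⟩
  refine hb ▸ LinearMap.finrank_le_finrank_of_injective (f := ev.codRestrict _ fun f =>
    ⟨fun n => (f.isIntertwining _ _ n u).symm.trans (congrArg f (hu n)), ?_⟩) ?_
  · change cE σ x H N (f u) - c • f u = 0
    rw [← cE_semiconj f (f.isIntertwining _ _), hc, ← map_smul, sub_eq_zero]
    rfl
  · refine (injective_iff_map_eq_zero _).2 fun f hf => IntertwiningMap.ext ?_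
    exact LinearMap.ker_eq_top.1 ((eq_bot_or_top τ (LinearMap.ker f.toLinearMap) fun g v hv =>
      (f.isIntertwining _ _ g v).trans ((congrArg (σ g) hv).trans (map_zero _))).resolve_left
        fun h0 => hu0 ((Submodule.eq_bot_iff _).1 h0 u (congrArg Subtype.val hf)))

end GD

theorem GS.rank_add_le [Fintype P] [Fintype N] (h : GS P x H E r) {V : Type*} [AddCommGroup V]
    [Module ℂ V] [FiniteDimensional ℂ V] (σ : Representation ℂ G V)
    (hZ : center G ≤ charKer σ.character)
    (key : ∀ {ψ ε ξ}, Ex x H ψ ε ξ → ∀ g ∈ E, lam p x ξ g = 1) (hodd : Odd (Nat.card H))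
    (h1 : H ≠ ⊥) {c : ℂ} {b : ℕ} (hb : b ≤ finrank ℂ
      ↥(invariants (σ.comp (N).subtype) ⊓ LinearMap.ker (cE σ x H N - c • 1))) :
    finrank ℂ (LinearMap.range (Nat.card E • (cE σ x H N * ∑ y : P, σ y) - c • ∑ n : N, σ n)) + b ≤
      finrank ℂ (invariants (σ.comp (N).subtype)) := by
  have k4 : cE σ x H N * (Nat.card E • ∑ y : P, σ y - ∑ n : N, σ n) = 0 :=
    eq_zero_of_irr σ fun W hW hW' v hv => by
      have h2 := isIrrCharacter_rep (subrepresentation σ W hW)
      have h3 : (Nat.card E • ∑ y : P, σ y - ∑ n : N, σ n) v = W.subtype ((Nat.card E •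
          ∑ y : P, subrepresentation σ W hW y - ∑ n : N, subrepresentation σ W hW n) ⟨v, hv⟩) := by
        simp only [LinearMap.sub_apply, LinearMap.smul_apply, LinearMap.sum_apply, map_sub,
          map_nsmul, map_sum]
        rfl
      rw [Module.End.mul_apply, h3,
        ← cE_semiconj (σ := subrepresentation σ W hW) W.subtype fun _ _ => rfl]
      rcases h.dich h.rel h2 with ⟨v, hv⟩ | ⟨ψ, ε, h6, h7, h8⟩
      · rw [h.cE_eq_zero _ hodd h1 hv]; rfl
      · rw [h.smul_sum_eq _ (key ⟨h2, fun y hy => (mem_charKer_rep _).2 (LinearMap.ext fun u =>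
          Subtype.ext (LinearMap.congr_fun ((mem_charKer_rep σ).1 (hZ hy)) u)), h6, h7, h8⟩),
          sub_self]
        simp
  rw [mul_sub, sub_eq_zero, mul_smul_comm] at k4
  rw [k4, ← finrank_map_add (cE σ x H N - c • 1) (invariants (σ.comp (N).subtype))]
  refine add_le_add (Submodule.finrank_mono ?_) hb
  rintro _ ⟨v, rfl⟩
  exact ⟨_, fun n => self_norm_apply (σ.comp (N).subtype) n v, rfl⟩

theorem GS.not_extremal (h : GS P x H E r) {ψ' : AddChar (ZMod p) ℂ} {ζ : G → ℂ}
    (s : Sm x H ψ' ζ) (hodd : Odd (Nat.card H)) (h1 : 1 < Nat.card H)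
    (ht : p = Nat.card H * (Nat.card H + 1) + 1) {z : G} (hz : z ∈ center G) (hz' : ζ z = -ζ 1) :
    False := by
  classical
  have := Fintype.ofFinite P
  have := Fintype.ofFinite N
  have := Fintype.ofFinite E
  have hlt := h.lt
  have key : ∀ {ψ ε ξ}, Ex x H ψ ε ξ → ε = 1 ∧ ∀ g ∈ E, lam p x ξ g = 1 := fun e =>
    ((h.ex_cases s e hodd h1 ht).resolve_left (by omega)).2
  obtain ⟨ψ, ε, ξ₀, e₀⟩ := h.exists_ex' s hodd ht fun h => by
    have := Nat.le_of_dvd (by omega) h; omega
  obtain ⟨ζ₁, s₁, -, hr₁⟩ := h.exists_sm s e₀.ne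
  obtain ⟨ζ₂, s₂, hl, hr₂⟩ := h.exists_sm s₁
    (AddChar.IsPrimitive.of_ne_one e₀.ne (neg_ne_zero.2 one_ne_zero))
  obtain ⟨a, ha, ha'⟩ := exists_two_le_cnt (by omega) hodd h1
  obtain ⟨ξ, e, -⟩ := h.exists_ex e₀ ha
  obtain ⟨rfl, hξ⟩ := key e
  have hφ := s₂.irr.isCharacter.mul s₁.irr.isCharacter.conj
  obtain ⟨b, hb⟩ := hφ.exists_nat_classInner e.irr.isCharacter
  have hb' := ha'.trans ((h.le_mult s₁ s₂ hl e (by nlinarith) (b := b) (by
    rw [← conj_classInner, mul_comm, classInner_mul_right, hb, map_natCast])).1 rfl)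
  obtain ⟨M, hM⟩ := Princ.exists_isPModular hp.out
  have := charP_kM hM
  obtain ⟨A₁, hA₁⟩ := exists_intRep (OM M) s₁.irr s₁.deg
  obtain ⟨A₂, hA₂⟩ := exists_intRep (OM M) s₂.irr s₂.deg
  obtain ⟨m, hm, hm'⟩ := h.deg e
  rw [← hm, hξ 1 (one_mem _), one_mul, Int.cast_one, one_mul, ← Nat.cast_add] at hm'
  obtain ⟨A, hA⟩ := exists_intRep (OM M) e.irr hm'
  have := irr_mrep A hA e.irr
  have := irr_mrep A₂ hA₂ s₂.irr
  obtain ⟨w, hw, hw'⟩ := h.exists_omega A fun h' => by
    have := Nat.le_of_dvd (by omega) ((Nat.dvd_add_right dvd_rfl).1 (Fintype.card_fin _ ▸ h'))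
    omega
  set σ := linHom (mrep (OM M).subtype A₁) (mrep (OM M).subtype A₂)
  have hσ : σ.character = ζ₂ * fun g => conj (ζ₁ g) := _root_.funext fun g => by
    rw [char_linHom, trace_mrep, trace_mrep, mul_comm]
    exact congrArg₂ _ (hA₂ g) ((hA₁ _).trans (s₁.irr.isCharacter.apply_inv g))
  have hU : (mrep (OM M).subtype A).character = ξ :=
    _root_.funext fun g => (trace_mrep _ A g).trans (hA g)
  have k1 := h.two_le_finrank σ _ (hU ▸ hξ) hw' (hU ▸ hσ ▸ hb)
  have k2 := h.mul_inner s₁ s₂ hl hodd isIrrCharacter_one (fun _ _ => rfl)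
    (hσ ▸ (h.finrank_inv σ).symm)
  have k3 := h.rank_add_le σ (hσ ▸ h.center_le' s₁ s₂ hl) (fun e => (key e).2) hodd
    (by rintro rfl; simp at h1) k1
  have hΓ : ∀ {S : Type} [Field S] (f : OM M →+* S) (a), mlin f ((Nat.card E • (cE (homRep A₂ A₁)
      x H N * ∑ y : P, homRep A₂ A₁ y) - w • ∑ n : N, homRep A₂ A₁ n) a) =
      (Nat.card E • (cE (linHom (mrep f A₁) (mrep f A₂)) x H N *
        ∑ y : P, linHom (mrep f A₁) (mrep f A₂) y) -
          f w • ∑ n : N, linHom (mrep f A₁) (mrep f A₂) n) (mlin f a) := fun f a => by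
    have h2 : ∀ g a, mlin f (homRep A₂ A₁ g a) = linHom (mrep f A₁) (mrep f A₂) g (mlin f a) :=
      toLin'_homRep f A₂ A₁
    simp only [LinearMap.sub_apply, LinearMap.smul_apply, LinearMap.sum_apply, map_sub,
      map_nsmul, map_sum, mlin_smul, Module.End.mul_apply, cE_semiconj (mlin f) h2, h2]
  have k5 := finrank_range_red_le _ (hΓ _) (hΓ _)
  obtain ⟨v, hv, hv'⟩ := (h.uni s₂ hA₂).gen
  obtain ⟨θ, hθ⟩ := h.exists_equiv (h.isW_red s₁ M) (h.uni s₁ hA₁)
    ⟨(h.uni s₂ hA₂).rank, (h.uni s₂ hA₂).nil, v, hv, fun g hg => hl g hg ▸ hv' g hg⟩ (by omega)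
  obtain ⟨c, hc⟩ := exists_eq_smul_one (mrep (OM M).subtype A₂) (f := mrep (OM M).subtype A₂ z)
    fun g => by rw [← map_mul, ← map_mul, mem_center_iff.1 hz]
  have hzp := fun z => not_dvd_orderOf_of_mem_center P h.hxP h.hx h.nZ (z := z)
  have h2 := (trace_mrep (OM M).subtype A₂ z).trans (hA₂ z)
  rw [character, hc, map_smul, LinearMap.trace_one, finrank_fintype_fun_eq_card, Fintype.card_fin,
    hr₂ z (hzp z hz), hr₁ z (hzp z hz), hz', s.deg, ← neg_one_mul] at h2
  replace hc : mrep (OM M).subtype A₂ z = mhom (OM M).subtype (-1) := by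
    rw [hc, mul_right_cancel₀ (s.deg ▸ s.irr.apply_one_ne_zero) h2, map_neg, map_one]
    exact LinearMap.ext fun v => neg_one_smul ℂ v
  obtain ⟨f, hf⟩ := hodd
  have k6 := h.le_rank (mrep (residue (OM M)) A₂) (h.uni s₂ hA₂).rank (h.uni s₂ hA₂).nil
    (h.pow_ne_zero' s₂ hA₂) (by omega) (fun v hv => by
      have h3 := hv z
      rw [show mrep (residue (OM M)) A₂ z = mhom (residue (OM M)) (-1) from
        congrArg (mhom _) (toLin'_map_injective hc), map_neg, map_one, LinearMap.neg_apply,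
        Module.End.one_apply, neg_eq_iff_add_eq_zero, ← two_smul (kM M), smul_eq_zero] at h3
      exact h3.resolve_left fun h4 => by
        have := Nat.le_of_dvd two_pos ((CharP.cast_eq_zero_iff (kM M) p 2).1 h4); omega) hf
    (by omega) (by have := Nat.mul_le_mul_left (Nat.card H) (show 4 ≤ Nat.card H + 1 by omega); omega)
  have k7 := k6.trans ((rank_le_of_equiv _ _ (θ.symm.arrowCongr (LinearEquiv.refl (kM M) _))
    (fun g a => LinearMap.ext fun v => congrArg (fun b => mrep (residue (OM M)) A₂ g (a b))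
      (hθ g⁻¹ v).symm) _ _ (h.card_E_ne _) hw).trans k5)
  rw [if_pos rfl] at k2
  have k8 := Nat.eq_of_mul_eq_mul_left (by omega : 0 < Nat.card H)
    (show _ * finrank ℂ (invariants (σ.comp (N).subtype)) = _ * Nat.card H by linarith)
  have := (add_le_add k7 hb').trans k3
  omega

end Cfsg.Lib.Block.Lat
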