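import Cfsg.Agent.Block.FeitUni

/-!
# Feit's inequality for characters of degree `p - e`
-/

set_option autoImplicit false

namespace Cfsg.Lib.Block.Lat

open Module Subgroup Representation Polynomial IsLocalRing Matrix Cfsg.Lib.Char Cfsg.Lib.Block.TI
  Cfsg.Lib.Block.SD
open scoped ComplexConjugate Kronecker

variable {p : ℕ} [hp : Fact p.Prime] {G : Type*} [Group G] [Finite G]

section Kron

variable {R K : Type*} [CommRing R] [Field K] {ι κ : Type*} [Fintype ι] [DecidableEq ι]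
  [Fintype κ] [DecidableEq κ]

/-- The tensor product of matrix representations. -/
def kron (A : G →* Matrix ι ι R) (B : G →* Matrix κ κ R) : G →* Matrix (ι × κ) (ι × κ) R where
  toFun g := A g ⊗ₖ B g
  map_one' := by rw [map_one, map_one, one_kronecker_one]
  map_mul' g h := by rw [map_mul, map_mul, mul_kronecker_mul]

/-- The tensor product of column vectors. -/
def tens (K ι κ : Type*) [Field K] : (ι → K) →ₗ[K] (κ → K) →ₗ[K] (ι × κ → K) :=
  LinearMap.mk₂ K (fun u w t => u t.1 * w t.2) (fun _ _ _ => funext fun _ => add_mul _ _ _)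
    (fun _ _ _ => funext fun _ => mul_assoc _ _ _) (fun _ _ _ => funext fun _ => mul_add _ _ _)
    fun _ _ _ => funext fun _ => mul_left_comm _ _ _

omit [Finite G] in
theorem mrep_kron (f : R →+* K) (A : G →* Matrix ι ι R) (B : G →* Matrix κ κ R) (g : G)
    (a : ι → K) (b : κ → K) :
    mrep f (kron A B) g (tens K ι κ a b) = tens K ι κ (mrep f A g a) (mrep f B g b) := by
  funext t
  simp only [mrep_apply, tens, kron, mulVec, dotProduct, LinearMap.mk₂_apply, MonoidHom.coe_mk,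
    OneHom.coe_mk, map_apply, kroneckerMap_apply, map_mul, Fintype.sum_prod_type,
    Finset.sum_mul_sum]
  exact Finset.sum_congr rfl fun i _ => Finset.sum_congr rfl fun j _ => by ring

theorem exists_tens_dual (c₁ : Dual K (ι → K)) (c₂ : Dual K (κ → K)) :
    ∃ γ : Dual K (ι × κ → K), ∀ a b, γ (tens K ι κ a b) = c₁ a * c₂ b := by
  refine ⟨∑ t : ι × κ, (c₁ (Pi.single t.1 1) * c₂ (Pi.single t.2 1)) • LinearMap.proj t,
    fun a b => ?_⟩
  conv_rhs => rw [← Finset.univ_sum_single a, ← Finset.univ_sum_single b]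
  simp only [LinearMap.sum_apply, LinearMap.smul_apply, LinearMap.proj_apply, tens,
    LinearMap.mk₂_apply, Fintype.sum_prod_type, map_sum, Finset.sum_mul_sum]
  refine Finset.sum_congr rfl fun i _ => Finset.sum_congr rfl fun j _ => ?_
  rw [← mul_one (a i), ← mul_one (b j), ← smul_eq_mul (a i), ← smul_eq_mul (b j), Pi.single_smul,
    Pi.single_smul, map_smul, map_smul]
  simp only [smul_eq_mul]
  ring

end Kron

namespace GD

variable {P : Sylow p G} {x : G} {H : Subgroup (ZMod p)ˣ} {E : Subgroup G} {r : G → (ZMod p)ˣ}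
  (h : GD P x H E r)
include h

local notation "N" => normalizer ((P : Subgroup G) : Set G)

theorem ineq [Fintype G] [Fintype N] [Fintype E] {ψ₁ ψ₂ ψ : AddChar (ZMod p) ℂ} {ζ₁ ζ₂ χ : G → ℂ}
    (s₁ : Sm x H ψ₁ ζ₁) (s₂ : Sm x H ψ₂ ζ₂) (s : Sm x H ψ χ) (M : Ideal AlgInt) [CharP (kM M) p]
    {i lo n : ℕ} (hi : ∀ g ∈ E, redM M (lam p x χ g) =
      redM M (lam p x ζ₁ g) * redM M (lam p x ζ₂ g) * Rk (kM M) r g ^ i)
    (h1 : lo + n ≤ p - Nat.card H) (h2 : lo + n ≤ i + 1) (h3 : i ≤ lo + (p - Nat.card H - 1))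
    {a b D : ℕ} (ha : classInner (fun n : N => (ζ₁ * ζ₂) n) (fun n : N => χ n) = a)
    (hb : classInner (ζ₁ * ζ₂) χ = b)
    (hD : classInner (fun g : E => (ζ₁ * ζ₂) g) (fun g : E => lam p x χ g) = D) :
    a + n ≤ b + D := by
  obtain ⟨A₁, hA₁⟩ := exists_intRep (OM M) s₁.irr s₁.deg
  obtain ⟨A₂, hA₂⟩ := exists_intRep (OM M) s₂.irr s₂.deg
  obtain ⟨A, hA⟩ := exists_intRep (OM M) s.irr s.deg
  have hB : ∀ g, ((kron A₁ A₂ g).trace : ℂ) = (ζ₁ * ζ₂) g := fun g => by
    rw [Pi.mul_apply, ← hA₁, ← hA₂]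
    exact congrArg _ (trace_kronecker _ _)
  have := Fintype.ofFinite (zpowers x)
  have ht := h.two
  obtain ⟨m, φ, hφ, hφ', hm⟩ := exists_proj_family_char (P := zpowers x) (kron A₁ A₂) A
    (h.hxP ▸ le_normalizer) (h.hxP ▸ h.free) hB hA ha hb
  have k1 := (h.uni s hA).le_finrank_of_proj (h.card_E_ne _) (h.isW_red s M) (h.hR _) (h.isW_Rk _)
    h.hx h.x_mem_N h.le (m := Nat.card H) (by omega) hφ hφ'
  have k2 := add_finrank_le (h.uni s₁ hA₁) (h.uni s₂ hA₂) (h.card_E_ne _) (h.isW_red s₁ M)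
    (h.isW_red s₂ M) (h.hR _) (h.isW_Rk _) h.hx
    (fun g hg => ⟨_, (h.cj g (h.le hg)).1, (h.cj g (h.le hg)).2⟩) (tens _ _ _)
    (mrep_kron _ A₁ A₂) exists_tens_dual hi (lo := lo) (n := n) (by omega) h2 h3
  have hl := h.isW_lam s
  let μ : E →* OM M :=
    { toFun := fun g => ⟨lam p x χ g, mem_OM_iff.2 (h.vM_lam s M (h.le g.2)).le⟩
      map_one' := Subtype.ext hl.one
      map_mul' := fun a b => Subtype.ext (hl.mul _ (h.le a.2) _ (h.le b.2)) }
  have k3 := finrank_wt_le (kron A₁ A₂) (h.card_E_ne _) hB μ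
    (ν := fun g => redM M (lam p x χ g)) (fun g => redM_coe (μ g)) hD
  omega

omit h [Group G] [Finite G] in
theorem eta_mulShift (ψ : AddChar (ZMod p) ℂ) (a j : ZMod p) :
    eta H (ψ.mulShift a) j = eta H ψ (j * a) := by
  have := Fintype.ofFinite H
  rw [eta_eq, eta_eq]
  exact Finset.sum_congr rfl fun h _ => by rw [AddChar.mulShift_apply]; congr 1; ring

open scoped Classical in
omit h [Group G] [Finite G] in
theorem sum_eta_mul' {ψ : AddChar (ZMod p) ℂ} (hψ : ψ ≠ 1) {a : ZMod p} (ha : a ≠ 0) (b : ZMod p) :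
    ∑ j, eta H ψ (j * a) * ψ (-(j * b)) =
      if ∃ h ∈ H, ((h : (ZMod p)ˣ) : ZMod p) = b / a then (p : ℂ) else 0 := by
  have := sum_eta_mul H hψ (b / a)
  push_cast at this
  rw [← this]
  exact Fintype.sum_equiv (Equiv.mulRight₀ a ha) _ _ fun j => by
    rw [Equiv.mulRight₀_apply, mul_assoc, mul_div_cancel₀ _ ha]

theorem inner_lam [Fintype N] {ψ : AddChar (ZMod p) ℂ} {χ : G → ℂ} (s : Sm x H ψ χ) :
    classInner (fun n : N => χ n) (fun n : N => lam p x χ n) = 1 := by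
  have := Fintype.ofFinite E
  have hp0 : (p : ℂ) ≠ 0 := Nat.cast_ne_zero.2 hp.out.ne_zero
  rw [classInner, h.sum_N fun g => χ g * conj (lam p x χ g), h.card_N,
    Finset.sum_congr rfl (g := fun _ => (p : ℂ)) fun g _ => ?_, Finset.sum_const, Finset.card_univ,
    ← Nat.card_eq_fintype_card, nsmul_eq_mul, mul_comm _ (p : ℂ), Nat.cast_mul,
    inv_mul_cancel₀ (mul_ne_zero hp0 (Nat.cast_ne_zero.2 Nat.card_pos.ne'))]
  simp only [h.lam_xp_mul]
  rw [← Finset.sum_mul, ← mul_inv_cancel_left₀ hp0 (∑ j, _), ← lam, mul_assoc,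
    h.lam_mul_conj s (h.le g.2), mul_one]

theorem sum_ineq [Fintype G] [Fintype N] [Fintype E] {φ : G → ℂ} (hφ : IsCharacter G φ)
    {ψ : AddChar (ZMod p) ℂ} (hψ : ψ ≠ 1) (T : ZMod p → IrrCharacter G)
    (hT : ∀ a, a ≠ 0 → Sm x H (ψ.mulShift a) (T a))
    (hT' : ∀ a, a ≠ 0 → ∀ g ∈ E, lam p x (T a) g = lam p x (T 1) g) {D n : ℕ}
    (hD : classInner (fun g : E => φ g) (fun g : E => lam p x (T 1) g) = D)
    (hn : ∀ a, a ≠ 0 → ∀ u v : ℕ, classInner (fun n : N => φ n) (fun n : N => (T a : G → ℂ) n) = u →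
      classInner φ (T a) = v → u + n ≤ v + D) : (p - 1) * n ≤ Nat.card H * D := by
  classical
  have hp0 : (p : ℂ) ≠ 0 := Nat.cast_ne_zero.2 hp.out.ne_zero
  have ht := h.two
  set l := lam p x (T 1 : G → ℂ)
  set J : Finset (ZMod p) := Finset.univ.erase 0
  have hJ : ∀ a ∈ J, a ≠ 0 := fun a => Finset.ne_of_mem_erase
  have hJc : J.card = p - 1 := by
    rw [Finset.card_erase_of_mem (Finset.mem_univ _), Finset.card_univ, ZMod.card]
  have hl := h.isW_lam (hT 1 one_ne_zero)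
  have hl' : IsCharacter N fun n => l n := (isIrrCharacter_monoidHom'
    (⟨⟨fun n : N => l n, hl.one⟩, fun a b => hl.mul a a.2 b b.2⟩ : N →* ℂ)).isCharacter
  obtain ⟨c, hc, hc', -⟩ := hφ.exists_nat_multiplicity
  choose u hu using fun a => (hφ.res N).exists_nat_classInner ((T a).2.isCharacter.res N)
  choose m hm using fun χ : IrrCharacter G => (χ.2.isCharacter.res N).exists_nat_classInner hl'
  have hN : classInner (fun n : N => φ n) (fun n : N => l n) = (∑ χ, c χ * m χ : ℕ) := by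
    have : (fun n : N => φ n) = ∑ χ, (c χ : ℂ) • fun n : N => (χ : G → ℂ) n :=
      funext fun n => by rw [congrFun hc' n]; simp
    simp only [this, classInner_sum_left, classInner_smul_left, hm, Nat.cast_sum, Nat.cast_mul]
  have k1 : ∑ a ∈ J, c (T a) ≤ Nat.card H * ∑ χ, c χ * m χ := by
    rw [← Finset.sum_fiberwise_of_maps_to (g := T) (t := Finset.univ) (by simp), Finset.mul_sum]
    refine Finset.sum_le_sum fun χ _ => ?_
    rw [Finset.sum_congr rfl (g := fun _ => c χ) fun a ha => by rw [(Finset.mem_filter.1 ha).2],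
      Finset.sum_const, smul_eq_mul]
    rcases (J.filter (T · = χ)).eq_empty_or_nonempty with h0 | ⟨b, hb⟩
    · simp [h0]
    rw [Finset.mem_filter] at hb
    obtain ⟨hb, rfl⟩ := hb
    have h1 := hm (T b)
    have h2 : ∀ g ∈ N, l g = lam p x (T b) g := fun g hg => by
      obtain ⟨⟨j, e⟩, h3⟩ := h.bij.2 ⟨g, hg⟩
      rw [← show _ = g from congrArg Subtype.val h3, h.lam_xp_mul, hT' b (hJ b hb) _ e.2]
      exact h.lam_xp_mul _ _ _
    rw [funext fun n : N => h2 n n.2, h.inner_lam (hT b (hJ b hb)), eq_comm, Nat.cast_eq_one] at h1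
    rw [h1, mul_one]
    refine Nat.mul_le_mul_right _ ?_
    have := Fintype.ofFinite H
    rw [Nat.card_eq_fintype_card, ← Finset.card_univ]
    refine le_trans (Finset.card_le_card fun a ha => ?_)
      (Finset.card_image_le (f := fun h : H => ((h : (ZMod p)ˣ) : ZMod p) * b))
    obtain ⟨ha, hab⟩ := Finset.mem_filter.1 ha
    have h3 := sum_eta_mul' (H := H) hψ (hJ a ha) a
    have h4 : ∀ j, eta H ψ (j * a) = eta H ψ (j * b) := fun j => by
      by_cases hj : j = 0
      · rw [hj, zero_mul, zero_mul]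
      · rw [← eta_mulShift, ← eta_mulShift, ← neg_inj, ← (hT a (hJ a ha)).val j hj,
          ← (hT b (hJ b hb)).val j hj, hab]
    rw [if_pos ⟨1, one_mem _, (div_self (hJ a ha)).symm⟩] at h3
    simp only [h4, sum_eta_mul' hψ (hJ b hb)] at h3
    split_ifs at h3 with h5
    · obtain ⟨k, hk, h5⟩ := h5
      exact Finset.mem_image.2 ⟨⟨k, hk⟩, Finset.mem_univ _, by
        rw [h5, div_mul_cancel₀ _ (hJ b hb)]⟩
    · exact absurd h3.symm hp0
  have hS : ∀ j, ∑ a ∈ J, (T a : G → ℂ) (xp x j) =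
      Nat.card H + if j = 0 then (p : ℂ) * (p - 1 - Nat.card H) else 0 := fun j => by
    split_ifs with hj
    · rw [hj, xp_zero (p := p), Finset.sum_congr rfl fun a ha => (hT a (hJ a ha)).deg, Finset.sum_const, hJc,
        nsmul_eq_mul, Nat.cast_sub (by omega), Nat.cast_sub (by omega)]
      ring
    · have h1 := sum_eta_mul' (H := H) hψ hj 0
      rw [if_neg (by rintro ⟨a, -, ha⟩; exact a.ne_zero (ha.trans (zero_div j))),
        ← Finset.add_sum_erase _ _ (Finset.mem_univ 0)] at h1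
      simp only [mul_zero, neg_zero, AddChar.map_zero_eq_one, mul_one, zero_mul, eta_zero] at h1
      rw [Finset.sum_congr rfl (g := fun a => -eta H ψ (a * j)) fun a ha => by
        rw [(hT a (hJ a ha)).val j hj, eta_mulShift, mul_comm], Finset.sum_neg_distrib]
      linear_combination -h1
  have k2 : ∑ a ∈ J, u a = (p - 1 - Nat.card H) * D + Nat.card H * ∑ χ, c χ * m χ := by
    have hE : (Nat.card E : ℂ) ≠ 0 := Nat.cast_ne_zero.2 Nat.card_pos.ne'
    refine Nat.cast_injective (R := ℂ) ?_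
    rw [Nat.cast_add, Nat.cast_mul, Nat.cast_mul, ← hN, ← hD, Nat.cast_sum,
      Finset.sum_congr rfl fun a _ => (hu a).symm, Nat.cast_sub (by omega), Nat.cast_sub (by omega)]
    simp only [classInner]
    rw [← Finset.mul_sum, Finset.sum_comm,
      h.sum_N fun g => ∑ a ∈ J, φ g * conj ((T a : G → ℂ) g), h.sum_N fun g => φ g * conj (l g),
      h.card_N, Finset.sum_congr rfl (g := fun g : E => (p - 1 - Nat.card H) * p *
        (φ g * conj (l g)) + Nat.card H * ∑ j : ZMod p, φ (xp x j * g) * conj (l (xp x j * g)))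
        fun g _ => ?_, Finset.sum_add_distrib, ← Finset.mul_sum, ← Finset.mul_sum]
    · push_cast
      field_simp
    simp only [l, h.lam_xp_mul, ← Finset.mul_sum, ← map_sum]
    by_cases hg : r g = 1
    · have hz := (h.r_eq_one_iff' g.2).1 hg
      have h1 : ∀ j : ZMod p, ∑ a ∈ J, (T a : G → ℂ) (xp x j * g) =
          l g * ∑ a ∈ J, (T a : G → ℂ) (xp x j) := fun j => by
          rw [Finset.mul_sum]
          exact Finset.sum_congr rfl fun a ha => by rw [mem_center_iff.1 hz,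
            h.apply_center_mul (hT a (hJ a ha)) hz, hT' a (hJ a ha) _ g.2]
      simp only [h1, hS, l, map_mul, map_add, map_natCast, apply_ite conj, map_sub, map_one, map_zero, mul_add,
        mul_ite, mul_zero, Finset.sum_add_distrib, Finset.sum_ite_eq', Finset.mem_univ, if_true,
        xp_zero, one_mul, ← Finset.sum_mul]
      ring
    · have h1 : ∀ j : ZMod p, ∑ a ∈ J, (T a : G → ℂ) (xp x j * g) = ∑ a ∈ J, l g := fun j =>
        Finset.sum_congr rfl fun a ha => by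
          rw [h.apply_xp_mul (T a).2.isClassFunction (h.le g.2) hg,
            h.apply_eq_lam (T a).2.isClassFunction (h.le g.2) hg, hT' a (hJ a ha) _ g.2]
      simp only [h1, l, h.apply_xp_mul hφ.isClassFunction (h.le g.2) hg, Finset.sum_const, hJc,
        Finset.card_univ, ZMod.card, nsmul_eq_mul, map_mul, map_natCast,
        Nat.cast_sub hp.out.one_le, map_sub, Nat.cast_one, map_one]
      ring
  have k3 := Finset.sum_le_sum fun a (ha : a ∈ J) => hn a (hJ a ha) _ _ (hu a) (hc (T a))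
  rw [Finset.sum_add_distrib, Finset.sum_add_distrib, Finset.sum_const, Finset.sum_const, hJc,
    smul_eq_mul, smul_eq_mul, k2, Nat.sub_mul (p - 1)] at k3
  have := Nat.mul_le_mul_right D (show Nat.card H ≤ p - 1 by omega)
  omega

variable {ψ ψ' : AddChar (ZMod p) ℂ} {ζ χ : G → ℂ} (s : Sm x H ψ ζ)
include s

theorem apply_eq {g : G} (hg : g ∈ E) :
    ζ g = lam p x ζ g * if r g = 1 then ((p - Nat.card H : ℕ) : ℂ) else 1 := by
  split_ifs with h1
  · rw [← s.deg, ← h.apply_center_mul s ((h.r_eq_one_iff' hg).1 h1), mul_one]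
  · rw [mul_one, h.apply_eq_lam s.irr.isClassFunction (h.le hg) h1]

theorem exists_fam (hZ : Odd (Nat.card (center G))) : ∃ T : ZMod p → IrrCharacter G,
    (∀ a, a ≠ 0 → Sm x H (ψ.mulShift a) (T a)) ∧
    (∀ a, a ≠ 0 → ∀ g ∈ E, lam p x (T a) g = lam p x (T 1) g) ∧
    ∀ z ∈ center G, lam p x (T 1) z = lam p x ζ z * lam p x ζ z := by
  classical
  obtain ⟨k₀, m, -, -, h2, hodd⟩ := exists_k0 G
  choose k hk hk' using exists_kj (G := G) (p := p) k₀
  have hcop : ∀ j, j ≠ 0 → (k j).Coprime (Nat.card G) := fun j hj =>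
    coprime_card_of_pow_ne_one fun g hg h1 => by
      by_cases hpg : p ∣ orderOf g
      · have := orderOf_dvd_of_pow_eq_one h1
        exact hj (by rw [← hk j, ZMod.natCast_eq_zero_iff]; exact hpg.trans this)
      rw [hk' j g hpg] at h1
      rcases hg.eq_two_or_odd' with h3 | h3
      · rw [h2 g ⟨1, by rw [pow_one, ← h3, pow_orderOf_eq_one]⟩] at h1
        rw [h1, orderOf_one] at h3
        omega
      · rw [hodd g h3] at h1
        have := (Nat.prime_dvd_prime_iff_eq hg Nat.prime_two).1 (orderOf_dvd_of_pow_eq_one h1)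
        rw [this] at h3
        exact absurd h3 (by decide)
  let T : ZMod p → IrrCharacter G := fun j =>
    if hj : j = 0 then ⟨ζ, s.irr⟩ else powI (hcop j hj) ⟨ζ, s.irr⟩
  have hT : ∀ j, j ≠ 0 → ∀ g, (T j : G → ℂ) g = ζ (g ^ k j) := fun j hj g => by
    simp only [T, dif_neg hj, powI_apply]
  have hs : ∀ a, a ≠ 0 → Sm x H (ψ.mulShift a) (T a) := fun a ha =>
    ⟨(T a).2, AddChar.IsPrimitive.of_ne_one s.ne ha, by rw [hT a ha, one_pow, s.deg], fun j hj => by
      rw [hT a ha, xp_pow h.hx, hk, s.val _ (mul_ne_zero hj ha), eta_mulShift]⟩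
  have hd : ((p - Nat.card H : ℕ) : ℂ) ≠ 0 := s.deg ▸ s.irr.apply_one_ne_zero
  refine ⟨T, hs, fun a ha g hg => ?_, fun z hz => mul_right_cancel₀ hd ?_⟩
  · have h1 := h.apply_eq (hs a ha) hg
    rw [hT a ha, hk' _ _ (h.not_dvd hg), ← hk' 1 _ (h.not_dvd hg), ← hT 1 one_ne_zero,
      h.apply_eq (hs 1 one_ne_zero) hg] at h1
    exact (mul_right_cancel₀ (by split_ifs; exacts [hd, one_ne_zero]) h1).symm
  · have h1 := h.apply_center_mul (hs 1 one_ne_zero) hz 1
    rw [mul_one, (hs 1 one_ne_zero).deg] at h1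
    rw [← h1, hT 1 one_ne_zero, hk' _ _ (not_dvd_orderOf_of_mem_center P h.hxP h.hx h.nZ hz),
      hodd z (hZ.of_dvd_nat (orderOf_dvd_natCard _ hz)), pow_two, h.apply_center_mul s hz,
      mul_assoc, ← s.deg, ← h.apply_center_mul s hz 1, mul_one]

open scoped Classical in
theorem card_mul_eq [Fintype E] (s' : Sm x H ψ' χ)
    (hz : ∀ z ∈ center G, lam p x χ z = lam p x ζ z * lam p x ζ z) {D : ℕ}
    (hD : classInner (fun g : E => (ζ * ζ) g) (fun g : E => lam p x χ g) = D) :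
    Nat.card H * D + 1 = (p - Nat.card H) ^ 2 +
      if ∀ g ∈ E, lam p x χ g = lam p x ζ g * lam p x ζ g then Nat.card H else 0 := by
  have h1 := h.isW_lam s
  have h2 := h.isW_lam s'
  let μ : E →* ℂ :=
    { toFun := fun g => lam p x ζ g * lam p x ζ g * conj (lam p x χ g)
      map_one' := by simp [h1.one, h2.one]
      map_mul' := fun a b => by
        rw [Subgroup.coe_mul, h1.mul _ (h.le a.2) _ (h.le b.2), h2.mul _ (h.le a.2) _ (h.le b.2), map_mul]
        ring }
  have hμ : ∀ g : E, μ g = 1 ↔ lam p x χ g = lam p x ζ g * lam p x ζ g := fun g => by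
    have h3 := h.lam_mul_conj s' (h.le g.2)
    exact ⟨fun h4 => mul_right_cancel₀ (right_ne_zero_of_mul_eq_one h3) (h3.trans h4.symm),
      fun h4 => (congrArg (· * conj (lam p x χ g)) h4.symm).trans h3⟩
  have h3 : Nat.card E = Nat.card h.rE.ker * Nat.card H := by
    rw [← h.rE.ker.card_mul_index, index_ker, h.range_rE]
  have h4 : ∑ g : E, (ζ * ζ) g * conj (lam p x χ g) =
      ∑ g, μ g + Nat.card h.rE.ker * (((p - Nat.card H : ℕ) : ℂ) ^ 2 - 1) := by
    rw [Nat.card_eq_fintype_card, Fintype.card_subtype, ← nsmul_eq_mul, ← Finset.sum_const,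
      Finset.sum_filter, ← Finset.sum_add_distrib]
    refine Finset.sum_congr rfl fun g _ => ?_
    rw [Pi.mul_apply, h.apply_eq s g.2]
    by_cases hg : r g = 1
    · have h5 := (hμ g).2 (hz _ ((h.r_eq_one_iff' g.2).1 hg))
      rw [if_pos hg, if_pos (show g ∈ h.rE.ker from hg), h5]
      change lam p x ζ g * lam p x ζ g * conj (lam p x χ g) = _ at h5
      linear_combination ((p - Nat.card H : ℕ) : ℂ) ^ 2 * h5
    · rw [if_neg hg, if_neg (show g ∉ h.rE.ker from hg), mul_one, add_zero]; rfl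
  rw [classInner, h4, inv_mul_eq_iff_eq_mul₀ (Nat.cast_ne_zero.2 Nat.card_pos.ne'), sum_hom_units,
    ← Nat.card_eq_fintype_card, h3] at hD
  refine Nat.cast_injective (R := ℂ) (mul_left_cancel₀
    (Nat.cast_ne_zero.2 (Nat.card_pos (α := h.rE.ker)).ne') ?_)
  by_cases h5 : μ = 1
  · rw [if_pos h5] at hD
    rw [if_pos fun g hg => (hμ ⟨g, hg⟩).1 (by rw [h5]; rfl)]
    push_cast [-Nat.cast_sub] at hD ⊢
    linear_combination -hD
  · rw [if_neg h5] at hD
    rw [if_neg fun h6 => h5 (MonoidHom.ext fun g => (hμ g).2 (h6 g g.2))]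
    push_cast [-Nat.cast_sub] at hD ⊢
    linear_combination -hD

omit s in
theorem exists_pow_eq {K : Type*} [Field K] [CharP K p] {κ : G → K} (hκ : IsW E κ)
    (h1 : ∀ z ∈ center G, z ∈ E → κ z = 1) : ∃ i < Nat.card H, ∀ g ∈ E, κ g = Rk K r g ^ i := by
  obtain ⟨⟨a, ha⟩, h2⟩ := IsCyclic.exists_monoid_generator (α := H)
  obtain ⟨g₀, hg₀, rfl⟩ := h.surj a ha
  let κ' : E →* K := ⟨⟨fun g => κ g, hκ.one⟩, fun a b => hκ.mul a a.2 b b.2⟩
  have h3 : ∀ g : E, h.rE g = 1 → κ' g = 1 := fun g hg =>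
    h1 g ((h.r_eq_one_iff' g.2).1 hg) g.2
  have : NeZero (Nat.card H) := ⟨Nat.card_pos.ne'⟩
  have h4 : IsPrimitiveRoot (Rk K r g₀) (Nat.card H) := ⟨(Rk_pow_eq_one_iff K _ _).2
    (h.r_pow_card (h.le hg₀)), fun l hl => by
      rw [← orderOf_eq_card_of_forall_mem_powers h2, orderOf_dvd_iff_pow_eq_one]
      exact Subtype.ext ((Rk_pow_eq_one_iff K _ _).1 hl)⟩
  obtain ⟨i, hi, h5⟩ := h4.eq_pow_of_pow_eq_one (ξ := κ' ⟨g₀, hg₀⟩) (by
    rw [← map_pow]
    exact h3 _ ((map_pow _ _ _).trans (h.r_pow_card (h.le hg₀))))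
  refine ⟨i, hi, fun g hg => ?_⟩
  obtain ⟨k, hk⟩ := h2 ⟨_, (h.cj g (h.le hg)).1⟩
  have h6 : r g₀ ^ k = r g := congrArg Subtype.val hk
  have h7 := h3 (⟨g, hg⟩⁻¹ * ⟨g₀, hg₀⟩ ^ k) (by
    rw [map_mul, map_inv, map_pow, inv_mul_eq_one]; exact h6.symm)
  rw [← mul_right_inj' (hκ.ne_zero hg), ← show κ' ⟨g, hg⟩ = κ g from rfl, ← map_mul,
    mul_inv_cancel_left, map_pow, ← h5, mul_one] at h7
  rw [← show κ' ⟨g, hg⟩ = κ g from rfl, ← h7, Rk, Rk, ← h6, Units.val_pow_eq_pow_val, map_pow,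
    ← pow_mul, ← pow_mul, mul_comm]

/-- **Feit (1966).** -/
theorem two_mul_add_one_eq (hZ : Odd (Nat.card (center G))) (he : 3 ≤ Nat.card H) :
    2 * Nat.card H + 1 = p := by
  classical
  have := Fintype.ofFinite G
  obtain ⟨T, hT, hT', hz⟩ := h.exists_fam s hZ
  obtain ⟨M, hM⟩ := Princ.exists_isPModular hp.out
  have := charP_kM hM
  have s' := hT 1 one_ne_zero
  have hφ := s.irr.isCharacter.mul s.irr.isCharacter
  have hl := h.isW_lam s'
  obtain ⟨D, hD⟩ := (hφ.res E).exists_nat_classInner (isIrrCharacter_monoidHom'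
    (⟨⟨fun g : E => lam p x (T 1) g, hl.one⟩, fun a b => hl.mul a (h.le a.2) b (h.le b.2)⟩ :
      E →* ℂ)).isCharacter
  have key : ∀ i lo n : ℕ, (∀ g ∈ E, redM M (lam p x (T 1) g) =
      redM M (lam p x ζ g) * redM M (lam p x ζ g) * Rk (kM M) r g ^ i) →
      lo + n ≤ p - Nat.card H → lo + n ≤ i + 1 → i ≤ lo + (p - Nat.card H - 1) →
      (p - 1) * n ≤ Nat.card H * D := fun i lo n hi h1 h2 h3 =>
    h.sum_ineq hφ s.ne T hT hT' hD fun a ha u v hu hv => h.ineq s s (hT a ha) M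
      (fun g hg => by rw [hT' a ha g hg, hi g hg]) h1 h2 h3 hu hv
      (by rw [funext fun g : E => hT' a ha g g.2]; exact hD)
  have hc := h.card_mul_eq s s' hz hD
  have h2 := h.two
  obtain ⟨t, ht⟩ := h.card_H_dvd
  have hR : ∀ g ∈ E, ∀ k, Rk (kM M) r g ^ (Nat.card H * k) = 1 := fun g hg k => by
    rw [pow_mul, (Rk_pow_eq_one_iff _ g _).2 (h.r_pow_card (h.le hg)), one_pow]
  have hm : ∀ g ∈ E, redM M (lam p x ζ g * lam p x ζ g) =
      redM M (lam p x ζ g) * redM M (lam p x ζ g) := fun g hg =>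
    redM_mul (h.vM_lam s M (h.le hg)).le (h.vM_lam s M (h.le hg)).le
  have w := h.isW_red s M
  have w' := h.isW_red s' M
  obtain ⟨i, hi, hi'⟩ := h.exists_pow_eq (κ := fun g => redM M (lam p x (T 1) g) /
      (redM M (lam p x ζ g) * redM M (lam p x ζ g))) ⟨by rw [w'.one, w.one, mul_one, div_one],
      fun a ha b hb => by rw [w'.mul a ha b hb, w.mul a ha b hb]; ring⟩
    fun z h1 h2 => by
      rw [hz z h1, hm z h2]; exact div_self (mul_ne_zero (w.ne_zero h2) (w.ne_zero h2))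
  replace hi' : ∀ g ∈ E, redM M (lam p x (T 1) g) =
      redM M (lam p x ζ g) * redM M (lam p x ζ g) * Rk (kM M) r g ^ i := fun g hg => by
    rw [← hi' g hg, mul_div_cancel₀ _ (mul_ne_zero (w.ne_zero hg) (w.ne_zero hg))]
  generalize Nat.card H = e at *
  obtain ⟨t, rfl⟩ : ∃ t', t = t' + 2 := ⟨t - 2, by
    rcases t with _ | _ | t <;> omega⟩
  have hd : p - e = e * (t + 1) + 1 := by
    rw [mul_add] at ht ⊢; omega
  rw [hd, ht] at key
  rw [hd] at hc
  split_ifs at hc with h3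
  · have := key (e * (t + 1)) 0 (e * (t + 1) + 1) (fun g hg => by
      rw [h3 g hg, hR g hg, mul_one, hm g hg]) (by omega) (by omega) (by omega)
    nlinarith
  have h4 : e * (t + 2) * (e * (t + 1) + 1 - e / 2) ≤ e * D := by
    have h5 : e ≤ e * (t + 1) := Nat.le_mul_of_pos_right _ t.succ_pos
    by_cases h6 : i ≤ e / 2
    · exact key (e * (t + 1) + i) i _ (fun g hg => by rw [pow_add, hR g hg, one_mul, hi' g hg])
        (by omega) (by omega) (by omega)
    · refine key (e * t + i) 0 _ (fun g hg => by rw [pow_add, hR g hg, one_mul, hi' g hg])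
        (by omega) ?_ ?_ <;> rw [mul_add_one] <;> omega
  rcases t with _ | t
  · omega
  have h6 : 2 * (e / 2) ≤ e := Nat.mul_div_le e 2
  obtain ⟨n, hn⟩ : ∃ n, n + e / 2 = e * (t + 1 + 1) + 1 := ⟨_, Nat.sub_add_cancel (by nlinarith)⟩
  rw [← hn, Nat.add_sub_cancel] at h4
  have h5 : (t + 3) * n ≤ (t + 2) * (e * (t + 2) + 2) :=
    Nat.le_of_mul_le_mul_left (by nlinarith) (show 0 < e by omega)
  nlinarith

end GD

end Cfsg.Lib.Block.Lat
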