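import Cfsg.Agent.Block.TuanHalf
import Cfsg.Agent.Block.FeitIneq

/-!
# Faithful irreducible characters of degree at most `p - 2`
-/

set_option autoImplicit false

namespace Cfsg.Lib.Block.Lat

open Module Subgroup Representation Polynomial IsLocalRing Matrix Cfsg.Lib.Char Cfsg.Lib.Block.TI
  Cfsg.Lib.Block.SD
open scoped MatrixGroups

variable {p : ℕ} [hp : Fact p.Prime] {G : Type*} [Group G] [Finite G] {x : G}
  {ι : Type*} [Fintype ι] [DecidableEq ι]

theorem mhom_aeval {R S : Type*} [CommRing R] [CommRing S] (f : R →+* S) (a : Matrix ι ι R)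
    (q : R[X]) : mhom f (aeval a q) = aeval (mhom f a) (q.map f) :=
  map_aeval_eq_aeval_map (RingHom.ext fun c => by
    simp only [RingHom.comp_apply, Algebra.algebraMap_eq_smul_one, mhom_smul, map_one]) q a

omit [Finite G] in
theorem nil_of_val (hx : orderOf x = p) {M : Ideal AlgInt} (hM : IsPModular p M)
    (A : G →* Matrix ι ι (OM M)) {H : Subgroup (ZMod p)ˣ} {ψ : AddChar (ZMod p) ℂ} (hψ : ψ ≠ 1)
    {m : ℂ} (h : ∀ j, ((A (xp x j)).trace : ℂ) = m * eta H ψ j) :
    (mrep (residue (OM M)) A x - 1) ^ Nat.card H = 0 := by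
  have := Fintype.ofFinite H
  have hp0 : (p : ℂ) ≠ 0 := Nat.cast_ne_zero.2 hp.out.ne_zero
  have h1 : ∀ j, ψ j ^ p ^ 1 = 1 := fun j => by
    rw [pow_one, ← AddChar.map_nsmul_eq_pow, nsmul_eq_mul, ZMod.natCast_self, zero_mul,
      AddChar.map_zero_eq_one]
  let ω : ZMod p → OM M := fun j => ⟨ψ j, mem_OM_iff.2
    (vM_eq_one_of_pow_eq_one (pow_ne_zero _ hp.out.ne_zero) (h1 j)).le⟩
  let f := ∏ a : H, (X - C (ω (a : (ZMod p)ˣ)))
  have h2 : aeval (A x) f = 0 := by
    refine toLin'_map_injective ((mhom_aeval _ _ _).trans (.trans ?_ (map_zero (mhom _)).symm))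
    set ρ := mrep (OM M).subtype A
    let e : ZMod p → End ℂ (ι → ℂ) := fun s => ∑ j, ψ (-(j * s)) • ρ (xp x j)
    have h3 : ∀ s i, ρ (xp x i) * e s = ψ (i * s) • e s := fun s i => by
      rw [Finset.mul_sum, Finset.smul_sum]
      refine Fintype.sum_equiv (Equiv.addLeft i) _ _ fun j => ?_
      rw [mul_smul_comm, ← map_mul, ← xp_add hx, smul_smul, ← AddChar.map_add_eq_mul,
        Equiv.coe_addLeft]
      congr 2
      ring
    have h4 : ∑ s, e s = (p : ℂ) • 1 := by
      rw [Finset.sum_comm, Finset.sum_eq_single 0 (fun j _ hj => ?_) (by simp)]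
      · simp [Nat.cast_smul_eq_nsmul]
      · have := AddChar.sum_mulShift (-j) (AddChar.IsPrimitive.of_ne_one hψ)
        rw [if_neg (neg_ne_zero.2 hj), Nat.cast_zero] at this
        rw [← Finset.sum_smul, ← zero_smul ℂ (ρ (xp x j)), ← this]
        simp only [mul_neg, mul_comm]
    have h5 : ∀ s (q : ℂ[X]), aeval (ρ x) q * e s = q.eval (ψ s) • e s := fun s q => by
      have h6 := h3 s 1
      rw [xp_one hx, one_mul] at h6
      induction q using Polynomial.induction_on with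
      | C a => simp [Algebra.algebraMap_eq_smul_one]
      | add a b ha hb => rw [map_add, add_mul, ha, hb, eval_add, add_smul]
      | monomial k a ih =>
        rw [pow_succ, ← mul_assoc, map_mul, aeval_X, mul_assoc, h6, mul_smul_comm, ih, smul_smul,
          eval_mul (q := X), eval_X, mul_comm]
    refine (smul_eq_zero.1 ?_).resolve_left hp0
    rw [← mul_one (aeval _ _), ← mul_smul_comm, ← h4, Finset.mul_sum]
    refine Finset.sum_eq_zero fun s _ => (h5 s _).trans ?_
    by_cases hs : ∃ a ∈ H, ((a : (ZMod p)ˣ) : ZMod p) = s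
    · obtain ⟨a, ha, rfl⟩ := hs
      rw [Polynomial.map_prod, eval_prod, Finset.prod_eq_zero (Finset.mem_univ ⟨a, ha⟩) (by simp [ω]),
        zero_smul]
    · have h6 : IsIdempotentElem ((p : ℂ)⁻¹ • e s) := by
        rw [IsIdempotentElem, smul_mul_smul_comm, Finset.sum_mul, Finset.sum_congr rfl fun i _ => by
          rw [smul_mul_assoc, h3, smul_smul, ← AddChar.map_add_eq_mul, neg_add_cancel,
            AddChar.map_zero_eq_one, one_smul], Finset.sum_const, Finset.card_univ, ZMod.card,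
          ← Nat.cast_smul_eq_nsmul ℂ, smul_smul, inv_mul_cancel_right₀ hp0]
      have h7 := sum_eta_mul H hψ s
      rw [if_neg hs, Nat.cast_zero] at h7
      rw [(smul_eq_zero.1 (LinearMap.IsIdempotentElem.eq_zero_of_trace_eq_zero h6 (by
        rw [map_smul, map_sum, Finset.sum_congr rfl (g := fun j => m * (eta H ψ j * ψ (-(j * s))))
          fun j _ => ?_, ← Finset.mul_sum, h7, mul_zero, smul_zero]
        rw [map_smul, smul_eq_mul, mul_comm, ← mul_assoc, ← h]
        exact congrArg (· * _) (trace_mrep _ A _)))).resolve_left (inv_ne_zero hp0), smul_zero]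
  have h3 := mhom_aeval (residue (OM M)) (A x) f
  rw [h2, map_zero, Polynomial.map_prod, Finset.prod_congr rfl (g := fun _ => X - 1) fun a _ => by
    rw [Polynomial.map_sub, map_X, map_C, ← redM_coe, redM_eq_one_of_pow_p_pow hM (h1 _), C_1],
    Finset.prod_const, Finset.card_univ, ← Nat.card_eq_fintype_card, map_pow, map_sub, aeval_X,
    map_one] at h3
  exact h3.symm

omit hp in
theorem eq_one_of_red {F : Type*} [Field F] {O : ValuationSubring F} [CharP (ResidueField O) p]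
    (A : G →* Matrix ι ι O) {g : G} (hg : ¬ p ∣ orderOf g) (h : mrep (residue O) A g = 1) :
    A g = 1 := by
  have h1 := finrank_invariants_red_le (A.comp (zpowers g).subtype) fun h' =>
    hg (Nat.card_zpowers g ▸ (CharP.cast_eq_zero_iff _ p _).1 h')
  rw [show invariants (mrep (residue O) (A.comp (zpowers g).subtype)) = ⊤ from
    eq_top_iff.2 fun v _ y => LinearMap.congr_fun
      ((zpowers_le (H := (mrep (residue O) A).ker)).2 h y.2) v, finrank_top,
    finrank_fintype_fun_eq_card, ← finrank_fintype_fun_eq_card F] at h1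
  have h2 := Submodule.eq_top_of_finrank_eq (le_antisymm (Submodule.finrank_le _) h1)
  exact toLin'_map_injective ((LinearMap.ext fun v => h2.ge (Submodule.mem_top (x := v))
    ⟨g, mem_zpowers g⟩).trans (map_one (mhom O.subtype)).symm)

theorem two_mul_le_of_dvd {e : ℕ} (h : e ∣ p - 1) (h' : e + 1 ≠ p) : 2 * e + 1 ≤ p := by
  obtain ⟨t, ht⟩ := h
  have := hp.out.two_le
  rcases t with _ | _ | t
  · omega
  · omega
  · rw [mul_add, mul_add] at ht; omega

variable {P : Sylow p G} {ζ : G → ℂ} {H : Subgroup (ZMod p)ˣ} {ψ : AddChar (ZMod p) ℂ}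

theorem le_of_val (hz : zpowers x = P) (hP : Nat.card P = p) (hnn : ¬ (P : Subgroup G).Normal)
    (hζ : IsIrrCharacter G ζ) (hf : ∀ g, ζ g = ζ 1 → g = 1) (hd : charDegree ζ + 2 ≤ p)
    (hψ : ψ ≠ 1) {m : ℂ} (h : ∀ j, ζ (xp x j) = m * eta H ψ j) (h2 : 2 * Nat.card H ≤ p) :
    p - 1 ≤ 2 * (centralizer {x}).relIndex (normalizer ((P : Subgroup G) : Set G)) := by
  obtain ⟨M, hM⟩ := Princ.exists_isPModular hp.out
  have := charP_kM hM
  obtain ⟨A, hA⟩ := exists_intRep (OM M) hζ (Princ.charDegree_cast hζ.isCharacter).symm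
  refine (psl2_of_nil (sp_of_char hz hζ.isCharacter hf hd) (mrep (residue (OM M)) A)
    (fun h' => hnn ?_) (nil_of_val ((Nat.card_zpowers x).symm.trans (hz ▸ hP)) hM A hψ
      fun j => (hA _).trans (h j)) h2 (by simp; omega) hz hP hnn rfl).1
  have h3 : IsPGroup p (mrep (residue (OM M)) A).ker := fun z => by
    obtain ⟨k, m, hm, hkm⟩ := Nat.exists_eq_pow_mul_and_not_dvd (orderOf_pos z).ne' p hp.out.ne_one
    refine ⟨k, Subtype.ext (hf _ ?_)⟩
    rw [← hA, ← hA, map_one, eq_one_of_red A (p := p) ?_ (z ^ p ^ k).2]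
    rwa [orderOf_coe, orderOf_pow_of_dvd (pow_ne_zero _ hp.out.ne_zero)
      (hkm ▸ dvd_mul_right _ _), hkm, Nat.mul_div_cancel_left _ (pow_pos hp.out.pos _)]
  rw [← P.is_maximal' h3 (hz ▸ zpowers_le.2 h')]
  exact MonoidHom.normal_ker _

theorem psl2_of_sub {K X : Type*} [Field K] [CharP K p] [IsAlgClosed K] [AddCommGroup X]
    [Module K X] [FiniteDimensional K X] (hS : SP P x) (σ : Representation K G X)
    {W : Submodule K X} (hW : ∀ g, ∀ w ∈ W, σ g w ∈ W) {w : X} (hw : w ∈ W) (hw' : σ x w ≠ w)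
    (hd : 2 * finrank K W ≤ p) (hx : zpowers x = P) (hP : Nat.card P = p)
    (hPn : ¬ (P : Subgroup G).Normal) {e : ℕ}
    (he : (centralizer {x}).relIndex (normalizer ((P : Subgroup G) : Set G)) = e) :
    p - 1 ≤ 2 * e ∧ ((∀ a ∈ centralizer {x}, ∀ b ∈ centralizer {x}, a * b = b * a) →
      2 * e + 1 = p → Nonempty ((G ⧸ center G) ≃* PSL(2, ZMod p))) :=
  psl2_of_nil hS (subrepresentation σ W hW)
    (fun h' => hw' (congrArg Subtype.val (LinearMap.congr_fun h' ⟨w, hw⟩)))
    (pow_finrank_eq_zero (isNilpotent_sub_one _ (hx ▸ hP))) hd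
    (by have := hp.out.pos; omega) hx hP hPn he

theorem GD.psl2 {E : Subgroup G} {r : G → (ZMod p)ˣ} (h : GD P x H E r) (s : Sm x H ψ ζ)
    (hS : SP P x) (hnn : ¬ (P : Subgroup G).Normal) (hp7 : 7 < p) (h5 : 2 * Nat.card H + 1 = p)
    (hH : (centralizer {x}).relIndex (normalizer ((P : Subgroup G) : Set G)) = Nat.card H) :
    Nonempty (G ⧸ center G ≃* PSL(2, ZMod p)) := by
  obtain ⟨M, hM⟩ := Princ.exists_isPModular hp.out
  have := charP_kM hM
  obtain ⟨A, hA⟩ := exists_intRep (OM M) s.irr s.deg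
  have hu := h.uni s hA
  obtain ⟨W, hW, hW', w, hw, hw'⟩ := h.exists_five _ hu.rank hu.nil (h.pow_ne_zero' s hA)
    (by omega) (by omega) (by omega)
  have h9 : p ≠ 9 := fun h => absurd (h ▸ hp.out) (by norm_num)
  refine (psl2_of_sub hS _ hW hw hw' (by omega) h.hxP h.card_P hnn hH).2 (fun a ha b hb => ?_) h5
  obtain ⟨⟨i, y⟩, h7⟩ := (bijective_xp_mul P h.hxP h.hx h.nZ h.cent).2 ⟨a, ha⟩
  obtain ⟨⟨j, z⟩, h8⟩ := (bijective_xp_mul P h.hxP h.hx h.nZ h.cent).2 ⟨b, hb⟩
  obtain rfl : y * xp x i = a := congrArg Subtype.val h7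
  obtain rfl : z * xp x j = b := congrArg Subtype.val h8
  have h10 : ∀ (y : center G) g, Commute (y : G) g := fun y g => (mem_center_iff.1 y.2 g).symm
  exact ((h10 y _).mul_left ((h10 z _).symm.mul_right (Commute.pow_pow_self x _ _))).eq

/-- **Brauer, Tuan, Feit.** -/
theorem psl2_or_small (hp7 : 7 < p) (P : Sylow p G) (hP : Nat.card P = p)
    (hnn : ¬ (P : Subgroup G).Normal) (hζ : IsIrrCharacter G ζ)
    (hf : ∀ g, ζ g = ζ 1 → g = 1) (hd : charDegree ζ + 2 ≤ p) :
    ∃ (x : G) (H : Subgroup (ZMod p)ˣ), zpowers x = P ∧ Nat.card H = (centralizer {x}).relIndex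
      (normalizer ((P : Subgroup G) : Set G)) ∧
      ((Nonempty (G ⧸ center G ≃* PSL(2, ZMod p)) ∧ 2 * Nat.card H + 1 = p ∧
        (2 * charDegree ζ = p + 1 ∨ 2 * charDegree ζ = p - 1)) ∨
      ∃ E r ψ, GD P x H E r ∧ Sm x H ψ ζ ∧ charDegree ζ + Nat.card H = p ∧
        2 * Nat.card H + 1 < p) := by
  have : Nontrivial P := Finite.one_lt_card_iff_nontrivial.1 (by omega)
  obtain ⟨⟨x, hxP⟩, hx1⟩ := exists_ne (1 : P)
  have hx1 : x ≠ 1 := fun h => hx1 (Subtype.ext h)
  have hz := PS.zpowers_eq_of_card hP hxP hx1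
  have hx := PS.orderOf_eq_of_card hP hxP hx1
  have hZ := hζ.charCenter_eq_center_of_faithful
    (eq_bot_iff.2 fun g hg => hf g (hζ.isCharacter.mem_charKer_iff.1 hg))
  have hxZ : x ∉ center G := fun h => hnn (hz ▸ ⟨fun y hy g => by
    rwa [mem_center_iff.1 (zpowers_le.2 h hy) g, mul_inv_cancel_right]⟩)
  have hd' := (Princ.charDegree_cast hζ.isCharacter).symm
  obtain ⟨H, ψ, hψ, hH, -, h⟩ := small_degree P hz hx ⟨ζ, hζ⟩ hd' hd fun h => hx1 (hf x h)
  have ht : Nat.card H ∣ p - 1 := by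
    have := card_subgroup_dvd_card H
    rwa [Nat.card_eq_fintype_card (α := (ZMod p)ˣ), ZMod.card_units] at this
  have hd1 : 1 < charDegree ζ := by
    by_contra h1
    have h2 : charDegree ζ ≠ 0 := fun h => hζ.apply_one_ne_zero (by rw [hd', h, Nat.cast_zero])
    refine hxZ (hZ ▸ hζ.mem_charCenter_iff_commutator.2 fun g => ?_)
    have h3 : ζ 1 = 1 := by rw [hd', show charDegree ζ = 1 by omega, Nat.cast_one]
    let μ : G →* ℂ := ⟨⟨ζ, h3⟩, hζ.isCharacter.map_mul_of_apply_one h3⟩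
    exact hζ.isCharacter.mem_charKer_iff.2 ((map_commutatorElement μ.toHomUnits x g ▸ congrArg
      Units.val (commutatorElement_eq_one_iff_mul_comm.2 (mul_comm _ _))).trans h3.symm)
  refine ⟨x, H, hz, hz ▸ hH, ?_⟩
  rcases h with ⟨m, hm, h⟩ | ⟨h1, h2, h3⟩
  · have h1 : Nat.card H ≤ charDegree ζ := hm ▸ Nat.le_mul_of_pos_left _ (by
      rcases m with _ | m <;> omega)
    have h2 := two_mul_le_of_dvd ht (by omega)
    have h3 := le_of_val hz hP hnn hζ hf hd hψ h (by omega)
    rw [← hz, ← hH] at h3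
    have h4 : charDegree ζ = Nat.card H := by
      rcases m with _ | _ | m
      · omega
      · omega
      · rw [add_mul, add_mul] at hm; omega
    obtain ⟨n, ρ, hρ⟩ := hζ.isCharacter
    have h5 : finrank ℂ (Fin n → ℂ) = charDegree ζ := by
      rw [← hρ, Representation.char_one, Nat.cast_inj] at hd'
      exact hd'.trans (by rw [hρ])
    refine .inl ⟨(brauer_main (hP ▸ card_subgroup_dvd_card _) (PS.not_sq_dvd P hP)
      (fun L hL h5 => hnn ?_) ρ (injective_iff_map_eq_one ρ |>.2 fun g hg => hf g (by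
        rw [← hρ, Representation.character, hg, Representation.character, map_one ρ]))
      (by omega)).2, by omega, .inr (by omega)⟩
    rwa [eq_of_le_of_card_ge (PS.le_of_dvd_card P hP L h5.symm.dvd) (by omega)]
  have h4 := two_mul_le_of_dvd ht (by omega)
  obtain ⟨E, r, hG⟩ := exists_gd P hz hx hxZ (fun c hc hc' => hZ ▸ h3 c hc hc') hH h4
  have s : Sm x H ψ ζ := ⟨hζ, hψ, hd'.trans (congrArg _ (by omega)), h2⟩
  rcases h4.eq_or_lt with h5 | h5
  · exact .inl ⟨hG.psl2 s (sp_of_char hz hζ.isCharacter hf hd) hnn hp7 h5 (hz ▸ hH.symm), h5,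
      .inl (by omega)⟩
  · exact .inr ⟨E, r, ψ, hG, s, h1, h5⟩

end Cfsg.Lib.Block.Lat
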