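import Cfsg.Agent.Block.BlauRank
import Cfsg.Agent.Block.FeitMain

/-!
# Multiplicities of exceptional characters in products of two small characters
-/

set_option autoImplicit false

namespace Cfsg.Lib.Block.Lat

open Module Subgroup Representation Polynomial IsLocalRing Matrix Cfsg.Lib.Char Cfsg.Lib.Block.TI
  Cfsg.Lib.Block.SD
open scoped ComplexConjugate

variable {p : ℕ} [hp : Fact p.Prime] {G : Type*} [Group G] [Finite G]

omit hp in
theorem map_eq_one_of_trace {ι : Type*} [Fintype ι] [DecidableEq ι] {O : ValuationSubring ℂ}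
    (A : G →* Matrix ι ι O) {χ : G → ℂ} (hA : ∀ g, ((A g).trace : ℂ) = χ g) {z : G}
    (hz : z ∈ charKer χ) : A z = 1 :=
  toLin'_map_injective (((mem_charKer_rep (mrep O.subtype A)).1 (by
    rwa [show (mrep O.subtype A).character = χ from
      funext fun g => (trace_mrep _ A g).trans (hA g)])).trans (map_one (mhom O.subtype)).symm)

namespace GD

variable {P : Sylow p G} {x : G} {H : Subgroup (ZMod p)ˣ} {E : Subgroup G} {r : G → (ZMod p)ˣ}
  (h : GD P x H E r)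
include h

local notation "N" => normalizer ((P : Subgroup G) : Set G)

theorem ineqA [Fintype G] [Fintype N] [Fintype E] {ψ₁ ψ₂ : AddChar (ZMod p) ℂ} {ζ₁ ζ₂ ξ : G → ℂ}
    (s₁ : Sm x H ψ₁ ζ₁) (s₂ : Sm x H ψ₂ ζ₂) (hl : ∀ g ∈ E, lam p x ζ₂ g = lam p x ζ₁ g)
    (hξ : IsIrrCharacter G ξ) (hZ : center G ≤ charKer ξ) {n a b D s : ℕ} (hn : ξ 1 = n)
    (ha : classInner (fun n : N => (ξ * ζ₁) n) (fun n : N => ζ₂ n) = a)
    (hb : classInner (ξ * ζ₁) ζ₂ = b)
    (hD : classInner (fun g : E => (ξ * ζ₁) g) (fun g : E => lam p x ζ₂ g) = D)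
    (hs : s + 2 * Nat.card H = p) :
    ∃ m B, m * s ≤ B ∧ n + m * s ≤ B + m * p ∧ 2 * a + n + B ≤ 2 * b + 2 * D := by
  classical
  obtain ⟨M, hM⟩ := Princ.exists_isPModular hp.out
  have := charP_kM hM
  obtain ⟨A₁, hA₁⟩ := exists_intRep (OM M) s₁.irr s₁.deg
  obtain ⟨A₂, hA₂⟩ := exists_intRep (OM M) s₂.irr s₂.deg
  obtain ⟨A, hA⟩ := exists_intRep (OM M) hξ hn
  have hB : ∀ g, ((kron A A₁ g).trace : ℂ) = (ξ * ζ₁) g := fun g => by
    rw [Pi.mul_apply, ← hA₁, ← hA]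
    exact congrArg _ (trace_kronecker _ _)
  have := Fintype.ofFinite (zpowers x)
  have ht := h.two
  obtain ⟨m, φ, hφ, hφ', hm⟩ := exists_proj_family_char (P := zpowers x) (kron A A₁) A₂
    (h.hxP ▸ le_normalizer) (h.hxP ▸ h.free) hB hA₂ ha hb
  have k1 := (h.uni s₂ hA₂).le_finrank_of_proj (h.card_E_ne _) (h.isW_red s₂ M) (h.hR _)
    (h.isW_Rk _) h.hx h.x_mem_N h.le (m := Nat.card H) (by omega) hφ hφ'
  have k2 := range_add_ker (σ := mrep (residue (OM M)) (kron A A₁)) (h.card_E_ne _)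
    (h.isW_red s₂ M) h.hx fun g hg => ⟨_, (h.cj g (h.le hg)).1, (h.cj g (h.le hg)).2⟩
  have hl' := h.isW_lam s₂
  let μ : E →* OM M :=
    { toFun := fun g => ⟨lam p x ζ₂ g, mem_OM_iff.2 (h.vM_lam s₂ M (h.le g.2)).le⟩
      map_one' := Subtype.ext hl'.one
      map_mul' := fun a b => Subtype.ext (hl'.mul _ (h.le a.2) _ (h.le b.2)) }
  have k3 := finrank_wt_le (kron A A₁) (h.card_E_ne _) hB μ
    (ν := fun g => redM M (lam p x ζ₂ g)) (fun g => redM_coe (μ g)) hD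
  have hW : ∀ {ν : G → kM M}, IsW E ν → IsW (E.subgroupOf N) fun g => ν g := fun hν =>
    ⟨hν.one, fun a ha b hb => hν.mul a ha b hb⟩
  have hu := h.uni s₁ hA₁
  obtain ⟨v, hv, hv'⟩ := hu.gen
  obtain ⟨g₀, hg₀, -, hg₀'⟩ := h.exists_gen
  have hz : ∀ z ∈ center G, mrep (residue (OM M)) A z = 1 := fun z hz => by
    rw [mrep_eq, map_eq_one_of_trace A hA (hZ hz)]
    exact map_one (mhom _)
  obtain ⟨m', B, k4, k5, k6⟩ := tens_bound (x := (⟨x, h.x_mem_N⟩ : N)) (E := E.subgroupOf N)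
    (σ := (mrep (residue (OM M)) (kron A A₁)).comp (N).subtype)
    (σ₁ := (mrep (residue (OM M)) A).comp (N).subtype)
    (σ₂ := (mrep (residue (OM M)) A₁).comp (N).subtype) (R := fun g => Rk (kM M) r g)
    (ν := fun g => redM M (lam p x ζ₂ g)) (ν₂ := fun g => redM M (lam p x ζ₁ g)) (H := H)
    (g₀ := ⟨g₀, h.le hg₀⟩) ⟨hu.rank, hu.nil, v, hv, fun g hg => hv' g hg⟩
    (by rw [Nat.card_congr (subgroupOfEquivOfLe h.le).toEquiv]; exact h.card_E_ne _)
    (hW (h.isW_red s₁ M)) (fun g hg => by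
      obtain ⟨k, h1, h2⟩ := h.hR (kM M) g hg
      exact ⟨k, Subtype.ext h1, h2⟩) (hW (h.isW_Rk _)) ((orderOf_mk _ _).trans h.hx)
    (fun g hg => ⟨_, (h.cj g g.2).1, Subtype.ext (h.cj g g.2).2⟩) (fun g => by
      obtain ⟨⟨j, e⟩, h1⟩ := h.bij.2 g
      exact ⟨⟨x, h.x_mem_N⟩ ^ j.val, npow_mem_zpowers _ _, ⟨e, h.le e.2⟩, e.2, h1.symm⟩)
    (fun g hg => by
      obtain ⟨k, z, h1, h2⟩ := hg₀' g hg
      refine ⟨k, ?_⟩
      change mrep _ A (g : G) = mrep _ A g₀ ^ k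
      rw [h2, map_mul, hz z h1, mul_one, map_pow])
    (fun g hg => (Rk_pow_eq_one_iff _ _ _).2 (h.r_pow_card g.2)) (fun ν hν ⟨w, hw, hw'⟩ => by
      obtain ⟨i, -, hi⟩ := h.exists_pow_eq (κ := fun g => if hg : g ∈ N then (ν ⟨g, hg⟩)⁻¹ else 1)
        ⟨by rw [dif_pos (one_mem _)]; exact inv_eq_one.2 hν.one, fun a ha b hb => by
          rw [dif_pos (h.le ha), dif_pos (h.le hb), dif_pos (h.le (mul_mem ha hb)), ← mul_inv]
          exact congrArg _ (hν.mul ⟨a, h.le ha⟩ ha ⟨b, h.le hb⟩ hb)⟩ fun z h1 h2 => by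
          have h3 := hw' ⟨z, h.le h2⟩ h2
          change mrep _ A z w = _ at h3
          rw [hz z h1, ← one_smul (kM M) ((1 : End _ _) w)] at h3
          rw [dif_pos (h.le h2), ← smul_left_injective _ hw h3, inv_one]
      refine ⟨i, fun g hg => ?_⟩
      rw [← hi g hg, dif_pos g.2, mul_right_comm, mul_inv_cancel₀ (hν.ne_zero hg), one_mul, hl g hg])
    (tens _ _ _) (fun g => mrep_kron _ A A₁ g) exists_tens_dual (fun π => ⟨LinearMap.pi fun t =>
      LinearMap.proj t.1 ∘ₗ π ∘ₗ LinearMap.funLeft _ _ fun i => (i, t.2), fun a b => funext fun t => by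
        change π (fun i => a i * b t.2) t.1 = π a t.1 * b t.2
        rw [mul_comm, ← smul_eq_mul, ← Pi.smul_apply, ← map_smul]
        exact congrArg (π · t.1) (funext fun i => mul_comm _ _)⟩) (by omega) hs ⊤ fun _ _ _ => trivial
  rw [finrank_top, finrank_fintype_fun_eq_card, Fintype.card_fin] at k5 k6
  refine ⟨m', B, k4, k5, ?_⟩
  have k7 := k6.trans (Nat.mul_le_mul_left 2 (Submodule.finrank_mono (t := wt (mrep (residue (OM M))
    (kron A A₁)) E (fun g => redM M (lam p x ζ₂ g)) ⊓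
      LinearMap.ker (aeval (mrep (residue (OM M)) (kron A A₁) x) (nf H)))
    fun m hm => ⟨fun g hg => hm.1.1 ⟨g, h.le hg⟩ hg, hm.1.2⟩))
  omega

end GD

end Cfsg.Lib.Block.Lat
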