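import Cfsg.Agent.Block.LatHom
import Cfsg.Agent.Block.SmallDeg

/-!
# Uniserial modules for the normalizer of a subgroup of order `p`, and their tensor products
-/

set_option autoImplicit false

namespace Cfsg.Lib.Block.Lat

open Module Subgroup Representation Polynomial Cfsg.Lib.Block.TI Cfsg.Lib.Block.SD

section Norm

variable {p : ℕ} [hp : Fact p.Prime] {G : Type*} [Group G] {x : G}

/-- The norm polynomial. -/
noncomputable def nf (H : Subgroup (ZMod p)ˣ) : ℤ[X] :=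
  ∏ᶠ h : H, (X ^ ((h : (ZMod p)ˣ) : ZMod p).val - 1)

theorem nf_eq (H : Subgroup (ZMod p)ˣ) [Fintype H] :
    nf H = ∏ h : H, (X ^ ((h : (ZMod p)ˣ) : ZMod p).val - 1) := finprod_eq_prod_of_fintype _

omit hp in
theorem aeval_prod_congr' {A : Type*} [Ring A] (a b : A) {ι : Type*} (s : Finset ι)
    {f g : ι → ℤ[X]} (h : ∀ i ∈ s, aeval a (f i) = aeval b (g i)) :
    aeval a (∏ i ∈ s, f i) = aeval b (∏ i ∈ s, g i) := by
  classical
  induction s using Finset.induction_on with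
  | empty => simp
  | insert i s hi ih =>
    rw [Finset.prod_insert hi, Finset.prod_insert hi, map_mul, map_mul,
      h i (Finset.mem_insert_self _ _), ih fun j hj => h j (Finset.mem_insert_of_mem hj)]

theorem nf_comm (hx : orderOf x = p) {H : Subgroup (ZMod p)ˣ} {A : Type*} [Ring A] (φ : G →* A)
    {n : G} {h : (ZMod p)ˣ} (hh : h ∈ H) (hn : n * x * n⁻¹ = xp x (h : ZMod p)) :
    φ n * aeval (φ x) (nf H) = aeval (φ x) (nf H) * φ n := by
  have := Fintype.ofFinite H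
  have h1 : ∀ F : ℤ[X], φ n * aeval (φ x) F = aeval (φ (n * x * n⁻¹)) F * φ n := by
    intro F
    induction F using Polynomial.induction_on' with
    | add a b ha hb => rw [map_add, map_add, mul_add, add_mul, ha, hb]
    | monomial i r =>
      rw [aeval_monomial, aeval_monomial, ← mul_assoc, ← Algebra.commutes, mul_assoc, mul_assoc,
        ← map_pow, ← map_pow, ← map_mul, ← map_mul, conj_pow, inv_mul_cancel_right]
  rw [h1, hn, nf_eq]
  congr 1
  conv_rhs => rw [← Fintype.prod_equiv (Equiv.mulLeft (⟨h, hh⟩ : H)) _ _ fun _ => rfl]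
  refine aeval_prod_congr' _ _ _ fun a _ => ?_
  simp only [map_sub, map_pow, aeval_X, map_one]
  rw [← map_pow, ← map_pow, ← xp_mul hx]
  rfl

theorem nf_eq_mul (H : Subgroup (ZMod p)ˣ) : ∃ (U : ℤ[X]) (c : ℕ), ¬ p ∣ c ∧
    nf H = (X - 1) ^ Nat.card H * (C (c : ℤ) + (X - 1) * U) := by
  have := Fintype.ofFinite H
  let U : ℤ[X] := ∏ h : H, ∑ i ∈ Finset.range ((h : (ZMod p)ˣ) : ZMod p).val, X ^ i
  obtain ⟨U', hU⟩ := X_sub_C_dvd_sub_C_eval (a := (1 : ℤ)) (p := U)
  refine ⟨U', ∏ h : H, ((h : (ZMod p)ˣ) : ZMod p).val, fun h => ?_, ?_⟩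
  · obtain ⟨a, -, ha⟩ := (hp.out.prime.dvd_finsetProd_iff _).1 h
    rw [← ZMod.natCast_eq_zero_iff, ZMod.natCast_zmod_val] at ha
    exact Units.ne_zero _ ha
  · have h1 : U.eval 1 = ((∏ h : H, ((h : (ZMod p)ˣ) : ZMod p).val : ℕ) : ℤ) := by
      simp [U, eval_prod, eval_finsetSum]
    rw [← h1, ← map_one C, ← hU, add_sub_cancel, nf_eq, Nat.card_eq_fintype_card,
      ← Finset.card_univ, ← Finset.prod_const, ← Finset.prod_mul_distrib]
    exact Finset.prod_congr rfl fun h _ => by rw [map_one, mul_geom_sum]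

theorem exists_nf_unit (H : Subgroup (ZMod p)ˣ) {K A : Type*} [Field K] [CharP K p] [Ring A]
    [Algebra K A] {a : A} (ha : IsNilpotent (a - 1)) :
    ∃ u : Aˣ, aeval a (nf H) = (a - 1) ^ Nat.card H * u := by
  obtain ⟨U, c, hc, h⟩ := nf_eq_mul H
  have h1 : Commute (a - 1) (aeval a U) := by
    have := (Commute.all (X - 1 : ℤ[X]) U).map (aeval a)
    simpa using this
  have h2 : IsUnit (c : A) := by
    rw [← map_natCast (algebraMap K A)]
    exact (IsUnit.mk0 _ fun h => hc ((CharP.cast_eq_zero_iff K p c).1 h)).map _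
  obtain ⟨u, hu⟩ := (h1.isNilpotent_mul_right ha).isUnit_add_left_of_commute h2
    (Nat.commute_cast _ _)
  exact ⟨u, by simp [h, hu]⟩

end Norm

variable {K G V : Type*} [Field K] [Group G] [AddCommGroup V] [Module K V] {x : G}
  {E : Subgroup G} {ν μ R : G → K}

theorem finrank_map_add {V' : Type*} [AddCommGroup V'] [Module K V'] [FiniteDimensional K V]
    (T : V →ₗ[K] V') (S : Submodule K V) :
    finrank K (S.map T) + finrank K ↥(S ⊓ LinearMap.ker T) = finrank K S := by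
  have h := LinearMap.finrank_range_add_finrank_ker (T.domRestrict S)
  rwa [LinearMap.range_domRestrict, LinearMap.ker_domRestrict,
    ← Submodule.finrank_map_subtype_eq S, Submodule.map_comap_subtype] at h

/-- A function on `G` whose restriction to `E` is a linear character. -/
structure IsW (E : Subgroup G) (ν : G → K) : Prop where
  one : ν 1 = 1
  mul : ∀ a ∈ E, ∀ b ∈ E, ν (a * b) = ν a * ν b

theorem IsW.mul' (h : IsW E ν) (h' : IsW E μ) : IsW E (ν * μ) :=
  ⟨by simp [h.one, h'.one], fun a ha b hb => by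
    simp only [Pi.mul_apply, h.mul a ha b hb, h'.mul a ha b hb]; ring⟩

theorem IsW.pow (h : IsW E ν) (j : ℕ) : IsW E (ν ^ j) :=
  ⟨by simp [h.one], fun a ha b hb => by simp only [Pi.pow_apply, h.mul a ha b hb, mul_pow]⟩

theorem IsW.inv_mul (h : IsW E ν) {g : G} (hg : g ∈ E) : ν g⁻¹ * ν g = 1 := by
  rw [← h.mul _ (inv_mem hg) _ hg, inv_mul_cancel, h.one]

theorem IsW.ne_zero (h : IsW E ν) {g : G} (hg : g ∈ E) : ν g ≠ 0 :=
  right_ne_zero_of_mul_eq_one (h.inv_mul hg)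

/-- The projection on a weight space. -/
noncomputable def avg (σ : Representation K G V) (E : Subgroup G) [Fintype E] (ν : G → K) :
    End K V := (Nat.card E : K)⁻¹ • ∑ g : E, ν (g : G)⁻¹ • σ g

variable (σ : Representation K G V) [Fintype E]

theorem avg_apply (m : V) : avg σ E ν m = (Nat.card E : K)⁻¹ • ∑ g : E, ν (g : G)⁻¹ • σ g m := by
  simp [avg]

theorem avg_mem (h : IsW E ν) (m : V) : avg σ E ν m ∈ wt σ E ν := fun g hg => by
  rw [avg_apply, map_smul, smul_comm (ν g), map_sum, Finset.smul_sum (r := ν g)]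
  congr 1
  refine Fintype.sum_equiv (Equiv.mulLeft (⟨g, hg⟩ : E)) _ _ fun a => ?_
  rw [map_smul, ← Module.End.mul_apply, ← map_mul, smul_smul]
  change _ = (ν g * ν (g * a)⁻¹) • σ (g * a) m
  rw [mul_inv_rev, h.mul _ (inv_mem a.2) _ (inv_mem hg), mul_left_comm, mul_comm (ν g),
    h.inv_mul hg, mul_one]

theorem avg_sub_mem (hE : (Nat.card E : K) ≠ 0) (h : IsW E ν) {J : Submodule K V} {m : V}
    (hm : ∀ g ∈ E, σ g m - ν g • m ∈ J) : avg σ E ν m - m ∈ J := by
  have h1 : m = (Nat.card E : K)⁻¹ • ∑ g : E, ν (g : G)⁻¹ • ν g • m := by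
    rw [Finset.sum_congr rfl fun (g : E) _ => by rw [smul_smul, h.inv_mul g.2, one_smul],
      Finset.sum_const, Finset.card_univ, ← Nat.cast_smul_eq_nsmul K, ← Nat.card_eq_fintype_card,
      inv_smul_smul₀ hE]
  rw [avg_apply]
  nth_rewrite 2 [h1]
  rw [← smul_sub, ← Finset.sum_sub_distrib]
  exact J.smul_mem _ (J.sum_mem fun g _ => by rw [← smul_sub]; exact J.smul_mem _ (hm g g.2))

theorem avg_eq (hE : (Nat.card E : K) ≠ 0) (h : IsW E ν) {m : V} (hm : m ∈ wt σ E ν) :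
    avg σ E ν m = m :=
  sub_eq_zero.1 (avg_sub_mem σ hE h (J := ⊥) fun g hg => sub_eq_zero.2 (hm g hg))

theorem avg_comm {f : End K V} (hf : ∀ g ∈ E, σ g * f = f * σ g) (m : V) :
    avg σ E ν (f m) = f (avg σ E ν m) := by
  rw [avg_apply, avg_apply, map_smul, map_sum]
  congr 1
  exact Finset.sum_congr rfl fun g _ => by
    rw [map_smul, ← Module.End.mul_apply, hf g g.2, Module.End.mul_apply]

theorem avg_mem_of_inv {J : Submodule K V} (hJ : ∀ g ∈ E, ∀ m ∈ J, σ g m ∈ J) {m : V}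
    (hm : m ∈ J) : avg σ E ν m ∈ J := by
  rw [avg_apply]
  exact J.smul_mem _ (J.sum_mem fun g _ => J.smul_mem _ (hJ g g.2 m hm))

omit [Fintype E]

theorem pow_sub_one_eq {A : Type*} [Ring A] [Algebra K A] (a : A) (k : ℕ) :
    ∃ S, (a - 1) * S = S * (a - 1) ∧ a ^ k - 1 = (k : K) • (a - 1) + (a - 1) ^ 2 * S := by
  induction k with
  | zero => exact ⟨0, by simp, by simp⟩
  | succ k ih =>
    obtain ⟨S, h1, h2⟩ := ih
    refine ⟨(k : K) • 1 + S + (a - 1) * S, ?_, ?_⟩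
    · simp only [mul_add, add_mul, mul_smul_comm, smul_mul_assoc, mul_one, one_mul, mul_assoc, ← h1]
    · have : a ^ (k + 1) - 1 = (a ^ k - 1) + (a - 1) * (a ^ k - 1) + (a - 1) := by
        rw [pow_succ']; noncomm_ring
      rw [this, h2]
      simp only [Nat.cast_succ, add_smul, one_smul, mul_add, mul_smul_comm, mul_one, pow_two,
        mul_assoc]
      abel

theorem weight_pow [Finite G] {g : G} {k : ℕ} (hk : g * x * g⁻¹ = x ^ k) {c : K} {v : V}
    (hv : σ g v - c • v ∈ LinearMap.range (σ x - 1)) (j : ℕ) :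
    σ g (((σ x - 1) ^ j) v) - (c * (k : K) ^ j) • ((σ x - 1) ^ j) v ∈
      LinearMap.range ((σ x - 1) ^ (j + 1)) := by
  obtain ⟨S, h1, h2⟩ := pow_sub_one_eq (K := K) (σ x) k
  have hY := conj_sub_one σ hk
  rw [h2] at hY
  set T := σ x - 1
  induction j with
  | zero => simpa using hv
  | succ j ih =>
    obtain ⟨u, hu⟩ := ih
    rw [eq_sub_iff_add_eq'] at hu
    have hc : S * T ^ j = T ^ j * S := ((show Commute T S from h1).pow_left j).eq.symm
    refine ⟨(k : K) • u + S ((c * (k : K) ^ j) • v + T u), ?_⟩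
    rw [eq_sub_iff_add_eq', pow_succ' T j, Module.End.mul_apply, ← Module.End.mul_apply (σ g), hY,
      Module.End.mul_apply, ← hu]
    have e1 : (T ^ (j + 1)) u = (T ^ j) (T u) := by rw [pow_succ, Module.End.mul_apply]
    have e2 : ∀ z, (T ^ 2 * S) ((T ^ j) z) = (T ^ (j + 1 + 1)) (S z) := fun z => by
      rw [← Module.End.mul_apply, mul_assoc, hc, ← mul_assoc, ← pow_add, Module.End.mul_apply,
        add_comm 2 j]
    have e3 : T ((T ^ (j + 1)) u) = (T ^ (j + 1 + 1)) u := by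
      rw [pow_succ' T (j + 1), Module.End.mul_apply]
    rw [LinearMap.add_apply, LinearMap.smul_apply, map_add T, e3, e1, ← map_smul (T ^ j),
      ← map_add (T ^ j), e2, map_add, map_smul, map_smul, map_smul, smul_add, smul_smul,
      pow_succ (k : K), add_assoc]
    simp only [map_add, map_smul]
    module

/-- A module that is uniserial of length `d + 1` for `x`, with top weight `ν`. -/
structure Uni (σ : Representation K G V) (x : G) (E : Subgroup G) (d : ℕ) (ν : G → K) : Prop where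
  rank : finrank K V = d + 1
  nil : (σ x - 1) ^ (d + 1) = 0
  gen : ∃ v, ((σ x - 1) ^ d) v ≠ 0 ∧ ∀ g ∈ E, σ g v - ν g • v ∈ LinearMap.range (σ x - 1)

variable {σ} {d : ℕ}

theorem exists_coord [FiniteDimensional K V] {T : End K V} (hd : finrank K V = d + 1)
    (h : T ^ (d + 1) = 0) {v : V} (hv : (T ^ d) v ≠ 0) : ∃ c : ℕ → Dual K V,
      (∀ a ≤ d, c a ((T ^ a) v) = 1) ∧ (∀ a i, a < i → ∀ u, c a ((T ^ i) u) = 0) ∧
      (∀ z, z - c 0 z • v ∈ LinearMap.range T) ∧
      ∀ {V' : Type _} [AddCommGroup V'] [Module K V'] (f : V →ₗ[K] V'),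
        (∀ i, f ((T ^ i) v) = 0) → f = 0 := by
  let b := basisOfLinearIndependentOfCardEqFinrank (Nil.linearIndependent_pow h hv)
    (by rw [hd, Fintype.card_fin])
  have hb : ∀ i, b i = (T ^ (i : ℕ)) v := fun i => by simp [b]
  refine ⟨fun a => if ha : a < d + 1 then b.coord ⟨a, ha⟩ else 0, fun a ha => ?_,
    fun a i hai u => ?_, fun z => ?_, fun f hf => b.ext fun i => by rw [hb, hf]; rfl⟩
  · simp only
    rw [dif_pos (by omega), ← hb ⟨a, by omega⟩]; simp
  · simp only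
    split_ifs with ha
    · have : (b.coord ⟨a, ha⟩) ∘ₗ (T ^ i) = 0 := b.ext fun j => by
        rw [LinearMap.comp_apply, hb, ← Module.End.mul_apply, ← pow_add, LinearMap.zero_apply,
          Basis.coord_apply]
        by_cases hi : i + j < d + 1
        · rw [← hb ⟨_, hi⟩, b.repr_self, Finsupp.single_eq_of_ne]
          intro h'
          have := congrArg Fin.val h'
          simp only at this
          omega
        · rw [pow_eq_zero_of_le (by omega) h, LinearMap.zero_apply, map_zero, Finsupp.zero_apply]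
      exact LinearMap.congr_fun this u
    · rfl
  · refine ⟨∑ i : Fin d, b.repr z i.succ • (T ^ (i : ℕ)) v, ?_⟩
    simp only
    rw [dif_pos (by omega), eq_sub_iff_add_eq']
    conv_rhs => rw [← b.sum_repr z, Fin.sum_univ_succ]
    rw [hb, map_sum]
    refine congrArg₂ _ (by simp) (Finset.sum_congr rfl fun i _ => ?_)
    rw [hb, map_smul, Fin.val_succ, pow_succ', Module.End.mul_apply]

theorem uni_of_trace [Finite G] [FiniteDimensional K V] (hd : finrank K V = d + 1)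
    (h : (σ x - 1) ^ (d + 1) = 0) (h' : (σ x - 1) ^ d ≠ 0)
    (hR : ∀ g ∈ E, ∃ k : ℕ, g * x * g⁻¹ = x ^ k ∧ (k : K) = R g) (hR' : IsW E R)
    (hν : ∀ g ∈ E, ∀ c, σ.character g = c * ∑ j ∈ Finset.range (d + 1), R g ^ j → c = ν g) :
    Uni σ x E d ν := by
  obtain ⟨v, hv⟩ : ∃ v, ((σ x - 1) ^ d) v ≠ 0 := by
    by_contra h1
    push Not at h1
    exact h' (LinearMap.ext h1)
  obtain ⟨c, -, -, hc, -⟩ := exists_coord.{_, _, 0} hd h hv
  refine ⟨hd, h, v, hv, fun g hg => ?_⟩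
  obtain ⟨k, hk, hk'⟩ := hR g hg
  obtain ⟨S, h1, h2⟩ := pow_sub_one_eq (K := K) (σ x) k
  obtain ⟨a, ha, ha'⟩ := trace_of_regular hd h hv h1 (h2 ▸ conj_sub_one σ hk)
  have h3 := weight_pow σ hk (hc (σ g v)) d
  rw [h, LinearMap.range_zero, Submodule.mem_bot, ha', ← sub_smul, smul_eq_zero, sub_eq_zero,
    hk'] at h3
  rw [← hν g hg a (hk' ▸ ha), mul_right_cancel₀ (pow_ne_zero d (hR'.ne_zero hg))
    (h3.resolve_right hv)]
  exact hc _

theorem Uni.exists_basis [Finite G] [FiniteDimensional K V] (h : Uni σ x E d ν)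
    (hE : (Nat.card E : K) ≠ 0) (hν : IsW E ν)
    (hR : ∀ g ∈ E, ∃ k : ℕ, g * x * g⁻¹ = x ^ k ∧ (k : K) = R g) (hR' : IsW E R) :
    ∃ (w : ℕ → V) (c : ℕ → Dual K V), (∀ a, w a ∈ wt σ E (ν * R ^ a)) ∧
      (∀ a, w a ∈ LinearMap.range ((σ x - 1) ^ a)) ∧ (∀ a ≤ d, c a (w a) = 1) ∧
      (∀ a i, a < i → ∀ u, c a (((σ x - 1) ^ i) u) = 0) ∧ ((σ x - 1) ^ d) (w 0) ≠ 0 := by
  have := Fintype.ofFinite E
  obtain ⟨v, hv, hv'⟩ := h.gen
  obtain ⟨c, h1, h2, -, -⟩ := exists_coord.{_, _, 0} h.rank h.nil hv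
  have h3 : ∀ a, ∃ u, avg σ E (ν * R ^ a) (((σ x - 1) ^ a) v) =
      ((σ x - 1) ^ a) v + ((σ x - 1) ^ (a + 1)) u := fun a => by
    obtain ⟨u, hu⟩ := avg_sub_mem σ hE (hν.mul' (hR'.pow a)) fun g hg => by
      obtain ⟨k, hk, hk'⟩ := hR g hg
      have := weight_pow σ hk (hv' g hg) a
      rwa [hk'] at this
    exact ⟨u, by rw [hu, add_sub_cancel]⟩
  refine ⟨fun a => avg σ E (ν * R ^ a) (((σ x - 1) ^ a) v), c,
    fun a => avg_mem σ (hν.mul' (hR'.pow a)) _, fun a => ?_, fun a ha => ?_, h2, ?_⟩ <;> simp only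
  · obtain ⟨u, hu⟩ := h3 a
    exact ⟨v + (σ x - 1) u, by rw [hu, map_add, pow_succ, Module.End.mul_apply]⟩
  · obtain ⟨u, hu⟩ := h3 a
    rw [hu, map_add, h1 a ha, h2 a _ (by omega), add_zero]
  · obtain ⟨u, hu⟩ := h3 0
    rwa [hu, map_add, ← Module.End.mul_apply _ (_ ^ (0 + 1)), ← pow_add, h.nil,
      LinearMap.zero_apply, add_zero]

section Key

variable [Finite G] [FiniteDimensional K V] {p : ℕ} [hp : Fact p.Prime] [CharP K p]
  {V' : Type*} [AddCommGroup V'] [Module K V'] [FiniteDimensional K V']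
  {σ' : Representation K G V'} {N : Subgroup G}

/-- Projective homomorphisms from a uniserial module. -/
theorem Uni.le_finrank_of_proj [Fintype (zpowers x)] (h : Uni σ' x E d ν)
    (hE : (Nat.card E : K) ≠ 0) (hν : IsW E ν)
    (hR : ∀ g ∈ E, ∃ k : ℕ, g * x * g⁻¹ = x ^ k ∧ (k : K) = R g) (hR' : IsW E R)
    (hx : orderOf x = p) (hxN : x ∈ N) (hEN : E ≤ N) {m : ℕ} (hm : d + 1 + m ≤ p) {n : ℕ}
    {φ : Fin n → (V' →ₗ[K] V)} (hφ : LinearIndependent K φ)
    (hφ' : ∀ i, (∀ g ∈ N, linHom σ' σ g (φ i) = φ i) ∧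
      ∃ w, φ i = ∑ y : zpowers x, linHom σ' σ y w) :
    n ≤ finrank K ↥(wt σ E ν ⊓ LinearMap.range ((σ x - 1) ^ m)) := by
  obtain ⟨w, -, h1, -, -, -, h2⟩ := h.exists_basis hE hν hR hR'
  obtain ⟨-, -, -, -, h3⟩ := exists_coord h.rank h.nil h2
  have h4 : ∀ i, ∀ g ∈ N, ∀ v, σ g (φ i v) = φ i (σ' g v) := fun i g hg v => by
    conv_rhs => rw [← (hφ' i).1 g hg]
    simp [linHom_apply]
  have h5 : ∀ i, φ i (w 0) ∈ wt σ E ν ⊓ LinearMap.range ((σ x - 1) ^ m) := fun i => by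
    refine ⟨fun g hg => by rw [h4 i g (hEN hg), h1 0 g hg, map_smul, pow_zero, mul_one], ?_⟩
    obtain ⟨u, hu⟩ := (hφ' i).2
    obtain ⟨u', hu'⟩ := exists_proj_eq σ σ' rfl ((Nat.card_zpowers x).trans hx) h.nil hm u
    exact ⟨u' (w 0), by rw [hu, hu']; rfl⟩
  have h6 : LinearIndependent K fun i => φ i (w 0) := by
    rw [Fintype.linearIndependent_iff] at hφ ⊢
    refine fun c hc => hφ c (h3 _ fun j => ?_)
    induction j with
    | zero => simpa using hc
    | succ j ih =>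
      rw [pow_succ', Module.End.mul_apply, LinearMap.sub_apply, map_sub, Module.End.one_apply, ih,
        sub_zero, LinearMap.sum_apply, ← map_zero (σ x), ← ih, LinearMap.sum_apply, map_sum]
      exact Finset.sum_congr rfl fun i _ => by simp [h4 i x hxN]
  have h7 : LinearIndependent K fun i =>
      (⟨_, h5 i⟩ : ↥(wt σ E ν ⊓ LinearMap.range ((σ x - 1) ^ m))) :=
    LinearIndependent.of_comp (Submodule.subtype _) h6
  simpa using h7.fintype_card_le_finrank

variable {V₁ V₂ : Type*} [AddCommGroup V₁] [Module K V₁] [FiniteDimensional K V₁]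
  [AddCommGroup V₂] [Module K V₂] [FiniteDimensional K V₂] {σ₁ : Representation K G V₁}
  {σ₂ : Representation K G V₂} {ν₁ ν₂ : G → K}

/-- The kernel of the norm element on a tensor product of uniserial modules. -/
theorem add_finrank_le (h₁ : Uni σ₁ x E d ν₁) (h₂ : Uni σ₂ x E d ν₂)
    (hE : (Nat.card E : K) ≠ 0) (hν₁ : IsW E ν₁) (hν₂ : IsW E ν₂)
    (hR : ∀ g ∈ E, ∃ k : ℕ, g * x * g⁻¹ = x ^ k ∧ (k : K) = R g) (hR' : IsW E R)
    (hx : orderOf x = p) {H : Subgroup (ZMod p)ˣ}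
    (hH : ∀ g ∈ E, ∃ h ∈ H, g * x * g⁻¹ = xp x ((h : (ZMod p)ˣ) : ZMod p))
    (β : V₁ →ₗ[K] V₂ →ₗ[K] V) (hβ : ∀ g a b, σ g (β a b) = β (σ₁ g a) (σ₂ g b))
    (hγ : ∀ (c₁ : Dual K V₁) (c₂ : Dual K V₂), ∃ γ : Dual K V, ∀ a b, γ (β a b) = c₁ a * c₂ b)
    {i lo n : ℕ} (hi : ∀ g ∈ E, ν g = ν₁ g * ν₂ g * R g ^ i) (h1 : lo + n ≤ d + 1)
    (h2 : lo + n ≤ i + 1) (h3 : i ≤ lo + d) :
    n + finrank K ↥(wt σ E ν ⊓ LinearMap.range ((σ x - 1) ^ Nat.card H)) ≤
      finrank K (wt σ E ν) := by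
  classical
  have := Fintype.ofFinite E
  have hν : IsW E ν := ⟨by rw [hi 1 (one_mem E), hν₁.one, hν₂.one, hR'.one]; simp,
    fun a ha b hb => by
      rw [hi _ (mul_mem ha hb), hi a ha, hi b hb, hν₁.mul a ha b hb, hν₂.mul a ha b hb,
        hR'.mul a ha b hb]; ring⟩
  obtain ⟨w₁, c₁, a1, a2, a3, a4, -⟩ := h₁.exists_basis hE hν₁ hR hR'
  obtain ⟨w₂, c₂, b1, b2, b3, b4, -⟩ := h₂.exists_basis hE hν₂ hR hR'
  choose γ hγ using hγ
  set W := wt σ E ν
  set f := aeval (σ x) (nf H) with hf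
  have hfE : ∀ g ∈ E, σ g * f = f * σ g := fun g hg => by
    obtain ⟨h, hh, h4⟩ := hH g hg
    exact nf_comm hx σ hh h4
  obtain ⟨u, hu⟩ := exists_nf_unit H (K := K)
    (isNilpotent_sub_one σ ((Nat.card_zpowers x).trans hx))
  have k1 : W ⊓ LinearMap.range ((σ x - 1) ^ Nat.card H) ≤ W.map f := by
    rintro _ ⟨hm, m, rfl⟩
    refine ⟨avg σ E ν ((u⁻¹).val m), avg_mem σ hν _, ?_⟩
    rw [← avg_comm σ hfE, hf, hu, Module.End.mul_apply, ← Module.End.mul_apply u.val, Units.mul_inv,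
      Module.End.one_apply, avg_eq σ hE hν hm]
  let F : ℕ → Submodule K V := fun j => Submodule.span K
    {m | ∃ a b s t, a + b = j ∧ m = β (((σ₁ x - 1) ^ a) s) (((σ₂ x - 1) ^ b) t)}
  have hF : ∀ a b s t, β (((σ₁ x - 1) ^ a) s) (((σ₂ x - 1) ^ b) t) ∈ F (a + b) :=
    fun a b s t => Submodule.subset_span ⟨a, b, s, t, rfl, rfl⟩
  have hF1 : ∀ j, F (j + 1) ≤ F j := fun j => Submodule.span_le.2 (by
    rintro _ ⟨a, b, s, t, h, rfl⟩
    rcases a with _ | a
    · obtain rfl : b = j + 1 := by omega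
      simpa [pow_succ] using hF 0 j s ((σ₂ x - 1) t)
    · obtain rfl : j = a + b := by omega
      simpa [pow_succ] using hF a b ((σ₁ x - 1) s) t)
  have hF2 : ∀ j, ∀ m ∈ F j, (σ x - 1) m ∈ F (j + 1) := fun j =>
    (Submodule.span_le (p := (F (j + 1)).comap (σ x - 1))).2 (by
      rintro _ ⟨a, b, s, t, rfl, rfl⟩
      have e1 := hF (a + 1) b s (σ₂ x t)
      have e2 := hF a (b + 1) s t
      rw [add_right_comm] at e1
      have e3 : ((σ₂ x - 1) ^ b) (σ₂ x t) = σ₂ x (((σ₂ x - 1) ^ b) t) := by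
        rw [← Module.End.mul_apply, ← Module.End.mul_apply,
          (((Commute.refl _).sub_left (Commute.one_left _)).pow_left b).eq]
      have e4 := (F (a + b + 1)).add_mem e1 e2
      rw [e3, pow_succ', pow_succ'] at e4
      simpa [hβ] using e4)
  have hF3 : ∀ j (q : ℤ[X]), ∀ m ∈ F j, aeval (σ x) q m ∈ F j := fun j q => by
    induction q using Polynomial.induction_on with
    | C a => intro m hm; simpa using (F j).toAddSubgroup.zsmul_mem hm a
    | add a b ha hb => intro m hm; simpa using (F j).add_mem (ha m hm) (hb m hm)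
    | monomial k a ih =>
      intro m hm
      have := (F j).add_mem (hF1 j (hF2 j m hm)) hm
      rw [pow_succ, ← mul_assoc, map_mul, aeval_X]
      exact ih _ (by simpa using this)
  have hF4 : ∀ m ∈ F i, f m ∈ F (i + 1) := fun m hm => by
    obtain ⟨U, c, -, h⟩ := nf_eq_mul H
    obtain ⟨e, he⟩ := Nat.exists_eq_succ_of_ne_zero (Nat.card_pos (α := H)).ne'
    rw [hf, h, he, pow_succ, mul_right_comm, map_mul, Module.End.mul_apply]
    exact hF3 _ _ _ (by simpa using hF2 i m hm)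
  let Γ : V →ₗ[K] (Fin n → K) := LinearMap.pi fun s => γ (c₁ (lo + s)) (c₂ (i - (lo + s)))
  have hΓ : ∀ (a b : ℕ) s t (r : Fin n), lo + r < a ∨ i - (lo + r) < b →
      Γ (β (((σ₁ x - 1) ^ a) s) (((σ₂ x - 1) ^ b) t)) r = 0 := fun a b s t r h => by
    rw [LinearMap.pi_apply, hγ]
    rcases h with h | h
    · rw [a4 _ _ h, zero_mul]
    · rw [b4 _ _ h, mul_zero]
  have k2 : F (i + 1) ≤ LinearMap.ker Γ := Submodule.span_le.2 (by
    rintro _ ⟨a, b, s, t, h, rfl⟩
    exact funext fun r => hΓ a b s t r (by have := r.2; omega))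
  have k3 : (W ⊓ F i).map Γ = ⊤ := by
    rw [eq_top_iff, ← (Pi.basisFun K (Fin n)).span_eq, Submodule.span_le]
    rintro _ ⟨r, rfl⟩
    have := r.2
    obtain ⟨s, hs⟩ := a2 (lo + r)
    obtain ⟨t, ht⟩ := b2 (i - (lo + r))
    refine ⟨β (w₁ (lo + r)) (w₂ (i - (lo + r))), ⟨fun g hg => ?_, ?_⟩, funext fun r' => ?_⟩
    · rw [hβ, a1 _ g hg, b1 _ g hg, map_smul, map_smul, LinearMap.smul_apply, smul_smul, hi g hg]
      congr 1
      conv_rhs => rw [show i = (lo + r) + (i - (lo + r)) by omega]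
      simp only [Pi.mul_apply, Pi.pow_apply]
      ring
    · have h4 := hF (lo + r) (i - (lo + r)) s t
      rwa [hs, ht, show lo + r + (i - (lo + r)) = i by omega] at h4
    · rw [Pi.basisFun_apply]
      by_cases h : r' = r
      · rw [h, Pi.single_eq_same, LinearMap.pi_apply, hγ, a3 _ (by omega), b3 _ (by omega), mul_one]
      · have h4 := Fin.val_ne_of_ne h
        have := r'.2
        rw [Pi.single_eq_of_ne h, ← hs, ← ht, hΓ _ _ _ _ _ (by omega)]
  have k4 : (W ⊓ F i).map f ≤ W ⊓ F i ⊓ LinearMap.ker Γ := by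
    rintro _ ⟨m, hm, rfl⟩
    refine ⟨⟨fun g hg => ?_, hF1 i (hF4 m hm.2)⟩, k2 (hF4 m hm.2)⟩
    rw [← Module.End.mul_apply, hfE g hg, Module.End.mul_apply, hm.1 g hg, map_smul]
  have e1 := finrank_map_add f W
  have e2 := finrank_map_add f (W ⊓ F i)
  have e3 := finrank_map_add Γ (W ⊓ F i)
  have e4 := Submodule.finrank_mono k1
  have e5 := Submodule.finrank_mono k4
  have e6 := Submodule.finrank_mono
    (inf_le_inf_right (LinearMap.ker f) (inf_le_left (a := W) (b := F i)))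
  rw [k3, finrank_top, finrank_fin_fun] at e3
  omega

end Key

end Cfsg.Lib.Block.Lat
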