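import Cfsg.Agent.Block.TuanLin
import Cfsg.Agent.Block.UniTensor

/-!
# Highest weight vectors for the conjugation action of a regular unipotent element
-/

set_option autoImplicit false

namespace Cfsg.Lib.Block.Nil

open Module LinearMap Finset Cfsg.Lib.Block.TI

theorem sum_choose_mul (a m : ℕ) : ∀ b : ℕ,
    ∑ j ∈ range (m + 1), j.choose a * (m - j).choose b = (m + 1).choose (a + b + 1) := by
  induction m with
  | zero => intro b; rcases a with _ | a <;> rcases b with _ | b <;> simp [Nat.choose]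
  | succ m ih =>
    intro b
    rw [sum_range_succ, Nat.sub_self]
    rcases b with _ | b
    · have := ih 0
      simp only [Nat.choose_zero_right, mul_one] at this ⊢
      rw [this, add_comm, Nat.choose_succ_succ' (m + 1)]
    · rw [sum_congr rfl (g := fun j => j.choose a * (m - j).choose b +
        j.choose a * (m - j).choose (b + 1)) fun j hj => by
          rw [Nat.succ_sub (Nat.lt_succ_iff.1 (mem_range.1 hj)), Nat.choose_succ_succ, mul_add],
        sum_add_distrib, ih, ih, Nat.choose_succ_succ' (m + 1)]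
      simp [add_assoc]

variable {K : Type*} [Field K] {V : Type*} [AddCommGroup V] [Module K V]

theorem exists_partner_pow {u : End K V} {d : ℕ} (hd : finrank K V = d + 1) (hud : u ^ (d + 1) = 0)
    (hu : u ^ d ≠ 0) : ∃ Y : End K V, ad u (ad u Y) = -(2 : K) • u ∧
      ∀ i, trace K V (u ^ i * Y ^ i) =
        (i.factorial * i.factorial * (d + i + 1).choose (i + i + 1) : ℕ) := by
  classical
  obtain ⟨v, hv⟩ : ∃ v, (u ^ d) v ≠ 0 := by
    by_contra h
    push Not at h
    exact hu (LinearMap.ext h)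
  let b := basisOfLinearIndependentOfCardEqFinrank (linearIndependent_pow hud hv) (by simp [hd])
  have hb : ∀ i, b i = (u ^ (i : ℕ)) v := fun i => by simp [b]
  have hext : ∀ f g : End K V, (∀ i : ℕ, f ((u ^ i) v) = g ((u ^ i) v)) → f = g :=
    fun f g h => b.ext fun i => by rw [hb, h]
  let Y : End K V := b.constr K fun i => ((i : K) * (d + 1 - i)) • (u ^ ((i : ℕ) - 1)) v
  have hY : ∀ i : ℕ, Y ((u ^ i) v) = ((i : K) * (d + 1 - i)) • (u ^ (i - 1)) v := by
    intro i
    rcases lt_trichotomy i (d + 1) with h | rfl | h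
    · have := b.constr_basis K (fun i => ((i : K) * (d + 1 - i)) • (u ^ ((i : ℕ) - 1)) v) ⟨i, h⟩
      rwa [hb] at this
    · simp [hud]
    · rw [pow_eq_zero_of_le h.le hud, pow_eq_zero_of_le (by omega) hud]
      simp
  have hs : ∀ i : ℕ, u ((u ^ i) v) = (u ^ (i + 1)) v := fun i => by
    rw [pow_succ', Module.End.mul_apply]
  have hH : ∀ i : ℕ, (u * Y - Y * u) ((u ^ i) v) = ((2 : K) * i - d) • (u ^ i) v := by
    intro i
    rw [LinearMap.sub_apply, Module.End.mul_apply, Module.End.mul_apply, hs, hY, hY, map_smul,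
      Nat.add_sub_cancel]
    rcases i with _ | i
    · simp
    · rw [Nat.add_sub_cancel, hs, ← sub_smul]
      congr 1
      push_cast
      ring
  have hYi : ∀ j ≤ d, ∀ i : ℕ, (Y ^ i) ((u ^ j) v) =
      ((j.descFactorial i * (d + i - j).descFactorial i : ℕ) : K) • (u ^ (j - i)) v := by
    intro j hj i
    induction i with
    | zero => simp
    | succ i ih =>
      rw [pow_succ', Module.End.mul_apply, ih, map_smul, hY, smul_smul, Nat.descFactorial_succ,
        show d + (i + 1) - j = d + i - j + 1 by omega, Nat.succ_descFactorial_succ, Nat.sub_sub]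
      congr 1
      by_cases h : i ≤ j
      · obtain ⟨k, rfl⟩ := Nat.exists_eq_add_of_le h
        obtain ⟨l, rfl⟩ := Nat.exists_eq_add_of_le hj
        rw [show i + k + l + i - (i + k) = l + i by omega, Nat.add_sub_cancel_left]
        push_cast
        ring
      · simp [show j - i = 0 by omega]
  refine ⟨Y, hext _ _ fun i => ?_, fun i => ?_⟩
  · change (u * (u * Y - Y * u) - (u * Y - Y * u) * u) _ = _
    rw [LinearMap.sub_apply, Module.End.mul_apply, Module.End.mul_apply, hH, hs, hH, map_smul, hs,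
      ← sub_smul, LinearMap.smul_apply, hs]
    congr 1
    push_cast
    ring
  · have := Module.finite_of_finrank_eq_succ hd
    rw [← sum_choose_mul, mul_sum, ← sum_subset (s₁ := range (d + 1))
      (range_subset_range.2 (by omega)) fun j h1 h2 => by
        rw [mem_range] at h1 h2
        rw [Nat.choose_eq_zero_of_lt (show d + i - j < i by omega), mul_zero, mul_zero],
      trace_eq_matrix_trace K b, Matrix.trace, Nat.cast_sum, ← Fin.sum_univ_eq_sum_range]
    refine sum_congr rfl fun j _ => ?_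
    rw [Matrix.diag_apply, LinearMap.toMatrix_apply, hb, Module.End.mul_apply,
      hYi _ (Nat.lt_succ_iff.1 j.2), map_smul, ← Module.End.mul_apply, ← pow_add]
    by_cases h : i ≤ j
    · rw [Nat.add_sub_cancel' h, ← hb, map_smul, Basis.repr_self,
        Nat.descFactorial_eq_factorial_mul_choose, Nat.descFactorial_eq_factorial_mul_choose]
      simp only [Finsupp.smul_single, smul_eq_mul, mul_one, Finsupp.single_eq_same]
      congr 1
      ring
    · simp [Nat.descFactorial_of_lt (not_le.1 h), Nat.choose_eq_zero_of_lt (not_le.1 h)]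

theorem ad_pow_mul (u A B : End K V) (n : ℕ) : (ad u ^ n) (A * B) =
    ∑ t ∈ antidiagonal n, n.choose t.1 • ((ad u ^ t.1) A * (ad u ^ t.2) B) := by
  induction n with
  | zero => simp
  | succ n ih =>
    have hD : ∀ f g, ad u (f * g) = ad u f * g + f * ad u g := fun f g => by
      change u * (f * g) - f * g * u = (u * f - f * u) * g + f * (u * g - g * u)
      noncomm_ring
    rw [sum_antidiagonal_choose_succ_nsmul fun i j => (ad u ^ i) A * (ad u ^ j) B, pow_succ',
      Module.End.mul_apply, ih, map_sum, ← sum_add_distrib]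
    refine sum_congr rfl fun t ht => ?_
    rw [map_nsmul, hD, pow_succ', pow_succ', smul_add, add_comm,
      Nat.choose_symm_of_eq_add (mem_antidiagonal.1 ht).symm]
    rfl

theorem ad_pow_top {u A B : End K V} {a b : ℕ} (hA : (ad u ^ (a + 1)) A = 0)
    (hB : (ad u ^ (b + 1)) B = 0) : (ad u ^ (a + b + 1)) (A * B) = 0 ∧
      (ad u ^ (a + b)) (A * B) = (a + b).choose a • ((ad u ^ a) A * (ad u ^ b) B) := by
  have h : ∀ (C : End K V) c i, (ad u ^ (c + 1)) C = 0 → c < i → (ad u ^ i) C = 0 :=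
    fun C c i h hi => by
      obtain ⟨k, rfl⟩ := Nat.exists_eq_add_of_lt hi
      rw [add_right_comm, add_comm, pow_add, Module.End.mul_apply, h, map_zero]
  have h' : ∀ i j, a < i ∨ b < j → (ad u ^ i) A * (ad u ^ j) B = 0 := fun i j hij => by
    rcases hij with hi | hi
    · rw [h A a i hA hi, zero_mul]
    · rw [h B b j hB hi, mul_zero]
  rw [ad_pow_mul, ad_pow_mul]
  refine ⟨sum_eq_zero fun t ht => ?_, sum_eq_single (a, b) (fun t ht h1 => ?_) (by simp)⟩ <;>
    replace ht := HasAntidiagonal.mem_antidiagonal.1 ht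
  · rw [h' _ _ (by omega), smul_zero]
  · rw [h' _ _ (by
      by_contra h2
      exact h1 (Prod.ext (by omega) (by omega))), smul_zero]

theorem ad_pow_pow {u Y : End K V} (hY : ad u (ad u Y) = -(2 : K) • u) (i : ℕ) :
    (ad u ^ (2 * i + 1)) (Y ^ i) = 0 ∧
      (ad u ^ (2 * i)) (Y ^ i) = ((-1) ^ i * (2 * i).factorial : K) • u ^ i := by
  have h0 : ad u u = 0 := sub_self (u * u)
  induction i with
  | zero => exact ⟨sub_eq_zero.2 ((mul_one u).trans (one_mul u).symm), by simp⟩
  | succ i ih =>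
    have h2 : (ad u ^ 2) Y = -(2 : K) • u := hY
    obtain ⟨h3, h4⟩ := ad_pow_top ih.1 (B := Y) (b := 2) (by
      rw [pow_succ', Module.End.mul_apply, h2, map_smul, h0, smul_zero])
    refine ⟨h3, h4.trans ?_⟩
    rw [ih.2, h2, smul_mul_smul_comm, ← pow_succ, ← Nat.cast_smul_eq_nsmul K, smul_smul,
      show 2 * (i + 1) = 2 * i + 2 from rfl, ← Nat.add_choose_mul_factorial_mul_factorial,
      Nat.choose_symm_add]
    congr 1
    push_cast [Nat.factorial]
    ring

theorem smul_add_pow {A : Type*} [Ring A] [Algebra K A] {u S : A} (hS : u * S = S * u) (k : K)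
    (j : ℕ) : ∃ b, u * b = b * u ∧ (k • u + u ^ 2 * S) ^ j = k ^ j • u ^ j + u ^ (j + 1) * b := by
  induction j with
  | zero => exact ⟨0, by simp, by simp⟩
  | succ j ih =>
    obtain ⟨b, hb, ih⟩ := ih
    refine ⟨k ^ j • S + k • b + b * u * S, ?_, ?_⟩
    · simp only [mul_add, add_mul, mul_smul_comm, smul_mul_assoc, hb, mul_assoc]
      rw [← hS, ← mul_assoc u b, hb, mul_assoc]
    · have h2 : ∀ c, b * (u * c) = u * (b * c) := fun c => by rw [← mul_assoc, ← hb, mul_assoc]
      rw [pow_succ, ih]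
      simp only [mul_add, add_mul, mul_smul_comm, smul_mul_assoc, pow_succ, pow_zero, one_mul,
        mul_assoc, ← hb, smul_add, smul_smul, h2, mul_comm k]
      abel

variable [FiniteDimensional K V] {G : Type*} [Group G] {x : G}

theorem trace_conj (ρ : Representation K G V) (g : G) (a b : End K V) :
    trace K V (ρ.linHom ρ g a * b) = trace K V (a * ρ.linHom ρ g⁻¹ b) := by
  rw [linHom_apply', linHom_apply', inv_inv, mul_assoc, mul_assoc, trace_mul_comm]
  simp only [mul_assoc]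

omit [FiniteDimensional K V] in
theorem inv_sub_pow (σ : Representation K G V) (k : ℕ) (a : V) :
    ((σ x⁻¹ - 1) ^ k) a = ((-σ x⁻¹) ^ k) (((σ x - 1) ^ k) a) := by
  have h1 : -σ x⁻¹ * (σ x - 1) = σ x⁻¹ - 1 := by
    rw [neg_mul, mul_sub, ← map_mul, inv_mul_cancel, map_one, mul_one, neg_sub]
  have h4 : Commute (-σ x⁻¹) (σ x - 1) :=
    (((Commute.refl x).inv_left.map σ).sub_right (Commute.one_right _)).neg_left
  rw [← Module.End.mul_apply, ← h4.mul_pow, h1]

theorem trace_sub_pow (ρ : Representation K G V) (k : ℕ) (a b : End K V) :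
    trace K V (((ρ.linHom ρ x - 1) ^ k) a * b) =
      trace K V (a * ((-ρ.linHom ρ x⁻¹) ^ k) (((ρ.linHom ρ x - 1) ^ k) b)) := by
  refine .trans ?_ (congrArg (fun c => trace K V (a * c)) (inv_sub_pow (ρ.linHom ρ) k b))
  induction k generalizing a with
  | zero => rfl
  | succ k ih =>
    rw [pow_succ, Module.End.mul_apply, ih, pow_succ', Module.End.mul_apply, LinearMap.sub_apply,
      LinearMap.sub_apply, sub_mul, map_sub, trace_conj, mul_sub, map_sub]
    rfl

theorem trace_eq_zero (ρ : Representation K G V) {k l : ℕ} (hkl : k ≤ l) {a b : End K V}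
    (ha : a ∈ range ((ρ.linHom ρ x - 1) ^ l)) (hb : ((ρ.linHom ρ x - 1) ^ k) b = 0) :
    trace K V (a * b) = 0 := by
  obtain ⟨a, rfl⟩ := ha
  obtain ⟨j, rfl⟩ := Nat.exists_eq_add_of_le' hkl
  rw [trace_sub_pow, pow_add (ρ.linHom ρ x - 1), Module.End.mul_apply, hb]
  simp

/-- The generator of the Jordan block of length `2 i + 1`. -/
structure HW (ρ : Representation K G V) (x : G) (i : ℕ) (y : End K V) : Prop where
  nil : ((ρ.linHom ρ x - 1) ^ (2 * i + 1)) y = 0
  ne : trace K V (((ρ.linHom ρ x - 1) ^ (2 * i)) y * y) ≠ 0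
  eig : ∀ a, (ρ.linHom ρ x - 1) a = 0 → a ∈ range ((ρ.linHom ρ x - 1) ^ (2 * i)) → ∃ c : K,
    a - c • ((ρ.linHom ρ x - 1) ^ (2 * i)) y ∈ range ((ρ.linHom ρ x - 1) ^ (2 * i + 1))
  wt : ∀ (g : G) (k : ℕ), g * x * g⁻¹ = x ^ k →
    ρ.linHom ρ g (((ρ.linHom ρ x - 1) ^ (2 * i)) y) - (k : K) ^ i •
      ((ρ.linHom ρ x - 1) ^ (2 * i)) y ∈ range ((ρ.linHom ρ x - 1) ^ (2 * i + 1))

theorem exists_hw [Finite G] {p : ℕ} [hp : Fact p.Prime] [CharP K p] (ρ : Representation K G V)
    {d : ℕ} (hd : finrank K V = d + 1) (hud : (ρ x - 1) ^ (d + 1) = 0) (hu : (ρ x - 1) ^ d ≠ 0)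
    {i : ℕ} (h1 : i ≤ d) (h2 : d + i + 1 < p) (h3 : 2 * i + 2 < p) : ∃ y, HW ρ x i y := by
  obtain ⟨hcent, -, -⟩ := exists_partner hd hud hu
  obtain ⟨Y, hY, htr⟩ := exists_partner_pow hd hud hu
  set σ := ρ.linHom ρ
  set u := ρ x - 1 with hu'
  have hf : ∀ n, n < p → (n.factorial : K) ≠ 0 := fun n hn h =>
    absurd (hp.out.dvd_factorial.1 ((CharP.cast_eq_zero_iff K p _).1 h)) (by omega)
  have hc : ∀ j, 2 * j < p → ((-1) ^ j * (2 * j).factorial : K) ≠ 0 := fun j hj =>
    mul_ne_zero (pow_ne_zero _ (neg_ne_zero.2 one_ne_zero)) (hf _ hj)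
  have hw : u * ρ x⁻¹ = ρ x⁻¹ * u := by
    rw [hu', mul_sub, sub_mul, ← map_mul, ← map_mul, mul_inv_cancel, inv_mul_cancel, mul_one,
      one_mul]
  have hw' : u * ρ x⁻¹ = 1 - ρ x⁻¹ := by
    rw [hu', sub_mul, ← map_mul, mul_inv_cancel, map_one, one_mul]
  have hT : ∀ k f, ((σ x - 1) ^ k) f = (ad u ^ k) f * ρ x⁻¹ ^ k := fun k => by
    induction k with
    | zero => simp
    | succ k ih =>
      intro f
      rw [pow_succ', Module.End.mul_apply, ih, pow_succ', Module.End.mul_apply, pow_succ]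
      change ρ x * (_ * _) * ρ x⁻¹ - _ * _ = (u * _ - _ * u) * _
      rw [sub_mul, mul_assoc _ u, ← mul_assoc u (ρ x⁻¹ ^ k), ((show Commute u _ from hw).pow_right k).eq,
        mul_assoc _ u, hw', hu']
      noncomm_ring
  have hcu : ∀ f, (σ x - 1) f = 0 → u * f = f * u := fun f h => by
    rw [hu', sub_mul, mul_sub, one_mul, mul_one, (linHom_eq_self_iff ρ x f).1 (sub_eq_zero.1 h)]
  have hF : ∀ j, 2 * j + 2 < p → ∀ h, u * h = h * u →
      u ^ (j + 1) * h ∈ range ((σ x - 1) ^ (2 * j + 1)) := fun j hj h hh => by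
    have h4 : Commute u (h * ρ x ^ (2 * (j + 1))) := (show Commute u h from hh).mul_right
      (((Commute.refl _).sub_left (Commute.one_left _)).pow_right _)
    have h5 := (ad_pow_top (ad_pow_pow hY (j + 1)).1 (b := 0)
      (B := h * ρ x ^ (2 * (j + 1))) (sub_eq_zero.2 h4.eq)).2
    rw [add_zero, Nat.choose_self] at h5
    refine ⟨((-1) ^ (j + 1) * (2 * (j + 1)).factorial : K)⁻¹ •
      (σ x - 1) (Y ^ (j + 1) * (h * ρ x ^ (2 * (j + 1)))), ?_⟩
    rw [map_smul, ← Module.End.mul_apply, ← pow_succ, hT,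
      show 2 * j + 1 + 1 = 2 * (j + 1) from rfl, h5,
      (ad_pow_pow hY (j + 1)).2, one_smul, smul_mul_assoc, smul_mul_assoc,
      inv_smul_smul₀ (hc _ hj), pow_zero, Module.End.one_apply, mul_assoc, mul_assoc, ← map_pow,
      ← map_pow, ← map_mul, inv_pow, mul_inv_cancel, map_one, mul_one]
  have hn : ∀ j : ℕ, ((σ x - 1) ^ (2 * j + 1)) (Y ^ j) = 0 := fun j => by
    rw [hT, (ad_pow_pow hY j).1, zero_mul]
  have hne : ∀ j ≤ i, trace K V (u ^ j * Y ^ j) ≠ 0 := fun j hj => by
    rw [htr, Nat.cast_mul, Nat.cast_mul]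
    refine mul_ne_zero (mul_ne_zero (hf _ (by omega)) (hf _ (by omega))) fun h => hf (d + j + 1)
      (by omega) ?_
    rw [← Nat.choose_mul_factorial_mul_factorial (show j + j + 1 ≤ d + j + 1 by omega),
      Nat.cast_mul, Nat.cast_mul, h, zero_mul, zero_mul]
  have hdec : ∀ j b, u * b = b * u → ∃ (c : K) (b' : End K V), u * b' = b' * u ∧
      u ^ j * b = c • u ^ j + u ^ (j + 1) * b' := fun j b hb => by
    obtain ⟨c₀, c₁, b', hb', rfl⟩ := hcent b hb
    refine ⟨c₀, c₁ • 1 + u * b', by simp [mul_add, add_mul, mul_assoc, ← hb'], ?_⟩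
    simp only [mul_add, mul_smul_comm, mul_one, pow_succ, pow_zero, one_mul, mul_assoc, add_assoc]
  have hR : ∀ a, (σ x - 1) a = 0 → a ∈ range ((σ x - 1) ^ (2 * i)) → ∃ c : K,
      a - c • u ^ i ∈ range ((σ x - 1) ^ (2 * i + 1)) := fun a ha ha' => by
    have h4 : ∀ j ≤ i, ∃ b, u * b = b * u ∧ a = u ^ j * b := fun j hj => by
      induction j with
      | zero => exact ⟨a, hcu a ha, by simp⟩
      | succ j ih =>
        obtain ⟨b, hb, rfl⟩ := ih (by omega)
        obtain ⟨c, b', hb', h5⟩ := hdec j b hb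
        have h6 := trace_eq_zero ρ (show 2 * j + 1 ≤ 2 * i by omega) ha' (hn j)
        rw [h5, add_mul, map_add, trace_eq_zero ρ le_rfl (hF j (by omega) b' hb') (hn j), add_zero,
          smul_mul_assoc, map_smul, smul_eq_zero] at h6
        exact ⟨b', hb', by rw [h5, h6.resolve_right (hne j (by omega)), zero_smul, zero_add]⟩
    obtain ⟨b, hb, rfl⟩ := h4 i le_rfl
    obtain ⟨c, b', hb', h5⟩ := hdec i b hb
    exact ⟨c, by rw [h5, add_sub_cancel_left]; exact hF i h3 b' hb'⟩
  obtain ⟨c, hc0, hc'⟩ : ∃ c : K, c ≠ 0 ∧ ((σ x - 1) ^ (2 * i)) (Y ^ i) - c • u ^ i ∈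
      range ((σ x - 1) ^ (2 * i + 1)) := by
    have h4 : ∀ k, ∃ b, u * b = b * u ∧ ρ x⁻¹ ^ k = 1 + u * b := fun k => by
      induction k with
      | zero => exact ⟨0, by simp, by simp⟩
      | succ k ih =>
        obtain ⟨b, hb, ih⟩ := ih
        refine ⟨(b - 1) * ρ x⁻¹, by rw [← mul_assoc, mul_sub, hb, mul_assoc _ _ u, ← hw]; noncomm_ring, ?_⟩
        rw [pow_succ, ih, ← mul_assoc, mul_sub, mul_one, sub_mul (u * b), hw']
        noncomm_ring
    obtain ⟨b, hb, h5⟩ := h4 (2 * i)
    refine ⟨_, hc i (by omega), ?_⟩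
    rw [hT, (ad_pow_pow hY i).2, h5, smul_mul_assoc, ← smul_sub, mul_add, mul_one,
      add_sub_cancel_left, ← mul_assoc, ← pow_succ]
    exact Submodule.smul_mem _ _ (hF i h3 b hb)
  refine ⟨Y ^ i, hn i, ?_, fun a ha ha' => ?_, fun g k hk => ?_⟩
  · have h4 := trace_eq_zero ρ le_rfl hc' (hn i)
    rw [sub_mul, map_sub, sub_eq_zero, smul_mul_assoc, map_smul] at h4
    exact h4 ▸ mul_ne_zero hc0 (hne i le_rfl)
  · obtain ⟨c', h4⟩ := hR a ha ha'
    refine ⟨c' / c, ?_⟩
    convert Submodule.sub_mem _ h4 (Submodule.smul_mem _ (c' / c) hc') using 1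
    rw [smul_sub, smul_smul, div_mul_cancel₀ _ hc0]
    abel
  · obtain ⟨S, hS, hS'⟩ := Lat.pow_sub_one_eq (K := K) (ρ x) k
    have h4 : ∀ j, ∃ b, u * b = b * u ∧ σ g (u ^ j) = (k : K) ^ j • u ^ j + u ^ (j + 1) * b := by
      intro j
      have h5 : σ g (u ^ j) = ((k : K) • u + u ^ 2 * S) ^ j := by
        rw [← hS', linHom_apply', hu']
        induction j with
        | zero => rw [pow_zero, mul_one, ← map_mul, mul_inv_cancel, map_one, pow_zero]
        | succ j ih => rw [pow_succ', ← mul_assoc, conj_sub_one ρ hk, mul_assoc, mul_assoc,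
            ← mul_assoc (ρ g), ih, pow_succ']
      exact h5 ▸ smul_add_pow hS (k : K) j
    obtain ⟨b, hb, h5⟩ := h4 i
    have hg : g ∈ Subgroup.normalizer ((Subgroup.zpowers x : Subgroup G) : Set G) :=
      Subgroup.mem_normalizer_fintype (by
        rintro _ ⟨n, rfl⟩
        simp only [SetLike.mem_coe]
        rw [← conj_zpow, hk]
        exact zpow_mem (pow_mem (Subgroup.mem_zpowers x) k) n)
    convert Submodule.add_mem _ (Submodule.sub_mem _ (range_pow_inv σ hg _ hc')
      (Submodule.smul_mem _ ((k : K) ^ i) hc')) (Submodule.smul_mem _ c (hF i h3 b hb)) using 1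
    rw [map_sub, map_smul, h5]
    module

end Cfsg.Lib.Block.Nil
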