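import Cfsg.Agent.Block.BlauExt
import Cfsg.Agent.Char.Clifford

/-!
# Blau's bound for faithful characters of degree `p - e`
-/

set_option autoImplicit false

namespace Cfsg.Lib.Block.Lat

open Module Subgroup Cfsg.Lib.Char Cfsg.Lib.Block.TI Cfsg.Lib.Block.SD

variable {p : ℕ} [hp : Fact p.Prime] {G : Type*} [Group G] [Finite G] {P : Sylow p G} {x : G}
  {H : Subgroup (ZMod p)ˣ} {E : Subgroup G} {r : G → (ZMod p)ˣ} {ψ : AddChar (ZMod p) ℂ}
  {ζ : G → ℂ}

theorem GS.bound (h : GS P x H E r) (s : Sm x H ψ ζ) (hf : ∀ g, ζ g = ζ 1 → g = 1)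
    (he : 3 ≤ Nat.card H) {t : ℕ} (ht : p = Nat.card H * t + 1) : Nat.card H + 3 ≤ t := by
  have := Fintype.ofFinite G
  have hlt := h.lt
  obtain ⟨⟨z, hz⟩, hz2⟩ := exists_prime_orderOf_dvd_card' (G := center G) 2 (even_iff_two_dvd.1
    (Nat.not_odd_iff_even.1 fun h' => hlt.ne (h.two_mul_add_one_eq s h' he)))
  rw [orderOf_mk] at hz2
  have h1 := h.apply_center_mul s hz
  have h2 : ζ z = -ζ 1 := by
    have h3 := h1 z
    have h4 := h1 1
    rw [mul_one] at h4
    rw [← sq, ← hz2, pow_orderOf_eq_one, h4, ← mul_assoc, eq_comm,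
      mul_eq_right₀ s.irr.apply_one_ne_zero, mul_self_eq_one_iff] at h3
    rcases h3 with h3 | h3
    · rw [hf z (by rw [h4, h3, one_mul]), orderOf_one] at hz2
      omega
    · rw [h4, h3, neg_one_mul]
  have hodd : Odd (Nat.card H) := by
    obtain ⟨n, ρ, hρ⟩ := s.irr.isCharacter
    let δ : G →* ℂ := LinearMap.det.comp ρ
    have := Finite.one_lt_card_iff_nontrivial.1 (show 1 < Nat.card H by omega)
    obtain ⟨⟨a, ha⟩, ha'⟩ := exists_ne (1 : H)
    obtain ⟨g, hg, rfl⟩ := h.surj a ha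
    have h3 := h.apply_xp_mul (isIrrCharacter_monoidHom' δ).isClassFunction (h.le hg)
      (fun h => ha' (Subtype.ext h)) 1
    rw [xp_one h.hx, map_mul, mul_eq_right₀ ((Group.isUnit g).map δ).ne_zero] at h3
    have h4 := forall_of_gen δ h.gen h3 z
    obtain ⟨c, hc⟩ := (mem_charCenter_rep ρ).1 (hρ ▸ s.irr.center_le_charCenter hz)
    have h5 : finrank ℂ (Fin n → ℂ) = p - Nat.card H := by
      rw [← Nat.cast_inj (R := ℂ), ← s.deg, ← hρ, Representation.char_one]
    rw [← hρ, Representation.char_one, Representation.character, hc, map_smul, LinearMap.trace_id,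
      ← neg_one_mul] at h2
    rw [mul_right_cancel₀ (Nat.cast_ne_zero.2 (by omega)) h2] at hc
    change LinearMap.det (ρ z) = 1 at h4
    rw [hc, LinearMap.det_smul, LinearMap.det_id, mul_one, neg_one_pow_eq_one_iff_even (by norm_num),
      h5] at h4
    obtain ⟨k, hk⟩ := h4
    obtain ⟨l, hl⟩ := hp.out.odd_of_ne_two (by omega)
    exact ⟨l - k, by omega⟩
  have ht2 : 2 ∣ t := (Nat.prime_two.dvd_mul.1 (by
    obtain ⟨l, hl⟩ := hp.out.odd_of_ne_two (by omega)
    exact ⟨l, by omega⟩)).resolve_left hodd.not_two_dvd_nat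
  obtain ⟨ψ', ε, ξ, e⟩ := h.exists_ex' s hodd ht fun h' => hodd.not_two_dvd_nat (ht2.trans h')
  rcases h.ex_cases s e hodd (by omega) ht with h3 | ⟨rfl, -⟩
  · obtain ⟨k, hk⟩ := hodd
    omega
  · exact (h.not_extremal s hodd (by omega) ht hz h2).elim

theorem GD.irr_res (h : GD P x H E r) (s : Sm x H ψ ζ) (K : Subgroup G) [K.Normal] (hx : x ∈ K) :
    IsIrrCharacter K fun n => ζ n := by
  have := Fintype.ofFinite G
  have := Fintype.ofFinite K
  obtain ⟨θ, hθ, h0⟩ := (s.irr.isClassFunction.res K).exists_irr_classInner_ne_zero fun h0 =>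
    s.irr.apply_one_ne_zero (congrFun h0 1)
  obtain ⟨e, -, -, he⟩ := clifford_res_nat s.irr hθ h0
  obtain ⟨n, hn, -⟩ := exists_mult (x := (⟨x, hx⟩ : K)) ((orderOf_mk _ _).trans h.hx)
    hθ.isCharacter 1
  simp only [AddChar.one_apply, mul_one] at hn
  have h1 : ∀ φ ∈ conjSet K θ, ∑ j : ZMod p, φ (xp ⟨x, hx⟩ j) = p * n := fun φ hφ => by
    obtain ⟨g, rfl⟩ := mem_conjSet.1 hφ
    obtain ⟨k, hk, m, hm, rfl⟩ := mem_sup_of_normal_left.1 (((sup_comm _ _).trans
      (P.normalizer_sup_eq_top' (h.hxP ▸ zpowers_le.2 hx))).ge (mem_top g))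
    rw [conjChar_mul, conjChar_of_mem hθ.isClassFunction hk, ← hn]
    exact Fintype.sum_equiv (r m).mulLeft _ _ fun j => congrArg θ (Subtype.ext (h.conj_xp' hm j))
  have h2 := (Finset.sum_congr rfl fun j _ => congrFun he (xp ⟨x, hx⟩ j)).symm.trans (h.sum_xp_eq s)
  simp only [Pi.smul_apply, Finset.sum_apply, smul_eq_mul, ← Finset.mul_sum] at h2
  rw [Finset.sum_comm, Finset.sum_congr rfl h1, Finset.sum_const, nsmul_eq_mul, mul_left_comm _ (p : ℂ),
    mul_left_comm, mul_eq_left₀ (Nat.cast_ne_zero.2 hp.out.ne_zero)] at h2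
  norm_cast at h2
  obtain ⟨φ, hφ⟩ := Finset.card_eq_one.1 (Nat.eq_one_of_mul_eq_one_right
    (Nat.eq_one_of_mul_eq_one_left h2))
  rw [he, Nat.eq_one_of_mul_eq_one_right h2, hφ, Finset.sum_singleton, Nat.cast_one, one_smul]
  exact hθ.of_mem_conjSet (hφ ▸ Finset.mem_singleton_self φ)

/-- **Blau.** -/
theorem GD.blau (h : GD P x H E r) (s : Sm x H ψ ζ) (hp7 : 7 < p) (hnn : ¬ (P : Subgroup G).Normal)
    (hf : ∀ g, ζ g = ζ 1 → g = 1) (hd : charDegree ζ + Nat.card H = p) (hlt : 2 * Nat.card H + 1 < p)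
    (he : 3 ≤ Nat.card H) {t : ℕ} (ht : p = Nat.card H * t + 1) : Nat.card H + 3 ≤ t := by
  set K := normalClosure ({x} : Set G)
  have hxK : x ∈ K := subset_normalClosure rfl
  have hPK : (P : Subgroup G) ≤ K := h.hxP ▸ zpowers_le.2 hxK
  have hP' : Nat.card (P.subtype hPK) = p :=
    (Nat.card_congr (subgroupOfEquivOfLe hPK).toEquiv).trans h.card_P
  have hnn' : ¬ (P.subtype hPK : Subgroup K).Normal := fun h' => hnn (by
    have := Sylow.characteristic_of_normal _ h'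
    have h1 := ConjAct.normal_of_characteristic_of_normal (H := K) (K := P.subtype hPK)
    rwa [P.coe_subtype, subgroupOf_map_subtype, inf_of_le_left hPK] at h1)
  have hζ := h.irr_res s K hxK
  have hf' : ∀ g : K, ζ g = ζ (1 : K) → g = 1 := fun g hg => Subtype.ext (hf g hg)
  have hd' : charDegree (fun n : K => ζ n) = charDegree ζ := rfl
  obtain ⟨y, H', h1, h2, ⟨-, -, h3⟩ | ⟨E', r', ψ', h3, s', h4, h5⟩⟩ :=
    psl2_or_small hp7 _ hP' hnn' hζ hf' (by omega)
  · omega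
  have h6 : Nat.card H' = Nat.card H := by omega
  rw [← h6] at he ht ⊢
  refine GS.bound ⟨h3, sp_of_char h1 hζ.isCharacter hf' (by omega), ?_, hnn', h2.symm, h5⟩ s' hf'
    he ht
  apply map_injective K.subtype_injective
  rw [← MonoidHom.range_eq_map, range_subtype]
  refine le_antisymm (map_subtype_le _) ((closure_le _).2 fun z hz => ?_)
  obtain ⟨w, hw, hz'⟩ := Group.mem_conjugatesOfSet_iff.1 hz
  obtain ⟨g, rfl⟩ := isConj_iff.1 (hw ▸ hz' : IsConj x z)
  obtain ⟨k, hk⟩ := PS.exists_conj_mem _ hP' (y := ⟨_, Normal.conj_mem inferInstance _ hxK g⟩)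
    (by rw [orderOf_mk, ← MulAut.conj_apply, MulEquiv.orderOf_eq, h.hx])
  exact ⟨_, Normal.conj_mem inferInstance _ ((h1 ▸ zpowers_le.2 (subset_normalClosure rfl) :
    _ ≤ normalClosure {y}) hk) k⁻¹, by simp [mul_assoc]⟩

end Cfsg.Lib.Block.Lat
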