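import Cfsg.Agent.Block.FeitSmall

/-!
# The reduction of a character of degree `p - e` is uniserial on the Sylow subgroup
-/

set_option autoImplicit false

namespace Cfsg.Lib.Block.Lat

open Module Subgroup Representation Polynomial IsLocalRing Matrix Cfsg.Lib.Char Cfsg.Lib.Block.TI
  Cfsg.Lib.Block.SD

variable {p : ℕ} [hp : Fact p.Prime] {G : Type*} [Group G] [Finite G]
  {ι : Type*} [Fintype ι] [DecidableEq ι]

/-- Matrices acting on column vectors after a change of rings. -/
noncomputable def mhom {R S : Type*} [CommRing R] [CommRing S] (f : R →+* S) :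
    Matrix ι ι R →+* End S (ι → S) :=
  (Matrix.toLinAlgEquiv' (R := S) (n := ι)).toRingEquiv.toRingHom.comp f.mapMatrix

theorem mhom_smul {R S : Type*} [CommRing R] [CommRing S] (f : R →+* S) (c : R)
    (a : Matrix ι ι R) : mhom f (c • a) = f c • mhom f a := by
  change toLin' ((c • a).map f) = f c • toLin' (a.map f)
  rw [← map_smul]
  congr 1
  ext i j
  simp

omit hp in
theorem proj_of_trace {O : ValuationSubring ℂ} (A : G →* Matrix ι ι O) {χ : G → ℂ}
    (hχ : ∀ g, ((A g).trace : ℂ) = χ g) (h : IsIrrCharacter G χ) {P N : Subgroup G} [Fintype P]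
    (hPN : P ≤ N) (hf : Free P N) {a : Matrix ι ι O} (ha : ∀ n ∈ N, A n * a = a * A n)
    (h0 : a.trace = 0) : ∃ w, mhom (residue O) a =
      ∑ y : P, linHom (mrep (residue O) A) (mrep (residue O) A) y w := by
  have := Fintype.ofFinite G
  have := irr_mrep A hχ h
  set ρ := mrep O.subtype A
  have h1 : ∀ n ∈ N, linHom ρ ρ n (mhom O.subtype a) = mhom O.subtype a := fun n hn =>
    (linHom_eq_self_iff ρ n _).2 (((map_mul (mhom O.subtype) _ _).symm.trans
      (congrArg _ (ha n hn))).trans (map_mul (mhom O.subtype) _ _))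
  refine (red_proj A A hPN hf a h1 ?_).2
  obtain ⟨c, hc⟩ := exists_eq_smul_one ρ fun g => (linHom_eq_self_iff ρ g _).1 (apply_trN h1 g)
  have h2 : LinearMap.trace ℂ _ (mhom O.subtype a) = 0 := by
    change LinearMap.trace ℂ _ (toLin' (a.map O.subtype)) = 0
    rw [Matrix.trace_toLin'_eq]
    exact (AddMonoidHom.map_trace O.subtype.toAddMonoidHom a).symm.trans (by rw [h0, map_zero])
  have h3 := congrArg (LinearMap.trace ℂ _) hc
  rw [trN_apply, map_sum, Finset.sum_eq_zero fun s _ => by
    rw [linHom_apply', LinearMap.trace_mul_cycle, ← map_mul, inv_mul_cancel, map_one, one_mul, h2],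
    map_smul, LinearMap.trace_one, eq_comm, smul_eq_zero] at h3
  have := nontrivial_of_irr ρ
  exact hc.trans (by rw [h3.resolve_right (Nat.cast_ne_zero.2 finrank_pos.ne'), zero_smul])

/-- The action on `⟨x⟩` with values in a field of characteristic `p`. -/
def Rk (K : Type*) [Field K] [CharP K p] (r : G → (ZMod p)ˣ) (g : G) : K :=
  ZMod.castHom dvd_rfl K (r g : ZMod p)

namespace GD

variable {P : Sylow p G} {x : G} {H : Subgroup (ZMod p)ˣ} {E : Subgroup G} {r : G → (ZMod p)ˣ}
  (h : GD P x H E r)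
include h

local notation "N" => normalizer ((P : Subgroup G) : Set G)

section
variable (K : Type*) [Field K] [CharP K p]

theorem hR (g : G) (hg : g ∈ E) : ∃ k : ℕ, g * x * g⁻¹ = x ^ k ∧ (k : K) = Rk K r g :=
  ⟨_, (h.cj g (h.le hg)).2, by rw [Rk, ZMod.castHom_apply, ZMod.natCast_val]⟩

theorem isW_Rk : IsW E (Rk K r) :=
  ⟨by rw [Rk, h.r_one, Units.val_one, map_one], fun a ha b hb => by
    rw [Rk, h.r_mul (h.le ha) (h.le hb), Units.val_mul, map_mul]; rfl⟩

omit h in
theorem Rk_pow_eq_one_iff (g : G) (k : ℕ) : Rk K r g ^ k = 1 ↔ r g ^ k = 1 := by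
  rw [Rk, ← map_pow, map_eq_one_iff _ (ZMod.castHom dvd_rfl K).injective,
    ← Units.val_pow_eq_pow_val, Units.val_eq_one]

theorem card_E_ne : (Nat.card E : K) ≠ 0 := fun h' => h.ndvd ((CharP.cast_eq_zero_iff K p _).1 h')

end

theorem free : Free (P : Subgroup G) N := free_of_ti P (ti_of_card P h.card_P)

theorem card_H_dvd : Nat.card H ∣ p - 1 := by
  have := card_subgroup_dvd_card H
  rwa [Nat.card_eq_fintype_card (α := (ZMod p)ˣ), ZMod.card_units] at this

variable {ψ : AddChar (ZMod p) ℂ} {χ : G → ℂ} (s : Sm x H ψ χ) {M : Ideal AlgInt} [CharP (kM M) p]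
  {A : G →* Matrix ι ι (OM M)} (hA : ∀ g, ((A g).trace : ℂ) = χ g)
include s hA

omit h [CharP (kM M) p] [Finite G] in
theorem card_eq : Fintype.card ι = p - Nat.card H := by
  have := hA 1
  rw [map_one, trace_one, s.deg] at this
  exact_mod_cast this

theorem pow_ne_zero' : (mrep (residue (OM M)) A x - 1) ^ (p - Nat.card H - 1) ≠ 0 := by
  classical
  intro h0
  have := Fintype.ofFinite P
  have hc := card_eq s hA
  have h2 := h.two
  have he := Nat.card_pos (α := H)
  have : Nonempty ι := Fintype.card_pos_iff.1 (by omega)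
  have hP := h.card_P.trans (pow_one p).symm
  set σ := mrep (residue (OM M)) A
  have hn : IsNilpotent (σ x - 1) := ⟨_, h0⟩
  have hd : (Fintype.card ι : kM M) ≠ 0 := fun h' =>
    absurd (Nat.le_of_dvd (by omega) ((CharP.cast_eq_zero_iff _ p _).1 h')) (by omega)
  have h1 : (σ x - 1) ^ Nat.card H = 0 := by
    set f := aeval (A x) (nf H)
    obtain ⟨w, hw⟩ := proj_of_trace A hA s.irr le_normalizer h.free
      (a := (Fintype.card ι : OM M) • f - f.trace • 1) (fun n hn => by
        rw [mul_sub, sub_mul, mul_smul_comm, smul_mul_assoc, mul_smul_comm, smul_mul_assoc,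
          mul_one, one_mul,
          show A n * f = f * A n from nf_comm h.hx A (h.cj n hn).1 (h.cj n hn).2])
      (by simp [mul_comm])
    obtain ⟨h', hh'⟩ := exists_sum_conj_eq σ h.hxP hP h0 (m := Nat.card H + 1)
      (by rw [pow_one]; omega) w
    obtain ⟨u, hu⟩ := exists_nf_unit H (K := kM M) hn
    have h3 : mhom (residue (OM M)) f = aeval (σ x) (nf H) :=
      (aeval_algHom_apply (mhom (ι := ι) (residue (OM M))).toIntAlgHom (A x) (nf H)).symm
    rw [hh', map_sub, mhom_smul, mhom_smul, h3, hu, map_one, map_natCast] at hw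
    by_cases h4 : residue (OM M) f.trace = 0
    · rw [h4, zero_smul, sub_zero] at hw
      refine eq_zero_of_pow_eq_mul hn (c := (Fintype.card ι : kM M)⁻¹ • (h' * u⁻¹.val)) ?_
      rw [mul_smul_comm, ← mul_assoc, ← hw, smul_mul_assoc, inv_smul_smul₀ hd, Units.mul_inv_cancel_right]
    · obtain ⟨e, he⟩ := Nat.exists_eq_succ_of_ne_zero he.ne'
      refine absurd (eq_zero_of_pow_eq_mul hn (e := 0) (c := (residue (OM M) f.trace)⁻¹ •
        ((Fintype.card ι : kM M) • ((σ x - 1) ^ e * u) - (σ x - 1) ^ (e + 1) * h')) ?_) (by simp)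
      rw [he, sub_eq_iff_eq_add, ← sub_eq_iff_eq_add'] at hw
      rw [zero_add, pow_one, mul_smul_comm, mul_sub, mul_smul_comm, ← mul_assoc, ← mul_assoc,
        ← pow_succ', ← pow_succ', hw, inv_smul_smul₀ h4, pow_zero]
  set S := ∑ j : ZMod p, A (xp x j) with hS
  have hSt : S.trace = p := Subtype.ext (by
    rw [hS, trace_sum, AddSubmonoidClass.coe_finsetSum, Finset.sum_congr rfl fun j _ => hA _,
      h.sum_xp_eq s]; rfl)
  set a := (Fintype.card ι : OM M) • S - (p : OM M) • (1 : Matrix ι ι (OM M)) with ha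
  obtain ⟨i, hi, hi'⟩ := exists_div_mem (OM M) (fun t : ι × ι => (a t.1 t.2 : ℂ)) fun h' => by
    have h3 : (Fintype.card ι : OM M) • S = (p : OM M) • (1 : Matrix ι ι (OM M)) :=
      sub_eq_zero.1 (Matrix.ext fun i j => Subtype.ext (congrFun h' (i, j)))
    have h4 : ∀ j, χ (xp x j) = Fintype.card ι := fun j => by
      have h5 : S * A (xp x j) = S := by
        rw [hS, Finset.sum_mul]
        exact Fintype.sum_equiv (Equiv.addRight j) _ _ fun i => by
          rw [← map_mul, ← xp_add h.hx]; rfl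
      have h6 := congrArg (fun b => ((b * A (xp x j)).trace : ℂ)) h3
      simp only [smul_mul_assoc, h5, one_mul, trace_smul, hSt, smul_eq_mul] at h6
      push_cast at h6
      rw [hA, mul_comm] at h6
      exact (mul_left_cancel₀ (Nat.cast_ne_zero.2 hp.out.ne_zero) h6).symm
    have h5 := h.sum_xp_eq s
    rw [Finset.sum_congr rfl fun j _ => h4 j, Finset.sum_const, Finset.card_univ, ZMod.card,
      nsmul_eq_mul, mul_eq_left₀ (Nat.cast_ne_zero.2 hp.out.ne_zero), Nat.cast_eq_one] at h5
    omega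
  let b : Matrix ι ι (OM M) := Matrix.of fun k l => ⟨_, hi' (k, l)⟩
  have hb : a i.1 i.2 • b = a := Matrix.ext fun k l => Subtype.ext (mul_div_cancel₀ _ hi)
  have hi0 : a i.1 i.2 ≠ 0 := fun h' => hi (by rw [h']; rfl)
  obtain ⟨w, hw⟩ := proj_of_trace A hA s.irr le_normalizer h.free (a := b) (fun n hn => by
    refine smul_right_injective _ hi0 ?_
    have h3 : A n * S = S * A n := by
      rw [hS, Finset.mul_sum, Finset.sum_mul]
      exact Fintype.sum_equiv (r n).mulLeft _ _ fun j => by
        rw [Units.mulLeft_apply, ← h.conj_xp' hn, ← map_mul, ← map_mul, inv_mul_cancel_right]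
    simp only
    rw [← mul_smul_comm, ← smul_mul_assoc, hb, ha, mul_sub, sub_mul, mul_smul_comm, smul_mul_assoc,
      mul_smul_comm, smul_mul_assoc, h3, mul_one, one_mul]) (mul_left_cancel₀ hi0 (by
    rw [← smul_eq_mul, ← trace_smul, hb, ha]
    simp [hSt, mul_comm]))
  obtain ⟨h', hh'⟩ := exists_sum_conj_eq σ h.hxP hP h1 (m := Nat.card H)
    (by rw [pow_one]; omega) w
  rw [hh', h1, zero_mul] at hw
  have h3 : b.map (residue (OM M)) = 0 := toLin'.injective (hw.trans (map_zero _).symm)
  have h4 : b i.1 i.2 = 1 := Subtype.ext (div_self hi)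
  simpa [h4] using congrFun (congrFun h3 i.1) i.2

theorem uni : Uni (mrep (residue (OM M)) A) x E (p - Nat.card H - 1)
    fun g => redM M (lam p x χ g) := by
  have hc := card_eq s hA
  have h2 := h.two
  have he := Nat.card_pos (α := H)
  have hd : finrank (kM M) (ι → kM M) = p - Nat.card H - 1 + 1 := by
    rw [finrank_fintype_fun_eq_card]; omega
  refine uni_of_trace hd (hd ▸ pow_finrank_eq_zero (isNilpotent_sub_one _ (h.hxP ▸ h.card_P)))
    (h.pow_ne_zero' s hA) (h.hR _) (h.isW_Rk _) fun g hg c hc' => ?_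
  rw [trace_mrep, ← redM_coe, hA, show p - Nat.card H - 1 + 1 = p - Nat.card H by omega] at hc'
  by_cases h1 : r g = 1
  · have h3 := h.apply_center_mul s ((h.r_eq_one_iff' hg).1 h1) 1
    rw [mul_one, s.deg] at h3
    rw [h3, redM_mul (h.vM_lam s M (h.le hg)).le (vM_natCast_le_one _), redM_natCast, Rk, h1] at hc'
    simp only [Units.val_one, map_one, one_pow, Finset.sum_const, Finset.card_range, nsmul_eq_mul,
      mul_one] at hc'
    exact (mul_right_cancel₀ (fun h' => absurd (Nat.le_of_dvd (by omega)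
      ((CharP.cast_eq_zero_iff _ p _).1 h')) (by omega)) hc').symm
  · have h3 : Rk (kM M) r g ≠ 1 := by rwa [← pow_one (Rk _ r g), Ne, Rk_pow_eq_one_iff, pow_one]
    obtain ⟨t, ht⟩ := h.card_H_dvd
    have h4 : Rk (kM M) r g ^ (p - Nat.card H) = Rk (kM M) r g := by
      rw [show p - Nat.card H = Nat.card H * (t - 1) + 1 by
        rw [Nat.mul_sub, ← ht]; omega, pow_succ, pow_mul,
        (Rk_pow_eq_one_iff _ g _).2 (h.r_pow_card (h.le hg)), one_pow, one_mul]
    rw [geom_sum_eq h3, h4, div_self (sub_ne_zero.2 h3), mul_one,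
      h.apply_eq_lam s.irr.isClassFunction (h.le hg) h1] at hc'
    exact hc'.symm

end GD

end Cfsg.Lib.Block.Lat
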