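import Cfsg.Agent.Block.PairPrinc
import Cfsg.Agent.Solv.PSolvable
import Mathlib.GroupTheory.Transfer

/-!
Groups with cyclic Sylow `p`-subgroups: pairs of elements of order `p` that generate a
`p`-soluble subgroup.
-/

set_option autoImplicit false
set_option linter.style.haveILetI false
set_option linter.unusedSectionVars false

open Cfsg Subgroup

namespace Cfsg.Lib.Block.CycPair

universe u

variable {G : Type u} [Group G] [Finite G] {p : ℕ} [hp : Fact p.Prime]

/-- All `p`-subgroups are cyclic. -/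
def CycSyl (p : ℕ) (G : Type u) [Group G] : Prop :=
  ∀ Q : Subgroup G, IsPGroup p Q → IsCyclic Q

theorem cycSyl_of_sylow (P : Sylow p G) (hP : IsCyclic P) : CycSyl p G := by
  intro Q hQ
  obtain ⟨S, hS⟩ := hQ.exists_le_sylow
  have : IsCyclic S := isCyclic_of_surjective (P.equiv S) (P.equiv S).surjective
  exact Subgroup.isCyclic_of_le hS

theorem CycSyl.subgroup (h : CycSyl p G) (H : Subgroup G) : CycSyl p H := by
  intro Q hQ
  have := h (Q.map H.subtype) (hQ.map _)
  exact isCyclic_of_injective (Q.equivMapOfInjective H.subtype H.subtype_injective).toMonoidHom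
    (MulEquiv.injective _)

theorem CycSyl.quotient (h : CycSyl p G) (N : Subgroup G) [N.Normal] : CycSyl p (G ⧸ N) := by
  obtain ⟨P⟩ : Nonempty (Sylow p G) := inferInstance
  have := h P P.isPGroup'
  refine cycSyl_of_sylow (P.mapSurjective (QuotientGroup.mk'_surjective N)) ?_
  rw [Sylow.coe_mapSurjective]
  exact isCyclic_of_surjective _ ((QuotientGroup.mk' N).subgroupMap_surjective P)

theorem mem_zpowers_of_isCyclic {C : Subgroup G} (hC : IsCyclic C) {x y : G} (hx : x ∈ C)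
    (hy : y ∈ C) (ho : orderOf x = p) (hyp : y ^ p = 1) : y ∈ zpowers x := by
  classical
  have := Fintype.ofFinite C
  have h1 : (Finset.univ.filter fun a : C => a ^ p = 1).card ≤ p :=
    IsCyclic.card_pow_eq_one_le hp.out.pos
  have hx' : orderOf (⟨x, hx⟩ : C) = p := by rw [← ho, ← Subgroup.orderOf_coe]
  have h2 : (zpowers (⟨x, hx⟩ : C) : Set C).toFinset ⊆ Finset.univ.filter fun a : C => a ^ p = 1 := by
    intro a ha
    obtain ⟨k, rfl⟩ := mem_zpowers_iff.1 (Set.mem_toFinset.1 ha)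
    refine Finset.mem_filter.2 ⟨Finset.mem_univ _, ?_⟩
    rw [← zpow_natCast, ← zpow_mul, mul_comm, zpow_mul, zpow_natCast, ← hx', pow_orderOf_eq_one,
      one_zpow]
  have h3 : (zpowers (⟨x, hx⟩ : C) : Set C).toFinset.card = p := by
    rw [Set.toFinset_card, ← Nat.card_eq_fintype_card]
    exact (Nat.card_zpowers _).trans hx'
  have h4 := Finset.eq_of_subset_of_card_le h2 (by omega)
  have h5 : (⟨y, hy⟩ : C) ∈ (zpowers (⟨x, hx⟩ : C) : Set C).toFinset := by
    rw [h4]
    exact Finset.mem_filter.2 ⟨Finset.mem_univ _, Subtype.ext hyp⟩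
  obtain ⟨k, hk⟩ := mem_zpowers_iff.1 (Set.mem_toFinset.1 h5)
  exact mem_zpowers_iff.2 ⟨k, congrArg Subtype.val hk⟩

theorem isPGroup_zpowers_of_pow {x : G} (hx : x ^ p = 1) : IsPGroup p (zpowers x) := by
  rintro ⟨_, k, rfl⟩
  refine ⟨1, Subtype.ext ?_⟩
  show (x ^ k) ^ p ^ 1 = 1
  rw [pow_one, ← zpow_natCast, ← zpow_mul, mul_comm, zpow_mul, zpow_natCast, hx, one_zpow]

/-- Every element of order dividing `p` is conjugate to a power of a given element of order `p`. -/
theorem CycSyl.exists_conj_pow (h : CycSyl p G) {x y : G} (hx : orderOf x = p) (hy : y ^ p = 1) :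
    ∃ (g : G) (j : ℕ), g * y * g⁻¹ = x ^ j := by
  obtain ⟨S, hS⟩ := (isPGroup_zpowers_of_pow (hx ▸ pow_orderOf_eq_one x : x ^ p = 1)).exists_le_sylow
  obtain ⟨T, hT⟩ := (isPGroup_zpowers_of_pow hy).exists_le_sylow
  obtain ⟨g, hg⟩ := MulAction.exists_smul_eq G T S
  have hm : g * y * g⁻¹ ∈ (S : Subgroup G) := by
    rw [← hg]
    exact Subgroup.smul_mem_pointwise_smul y (MulAut.conj g) _ (hT (mem_zpowers y))
  have := mem_zpowers_of_isCyclic (h S S.isPGroup') (hS (mem_zpowers x)) hm hx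
    (by rw [conj_pow, hy, mul_one, mul_inv_cancel])
  rw [← mem_powers_iff_mem_zpowers] at this
  obtain ⟨j, hj⟩ := this
  exact ⟨g, j, hj.symm⟩

theorem orderOf_mk_of_coprime {N : Subgroup G} [N.Normal] (hN : ¬ p ∣ Nat.card N) {x : G}
    (hx : orderOf x = p) : orderOf (x : G ⧸ N) = p := by
  refine orderOf_eq_prime ?_ ?_
  · rw [← QuotientGroup.mk_pow, ← hx, pow_orderOf_eq_one, QuotientGroup.mk_one]
  · intro h
    exact hN (hx ▸ N.orderOf_dvd_natCard ((QuotientGroup.eq_one_iff x).1 h))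

theorem pair_top (h : CycSyl p G) (hs : IsPSolvable p G) {x y : G} (hx : orderOf x = p)
    (hy : orderOf y = p) (hgen : closure ({x, y} : Set G) = ⊤) :
    ∃ i : ℕ, IsConj (x ^ i) y ∧ (∀ k : ℕ, ¬ p ∣ orderOf (x * y ^ k) ↔ p ∣ 1 + i * k) ∧
      ¬ p ∣ orderOf ((x * y) ^ p) := by
  set K := pPrimeCore p G
  have hK : ¬ p ∣ Nat.card K := Solv.not_dvd_card_pPrimeCore p G
  have hq := h.quotient K
  have hx' := orderOf_mk_of_coprime hK hx
  have hy' := orderOf_mk_of_coprime hK hy
  have hc := (hs.quotient K).centralizer_pCore_le (Solv.pPrimeCore_quotient_pPrimeCore p G)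
  have hmem : ∀ z : G ⧸ K, z ^ p = 1 → z ∈ pCore p (G ⧸ K) := by
    intro z hz
    obtain ⟨S, hS⟩ := (isPGroup_zpowers_of_pow hz).exists_le_sylow
    have := hq S S.isPGroup'
    refine hc (mem_centralizer_iff.2 fun w hw => ?_)
    letI : CommGroup S := IsCyclic.commGroup
    exact congrArg Subtype.val
      (mul_comm (⟨w, Solv.pCore_le_sylow S hw⟩ : S) ⟨z, hS (mem_zpowers z)⟩)
  have hx1 : (x : G ⧸ K) ^ p = 1 := orderOf_dvd_iff_pow_eq_one.1 hx'.dvd
  have hy1 : (y : G ⧸ K) ^ p = 1 := orderOf_dvd_iff_pow_eq_one.1 hy'.dvd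
  have hyx := mem_zpowers_of_isCyclic (hq _ (Solv.pCore_isPGroup p _))
    (hmem _ hx1) (hmem _ hy1) hx' hy1
  rw [← mem_powers_iff_mem_zpowers] at hyx
  obtain ⟨i, hi⟩ := hyx
  change (x : G ⧸ K) ^ i = y at hi
  have hall : ∀ g : G, (g : G ⧸ K) ∈ zpowers (x : G ⧸ K) := by
    intro g
    have : (⊤ : Subgroup G) ≤ (zpowers (x : G ⧸ K)).comap (QuotientGroup.mk' K) := by
      rw [← hgen, closure_le]
      rintro z (rfl | rfl)
      · exact mem_zpowers _
      · show (z : G ⧸ K) ∈ zpowers (x : G ⧸ K)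
        rw [← hi]
        exact pow_mem (mem_zpowers _) _
    exact this (mem_top g)
  have hreg : ∀ (g : G) (m : ℕ), (g : G ⧸ K) = (x : G ⧸ K) ^ m → (¬ p ∣ orderOf g ↔ p ∣ m) := by
    intro g m hg
    constructor
    · intro h1
      by_contra h2
      apply h1
      have h3 : orderOf (g : G ⧸ K) = p := by
        rw [hg, (Nat.Coprime.orderOf_pow (by
          rw [hx']; exact (hp.out.coprime_iff_not_dvd.2 h2))), hx']
      rw [← h3]
      exact orderOf_map_dvd (QuotientGroup.mk' K) g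
    · intro h1 h2
      have h3 : (g : G ⧸ K) = 1 := by
        rw [hg, ← orderOf_dvd_iff_pow_eq_one, hx']
        exact h1
      exact hK (h2.trans (K.orderOf_dvd_natCard ((QuotientGroup.eq_one_iff g).1 h3)))
  refine ⟨i, ?_, fun k => hreg _ _ ?_, (hreg _ ((1 + i) * p) ?_).2 (dvd_mul_left _ _)⟩
  · obtain ⟨g, j, hg⟩ := h.exists_conj_pow hx (hy ▸ pow_orderOf_eq_one y)
    have h1 : (x : G ⧸ K) ^ j = (x : G ⧸ K) ^ i := by
      obtain ⟨m, hm⟩ := mem_zpowers_iff.1 (hall g)
      have hcomm : Commute (g : G ⧸ K) y := by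
        rw [← hm, ← hi]
        exact (Commute.refl _).zpow_left m |>.pow_right i
      rw [← QuotientGroup.mk_pow, ← hg, QuotientGroup.mk_mul, QuotientGroup.mk_mul,
        QuotientGroup.mk_inv, hcomm.eq, mul_inv_cancel_right, hi]
    rw [pow_eq_pow_iff_modEq, hx', ← hx, ← pow_eq_pow_iff_modEq] at h1
    rw [← h1, ← hg]
    exact isConj_iff.2 ⟨g⁻¹, by group⟩
  · rw [QuotientGroup.mk_mul, QuotientGroup.mk_pow, ← hi, ← pow_mul, pow_add, pow_one]
  · rw [QuotientGroup.mk_pow, QuotientGroup.mk_mul, ← hi, pow_mul, pow_add, pow_one]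

/-- The structure of a `p`-soluble subgroup generated by two elements of order `p`. -/
theorem pair (h : CycSyl p G) {x y : G} (hx : orderOf x = p) (hy : orderOf y = p)
    (hs : IsPSolvable p (closure ({x, y} : Set G))) :
    ∃ i : ℕ, IsConj (x ^ i) y ∧ (∀ k : ℕ, ¬ p ∣ orderOf (x * y ^ k) ↔ p ∣ 1 + i * k) ∧
      ¬ p ∣ orderOf ((x * y) ^ p) := by
  set H := closure ({x, y} : Set G)
  have hxH : x ∈ H := subset_closure (by simp)
  have hyH : y ∈ H := subset_closure (by simp)
  have hgen : closure ({⟨x, hxH⟩, ⟨y, hyH⟩} : Set H) = ⊤ := by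
    apply map_injective H.subtype_injective
    rw [MonoidHom.map_closure, ← MonoidHom.range_eq_map, range_subtype, Set.image_pair]
    rfl
  obtain ⟨i, h1, h2, h3⟩ := pair_top (h.subgroup H) hs (x := ⟨x, hxH⟩) (y := ⟨y, hyH⟩)
    (by rw [← hx, ← Subgroup.orderOf_coe]) (by rw [← hy, ← Subgroup.orderOf_coe]) hgen
  refine ⟨i, H.subtype.map_isConj h1, fun k => ?_, ?_⟩
  · rw [← h2 k, ← Subgroup.orderOf_coe]
    rfl
  · rw [← Subgroup.orderOf_coe] at h3
    exact h3

/-- If the normaliser of a cyclic Sylow subgroup fixes a nontrivial element, it centralises it. -/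
theorem normalizer_le_centralizer (P : Sylow p G) [IsCyclic P] {z : G} (hz : z ∈ (P : Subgroup G))
    (hz1 : z ≠ 1) (hfix : ∀ g ∈ normalizer ((P : Subgroup G) : Set G), g * z * g⁻¹ = z) :
    normalizer ((P : Subgroup G) : Set G) ≤ centralizer ((P : Subgroup G) : Set G) := by
  intro g hg
  obtain ⟨n, hn⟩ := Pair.exists_pow_mem_centralizer_of_isCyclic P.isPGroup' hg hz hz1 (hfix g hg)
  set N := normalizer ((P : Subgroup G) : Set G)
  have hle : (P : Subgroup G) ≤ centralizer ((P : Subgroup G) : Set G) := by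
    intro a ha
    refine mem_centralizer_iff.2 fun b hb => ?_
    letI : CommGroup P := IsCyclic.commGroup
    exact congrArg Subtype.val (mul_comm (⟨b, hb⟩ : P) ⟨a, ha⟩)
  have h1 : g ^ ((P : Subgroup G).subgroupOf N).index ∈ (P : Subgroup G) :=
    ((P : Subgroup G).subgroupOf N).pow_index_mem ⟨g, hg⟩
  have h2 : ¬ p ∣ ((P : Subgroup G).subgroupOf N).index := fun h =>
    P.not_dvd_index (h.trans (relIndex_dvd_index_of_le le_normalizer))
  have h3 : (p ^ n).Coprime ((P : Subgroup G).subgroupOf N).index :=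
    Nat.Coprime.pow_left _ (hp.out.coprime_iff_not_dvd.2 h2)
  have h4 : g = (g ^ p ^ n) ^ Nat.gcdA (p ^ n) ((P : Subgroup G).subgroupOf N).index *
      (g ^ ((P : Subgroup G).subgroupOf N).index) ^
        Nat.gcdB (p ^ n) ((P : Subgroup G).subgroupOf N).index := by
    rw [← zpow_natCast g (p ^ n), ← zpow_natCast g, ← zpow_mul, ← zpow_mul, ← zpow_add,
      ← Nat.gcd_eq_gcd_ab, h3.gcd_eq_one, Nat.cast_one, zpow_one]
  rw [h4]
  exact mul_mem (zpow_mem hn _) (zpow_mem (hle h1) _)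

theorem isPSolvable_of_normalizer_le (P : Sylow p G)
    (h : normalizer ((P : Subgroup G) : Set G) ≤ centralizer ((P : Subgroup G) : Set G)) :
    IsPSolvable p G :=
  IsPSolvable.of_ker_range (MonoidHom.transferSylow P h)
    (IsPSolvable.of_coprime (hp.out.coprime_iff_not_dvd.2
      (MonoidHom.not_dvd_card_ker_transferSylow P h)).symm)
    (IsPSolvable.of_isPGroup (P.isPGroup'.to_subgroup _))

end Cfsg.Lib.Block.CycPair
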