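import Cfsg.Agent.Block.BrauerSmall

/-!
# Modules of dimension less than `p` on which an element of order `p` has small Jordan blocks
-/

set_option autoImplicit false

namespace Cfsg.Lib.Block.TI

open Subgroup Module

universe u

variable {p : ℕ} [hp : Fact p.Prime] {K : Type*} [Field K] [CharP K p] {G : Type*} [Group G]
  [Finite G] {x : G}

theorem pow_semiconj {K V W : Type*} [Field K] [AddCommGroup V] [Module K V] [AddCommGroup W]
    [Module K W] (f : V →ₗ[K] W) {a : End K V} {b : End K W} (h : ∀ v, f (a v) = b (f v)) (s : ℕ)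
    (v : V) : f ((a ^ s) v) = (b ^ s) (f v) := by
  induction s with
  | zero => rfl
  | succ s ih => rw [pow_succ', pow_succ', Module.End.mul_apply, h, ih, Module.End.mul_apply]

omit [CharP K p] in
theorem exists_irr' (hP : Nat.card (zpowers x) = p) (hgen : normalClosure {x} = ⊤)
    (hNC : ¬ normalizer ((zpowers x : Subgroup G) : Set G) ≤ centralizer {x}) (s d : ℕ) :
    ∀ (V : Type u) [AddCommGroup V] [Module K V] [FiniteDimensional K V]
      (ρ : Representation K G V), finrank K V ≤ d → ρ x ≠ 1 → (ρ x - 1) ^ s = 0 →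
      ∃ (V' : Type u) (_ : AddCommGroup V') (_ : Module K V') (_ : FiniteDimensional K V')
        (ρ' : Representation K G V'),
        finrank K V' ≤ d ∧ ρ' x ≠ 1 ∧ (ρ' x - 1) ^ s = 0 ∧ ρ'.IsIrreducible := by
  induction d using Nat.strong_induction_on with
  | _ d ih =>
  intro V _ _ _ ρ hd hx hs
  by_cases hirr : ρ.IsIrreducible
  · exact ⟨V, _, _, inferInstance, ρ, hd, hx, hs, hirr⟩
  have hnt : Nontrivial (Subrepresentation ρ) := by
    refine ⟨⊥, ⊤, fun h => hx (LinearMap.ext fun v => ?_)⟩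
    have h1 : (⊥ : Submodule K V) = ⊤ := congrArg Subrepresentation.toSubmodule h
    have := Submodule.subsingleton_iff K |>.1 (subsingleton_of_bot_eq_top h1)
    exact Subsingleton.elim _ _
  obtain ⟨U, hU⟩ : ∃ U : Subrepresentation ρ, ¬ (U = ⊥ ∨ U = ⊤) := by
    by_contra h
    push Not at h
    exact hirr { eq_bot_or_eq_top := h }
  rw [not_or] at hU
  have h1 : U.toSubmodule ≠ ⊥ := fun h => hU.1 (Subrepresentation.toSubmodule_injective h)
  have h2 : U.toSubmodule ≠ ⊤ := fun h => hU.2 (Subrepresentation.toSubmodule_injective h)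
  have d1 := Submodule.finrank_lt h2
  have d2 := U.toSubmodule.finrank_quotient_add_finrank
  have d3 : finrank K U.toSubmodule ≠ 0 := fun h => h1 (Submodule.finrank_eq_zero.1 h)
  by_cases e1 : U.toRepresentation x = 1
  swap
  · obtain ⟨V', _, _, _, ρ', h, h'⟩ := ih _ (lt_of_lt_of_le d1 hd) _ U.toRepresentation le_rfl e1
      (LinearMap.ext fun v => Subtype.ext ((pow_semiconj U.toSubmodule.subtype (fun _ => rfl) s
        v).trans (by rw [hs]; rfl)))
    exact ⟨V', _, _, inferInstance, ρ', by omega, h'⟩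
  by_cases e2 : ρ.quotient U.toSubmodule U.apply_mem_toSubmodule x = 1
  swap
  · obtain ⟨V', _, _, _, ρ', h, h'⟩ := ih (finrank K (V ⧸ U.toSubmodule)) (by omega) _ _ le_rfl e2
      (LinearMap.ext fun v => by
        obtain ⟨v, rfl⟩ := U.toSubmodule.mkQ_surjective v
        rw [← pow_semiconj (a := ρ x - 1) U.toSubmodule.mkQ (fun _ => rfl), hs]; rfl)
    exact ⟨V', _, _, inferInstance, ρ', by omega, h'⟩
  have f1 : ∀ g, ∀ v ∈ U.toSubmodule, ρ g v = v := fun g v hv =>
    congrArg Subtype.val (LinearMap.congr_fun (forall_of_gen _ hgen e1 g) ⟨v, hv⟩)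
  have f2 : ∀ g v, ρ g v - v ∈ U.toSubmodule := fun g v =>
    (Submodule.Quotient.eq _).1
      (LinearMap.congr_fun (forall_of_gen _ hgen e2 g) (Submodule.Quotient.mk v))
  have f3 : ∀ g h v, ρ g (ρ h v) = ρ g v + ρ h v - v := fun g h v => by
    have := f1 g _ (f2 h v)
    rw [map_sub, sub_eq_iff_eq_add] at this
    rw [this]; abel
  refine absurd (fun n hn => ?_) hNC
  have h3 : n * x * n⁻¹ * x⁻¹ ∈ zpowers x :=
    mul_mem ((mem_normalizer_iff.1 hn x).1 (mem_zpowers x)) (inv_mem (mem_zpowers x))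
  have h4 : n * x * n⁻¹ * x⁻¹ ∈ ρ.ker := by
    have : ρ n * ρ x = ρ x * ρ n := LinearMap.ext fun v => by
      simp only [Module.End.mul_apply, f3, add_comm]
    rw [MonoidHom.mem_ker, map_mul, map_mul, map_mul, this, ← map_mul, ← map_mul, ← map_mul,
      mul_inv_cancel_right, mul_inv_cancel, map_one]
  by_contra h
  have h5 : n * x * n⁻¹ * x⁻¹ ≠ 1 := fun h' => h (mem_centralizer_singleton_iff.2 (by
    rwa [mul_inv_eq_one, mul_inv_eq_iff_eq_mul] at h'))
  exact hx ((PS.zpowers_eq_of_card hP h3 h5).ge.trans (zpowers_le.2 h4) (mem_zpowers x))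

section

variable {V : Type*} [AddCommGroup V] [Module K V] [FiniteDimensional K V] {N E : Subgroup G}

/-- The centralizer of `x` in `End V` is one-dimensional modulo its trace radical. -/
theorem cent_mod_rad' [IsAlgClosed K] (ρ : Representation K G V) [ρ.IsIrreducible]
    (hP : Nat.card (zpowers x) = p) (hPN : zpowers x ≤ N)
    (hNP : N ≤ normalizer ((zpowers x : Subgroup G) : Set G)) (hf : Free (zpowers x) N)
    (hEN : E ≤ N) (hE : ¬ p ∣ Nat.card E) (hPE : ∀ n ∈ N, ∃ y ∈ zpowers x, ∃ e ∈ E, n = y * e)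
    (hgen : normalClosure {x} = ⊤) {d : ℕ} (hud : (ρ x - 1) ^ (d + 1) = 0)
    (hd : 2 * (d + 1) ≤ p) (hd' : finrank K V < p) (a : End K V)
    (ha : ρ x * a = a * ρ x) :
    ∃ c, ∀ b, ρ x * b = b * ρ x →
      LinearMap.trace K V (a * b) = c * LinearMap.trace K V b := by
  have := nontrivial_of_irr ρ
  set σ := Representation.linHom ρ ρ with hσ
  have hδ : (σ x - 1) ^ (2 * d + 1) = 0 := linHom_sub_one_pow ρ hud
  let A : Submodule K (End K V) := LinearMap.ker (σ x - 1)
  have hA : ∀ f, f ∈ A ↔ σ x f = f := fun f => by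
    rw [LinearMap.mem_ker, LinearMap.sub_apply, sub_eq_zero]; rfl
  have hA' : ∀ f, ρ x * f = f * ρ x → f ∈ A := fun f h => (hA f).2 ((linHom_eq_self_iff ρ x f).2 h)
  have hAN : ∀ g ∈ N, ∀ f ∈ A, σ g f ∈ A := fun g hg f hf => by
    have := ker_pow_inv σ (hNP hg) 1 (v := f) (by rwa [pow_one])
    rwa [pow_one] at this
  have hinv' : ∀ g v w, trB K V (σ g v) w = trB K V v (σ g⁻¹ w) := fun g v w => by
    rw [← trB_inv ρ g v, ← Module.End.mul_apply, ← map_mul, mul_inv_cancel, map_one,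
      Module.End.one_apply]
  let J := A ⊓ (trB K V).orthogonal A
  obtain ⟨J', hJ, hJ'⟩ := exists_inv_compl σ E
    (fun h => hE ((CharP.cast_eq_zero_iff K p _).1 h)) J (fun e he v hv =>
      ⟨hAN e (hEN he) v hv.1, fun w hw => by
        change trB K V w _ = 0
        rw [trB_symm, hinv', trB_symm]
        exact hv.2 _ (hAN _ (N.inv_mem (hEN he)) w hw)⟩)
  have hdec : ∀ f ∈ A, ∃ f₀ ∈ A ⊓ J', ∀ b ∈ A, trB K V b f = trB K V b f₀ := by
    intro f hf
    obtain ⟨j, hj, f₀, hf₀, h⟩ := Submodule.mem_sup.1 (hJ.sup_eq_top ▸ Submodule.mem_top (x := f))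
    refine ⟨f₀, ⟨?_, hf₀⟩, fun b hb => ?_⟩
    · rw [← eq_sub_iff_add_eq'] at h
      rw [h]; exact A.sub_mem hf hj.1
    · rw [← h, map_add, hj.2 b hb, zero_add]
  obtain ⟨W, hW, -, a', ha', hcomm⟩ := exists_summand σ rfl (hP.trans (pow_one p).symm) hPN hf hδ
    (by rw [pow_one]; omega) (trB K V) (fun _ => Nil.eq_zero_of_trace_mul) trB_symm (trB_inv ρ)
    (A ⊓ J') (fun g hg w hw => by
      obtain ⟨y, hy, e, he, rfl⟩ := hPE g hg
      have h1 := hAN e (hEN he) w hw.1
      rw [map_mul, Module.End.mul_apply, apply_eq_of_mem_zpowers σ hy ((hA _).1 h1)]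
      exact ⟨h1, hJ' e he w hw.2⟩) (fun v hv h => by
      refine (Submodule.disjoint_def.1 hJ.disjoint) v ⟨hv.1, fun w hw => ?_⟩ hv.2
      obtain ⟨f₀, hf₀, h'⟩ := hdec w hw
      change trB K V w v = 0
      rw [trB_symm, h' v hv.1, h f₀ hf₀])
  have hker : ∀ g, ∀ w ∈ W, σ g w = w := by
    have h1 : normalClosure {x} ≤ (σ.subrepresentation W hW).ker := by
      refine normalClosure_le_normal (Set.singleton_subset_iff.2 ?_)
      refine LinearMap.ext fun w => Subtype.ext ?_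
      obtain ⟨w, hw⟩ := w
      rw [← ha'] at hw
      obtain ⟨w₀, hw₀, rfl⟩ := hw
      change σ x (a' w₀) = a' w₀
      rw [hcomm x (hPN (mem_zpowers x)), (hA _).1 hw₀.1]
    intro g w hw
    exact congrArg Subtype.val (LinearMap.congr_fun (h1 (hgen ▸ mem_top g)) ⟨w, hw⟩)
  have hsc : ∀ f ∈ A ⊓ J', ∃ c : K, a' f = c • 1 := fun f hf =>
    exists_eq_smul_one ρ fun g => (linHom_eq_self_iff ρ g _).1 (hker g _ (ha' ▸ ⟨f, hf, rfl⟩))
  obtain ⟨a₀, ha₀, h1⟩ := hdec a (hA' a ha)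
  obtain ⟨b₀, hb₀, h2⟩ := hdec 1 (hA' 1 (by simp))
  obtain ⟨α, hα⟩ := hsc a₀ ha₀
  obtain ⟨β, hβ⟩ := hsc b₀ hb₀
  have hβ0 : β ≠ 0 := by
    rintro rfl
    rw [zero_smul, map_eq_zero_iff _ a'.injective] at hβ
    have h3 := h2 1 (hA' 1 (by simp))
    rw [hβ, map_zero, trB_apply, mul_one, LinearMap.trace_one] at h3
    exact absurd (Nat.le_of_dvd finrank_pos ((CharP.cast_eq_zero_iff K p _).1 h3)) (by omega)
  have h3 : a₀ = (α / β) • b₀ := a'.injective (by
    rw [map_smul, hα, hβ, smul_smul, div_mul_cancel₀ _ hβ0])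
  refine ⟨α / β, fun b hb => ?_⟩
  rw [← trB_apply, trB_symm, h1 b (hA' b hb), h3, map_smul, ← h2 b (hA' b hb), trB_apply, mul_one,
    smul_eq_mul]

end

theorem exists_small_of_nil [IsAlgClosed K] (P : Sylow p G) (hx : zpowers x = P)
    (hP : Nat.card P = p) (hgen : normalClosure {x} = ⊤)
    (hNC : ¬ normalizer ((P : Subgroup G) : Set G) ≤ centralizer {x}) {V : Type u} [AddCommGroup V]
    [Module K V] [FiniteDimensional K V] (σ : Representation K G V) (hσ : σ x ≠ 1) {s : ℕ}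
    (hs : (σ x - 1) ^ s = 0) (h2 : 2 * s ≤ p) (hd : finrank K V < p) :
    ∃ (V' : Type u) (_ : AddCommGroup V') (_ : Module K V') (_ : FiniteDimensional K V')
      (ρ : Representation K G V'), finrank K V' ≤ s ∧ ρ x ≠ 1 := by
  obtain ⟨E, hEN, hE, hPE⟩ := exists_compl_normalizer P
  have hf := free_of_ti P (ti_of_card P hP)
  rw [← hx] at hEN hPE hf hNC hP
  obtain ⟨V', _, _, _, ρ, h3, h4, h5, h6⟩ := exists_irr' hP hgen hNC s _ V σ le_rfl hσ hs
  refine ⟨V', _, _, inferInstance, ρ, ?_, h4⟩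
  have := nontrivial_of_irr ρ
  obtain _ | s := s
  · simp at h5
  have hcu : ∀ f, (ρ x - 1) * f = f * (ρ x - 1) ↔ ρ x * f = f * ρ x := fun f => by
    rw [sub_mul, mul_sub, one_mul, mul_one, sub_left_inj]
  have h7 := Nil.pow_pred_ne_zero (p := p) ⟨_, h5⟩ (by omega) (pow_finrank_eq_zero ⟨_, h5⟩)
    fun a ha => by
      obtain ⟨c, hc⟩ := cent_mod_rad' ρ hP le_normalizer le_rfl hf hEN hE hPE hgen h5 h2 (by omega)
        a ((hcu a).1 ha)
      exact ⟨c, fun b hb => hc b ((hcu b).1 hb)⟩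
  by_contra h8
  exact h7 (pow_eq_zero_of_le (by omega) h5)

end Cfsg.Lib.Block.TI
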