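import Cfsg.Agent.Block.BrauerDeg
import Cfsg.Agent.Block.SmallNil
import Cfsg.Agent.S4468
import Cfsg.Agent.Block.CycPair

/-!
# Groups with a Sylow subgroup of order `p` acting nontrivially on a small module
-/

set_option autoImplicit false

namespace Cfsg.Lib.Block.TI

open Subgroup Module MulAction
open scoped MatrixGroups

variable {p : ℕ} [hp : Fact p.Prime] {G : Type*} [Group G] [Finite G] {x : G} {P : Sylow p G}

/-- Subgroups in which the normalizer of `P` centralizes `x` centralize `x`. -/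
def SP (P : Sylow p G) (x : G) : Prop := ∀ L : Subgroup G, x ∈ L →
  (∀ n ∈ normalizer ((P : Subgroup G) : Set G), n ∈ L → n ∈ centralizer {x}) → L ≤ centralizer {x}

theorem SP.comap_le (hS : SP P x) (hx : zpowers x = P) (hP : Nat.card P = p) {Γ : Type*} [Group Γ]
    (φ : G →* Γ) (hφ : φ x ≠ 1) : (zpowers (φ x)).comap φ ≤ centralizer {x} := by
  refine hS _ (mem_zpowers _) fun n hn hn' => ?_
  rw [← hx] at hn hP
  have h3 : n * x * n⁻¹ * x⁻¹ ∈ zpowers x :=
    mul_mem ((mem_normalizer_iff.1 hn x).1 (mem_zpowers x)) (inv_mem (mem_zpowers x))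
  have h4 : n * x * n⁻¹ * x⁻¹ ∈ φ.ker := by
    obtain ⟨k, hk⟩ := hn'
    simp only at hk
    rw [MonoidHom.mem_ker, map_mul, map_mul, map_mul, map_inv, map_inv, ← hk]
    group
  by_contra h
  have h5 : n * x * n⁻¹ * x⁻¹ ≠ 1 := fun h' => h (mem_centralizer_singleton_iff.2 (by
    rwa [mul_inv_eq_one, mul_inv_eq_iff_eq_mul] at h'))
  exact hφ ((PS.zpowers_eq_of_card hP h3 h5).ge.trans (zpowers_le.2 h4) (mem_zpowers x))

omit hp [Finite G] in
theorem SP.subtype (hS : SP P x) {H : Subgroup G} (hPH : (P : Subgroup G) ≤ H) (hxH : x ∈ H) :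
    SP (P.subtype hPH) ⟨x, hxH⟩ := fun L hL h g hg => by
  have h1 := hS (L.map H.subtype) ⟨_, hL, rfl⟩ (by
    rintro _ hn ⟨n, hn', rfl⟩
    exact mem_centralizer_singleton_iff.2 (congrArg Subtype.val (mem_centralizer_singleton_iff.1
      (h n (mem_normalizer_iff.2 fun y => mem_normalizer_iff.1 hn y) hn')))) ⟨g, hg, rfl⟩
  exact mem_centralizer_singleton_iff.2 (Subtype.ext (mem_centralizer_singleton_iff.1 h1))

theorem sp_of_char (hx : zpowers x = P) {χ : G → ℂ} (hχ : IsCharacter G χ)
    (hf : ∀ g, χ g = χ 1 → g = 1) (hd : charDegree χ + 2 ≤ p) : SP P x := fun L hL h => by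
  have hPL : (P : Subgroup G) ≤ L := hx ▸ zpowers_le.2 hL
  have hP' : zpowers x ≤ centralizer {x} := zpowers_le.2 (mem_centralizer_singleton_iff.2 rfl)
  have h1 : ∀ n : L, n ∈ normalizer ((P.subtype hPL : Subgroup L) : Set L) →
      (n : G) ∈ centralizer {x} := fun n hn => h n (mem_normalizer_fintype fun y hy =>
    (mem_normalizer_iff.1 hn ⟨y, hPL hy⟩).1 hy) n.2
  by_cases hn : (P.subtype hPL : Subgroup L).Normal
  · exact fun g hg => h1 ⟨g, hg⟩ (by rw [normalizer_eq_top]; trivial)
  have h2 := (Cfsg.Agent.S4468.result _ (hχ.res L) (fun g hg => Subtype.ext (hf g hg)) _ rfl p hp.out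
    (CycPair.isPSolvable_of_normalizer_le (P.subtype hPL) fun n hn y hy => Subtype.ext (by
      have := h1 n hn
      rw [← PS.centralizer_zpowers, hx] at this
      exact this y hy)) (show charDegree χ + 1 ≤ p by omega) _ hn).1
  exact absurd (show charDegree χ + 1 = p from h2) (by omega)

variable {K : Type*} [Field K] [CharP K p] [IsAlgClosed K] {V : Type*} [AddCommGroup V] [Module K V]
  [FiniteDimensional K V]

theorem index_of_small (hS : SP P x) (σ : Representation K G V) (hσ : σ x ≠ 1)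
    (hd : 2 * finrank K V ≤ p) (hx : zpowers x = P) (hP : Nat.card P = p)
    (hgen : normalClosure {x} = ⊤) (hc : ¬ ⊤ ≤ centralizer {x}) :
    5 ≤ p ∧ (normalizer ((P : Subgroup G) : Set G)).index = p + 1 ∧
      p - 1 ≤ 2 * (centralizer {x}).relIndex (normalizer ((P : Subgroup G) : Set G)) := by
  let φ := σ.asGroupHom.rangeRestrict
  have hφ : Function.Surjective φ := σ.asGroupHom.rangeRestrict_surjective
  have : Finite σ.asGroupHom.range := Finite.of_surjective φ hφ
  let τ : Representation K σ.asGroupHom.range V := (Units.coeHom _).comp (Subgroup.subtype _)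
  have hφx : φ x ≠ 1 := fun h => hσ (congrArg τ h)
  have hox : orderOf x = p := (Nat.card_zpowers x).symm.trans (hx ▸ hP)
  have hC := hS.comap_le hx hP φ hφx
  have hQ : zpowers (φ x) = P.mapSurjective hφ := by
    rw [Sylow.coe_mapSurjective, ← hx, MonoidHom.map_zpowers]
  have hgen' : normalClosure {φ x} = ⊤ := by
    rw [← Set.image_singleton, ← map_normalClosure _ _ hφ, hgen, map_top_of_surjective _ hφ]
  obtain ⟨h0, h1, h2⟩ := index_normalizer_of_small τ (Units.val_injective.comp Subtype.val_injective)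
    hd _ hQ (by
      rw [← hQ, Nat.card_zpowers]
      exact orderOf_eq_prime (by rw [← map_pow, ← hox, pow_orderOf_eq_one, map_one]) hφx) hgen'
    fun h => hc (by
      have h3 : zpowers (φ x) ≤ center _ := zpowers_le.2 (mem_center_iff.2
        fun g => mem_centralizer_singleton_iff.1 (h (mem_top g)))
      have : (zpowers (φ x)).Normal := ⟨fun y hy g => by
        rwa [mem_center_iff.1 (h3 hy) g, mul_inv_cancel_right]⟩
      rwa [top_le_iff.1 (hgen'.ge.trans (normalClosure_le_normal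
        (Set.singleton_subset_iff.2 (mem_zpowers (φ x))))), comap_top] at hC)
  rw [← hQ] at h1 h2
  have hN : (normalizer ((zpowers (φ x) : Subgroup _) : Set _)).comap φ =
      normalizer ((P : Subgroup G) : Set G) := by
    refine le_antisymm (fun g hg => ?_) ?_
    · have h5 : g * x * g⁻¹ ∈ centralizer {x} := hC (by
        rw [mem_comap, map_mul, map_mul, map_inv]
        exact (mem_normalizer_iff.1 hg _).1 (mem_zpowers _))
      have h6 : g * x * g⁻¹ ∈ (P : Subgroup G) := mem_sylow_of_centralizer P hx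
        (by rw [conj_pow, ← hox, pow_orderOf_eq_one, mul_one, mul_inv_cancel]) h5
      refine mem_normalizer_fintype fun y hy => ?_
      obtain ⟨k, rfl⟩ := hx.ge hy
      simp only [SetLike.mem_coe]
      rw [← conj_zpow]
      exact zpow_mem h6 k
    · rw [← MonoidHom.map_zpowers, ← map_le_iff_le_comap, hx]
      exact le_normalizer_map φ
  refine ⟨h0, by rw [← hN, index_comap_of_surjective _ hφ, h1], h2.trans (Nat.mul_le_mul_left _ ?_)⟩
  rw [← map_comap_eq_self_of_surjective hφ (normalizer _), ← relIndex_comap, hN]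
  exact relIndex_le_of_le_left (fun c hc => mem_centralizer_singleton_iff.2 (by
    rw [← map_mul, ← map_mul, mem_centralizer_singleton_iff.1 hc])) index_ne_zero_of_finite

theorem index_of_nil (hS : SP P x) (σ : Representation K G V) (hσ : σ x ≠ 1) {s : ℕ}
    (hs : (σ x - 1) ^ s = 0) (h2 : 2 * s ≤ p) (hd : finrank K V < p) (hx : zpowers x = P)
    (hP : Nat.card P = p) (hgen : normalClosure {x} = ⊤) (hc : ¬ ⊤ ≤ centralizer {x}) :
    5 ≤ p ∧ (normalizer ((P : Subgroup G) : Set G)).index = p + 1 ∧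
      p - 1 ≤ 2 * (centralizer {x}).relIndex (normalizer ((P : Subgroup G) : Set G)) := by
  obtain ⟨V', _, _, _, ρ, h3, h4⟩ := exists_small_of_nil P hx hP hgen
    (fun h => hc (hS ⊤ (mem_top x) fun n hn _ => h hn)) σ hσ hs h2 hd
  exact index_of_small hS ρ h4 (by omega) hx hP hgen hc

theorem psl2_of_nil (hS : SP P x) (σ : Representation K G V) (hσ : σ x ≠ 1) {s : ℕ}
    (hs : (σ x - 1) ^ s = 0) (hs' : 2 * s ≤ p) (hd : finrank K V < p) (hx : zpowers x = P)
    (hP : Nat.card P = p)
    (hPn : ¬ (P : Subgroup G).Normal) {e : ℕ}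
    (he : (centralizer {x}).relIndex (normalizer ((P : Subgroup G) : Set G)) = e) :
    p - 1 ≤ 2 * e ∧ ((∀ a ∈ centralizer {x}, ∀ b ∈ centralizer {x}, a * b = b * a) →
      2 * e + 1 = p → Nonempty ((G ⧸ center G) ≃* PSL(2, ZMod p))) := by
  have hp2 := hp.out.two_le
  have hxP : x ∈ (P : Subgroup G) := hx.le (mem_zpowers x)
  have hx1 : x ≠ 1 := fun h => hσ (by rw [h, map_one])
  have hox := PS.orderOf_eq_of_card hP hxP hx1
  set H := normalClosure ({x} : Set G) with hH
  have hxH : x ∈ H := subset_normalClosure rfl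
  have hPH : ∀ Q : Sylow p G, (Q : Subgroup G) ≤ H := fun Q =>
    PS.le_of_dvd_card Q ((Nat.card_congr (Q.equiv P).toEquiv).trans hP) H (hox ▸ orderOf_dvd_natCard _ hxH)
  have hP' : Nat.card (P.subtype (hPH P)) = p :=
    (Nat.card_congr (subgroupOfEquivOfLe (hPH P)).toEquiv).trans hP
  have hx' : zpowers (⟨x, hxH⟩ : H) = P.subtype (hPH P) :=
    PS.zpowers_eq_of_card hP' hxP fun h => hx1 (congrArg Subtype.val h)
  have hconj : ∀ g : G, orderOf (g * x * g⁻¹) = p := fun g => by
    rw [← MulAut.conj_apply, MulEquiv.orderOf_eq, hox]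
  have hHP : ∀ g : G, ∃ h ∈ H, h * (g * x * g⁻¹) * h⁻¹ ∈ (P : Subgroup G) := fun g => by
    obtain ⟨h, hh⟩ := PS.exists_conj_mem _ hP' (y := ⟨g * x * g⁻¹, Normal.conj_mem inferInstance x hxH g⟩)
      (by rw [← orderOf_coe]; exact hconj g)
    exact ⟨h, h.2, hh⟩
  have hgen : normalClosure {(⟨x, hxH⟩ : H)} = ⊤ := by
    apply map_injective H.subtype_injective
    rw [← MonoidHom.range_eq_map, range_subtype]
    refine le_antisymm (map_subtype_le _) ((closure_le _).2 fun y hy => ?_)
    obtain ⟨z, rfl, hz⟩ := Group.mem_conjugatesOfSet_iff.1 hy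
    obtain ⟨g, rfl⟩ := isConj_iff.1 hz
    obtain ⟨h, hh, h1⟩ := hHP g
    have h3 : zpowers (⟨z, hxH⟩ : H) ≤ normalClosure {(⟨z, hxH⟩ : H)} :=
      zpowers_le.2 (subset_normalClosure rfl)
    rw [hx'] at h3
    have h2 : (⟨_, hPH P h1⟩ : H) ∈ normalClosure {(⟨z, hxH⟩ : H)} := h3 h1
    exact ⟨_, Normal.conj_mem inferInstance _ h2 ⟨h, hh⟩⁻¹, by simp [mul_assoc]⟩
  obtain ⟨hp5, h1, h2⟩ := index_of_nil (hS.subtype (hPH P) hxH) (σ.comp H.subtype)
    hσ hs hs' hd hx' hP' hgen (fun h => hPn ⟨fun y hy g => by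
      obtain ⟨k, rfl⟩ := hx.ge hy
      rw [← conj_zpow]
      refine zpow_mem (mem_sylow_of_centralizer P hx (hconj g ▸ pow_orderOf_eq_one _) ?_) k
      exact mem_centralizer_singleton_iff.2 (congrArg Subtype.val (mem_centralizer_singleton_iff.1
        (h (mem_top ⟨_, Normal.conj_mem inferInstance x hxH g⟩))))⟩)
  have hcnt : ∀ n : ℕ, n ≡ 1 [MOD p] → n ≠ 1 → n ≠ 0 → n ≤ p + 1 → n = p + 1 := fun n a b c d => by
    have := Nat.le_of_dvd (by omega) ((Nat.modEq_iff_dvd' (by omega)).1 a.symm)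
    omega
  have hn : Nat.card (Sylow p G) = p + 1 := by
    refine hcnt _ (card_sylow_modEq_one p G) (fun h => hPn ?_) Nat.card_pos.ne' ?_
    · have := (Nat.card_eq_one_iff_unique.1 h).1
      exact P.normal_of_subsingleton
    · rw [← (Sylow.card_eq_index_normalizer _).trans h1]
      exact Nat.card_le_card_of_injective (fun Q => Q.subtype (hPH Q))
        fun Q R h => Sylow.subtype_injective h
  rw [PS.centralizer_singleton_eq hP' (y := ⟨x, hxH⟩) hxP fun h => hx1 (congrArg Subtype.val h),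
    ← PS.card_fiber _ hP' (y := ⟨x, hxH⟩) hxP fun h => hx1 (congrArg Subtype.val h)] at h2
  let ι : {z : H // z ∈ (P.subtype (hPH P) : Subgroup H) ∧ IsConj ⟨x, hxH⟩ z} →
      {z : G // z ∈ zpowers x ∧ IsConj x z} := fun z =>
    ⟨z.1, hx.ge z.2.1, H.subtype.map_isConj z.2.2⟩
  have hι : Function.Injective ι := fun z w h =>
    Subtype.ext (Subtype.ext (congrArg (fun a => a.1) h))
  have h3 := Nat.card_le_card_of_injective ι hι
  have h4 : Nat.card {z : G // z ∈ zpowers x ∧ IsConj x z} = e := by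
    rw [← he, PS.centralizer_singleton_eq hP hxP hx1, ← PS.card_fiber P hP hxP hx1, hx]
  refine ⟨by omega, fun hab hep => ?_⟩
  have hιs := (hι.bijective_of_nat_card_le (by omega)).2
  have hHC : ∀ g : G, ∃ h ∈ H, ∃ c ∈ centralizer {x}, g = h * c := fun g => by
    obtain ⟨h, hh, h5⟩ := hHP g
    obtain ⟨⟨z, hz, hz'⟩, h6⟩ := hιs ⟨_, hx.ge h5, isConj_iff.2 ⟨h * g, by group⟩⟩
    obtain ⟨k, hk⟩ := isConj_iff.1 hz'
    have h7 : (k : G) * x * (k : G)⁻¹ = h * (g * x * g⁻¹) * h⁻¹ :=
      (congrArg Subtype.val hk).trans (congrArg Subtype.val h6)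
    refine ⟨h⁻¹ * k, mul_mem (inv_mem hh) k.2, (k : G)⁻¹ * h * g,
      mem_centralizer_singleton_iff.2 ?_, by group⟩
    calc (k : G)⁻¹ * h * g * x = (k : G)⁻¹ * (h * (g * x * g⁻¹) * h⁻¹) * h * g := by group
      _ = _ := by rw [← h7]; group
  have hZ : ∀ L : Subgroup G, L.Normal → x ∉ L → L ≤ center G := fun L hL hxL => by
    have h5 := hS.comap_le hx hP (QuotientGroup.mk' L)
      (mt (QuotientGroup.eq_one_iff x).1 hxL)
    have h6 : L ≤ centralizer {x} := fun l hl => h5 (by
      rw [mem_comap, show QuotientGroup.mk' L l = 1 from (QuotientGroup.eq_one_iff l).2 hl]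
      exact one_mem _)
    have h7 : H ≤ centralizer L := normalClosure_le_normal (Set.singleton_subset_iff.2
      fun l hl => mem_centralizer_singleton_iff.1 (h6 hl))
    intro l hl
    refine mem_center_iff.2 fun g => ?_
    obtain ⟨h, hh, c, hc, rfl⟩ := hHC g
    rw [mul_assoc, hab c hc l (h6 hl), ← mul_assoc, ← h7 hh l hl, mul_assoc]
  have hxZ : x ∉ center G := fun h => hPn ⟨fun y hy g => by
    rw [mem_center_iff.1 ((hx ▸ zpowers_le.2 h) hy) g, mul_inv_cancel_right]; exact hy⟩
  let π := QuotientGroup.mk' (center G)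
  have hπ : Function.Surjective π := QuotientGroup.mk'_surjective _
  have hπx : π x ≠ 1 := mt (QuotientGroup.eq_one_iff x).1 hxZ
  have hCπ : (zpowers (π x)).comap π = centralizer {x} := by
    refine le_antisymm (hS.comap_le hx hP π hπx) fun c hc => ?_
    have : Nontrivial (Sylow p G) := Finite.one_lt_card_iff_nontrivial.1 (by omega)
    obtain ⟨Q, hQ⟩ := exists_ne P
    have hcP : c • P = P := Sylow.smul_eq_iff_mem_normalizer.2 (by
      have := centralizer_le_normalizer _ ((PS.centralizer_zpowers x).ge hc)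
      rwa [hx] at this)
    obtain ⟨y, hy, hyQ⟩ := exists_smul_eq_of_ne P hP hn hQ (R := c • Q) fun h => hQ (by
      rw [← hcP, smul_left_cancel_iff] at h; exact h)
    have hPC : (P : Subgroup G) ≤ centralizer {x} :=
      PS.centralizer_singleton_eq hP hxP hx1 ▸ PS.le_centralizer_of_card hP
    have h5 : y⁻¹ * c ∈ (toPermHom G (Sylow p G)).ker := by
      refine Equiv.ext fun R => ?_
      change (y⁻¹ * c) • R = R
      by_cases hR : R = P
      · rw [hR, mul_smul, hcP, Known.smul_sylow_eq_of_mem (inv_mem hy)]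
      · obtain ⟨z, hz, rfl⟩ := exists_smul_eq_of_ne P hP hn hQ hR
        rw [← mul_smul, hab _ (mul_mem (inv_mem (hPC hy)) hc) z (hPC hz), mul_smul, mul_smul, ← hyQ,
          inv_smul_smul]
    have h6 := hZ _ inferInstance (fun h => hx1 ((ti_of_card P hP Q hQ).le
      ⟨hxP, Known.mem_sylow_of_smul_eq hxP (Equiv.congr_fun h Q)⟩)) h5
    rw [mem_comap, ← mul_inv_cancel_left y c, map_mul,
      show π (y⁻¹ * c) = 1 from (QuotientGroup.eq_one_iff _).2 h6, mul_one,
      ← MonoidHom.map_zpowers, hx]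
    exact mem_map_of_mem _ hy
  have hoπ : orderOf (π x) = p :=
    orderOf_eq_prime (by rw [← map_pow, ← hox, pow_orderOf_eq_one, map_one]) hπx
  have hcard : 2 * Nat.card (G ⧸ center G) = p * (p ^ 2 - 1) := by
    have h5 := PS.card_fiber P hP hxP hx1
    have h6 : Nat.card {z : G // z ∈ (P : Subgroup G) ∧ IsConj x z} = e := by
      rw [← hx]; omega
    rw [← (zpowers (π x)).card_mul_index, Nat.card_zpowers, hoπ, ← index_comap_of_surjective _ hπ,
      hCπ, PS.centralizer_singleton_eq hP hxP hx1, ← relIndex_mul_index (centralizer_le_normalizer _),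
      ← h5, h6, show (normalizer ((P : Subgroup G) : Set G)).index = p + 1 from
        P.card_eq_index_normalizer.symm.trans hn]
    have h7 : p ^ 2 - 1 = 2 * (e * (p + 1)) := by
      have h8 : p = 2 * e + 1 := by omega
      apply Nat.sub_eq_of_eq_add
      conv_lhs => rw [h8]
      conv_rhs => rw [h8]
      ring
    rw [h7]; ring
  have : Nontrivial (G ⧸ center G) := ⟨_, _, hπx⟩
  have : IsSimpleGroup (G ⧸ center G) := ⟨fun L hL => by
    by_cases h : x ∈ L.comap π
    · right
      have h5 : H ≤ L.comap π := normalClosure_le_normal (Set.singleton_subset_iff.2 h)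
      refine top_le_iff.1 fun g _ => ?_
      obtain ⟨g, rfl⟩ := hπ g
      obtain ⟨h', hh, c, hc, rfl⟩ := hHC g
      rw [map_mul]
      exact mul_mem (h5 hh) ((zpowers_le (g := π x) (H := L)).2 h (hCπ.ge hc))
    · left
      refine le_bot_iff.1 fun g hg => ?_
      obtain ⟨g, rfl⟩ := hπ g
      exact (QuotientGroup.eq_one_iff g).2 (hZ _ inferInstance h hg)⟩
  refine Known.psl2_of_card_sylow (by omega) hcard
    (hcnt _ (card_sylow_modEq_one p _) (fun h => ?_) Nat.card_pos.ne'
      (hn ▸ Nat.card_le_card_of_surjective _ (Sylow.mapSurjective_surjective hπ p)))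
  have := (Nat.card_eq_one_iff_unique.1 h).1
  have h5 := (P.mapSurjective hπ).normal_of_subsingleton
  rw [Sylow.coe_mapSurjective, ← hx, MonoidHom.map_zpowers] at h5
  rcases h5.eq_bot_or_eq_top with h6 | h6
  · exact hπx (zpowers_eq_bot.1 h6)
  · rw [← card_top, ← h6, Nat.card_zpowers, hoπ, mul_comm] at hcard
    have h7 := Nat.eq_of_mul_eq_mul_left hp.out.pos hcard
    have : 5 ^ 2 ≤ p ^ 2 := Nat.pow_le_pow_left hp5 2
    omega

end Cfsg.Lib.Block.TI
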