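import Cfsg.Agent.Block.TuanLin
import Cfsg.Agent.Block.FeitUni
import Cfsg.Agent.Block.SmallQ

/-!
# Characters of degree `(p + 1) / 2`
-/

set_option autoImplicit false

namespace Cfsg.Lib.Block.Lat

open Module Subgroup Representation IsLocalRing Cfsg.Lib.Char Cfsg.Lib.Block.TI
  Cfsg.Lib.Block.SD Cfsg.Lib.Block.Nil
open scoped MatrixGroups

theorem avg_eq_zero {K G V : Type*} [Field K] [Group G] [AddCommGroup V] [Module K V]
    {E : Subgroup G} [Fintype E] (σ : Representation K G V) {ν μ : G → K} (h : IsW E ν) {g : G}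
    (hg : g ∈ E) (hne : ν g ≠ μ g) {m : V} (hm : m ∈ wt σ E μ) : avg σ E ν m = 0 := by
  have h1 := avg_mem σ h m g hg
  rw [avg_mem_of_inv σ (J := wt σ E μ) (fun a ha v hv => hv a ha ▸ Submodule.smul_mem _ _ hv) hm
    g hg, ← sub_eq_zero, ← sub_smul, smul_eq_zero, sub_eq_zero] at h1
  exact h1.resolve_left hne.symm

variable {p : ℕ} [hp : Fact p.Prime] {G : Type*} [Group G] [Finite G]

namespace GD

variable {P : Sylow p G} {x : G} {H : Subgroup (ZMod p)ˣ} {E : Subgroup G} {r : G → (ZMod p)ˣ}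
  (h : GD P x H E r)
include h

local notation "N" => normalizer ((P : Subgroup G) : Set G)

theorem comm {a b : G} (ha : a ∈ E) (hb : b ∈ E) : a * b = b * a :=
  congrArg Subtype.val ((h.rE.isMulCommutative_of_isCyclic_of_ker_le_center fun g hg =>
    mem_center_iff.2 fun a => Subtype.ext
      (mem_center_iff.1 ((h.r_eq_one_iff' g.2).1 hg) a)).is_comm.comm ⟨a, ha⟩ ⟨b, hb⟩)

theorem exists_pow_ne (K : Type*) [Field K] [CharP K p] {i j : ℕ} (hij : i < j)
    (hj : j < i + Nat.card H) : ∃ g ∈ E, Rk K r g ^ i ≠ Rk K r g ^ j := by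
  obtain ⟨⟨a, ha⟩, h2⟩ := IsCyclic.exists_monoid_generator (α := H)
  obtain ⟨g, hg, rfl⟩ := h.surj a ha
  refine ⟨g, hg, fun h1 => ?_⟩
  obtain ⟨k, rfl⟩ := Nat.exists_eq_add_of_lt hij
  rw [add_assoc, pow_add, eq_comm, mul_eq_left₀ (pow_ne_zero _ ((h.isW_Rk K).ne_zero hg)),
    Rk_pow_eq_one_iff] at h1
  have h3 := orderOf_dvd_of_pow_eq_one (x := (⟨_, ha⟩ : H)) (Subtype.ext h1)
  rw [orderOf_eq_card_of_forall_mem_powers h2] at h3
  have := Nat.le_of_dvd k.succ_pos h3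
  omega

/-- Endomorphisms of the fixed space of `x` lift to the group, up to projective ones. -/
theorem exists_lift {K X : Type*} [Field K] [CharP K p] [AddCommGroup X] [Module K X] [Fintype P]
    (σ : Representation K G X) {θ : End K X} (h1 : ∀ g ∈ E, σ g * θ = θ * σ g)
    (h2 : ∀ J : Submodule K X, (∀ g ∈ E, ∀ m ∈ J, σ g m ∈ J) → ∀ m ∈ J, θ m ∈ J) :
    ∃ T : End K X, (∀ g, σ g * T = T * σ g) ∧
      ∀ a, σ x a = a → ∃ w, T a = θ a + ∑ y : P, σ y w := by
  have := Fintype.ofFinite G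
  have := Fintype.ofFinite E
  have hN : ∀ g ∈ E, g ∈ normalizer ((zpowers x : Subgroup G) : Set G) := fun g hg =>
    h.hxP ▸ h.le hg
  have hk : ∀ {Y : Type _} [AddCommGroup Y] [Module K Y] (τ : Representation K G Y) (a : Y),
      a ∈ LinearMap.ker (τ x - 1) ↔ τ x a = a := fun τ a => sub_eq_zero
  obtain ⟨ψ, hψ, hψ'⟩ := Mod.exists_commute_extend (σ x - 1) θ
    (isNilpotent_sub_one σ (h.hxP ▸ h.card_P)) fun l v hv hl => h2
      (LinearMap.ker (σ x - 1) ⊓ LinearMap.range ((σ x - 1) ^ l)) (fun g hg m hm =>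
        ⟨(hk σ _).2 (fix_inv σ (hN g hg) ((hk σ _).1 hm.1)), range_pow_inv σ (hN g hg) l hm.2⟩)
      v ⟨hv, hl⟩
  have hw : IsW E (1 : G → K) := ⟨rfl, fun _ _ _ _ => (mul_one _).symm⟩
  set ψ' := avg (linHom σ σ) E 1 ψ
  have h3 : linHom σ σ x ψ' = ψ' := (hk _ _).1 (avg_mem_of_inv _ (fun g hg m hm =>
    (hk _ _).2 (fix_inv _ (hN g hg) ((hk _ _).1 hm))) ((hk _ _).2 ((linHom_eq_self_iff σ x ψ).2 (by
      rwa [mul_sub, sub_mul, mul_one, one_mul, sub_left_inj, eq_comm] at hψ))))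
  have h4 : ∀ n ∈ N, linHom σ σ n ψ' = ψ' := fun n hn => by
    obtain ⟨y, hy, e, he, rfl⟩ := h.decomp n hn
    rw [map_mul, Module.End.mul_apply, avg_mem _ hw ψ e he, Pi.one_apply, one_smul,
      apply_eq_of_mem_zpowers _ (h.hxP.ge hy) h3]
  refine ⟨_, fun g => (linHom_eq_self_iff σ g _).1 (apply_trN h4 g), fun a ha => ?_⟩
  obtain ⟨w, hw'⟩ := trN_eq le_normalizer h.free h4
  refine ⟨w a, ?_⟩
  rw [hw', LinearMap.add_apply, LinearMap.sum_apply]
  congr 1
  · have h5 := avg_sub_mem (linHom σ σ) (h.card_E_ne K) hw (m := ψ)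
      (J := LinearMap.ker (LinearMap.applyₗ a)) fun g hg => by
        change σ g (ψ (σ g⁻¹ a)) - (1 : K) • ψ a = 0
        rw [hψ' _ ((hk σ _).2 (fix_inv σ (hN _ (inv_mem hg)) ha)), hψ' a ((hk σ _).2 ha),
          ← Module.End.mul_apply, h1 g hg, Module.End.mul_apply, σ.self_inv_apply, one_smul,
          sub_self]
    exact (sub_eq_zero.1 h5).trans (hψ' a ((hk σ _).2 ha))
  · exact Finset.sum_congr rfl fun y _ => congrArg (fun b => σ y (w b))
      (apply_eq_of_mem_zpowers σ (h.hxP.ge (inv_mem y.2)) ha)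

theorem exists_five {K V : Type*} [Field K] [CharP K p] [AddCommGroup V] [Module K V]
    [FiniteDimensional K V] (ρ : Representation K G V) {d : ℕ} (hd : finrank K V = d + 1)
    (hud : (ρ x - 1) ^ (d + 1) = 0) (hu : (ρ x - 1) ^ d ≠ 0) (he : Nat.card H = d)
    (hdp : 2 * d + 1 = p) (h3 : 3 ≤ d) : ∃ W : Submodule K (End K V),
      (∀ g, ∀ w ∈ W, linHom ρ ρ g w ∈ W) ∧ finrank K W ≤ 5 ∧ ∃ w ∈ W, linHom ρ ρ x w ≠ w := by
  have := Fintype.ofFinite P
  have := Fintype.ofFinite E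
  obtain ⟨hcent, hcomm, -⟩ := exists_partner hd hud hu
  obtain ⟨hr1, hr2⟩ := ad_range hd hud hu (by omega) (show d + 3 < p by omega)
  set σ := linHom ρ ρ
  set u := ρ x - 1 with hu'
  have hE := h.card_E_ne K
  have hw := (h.isW_Rk K).pow
  set R := Rk K r
  have hcu : ∀ f, u * f = f * u ↔ σ x f = f := fun f => by
    rw [hu', sub_mul, mul_sub, one_mul, mul_one, sub_left_inj, linHom_eq_self_iff]
  have hδ : σ x - 1 = ad u * LinearMap.mulRight K (ρ x⁻¹) := LinearMap.ext fun f => by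
    change ρ x * f * ρ x⁻¹ - f = u * (f * ρ x⁻¹) - (f * ρ x⁻¹ * u)
    rw [hu', mul_sub, mul_assoc f, ← map_mul, inv_mul_cancel, map_one]
    noncomm_ring
  have hδc : Commute (ad u) (LinearMap.mulRight K (ρ x⁻¹)) := by
    refine Commute.sub_left (LinearMap.commute_mulLeft_right u _) (LinearMap.ext fun f => ?_)
    change f * ρ x⁻¹ * u = f * u * ρ x⁻¹
    rw [mul_assoc, mul_assoc, hu', mul_sub, sub_mul, ← map_mul, ← map_mul, mul_inv_cancel,
      inv_mul_cancel, mul_one, one_mul]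
  let F : ℕ → Submodule K (End K V) := fun j =>
    (LinearMap.ker (ad u)).map (LinearMap.mulLeft K (u ^ j))
  have hF : ∀ j a, a ∈ F j ↔ ∃ b, u * b = b * u ∧ u ^ j * b = a := fun j a =>
    exists_congr fun b => and_congr_left' sub_eq_zero
  have hF0 : ∀ a, σ x a = a ↔ a ∈ F 0 := fun a => by simp [hF, hcu]
  have hF1 : ∀ j, F (j + 1) ≤ F j := fun j a ha => by
    obtain ⟨b, hb, rfl⟩ := (hF _ _).1 ha
    exact (hF _ _).2 ⟨u * b, by rw [mul_assoc, hb], by rw [pow_succ, mul_assoc]⟩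
  have hFm : Antitone F := antitone_nat_of_succ_le hF1
  have hFu : ∀ j, u ^ j ∈ F j := fun j => (hF _ _).2 ⟨1, by simp, mul_one _⟩
  have hFd : ∀ j, ∀ a ∈ F j, ∃ c : K, a - c • u ^ j ∈ F (j + 1) := fun j a ha => by
    obtain ⟨b, hb, rfl⟩ := (hF _ _).1 ha
    obtain ⟨c₀, c₁, b', hb', rfl⟩ := hcent b hb
    refine ⟨c₀, (hF _ _).2 ⟨c₁ • 1 + u * b', by simp [mul_add, add_mul, mul_assoc, ← hb'], ?_⟩⟩
    simp only [mul_add, mul_smul_comm, mul_one, pow_succ, pow_zero, one_mul, mul_assoc]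
    abel
  have hFz : ∀ a ∈ F (d + 1), a = 0 := fun a ha => by
    obtain ⟨b, -, rfl⟩ := (hF _ _).1 ha
    rw [hud, zero_mul]
  have hσm : ∀ g a b, σ g (a * b) = σ g a * σ g b := fun g a b => by
    simp only [σ, linHom_apply', mul_assoc]
    rw [← mul_assoc (ρ g⁻¹) (ρ g), ← map_mul, inv_mul_cancel, map_one, one_mul]
  have hwt : ∀ j, ∀ g ∈ E, σ g (u ^ j) - (R ^ j) g • u ^ j ∈ F (j + 1) := fun j g hg => by
    obtain ⟨k, hk, hk'⟩ := h.hR K g hg
    obtain ⟨S, hS, hS'⟩ := pow_sub_one_eq (K := K) (ρ x) k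
    have h1 : σ g u = R g • u + u ^ 2 * S := by
      rw [linHom_apply', hu', conj_sub_one ρ hk, mul_assoc, ← map_mul, mul_inv_cancel, map_one,
        mul_one, hS', hk']
    induction j with
    | zero =>
      rw [pow_zero, linHom_apply', mul_one, ← map_mul, mul_inv_cancel, map_one]; simp
    | succ j ih =>
      obtain ⟨b, hb, ih⟩ := (hF _ _).1 ih
      rw [eq_sub_iff_add_eq'] at ih
      refine (hF _ _).2 ⟨(R ^ j) g • S + R g • b + b * u * S, ?_, ?_⟩
      · simp only [mul_add, add_mul, mul_smul_comm, smul_mul_assoc, hb, mul_assoc]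
        rw [← hS, ← mul_assoc u b, hb, mul_assoc]
      · rw [pow_succ u j, hσm, ← ih, h1]
        have h2 : ∀ c, b * (u * c) = u * (b * c) := fun c => by rw [← mul_assoc, ← hb, mul_assoc]
        simp only [mul_add, add_mul, mul_smul_comm, smul_mul_assoc, pow_succ, pow_zero, one_mul,
          mul_assoc, Pi.mul_apply, ← hb, smul_add, smul_smul, h2, mul_comm (R g)]
        abel
  have hFE : ∀ j, ∀ g ∈ E, ∀ a ∈ F j, σ g a ∈ F j := fun j g hg a ha => by
    obtain ⟨b, hb, rfl⟩ := (hF _ _).1 ha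
    obtain ⟨c, hc, hc'⟩ := (hF _ _).1 ((F j).add_mem (hF1 j (hwt j g hg))
      ((F j).smul_mem ((R ^ j) g) (hFu j)))
    have h1 := (hcu _).2 (fix_inv σ (h.hxP ▸ h.le hg) ((hcu b).1 hb))
    rw [sub_add_cancel] at hc'
    exact (hF _ _).2 ⟨c * σ g b, by rw [← mul_assoc, hc, mul_assoc, h1, mul_assoc], by
      rw [hσm, ← hc', mul_assoc]⟩
  let Y : ℕ → End K V := fun j => avg σ E (R ^ j) (u ^ j)
  have hY : ∀ j, Y j - u ^ j ∈ F (j + 1) := fun j => avg_sub_mem σ hE (hw j) (hwt j)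
  have hYz : ∀ i j, i ≠ j → i < j + d → j < i + d → avg σ E (R ^ i) (Y j) = 0 := fun i j h1 h2 h3 => by
    obtain ⟨g, hg, h4⟩ : ∃ g ∈ E, R g ^ i ≠ R g ^ j := by
      rcases h1.lt_or_gt with h1 | h1
      · exact h.exists_pow_ne K h1 (he ▸ h3)
      · simpa only [ne_comm] using h.exists_pow_ne K h1 (he ▸ h2)
    exact avg_eq_zero σ (hw i) hg h4 (avg_mem σ (hw j) _)
  have hθ : ∀ i, 0 < i → i < d → ∀ m j, j + m = d + 1 → ∀ a ∈ F j,
      avg σ E (R ^ i) a ∈ Submodule.span K {Y i} := fun i h1 h2 m => by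
    induction m with
    | zero => intro j hj a ha; rw [hFz a (hj ▸ ha), map_zero]; exact Submodule.zero_mem _
    | succ m ih =>
      intro j hj a ha
      obtain ⟨c, hc⟩ := hFd j a ha
      rw [← sub_add_cancel a (c • u ^ j), map_add, map_smul]
      refine Submodule.add_mem _ (ih _ (by omega) _ hc) (Submodule.smul_mem _ _ ?_)
      by_cases hij : i = j
      · exact hij ▸ Submodule.mem_span_singleton_self _
      · have h4 := ih _ (by omega) _ (hY j)
        rwa [map_sub, hYz i j hij (by omega) (by omega), zero_sub, neg_mem_iff] at h4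
  obtain ⟨T, hT, hT'⟩ := h.exists_lift σ (θ := avg σ E (R ^ 1) + (2 : K) • avg σ E (R ^ 2))
    (fun g hg => LinearMap.ext fun m => by
      have h1 := fun ν => avg_comm σ (ν := ν) (f := σ g) (fun a ha => by
        rw [← map_mul, h.comm ha hg, map_mul]) m
      simp [h1])
    fun J hJ m hm => J.add_mem (avg_mem_of_inv σ hJ hm) (J.smul_mem _ (avg_mem_of_inv σ hJ hm))
  have hT1 : ∀ a ∈ F 0, ∃ c : K,
      T a = avg σ E (R ^ 1) a + (2 : K) • avg σ E (R ^ 2) a + c • u ^ d := fun a ha => by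
    obtain ⟨w, hw⟩ := hT' a ((hF0 a).2 ha)
    obtain ⟨b, hb⟩ := exists_sum_conj_eq ρ h.hxP (h.card_P.trans (pow_one p).symm) hud (m := d)
      (by rw [pow_one]; omega) w
    have h1 : ∀ j ≤ d, ∑ y : P, σ y w ∈ F j := fun j hj => by
      induction j with
      | zero =>
        rw [← hF0, map_sum]
        exact Fintype.sum_equiv (Equiv.mulLeft ⟨x, h.hxP.le (mem_zpowers x)⟩) _ _ fun y => by
          rw [← Module.End.mul_apply, ← map_mul]; rfl
      | succ j ih =>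
        obtain ⟨c, hc⟩ := hFd j _ (ih (by omega))
        by_cases h0 : c = 0
        · simpa [h0] using hc
        obtain ⟨b', -, hb'⟩ := (hF _ _).1 hc
        refine absurd (pow_eq_zero_of_le hj (eq_zero_of_pow_eq_mul ⟨_, hud⟩ (c := -c⁻¹ • b') ?_)) hu
        rw [mul_smul_comm, pow_succ' u (j + 1), mul_assoc, hb', hb, mul_sub, ← mul_assoc,
          ← pow_succ', hud, mul_smul_comm, ← pow_succ', zero_mul, zero_sub, smul_neg, neg_smul,
          neg_neg, inv_smul_smul₀ h0]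
    obtain ⟨c, hc⟩ := hFd d _ (h1 d le_rfl)
    exact ⟨c, by rw [hw, sub_eq_zero.1 (hFz _ hc)]; rfl⟩
  have hYF : ∀ j, Y j ∈ F j := fun j => avg_mem_of_inv σ (hFE j) (hFu j)
  have hYd : Y d = u ^ d := sub_eq_zero.1 (hFz _ (hY d))
  obtain ⟨c, hc⟩ := hT1 _ (hFm d.zero_le (hYF d))
  rw [hYz 1 d (by omega) (by omega) (by omega), hYz 2 d (by omega) (by omega) (by omega), hYd,
    smul_zero, add_zero, zero_add] at hc
  have hTY : ∀ i, i = 1 ∨ i = 2 → ∃ t : K, T (Y i) = (i : K) • Y i + t • u ^ d := by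
    rintro i (rfl | rfl)
    · obtain ⟨t, ht⟩ := hT1 _ (hFm (Nat.zero_le 1) (hYF 1))
      exact ⟨t, by rw [ht, hYz 2 1 (by omega) (by omega) (by omega),
        avg_eq σ hE (hw 1) (avg_mem σ (hw 1) _)]; simp [Y]⟩
    · obtain ⟨t, ht⟩ := hT1 _ (hFm (Nat.zero_le 2) (hYF 2))
      exact ⟨t, by rw [ht, hYz 1 2 (by omega) (by omega) (by omega),
        avg_eq σ hE (hw 2) (avg_mem σ (hw 2) _)]; simp [Y]⟩
  let Z : ℕ → End K V := fun i => T (Y i) - c • Y i
  have hZ : ∀ i, i = 1 ∨ i = 2 → T (Z i) = (i : K) • Z i := fun i hi => by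
    obtain ⟨t, ht⟩ := hTY i hi
    simp only [Z, ht, map_sub, map_add, map_smul, hc]
    module
  have hZ' : ∀ a ∈ F 0, ∃ s t : K, T (T a) - c • T a = s • Z 1 + t • Z 2 := fun a ha => by
    obtain ⟨t, ht⟩ := hT1 a ha
    obtain ⟨s₁, h1⟩ := Submodule.mem_span_singleton.1
      (hθ 1 (by omega) (by omega) _ 0 (zero_add _) a ha)
    obtain ⟨s₂, h2⟩ := Submodule.mem_span_singleton.1
      (hθ 2 (by omega) (by omega) _ 0 (zero_add _) a ha)
    refine ⟨s₁, 2 * s₂, ?_⟩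
    simp only [Z, ht, ← h1, ← h2, map_add, map_smul, hc]
    module
  have e2 : (2 : K) ≠ 0 := fun h' => by
    have := Nat.le_of_dvd two_pos ((CharP.cast_eq_zero_iff K p 2).1 h')
    omega
  obtain ⟨i, j, hi, hic, hij, hi0, hZj⟩ : ∃ i j : ℕ, (i = 1 ∨ i = 2) ∧ (i : K) - c ≠ 0 ∧
      (i : K) - j ≠ 0 ∧ (i : K) ≠ 0 ∧ ∀ s t : K, T (s • Z 1 + t • Z 2) - (j : K) •
        (s • Z 1 + t • Z 2) ∈ Submodule.span K {Z i} := by
    have z1 := hZ 1 (.inl rfl)
    have z2 := hZ 2 (.inr rfl)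
    by_cases h1 : c = 1
    · refine ⟨2, 1, .inr rfl, by rw [h1]; norm_num, by norm_num, e2, fun s t =>
        Submodule.mem_span_singleton.2 ⟨t, ?_⟩⟩
      simp only [map_add, map_smul, z1, z2]
      module
    · refine ⟨1, 2, .inl rfl, by rw [Nat.cast_one]; exact sub_ne_zero.2 (Ne.symm h1), by norm_num,
        by simp, fun s t => Submodule.mem_span_singleton.2 ⟨-s, ?_⟩⟩
      simp only [map_add, map_smul, z1, z2]
      module
  set S := (T - (j : K) • 1) * ((T - c • 1) * T)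
  have hS : ∀ g, Commute (σ g) S := fun g =>
    (Commute.sub_right (hT g) ((Commute.one_right _).smul_right _)).mul_right
      ((Commute.sub_right (hT g) ((Commute.one_right _).smul_right _)).mul_right (hT g))
  obtain ⟨b, hb, hb'⟩ : ∃ b, u * b = b * u ∧ Z i = ((i : K) - c) • (u ^ i + u ^ (i + 1) * b) := by
    obtain ⟨t, ht⟩ := hTY i hi
    obtain ⟨b, hb, hb'⟩ := (hF _ _).1 ((F (i + 1)).add_mem (hY i)
      ((F _).smul_mem (((i : K) - c)⁻¹ * t) (hFm (show i + 1 ≤ d by omega) (hFu d))))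
    refine ⟨b, hb, ?_⟩
    rw [hb', ← add_assoc, add_sub_cancel, smul_add, smul_smul, mul_inv_cancel_left₀ hic]
    simp only [Z, ht]
    module
  obtain ⟨n, hn, w, hw, hw'⟩ := exists_fitting (δ := σ x - 1) (S := S) (y := Z i)
    (c := (i - j) * ((i - c) * i)) ((hS x).sub_left (Commute.one_left _))
    (isNilpotent_sub_one σ (h.hxP ▸ h.card_P)) (fun a ha => by
      obtain ⟨s, t, h1⟩ := hZ' a ((hF0 a).1 (sub_eq_zero.1 ha))
      have := hZj s t
      rw [← h1] at this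
      exact this) (by
      simp only [S, Module.End.mul_apply, LinearMap.sub_apply, LinearMap.smul_apply,
        Module.End.one_apply, hZ i hi, map_smul, map_sub]
      module) (mul_ne_zero hij (mul_ne_zero hic hi0)) (by
      obtain ⟨i, rfl⟩ : ∃ k, i = k + 1 := ⟨i - 1, by omega⟩
      obtain ⟨a, ha⟩ := hr1 (u ^ i + u ^ (i + 1) * b) (by
        rw [mul_add, add_mul, ← pow_succ, ← pow_succ', mul_assoc, ← hb, ← mul_assoc, ← mul_assoc,
          ← pow_succ, ← pow_succ'])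
      rw [hb', hδ]
      refine Submodule.smul_mem _ _ ⟨a * ρ x, ?_⟩
      rw [Module.End.mul_apply, LinearMap.mulRight_apply, mul_assoc, ← map_mul, mul_inv_cancel,
        map_one, mul_one, ha, mul_add, ← mul_assoc, ← pow_succ', ← pow_succ']) (m := 5) (by
      rw [hb', Submodule.smul_mem_iff _ hic, hδ, hδc.mul_pow]
      rintro ⟨a, ha⟩
      exact hr2 i hi b hb ⟨_, ha⟩)
  refine ⟨_, ?_, hn, w, hw, fun h' => hw' (sub_eq_zero.2 h')⟩
  rintro g _ ⟨a, rfl⟩
  exact ⟨σ g a, (LinearMap.congr_fun ((hS g).pow_right n).eq a).symm⟩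

end GD

end Cfsg.Lib.Block.Lat
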