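import Cfsg.Agent.Block.BlauTens
import Cfsg.Agent.Block.TuanHalf

/-!
# Modules without long Jordan blocks
-/

set_option autoImplicit false

namespace Cfsg.Lib.Block.Lat

open Module Subgroup Representation Polynomial Cfsg.Lib.Block.TI Cfsg.Lib.Block.SD

variable {p : ℕ} [hp : Fact p.Prime] {G : Type*} [Group G]

section CE

variable [Fintype G] {k k' X X' : Type*} [CommRing k] [CommRing k'] [AddCommGroup X] [Module k X]
  [AddCommGroup X'] [Module k' X']

/-- The trace of the norm element. -/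
noncomputable def cE (σ : Representation k G X) (x : G) (H : Subgroup (ZMod p)ˣ) (N : Subgroup G) :
    End k X := trN (linHom σ σ) N (aeval (σ x) (nf H))

theorem cE_semiconj {σ : Representation k G X} {σ' : Representation k' G X'} {F : Type*}
    [FunLike F X X'] [AddMonoidHomClass F X X'] (φ : F) (h : ∀ g a, φ (σ g a) = σ' g (φ a))
    (x : G) (H : Subgroup (ZMod p)ˣ) (N : Subgroup G) (a : X) :
    φ (cE σ x H N a) = cE σ' x H N (φ a) := by
  have h1 : ∀ (q : ℤ[X]) a, φ (aeval (σ x) q a) = aeval (σ' x) q (φ a) := fun q => by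
    induction q using Polynomial.induction_on with
    | C c => simp
    | add a b ha hb => simp [ha, hb]
    | monomial n c ih =>
      intro a
      rw [pow_succ, ← mul_assoc, map_mul, map_mul _ _ Polynomial.X, aeval_X, aeval_X, Module.End.mul_apply, ih,
        h, Module.End.mul_apply]
  simp only [cE, trN_apply, LinearMap.sum_apply, map_sum, linHom_apply, LinearMap.comp_apply, h, h1]

end CE

theorem ker_pow_le {K V : Type*} [Field K] [AddCommGroup V] [Module K V] {T : End K V} {k : ℕ}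
    (h : LinearMap.ker T ≤ LinearMap.range (T ^ k)) (j : ℕ) :
    ∀ i, i + j = k + 1 → ∀ a, (T ^ j) a = 0 → a ∈ LinearMap.range (T ^ i) := by
  induction j with
  | zero => intro i _ a ha; exact (show a = 0 from ha) ▸ zero_mem _
  | succ j ih =>
    intro i hi a ha
    obtain ⟨b, hb⟩ := h (show T ((T ^ j) a) = 0 by rwa [pow_succ', Module.End.mul_apply] at ha)
    obtain ⟨c, hc⟩ := ih (i + 1) (by omega) (a - (T ^ i) b) (by
      rw [map_sub, ← hb, ← Module.End.mul_apply, ← pow_add, show j + i = k by omega, sub_self])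
    exact ⟨b + T c, by rw [map_add, ← Module.End.mul_apply, ← pow_succ, hc, add_sub_cancel]⟩

variable [Finite G] {P : Sylow p G} {x : G} {H : Subgroup (ZMod p)ˣ} {E : Subgroup G}
  {r : G → (ZMod p)ˣ} {K X : Type*} [Field K] [CharP K p] [AddCommGroup X] [Module K X]

local notation "N" => normalizer ((P : Subgroup G) : Set G)

namespace GD

variable (h : GD P x H E r)
include h

theorem exists_gen : ∃ g₀ ∈ E, orderOf (r g₀) = Nat.card H ∧
    ∀ g ∈ E, ∃ (k : ℕ) (z : G), z ∈ center G ∧ g = g₀ ^ k * z := by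
  obtain ⟨⟨a, ha⟩, h2⟩ := IsCyclic.exists_monoid_generator (α := H)
  obtain ⟨g₀, hg₀, rfl⟩ := h.surj a ha
  refine ⟨g₀, hg₀, by rw [← orderOf_eq_card_of_forall_mem_powers h2, orderOf_mk], fun g hg => ?_⟩
  obtain ⟨k, hk⟩ := h2 ⟨_, (h.cj g (h.le hg)).1⟩
  refine ⟨k, (g₀ ^ k)⁻¹ * g, (h.r_eq_one_iff' (mul_mem (inv_mem (pow_mem hg₀ k)) hg)).1 ?_,
    (mul_inv_cancel_left _ _).symm⟩
  change h.rE ((⟨g₀, hg₀⟩ ^ k)⁻¹ * ⟨g, hg⟩) = 1
  rw [map_mul, map_inv, map_pow, inv_mul_eq_one]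
  exact congrArg Subtype.val hk

omit [Finite G] in
theorem nf_inv {k X : Type*} [CommRing k] [AddCommGroup X] [Module k X]
    (σ : Representation k G X) : ∀ n ∈ N, linHom σ σ n (aeval (σ x) (nf H)) = aeval (σ x) (nf H) :=
  fun n hn => by
    change σ n * _ * σ n⁻¹ = _
    rw [nf_comm h.hx σ (h.cj n hn).1 (h.cj n hn).2, mul_assoc, ← map_mul, mul_inv_cancel, map_one,
      mul_one]

omit [Finite G] [CharP K p] in
theorem cE_comm [Fintype G] (σ : Representation K G X) (g : G) :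
    σ g * cE σ x H N = cE σ x H N * σ g :=
  (linHom_eq_self_iff σ g _).1 (apply_trN (h.nf_inv σ) g)

theorem exists_lift' [FiniteDimensional K X] (σ : Representation K G X)
    (h0 : (σ x - 1) ^ (p - 1) = 0) {J : Submodule K X} (hJ : ∀ g ∈ E, ∀ m ∈ J, σ g m ∈ J)
    (hJ' : J ≤ LinearMap.ker (σ x - 1)) (hl : ∀ l, LinearMap.ker (σ x - 1) ⊓
      LinearMap.range ((σ x - 1) ^ l) ≤ J ∨ J ≤ LinearMap.range ((σ x - 1) ^ l)) :
    ∃ S : End K X, (∀ g, σ g * S = S * σ g) ∧ (∀ a, (σ x - 1) a = 0 → S a ∈ J) ∧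
      ∀ a ∈ J, S a = a := by
  have := Fintype.ofFinite G
  have := Fintype.ofFinite E
  have := Fintype.ofFinite P
  have hN : ∀ g ∈ E, g ∈ normalizer ((zpowers x : Subgroup G) : Set G) := fun g hg =>
    h.hxP ▸ h.le hg
  have hk : ∀ {Y : Type _} [AddCommGroup Y] [Module K Y] (τ : Representation K G Y) (a : Y),
      a ∈ LinearMap.ker (τ x - 1) ↔ τ x a = a := fun τ a => sub_eq_zero
  obtain ⟨C, hC⟩ := J.exists_isCompl
  obtain ⟨ψ, hψ, hψ'⟩ := Mod.exists_commute_extend (σ x - 1) (J.projection C hC) ⟨_, h0⟩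
    fun l v hv hv' => ⟨hJ' (J.projection_apply_mem hC v), (hl l).elim (fun h1 => by
      rwa [J.projection_apply_of_mem_left hC (h1 ⟨hv, hv'⟩)])
      fun h1 => h1 (J.projection_apply_mem hC v)⟩
  have hw : IsW E (1 : G → K) := ⟨rfl, fun _ _ _ _ => (mul_one _).symm⟩
  set ψ' := avg (linHom σ σ) E 1 ψ
  have h3 : linHom σ σ x ψ' = ψ' := (hk _ _).1 (avg_mem_of_inv _ (fun g hg m hm =>
    (hk _ _).2 (fix_inv _ (hN g hg) ((hk _ _).1 hm))) ((hk _ _).2 ((linHom_eq_self_iff σ x ψ).2 (by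
      rwa [mul_sub, sub_mul, mul_one, one_mul, sub_left_inj, eq_comm] at hψ))))
  have h4 : ∀ n ∈ N, linHom σ σ n ψ' = ψ' := fun n hn => by
    obtain ⟨y, hy, e, he, rfl⟩ := h.decomp n hn
    rw [map_mul, Module.End.mul_apply, avg_mem _ hw ψ e he, Pi.one_apply, one_smul,
      apply_eq_of_mem_zpowers _ (h.hxP.ge hy) h3]
  obtain ⟨w, hw'⟩ := trN_eq le_normalizer h.free h4
  have h5 : ∀ a, (σ x - 1) a = 0 → trN (linHom σ σ) N ψ' a = ψ' a := fun a ha => by
    rw [hw', LinearMap.add_apply, LinearMap.sum_apply, show ∑ y : P, linHom σ σ y w a =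
      ∑ y : P, σ y (w a) from Finset.sum_congr rfl fun y _ => congrArg (fun b => σ y (w b))
        (apply_eq_of_mem_zpowers σ (h.hxP.ge (inv_mem y.2)) ((hk σ a).1 ha)), ← LinearMap.sum_apply,
      sum_eq_pow K σ h.hxP (h.card_P.trans (pow_one p).symm), pow_one, h0, LinearMap.zero_apply,
      add_zero]
  refine ⟨_, fun g => (linHom_eq_self_iff σ g _).1 (apply_trN h4 g), fun a ha => ?_, fun a ha => ?_⟩
  · rw [h5 a ha]
    exact avg_mem_of_inv (linHom σ σ) (J := (LinearMap.ker (σ x - 1)).compatibleMaps J)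
      (fun g hg f hf b hb => hJ g hg _ (hf ((hk σ _).2 (fix_inv σ (hN _ (inv_mem hg))
        ((hk σ _).1 hb))))) (fun b hb => Submodule.mem_comap.2
        ((hψ' b hb).symm ▸ J.projection_apply_mem hC b)) ha
  · have h6 : ∀ a ∈ J, ψ a = a := fun a ha =>
      (hψ' a (hJ' ha)).trans (J.projection_apply_of_mem_left hC ha)
    rw [h5 a (hJ' ha), ← h6 a ha]
    nth_rewrite 1 [h6 a ha]
    exact sub_eq_zero.1 (avg_sub_mem (linHom σ σ) (h.card_E_ne K) hw (m := ψ)
      (J := LinearMap.ker (LinearMap.applyₗ a)) fun g hg => by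
        change σ g (ψ (σ g⁻¹ a)) - (1 : K) • ψ a = 0
        rw [h6 _ (hJ _ (inv_mem hg) a ha), h6 a ha, σ.self_inv_apply, one_smul, sub_self])

theorem finrank_ker_le [IsAlgClosed K] [FiniteDimensional K X] (σ : Representation K G X)
    [σ.IsIrreducible] (h0 : (σ x - 1) ^ (p - 1) = 0) :
    finrank K (LinearMap.ker (σ x - 1)) ≤ 1 := by
  classical
  have := nontrivial_of_irr σ
  set T := σ x - 1
  have hTn : IsNilpotent T := ⟨_, h0⟩
  obtain ⟨m, hm, hm'⟩ : ∃ m, T ^ m ≠ 0 ∧ T ^ (m + 1) = 0 := by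
    have h1 := Nat.find_spec hTn
    obtain ⟨m, hm⟩ : ∃ m, Nat.find hTn = m + 1 := Nat.exists_eq_succ_of_ne_zero fun h2 => by
      rw [h2, pow_zero] at h1; exact one_ne_zero h1
    exact ⟨m, Nat.find_min hTn (by omega), hm ▸ h1⟩
  obtain ⟨g₀, hg₀, -, hg⟩ := h.exists_gen
  obtain ⟨w, ⟨u, rfl⟩, hw0, κ, hκ⟩ := exists_eigen_mem (σ g₀) (J := LinearMap.range (T ^ m))
    (fun h' => hm (LinearMap.range_eq_bot.1 h')) fun v hv =>
      range_pow_inv σ (h.hxP ▸ h.le hg₀) m hv
  obtain ⟨S, h1, h2, h3⟩ := h.exists_lift' σ h0 (J := K ∙ (T ^ m) u) (fun g hg' => by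
      obtain ⟨k, z, hz, rfl⟩ := hg g hg'
      obtain ⟨c, hc⟩ := exists_eq_smul_one σ (f := σ z) fun a => by
        rw [← map_mul, mem_center_iff.1 hz, map_mul]
      intro v hv
      rw [map_mul, map_pow, hc]
      refine Module.End.pow_apply_mem_of_forall_mem k (fun a ha => ?_) _ (Submodule.smul_mem _ c hv)
      exact (Submodule.span_singleton_le_iff_mem _ (Submodule.comap (σ g₀) (K ∙ (T ^ m) u))).2
          (Submodule.mem_span_singleton.2 ⟨κ, hκ.symm⟩) ha)
    ((Submodule.span_singleton_le_iff_mem _ _).2 (by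
      rw [LinearMap.mem_ker, ← Module.End.mul_apply, ← pow_succ', hm', LinearMap.zero_apply]))
    fun l => by
      by_cases hl : l ≤ m
      · exact .inr ((Submodule.span_singleton_le_iff_mem _ _).2 ⟨(T ^ (m - l)) u, by
          rw [← Module.End.mul_apply, ← pow_add, Nat.add_sub_cancel' hl]⟩)
      · exact .inl (by rw [pow_eq_zero_of_le (not_le.1 hl) hm']; simp)
  obtain ⟨c, rfl⟩ := exists_eq_smul_one σ h1
  obtain rfl : c = 1 := smul_left_injective K hw0
    ((h3 _ (Submodule.mem_span_singleton_self _)).trans (one_smul K _).symm)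
  exact (Submodule.finrank_mono fun a ha => by simpa using h2 a ha).trans
    (finrank_span_singleton hw0).le

theorem exists_equiv [FiniteDimensional K X] {X' : Type*} [AddCommGroup X'] [Module K X']
    [FiniteDimensional K X'] {σ : Representation K G X} {σ' : Representation K G X'} {d : ℕ}
    {ν : G → K} (hν : IsW E ν) (h1 : Uni σ x E d ν) (h2 : Uni σ' x E d ν) (hd : d + 2 ≤ p) :
    ∃ θ : X ≃ₗ[K] X', ∀ g a, θ (σ g a) = σ' g (θ a) := by
  have := Fintype.ofFinite G
  have := Fintype.ofFinite P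
  obtain ⟨w, -, a1, -, -, -, a2⟩ := h1.exists_basis (h.card_E_ne K) hν (h.hR K) (h.isW_Rk K)
  obtain ⟨w', -, b1, -, -, -, b2⟩ := h2.exists_basis (h.card_E_ne K) hν (h.hR K) (h.isW_Rk K)
  let b := basisOfLinearIndependentOfCardEqFinrank (Nil.linearIndependent_pow h1.nil a2)
    (by rw [h1.rank, Fintype.card_fin])
  have hb : ∀ i, b i = ((σ x - 1) ^ (i : ℕ)) (w 0) := fun i => by simp [b]
  let θ : X →ₗ[K] X' := b.constr K fun i => ((σ' x - 1) ^ (i : ℕ)) (w' 0)
  have h3 : ∀ i : ℕ, θ (((σ x - 1) ^ i) (w 0)) = ((σ' x - 1) ^ i) (w' 0) := fun i => by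
    by_cases hi : i < d + 1
    · rw [← hb ⟨i, hi⟩, b.constr_basis]
    · rw [pow_eq_zero_of_le (not_lt.1 hi) h1.nil, pow_eq_zero_of_le (not_lt.1 hi) h2.nil]
      simp
  have h4 : ∀ a, θ (σ x a) = σ' x (θ a) := fun a => by
    have := LinearMap.congr_fun (b.ext (f₁ := θ ∘ₗ (σ x - 1)) (f₂ := (σ' x - 1) ∘ₗ θ) fun i => by
      rw [hb, LinearMap.comp_apply, LinearMap.comp_apply, h3, ← Module.End.mul_apply, ← pow_succ',
        h3, pow_succ', Module.End.mul_apply]) a
    simpa using this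
  have h5 : ∀ n ∈ N, linHom σ σ' n θ = θ := fun n hn => by
    obtain ⟨y, hy, g, hg, rfl⟩ := h.decomp n hn
    obtain ⟨k, hk, -⟩ := h.hR K g hg
    have h6 : θ ∘ₗ σ g = σ' g ∘ₗ θ := b.ext fun i => by
      rw [hb, LinearMap.comp_apply, LinearMap.comp_apply, h3, ← Module.End.mul_apply,
        ← Module.End.mul_apply, (SemiconjBy.pow_right (conj_sub_one σ hk) _).eq,
        (SemiconjBy.pow_right (conj_sub_one σ' hk) _).eq, Module.End.mul_apply,
        Module.End.mul_apply, a1 0 g hg, b1 0 g hg, pow_semiconj θ (b := σ' x ^ k - 1) fun v => by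
          rw [LinearMap.sub_apply, map_sub, pow_semiconj θ h4]; rfl, map_smul]
      exact congrArg (fun a => ((σ' x ^ k - 1) ^ (i : ℕ)) (_ • a)) (h3 0)
    rw [map_mul, Module.End.mul_apply, show linHom σ σ' g θ = θ from LinearMap.ext fun a =>
      (LinearMap.congr_fun h6 _).symm.trans (congrArg θ (σ.self_inv_apply g a))]
    exact apply_eq_of_mem_zpowers _ (h.hxP.ge hy) (LinearMap.ext fun a =>
      (h4 _).symm.trans (congrArg θ (σ.self_inv_apply x a)))
  obtain ⟨u, hu⟩ := trN_eq le_normalizer h.free h5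
  obtain ⟨u', hu'⟩ := exists_proj_eq σ' σ h.hxP h.card_P h1.nil (m := 1) hd u
  have h6 : ∀ g a, trN (linHom σ σ') N θ (σ g a) = σ' g (trN (linHom σ σ') N θ a) := fun g a => by
    conv_lhs => rw [← apply_trN h5 g]
    simp [linHom_apply]
  set θ' := trN (linHom σ σ') N θ
  obtain ⟨-, -, -, -, h7⟩ := exists_coord h2.rank h2.nil (v := θ' (w 0)) (by
    rwa [hu, hu', LinearMap.add_apply, map_add, LinearMap.comp_apply, ← Module.End.mul_apply _ (_ ^ 1),
      ← pow_add, h2.nil, LinearMap.zero_apply, add_zero, show θ (w 0) = w' 0 from h3 0])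
  have h8 : Function.Surjective θ' := LinearMap.range_eq_top.1 (by
    rw [← (LinearMap.range θ').ker_mkQ, h7 (LinearMap.range θ').mkQ fun i =>
      (Submodule.Quotient.mk_eq_zero _).2 ⟨_, pow_semiconj θ' (a := σ x - 1) (fun v => by
        simp [h6]) i _⟩, LinearMap.ker_zero])
  exact ⟨.ofBijective θ' ⟨(LinearMap.injective_iff_surjective_of_finrank_eq_finrank
    (h1.rank.trans h2.rank.symm)).2 h8, h8⟩, h6⟩

end GD

/-- The group is generated by the conjugates of `x` and is not of type `L₂(p)`. -/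
structure GS (P : Sylow p G) (x : G) (H : Subgroup (ZMod p)ˣ) (E : Subgroup G)
    (r : G → (ZMod p)ˣ) : Prop extends GD P x H E r where
  sp : SP P x
  gen : normalClosure {x} = ⊤
  nn : ¬ (P : Subgroup G).Normal
  rel : (centralizer {x}).relIndex (normalizer ((P : Subgroup G) : Set G)) = Nat.card H
  lt : 2 * Nat.card H + 1 < p

namespace GS

variable (h : GS P x H E r) [IsAlgClosed K] [FiniteDimensional K X]
include h

theorem eq_one_of_nil (σ : Representation K G X) {k : ℕ} (hk : (σ x - 1) ^ k = 0)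
    (hkp : k + (Nat.card H + 1) ≤ p) (g : G) : σ g = 1 := by
  have := Fintype.ofFinite G
  have := Fintype.ofFinite P
  refine (h.gen.ge.trans (normalClosure_le_normal (Set.singleton_subset_iff.2 ?_)) :
    ⊤ ≤ σ.ker)
    (mem_top g)
  by_contra hx
  obtain ⟨V, _, _, _, ρ, -, h1, h2, _⟩ := exists_irr' (h.hxP ▸ h.card_P) h.gen (fun h' => h.nZ
    (mem_center_iff.2 fun g => mem_centralizer_singleton_iff.1
      (h.sp ⊤ (mem_top x) (fun n hn _ => h' (h.hxP ▸ hn)) (mem_top g)))) k _ X σ le_rfl hx hk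
  have := nontrivial_of_irr ρ
  have hn : IsNilpotent (ρ x - 1) := ⟨_, h2⟩
  have h3 := (finrank_le_of_pow_eq_zero h2).trans (Nat.mul_le_mul_left k
    (h.finrank_ker_le ρ (pow_eq_zero_of_le (by omega) h2)))
  obtain ⟨c, hc⟩ := exists_eq_smul_one ρ (h.cE_comm ρ)
  obtain ⟨w, hw⟩ := trN_eq le_normalizer h.free (h.nf_inv ρ)
  obtain ⟨w', hw'⟩ := exists_sum_conj_eq ρ h.hxP (h.card_P.trans (pow_one p).symm) h2
    (m := Nat.card H + 1) (by rwa [pow_one]) w
  obtain ⟨u, hu⟩ := exists_nf_unit H (K := K) hn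
  rw [cE, hw, hw', hu] at hc
  have hlt := h.lt
  by_cases h4 : c = 0
  · rw [h4, zero_smul, add_eq_zero_iff_eq_neg] at hc
    have := (psl2_of_nil h.sp ρ h1 (eq_zero_of_pow_eq_mul hn (c := -(w' * u⁻¹.val)) (by
      rw [mul_neg, ← mul_assoc, ← neg_mul, ← hc, Units.mul_inv_cancel_right])) (by omega)
      (by omega) h.hxP h.card_P h.nn h.rel).1
    omega
  · obtain ⟨e, he⟩ := Nat.exists_eq_succ_of_ne_zero (Nat.card_pos (α := H)).ne'
    refine absurd (eq_zero_of_pow_eq_mul hn (e := 0) (c := c⁻¹ •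
      ((ρ x - 1) ^ e * u + (ρ x - 1) ^ (e + 1) * w')) ?_) (by simp)
    rw [he] at hc
    rw [zero_add, pow_one, mul_smul_comm, mul_add, ← mul_assoc, ← mul_assoc,
      ← pow_succ', ← pow_succ', hc, inv_smul_smul₀ h4, pow_zero]

theorem eq_zero_of_nil (σ : Representation K G X) (hf : ∀ a, (∀ g, σ g a = a) → a = 0)
    {W : Submodule K X} (hW : ∀ g, ∀ a ∈ W, σ g a ∈ W) {k : ℕ}
    (hk : ∀ a ∈ W, ((σ x - 1) ^ k) a = 0) (hkp : k + (Nat.card H + 1) ≤ p) : ∀ a ∈ W, a = 0 :=
  fun a ha => hf a fun g => congrArg Subtype.val (LinearMap.congr_fun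
    (h.eq_one_of_nil (subrepresentation σ W hW) (LinearMap.ext fun b => Subtype.ext
      ((pow_semiconj W.subtype (b := σ x - 1) (fun _ => rfl) k b).trans (hk b b.2))) hkp g) ⟨a, ha⟩)

theorem ker_le_range (σ : Representation K G X) (hf : ∀ a, (∀ g, σ g a = a) → a = 0)
    (h0 : (σ x - 1) ^ (p - 1) = 0) {k : ℕ} (hkp : k + (Nat.card H + 1) ≤ p) :
    LinearMap.ker (σ x - 1) ≤ LinearMap.range ((σ x - 1) ^ k) := by
  set T := σ x - 1
  obtain ⟨S, h1, h2, h3⟩ := h.exists_lift' σ h0 (J := LinearMap.ker T ⊓ LinearMap.range (T ^ k))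
    (fun g hg m hm => ⟨sub_eq_zero.2 (fix_inv σ (h.hxP ▸ h.le hg) (sub_eq_zero.1 hm.1)),
      range_pow_inv σ (h.hxP ▸ h.le hg) k hm.2⟩) inf_le_left fun l => by
      have key : ∀ i j, i ≤ j → LinearMap.range (T ^ j) ≤ LinearMap.range (T ^ i) := fun i j hij => by
        rw [← Nat.add_sub_cancel' hij, pow_add]; exact LinearMap.range_comp_le_range _ _
      exact (le_total k l).imp (fun h => inf_le_inf_left _ (key _ _ h))
        fun h => inf_le_right.trans (key _ _ h)
  obtain ⟨n, hn⟩ := Filter.eventually_atTop.1 (1 - S).eventually_isCompl_ker_pow_range_pow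
  replace hn := hn (n + 1) n.le_succ
  have hc : ∀ g (j : ℕ) a, σ g (((1 - S) ^ j) a) = ((1 - S) ^ j) (σ g a) := fun g j a =>
    LinearMap.congr_fun (((Commute.one_right _).sub_right (h1 g)).pow_right j).eq a
  have hW : ∀ g, ∀ a ∈ LinearMap.range ((1 - S) ^ (n + 1)), 
      σ g a ∈ LinearMap.range ((1 - S) ^ (n + 1)) := by
    rintro g _ ⟨a, rfl⟩; exact ⟨_, (hc g _ a).symm⟩
  have h4 := h.eq_zero_of_nil σ hf hW (k := k) (fun a ha => by
    have hW' := fun j => Module.End.pow_apply_mem_of_forall_mem (f' := T) j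
      (fun a ha => Submodule.sub_mem _ (hW x a ha) ha) a ha
    have h5 : (T ^ (p - 1 + k)) a = 0 := by rw [pow_add, h0, zero_mul, LinearMap.zero_apply]
    generalize p - 1 = j at h5
    induction j with
    | zero => rwa [zero_add] at h5
    | succ j ih =>
      refine ih (Submodule.disjoint_def.1 hn.disjoint _ ?_ (hW' _))
      rw [LinearMap.mem_ker, pow_succ, Module.End.mul_apply, LinearMap.sub_apply, h3 _ ⟨by
        rwa [add_right_comm, pow_succ', Module.End.mul_apply] at h5, (T ^ j) a, by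
        rw [add_comm, pow_add, Module.End.mul_apply]⟩, Module.End.one_apply, sub_self, map_zero])
    hkp
  intro a ha
  have h5 : ∀ j : ℕ, a - ((1 - S) ^ j) a ∈ LinearMap.ker T ⊓ LinearMap.range (T ^ k) := fun j => by
    induction j with
    | zero => simp
    | succ j ih =>
      have h6 := h2 _ (Submodule.sub_mem _ ha ih.1)
      rw [sub_sub_cancel] at h6
      rw [pow_succ', Module.End.mul_apply, LinearMap.sub_apply, Module.End.one_apply, ← sub_add]
      exact Submodule.add_mem _ ih h6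
  simpa [h4 _ ⟨a, rfl⟩] using (h5 (n + 1)).2

theorem exists_scalar (σ : Representation K G X) (hf : ∀ a, (∀ g, σ g a = a) → a = 0)
    (hd : finrank K X + Nat.card H ≤ p) {f : End K X} (hc : ∀ g, σ g * f = f * σ g) :
    ∃ c : K, f = c • 1 := by
  rcases subsingleton_or_nontrivial X with h0 | h0
  · exact ⟨0, Subsingleton.elim _ _⟩
  obtain ⟨w, -, hw, c, hc'⟩ := exists_eigen_mem f (J := ⊤) top_ne_bot fun _ _ => trivial
  refine ⟨c, sub_eq_zero.1 (LinearMap.ker_eq_top.1 ?_)⟩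
  by_contra h1
  have hW : ∀ g, ∀ a ∈ LinearMap.ker (f - c • 1), σ g a ∈ LinearMap.ker (f - c • 1) :=
    fun g a ha => (LinearMap.congr_fun (Commute.sub_right (hc g)
      ((Commute.one_right _).smul_right c)).eq a).symm.trans ((congrArg (σ g) ha).trans (map_zero _))
  have := Submodule.finrank_lt h1
  exact hw (h.eq_zero_of_nil σ hf hW (fun a ha => (pow_semiconj (Submodule.subtype _)
    (a := subrepresentation σ _ hW x - 1) (fun _ => rfl) _ ⟨a, ha⟩).symm.trans (by
      rw [pow_finrank_eq_zero (isNilpotent_sub_one _ (h.hxP ▸ h.card_P))]; rfl)) (by omega) w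
    (sub_eq_zero.2 hc'))

end GS

end Cfsg.Lib.Block.Lat
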