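import Cfsg.Agent.Block.BlauMod

/-!
# The rank of the skew central element on the endomorphisms of a small module
-/

set_option autoImplicit false

namespace Cfsg.Lib.Block.Lat

open Module Subgroup Representation Polynomial Cfsg.Lib.Block.TI Cfsg.Lib.Block.SD
  Cfsg.Lib.Block.Nil

section Lin

variable {K X : Type*} [Field K] [AddCommGroup X] [Module K X] {B : X →ₗ[K] X →ₗ[K] K}
  {S Γ : End K X}

theorem ortho_of_ne (hS : ∀ a b, B (S a) b = B a (S b)) {μ ν : K} (h : μ ≠ ν) {a b : X}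
    (ha : a ∈ S.maxGenEigenspace μ) (hb : b ∈ S.maxGenEigenspace ν) : B a b = 0 := by
  rw [End.mem_maxGenEigenspace] at ha hb
  obtain ⟨m, ha⟩ := ha
  obtain ⟨n, hb⟩ := hb
  induction m generalizing a b n with
  | zero => rw [show a = 0 from ha, map_zero, LinearMap.zero_apply]
  | succ m ih =>
    induction n generalizing b with
    | zero => rw [show b = 0 from hb, map_zero]
    | succ n ih' =>
      have h1 := ih (a := (S - μ • 1) a) (by rwa [pow_succ] at ha) _ hb
      have h2 := ih' (b := (S - ν • 1) b) (by rwa [pow_succ] at hb)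
      simp only [LinearMap.sub_apply, LinearMap.smul_apply, End.one_apply, map_sub, map_smul,
        smul_eq_mul, hS] at h1 h2
      exact (mul_eq_zero.1 (show (μ - ν) * B a b = 0 by linear_combination h2 - h1)).resolve_left
        (sub_ne_zero.2 h)

theorem two_mul_card_le [IsAlgClosed K] [FiniteDimensional K X] (h2 : (2 : K) ≠ 0)
    (hB : ∀ a b, B a b = B b a) (hB' : ∀ a, (∀ b, B a b = 0) → a = 0)
    (hS : ∀ a b, B (S a) b = B a (S b)) (hΓ : ∀ a b, B (Γ a) b = -B a (Γ b)) (hc : Commute S Γ)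
    {I : Type*} [Fintype I] {μ : I → K} (hμ : Function.Injective μ)
    (h : ∀ i, ∃ a ∈ S.maxGenEigenspace (μ i), Γ a ≠ 0) :
    2 * Fintype.card I ≤ finrank K (LinearMap.range Γ) := by
  choose a ha ha' using h
  have hm := fun ν => End.mapsTo_maxGenEigenspace_of_comm hc ν
  have h1 : ∀ i, ∃ b ∈ S.maxGenEigenspace (μ i), B (Γ (a i)) b = 1 := fun i => by
    by_contra h3
    refine ha' i (hB' _ fun b => (S.iSup_maxGenEigenspace_eq_top.ge.trans
      (iSup_le fun ν b hb => ?_) : ⊤ ≤ LinearMap.ker (B (Γ (a i)))) trivial)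
    by_cases h4 : μ i = ν
    · by_contra h5
      exact h3 ⟨(B (Γ (a i)) b)⁻¹ • b, Submodule.smul_mem _ _ (h4 ▸ hb), by
        rw [map_smul, smul_eq_mul, inv_mul_cancel₀ h5]⟩
    · exact ortho_of_ne hS h4 (hm _ (ha i)) hb
  choose b hb hb' using h1
  have h3 : ∀ c, B (Γ c) c = 0 := fun c => (mul_eq_zero.1 (show 2 * B (Γ c) c = 0 by
    linear_combination hΓ c c - hB c (Γ c))).resolve_left h2
  have h4 := LinearIndependent.of_pairwise_dual_eq_zero_one (R := K)
    (Sum.elim (fun i => Γ.rangeRestrict (a i)) fun i => Γ.rangeRestrict (b i))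
    (Sum.elim (fun i => B.flip (b i) ∘ₗ Submodule.subtype _)
      fun i => -B.flip (a i) ∘ₗ Submodule.subtype _) (by
      rintro (i | i) (j | j) hij
      · exact ortho_of_ne hS (hμ.ne fun h => hij (congrArg _ h.symm)) (hm _ (ha j)) (hb i)
      · by_cases h5 : j = i
        · exact h5 ▸ h3 _
        · exact ortho_of_ne hS (hμ.ne h5) (hm _ (hb j)) (hb i)
      · by_cases h5 : j = i
        · exact neg_eq_zero.2 (h5 ▸ h3 _)
        · exact neg_eq_zero.2 (ortho_of_ne hS (hμ.ne h5) (hm _ (ha j)) (ha i))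
      · exact neg_eq_zero.2
          (ortho_of_ne hS (hμ.ne fun h => hij (congrArg _ h.symm)) (hm _ (hb j)) (ha i))) (by
      rintro (i | i)
      · exact hb' i
      · change -B (Γ (b i)) (a i) = 1
        rw [hΓ, neg_neg, hB, hb'])
  simpa [two_mul] using h4.fintype_card_le_finrank

end Lin

variable {p : ℕ} [hp : Fact p.Prime] {G : Type*} [Group G] {x : G} {H : Subgroup (ZMod p)ˣ}

theorem nf_inv_eq (hx : orderOf x = p) (hodd : Odd (Nat.card H)) (h1 : H ≠ ⊥) {A : Type*} [Ring A]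
    (φ : G →* A) : aeval (φ x⁻¹) (nf H) = -aeval (φ x) (nf H) := by
  have := Fintype.ofFinite H
  have h2 : ∀ j : ZMod p, φ x ^ j.val = φ (xp x j) := fun j => (map_pow φ x _).symm
  rw [nf_eq, aeval_prod_congr' _ (φ x) _ (g := fun h : H => -1 * X ^ (-((h : (ZMod p)ˣ) :
    ZMod p)).val * (X ^ ((h : (ZMod p)ˣ) : ZMod p).val - 1)) fun h _ => by
      simp only [map_sub, map_mul, map_neg, map_pow, aeval_X, map_one, h2, mul_sub]
      rw [mul_assoc, ← map_mul, ← xp_add hx, neg_add_cancel, xp_zero, xp_neg hx, ← map_pow, inv_pow]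
      simp [xp, sub_eq_add_neg, add_comm], Finset.prod_mul_distrib, Finset.prod_mul_distrib, Finset.prod_const,
    Finset.prod_pow_eq_pow_sum, Finset.card_univ, ← Nat.card_eq_fintype_card, hodd.neg_one_pow,
    map_mul, map_mul, map_pow, aeval_X, ← map_pow, ← xp_natCast hx]
  simp [FiniteField.sum_subgroup_units_eq_zero h1]

variable [Finite G] {K V : Type*} [Field K] [CharP K p] [AddCommGroup V] [Module K V]

theorem sum_mem_range {V' : Type*} [AddCommGroup V'] [Module K V'] (σ : Representation K G V)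
    (σ' : Representation K G V') {P : Subgroup G} [Fintype P] (hx : zpowers x = P)
    (hn : Nat.card P = p) {s m : ℕ} (hm : s + m ≤ p) (w : V' →ₗ[K] V) {v : V'}
    (hv : ((σ' x - 1) ^ s) v = 0) :
    (∑ y : P, linHom σ' σ y w) v ∈ LinearMap.range ((σ x - 1) ^ m) := by
  classical
  subst hx
  have hJ : ∀ y : zpowers x, LinearMap.ker ((σ' x - 1) ^ s) ≤
      (LinearMap.ker ((σ' x - 1) ^ s)).comap (σ' y) := fun y a ha =>
    ker_pow_inv σ' (le_normalizer y.2) s ha
  obtain ⟨h, hh⟩ := exists_proj_eq (P := ⊤) (x := ⟨x, mem_zpowers x⟩) (σ.comp (zpowers x).subtype)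
    (subrepresentation (σ'.comp (zpowers x).subtype) _ hJ) (eq_top_iff.2 fun ⟨_, k, rfl⟩ _ =>
      ⟨k, rfl⟩) (card_top.trans hn) (LinearMap.ext fun a => Subtype.ext
        ((pow_semiconj (Submodule.subtype _) (b := σ' x - 1) (fun _ => rfl) s a).trans a.2)) hm
      (w ∘ₗ Submodule.subtype _)
  refine ⟨h ⟨v, hv⟩, (LinearMap.congr_fun hh ⟨v, hv⟩).symm.trans ?_⟩
  rw [LinearMap.sum_apply, LinearMap.sum_apply]
  exact Fintype.sum_equiv topEquiv.toEquiv _ _ fun y => rfl

variable [FiniteDimensional K V] {P : Sylow p G} {E : Subgroup G} {r : G → (ZMod p)ˣ}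

local notation "N" => normalizer ((P : Subgroup G) : Set G)

omit [Finite G] [CharP K p] in
theorem trace_cE [Fintype G] (hx : orderOf x = p) (hodd : Odd (Nat.card H)) (h1 : H ≠ ⊥)
    (ρ : Representation K G V) (L : Subgroup G) (a b : End K V) :
    TI.trB K V (cE (linHom ρ ρ) x H L a) b = -TI.trB K V a (cE (linHom ρ ρ) x H L b) := by
  have h2 : ∀ (q : ℤ[X]) a b, TI.trB K V (aeval (linHom ρ ρ x) q a) b =
      TI.trB K V a (aeval (linHom ρ ρ x⁻¹) q b) := fun q => by
    induction q using Polynomial.induction_on with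
    | C c => simp [← zsmul_eq_mul]
    | add a b ha hb => simp [ha, hb]
    | monomial n c ih =>
      intro a b
      rw [pow_succ, ← mul_assoc, map_mul, mul_comm _ X, map_mul _ X, aeval_X, aeval_X,
        Module.End.mul_apply, ih, Module.End.mul_apply]
      exact trace_conj ρ x a _
  simp only [cE, trN_apply, LinearMap.sum_apply, map_sum, ← Finset.sum_neg_distrib]
  refine Finset.sum_congr rfl fun s _ => ?_
  refine ((trace_conj ρ _ _ _).trans (h2 _ _ _)).trans ((trace_conj ρ _ _ _).trans ?_)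
  rw [nf_inv_eq hx hodd h1, inv_inv, LinearMap.neg_apply, map_neg, mul_neg, map_neg]
  rfl

theorem GS.le_rank [Fintype G] [Fintype P] [IsAlgClosed K] (h : GS P x H E r)
    (ρ : Representation K G V) {d : ℕ} (hd : finrank K V = d + 1)
    (hud : (ρ x - 1) ^ (d + 1) = 0) (hu : (ρ x - 1) ^ d ≠ 0) (hde : d + 1 + Nat.card H = p)
    (hf : ∀ v, (∀ g, ρ g v = v) → v = 0) {f : ℕ} (he : Nat.card H = 2 * f + 1) (hf0 : f ≠ 0)
    (h4 : 4 * Nat.card H ≤ p) : 2 * f ≤ finrank K
      (LinearMap.range (cE (linHom ρ ρ) x H N * ∑ y : P, linHom ρ ρ y)) := by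
  set σ := linHom ρ ρ
  set T := σ x - 1 with hT
  set B := TI.trB K V
  set c := cE σ x H N
  have hc : ∀ a b, B (c a) b = -B a (c b) := trace_cE h.hx ⟨f, he⟩ (fun h' => by
    rw [h', card_bot] at he; omega) ρ N
  have hB : ∀ a, (∀ b, B a b = 0) → a = 0 := fun a => eq_zero_of_trace_mul
  have hP := h.card_P.trans (pow_one p).symm
  have hsum : ∑ y : P, σ y = T ^ (p - 1) := (sum_eq_pow K σ h.hxP hP).trans (by rw [pow_one])
  have hcT : Commute c T := (Commute.symm (h.cE_comm σ x)).sub_right (Commute.one_right _)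
  have hne : ∀ m : ℕ, 0 < m → m < p → (m : K) ≠ 0 := fun m h1 h2 h =>
    absurd (Nat.le_of_dvd h1 ((CharP.cast_eq_zero_iff K p _).1 h)) (by omega)
  have e2 : (2 : K) ≠ 0 := by exact_mod_cast hne 2 (by omega) (by omega)
  have hle : ∀ i j, i ≤ j → LinearMap.range (T ^ j) ≤ LinearMap.range (T ^ i) := fun i j hij => by
    rw [← Nat.add_sub_cancel' hij, pow_add]; exact LinearMap.range_comp_le_range _ _
  obtain ⟨g₀, hg₀, hog, -⟩ := h.exists_gen
  obtain ⟨S₁, hS₁, hS₁'⟩ := h.exists_lift σ (θ := σ g₀)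
    (fun g hg => by rw [← map_mul, h.comm hg hg₀, map_mul]) fun J hJ => hJ g₀ hg₀
  have hnd : B.Nondegenerate := ⟨hB, fun a ha => hB a fun b => (trB_symm _ _).trans (ha b)⟩
  set S₂ := B.leftAdjointOfNondegenerate hnd S₁
  have h1 : ∀ a b, B (S₂ a) b = B a (S₁ b) := B.isAdjointPairLeftAdjointOfNondegenerate hnd S₁
  have hσ : ∀ g a b, B (σ g a) b = B a (σ g⁻¹ b) := trace_conj ρ
  have hS₂ : ∀ g, σ g * S₂ = S₂ * σ g := fun g => LinearMap.ext fun a => sub_eq_zero.1 (hB _
    fun b => by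
      rw [map_sub, LinearMap.sub_apply, End.mul_apply, End.mul_apply, hσ, h1, h1, hσ,
        ← End.mul_apply (σ _), hS₁, End.mul_apply, sub_self])
  set S := S₁ + S₂
  have hS : ∀ g, Commute (σ g) S := fun g => Commute.add_right (hS₁ g) (hS₂ g)
  have hTc : ∀ Q : End K (End K V), Commute (σ x) Q → ∀ k a, (T ^ k) (Q a) = Q ((T ^ k) a) :=
    fun Q hQ k a => LinearMap.congr_fun ((hQ.sub_left (Commute.one_left _)).pow_left k).eq a
  have hSc : ∀ a, S (c a) = c (S a) := cE_semiconj S (fun g a =>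
    LinearMap.congr_fun (hS g).eq.symm a) x H N
  have key := two_mul_card_le (B := B) (S := S) (Γ := c * ∑ y : P, σ y) e2 trB_symm hB
    (fun a b => by
      rw [LinearMap.add_apply, LinearMap.add_apply, map_add, LinearMap.add_apply, map_add, h1,
        trB_symm (S₁ a), ← h1, trB_symm (S₂ b), add_comm])
    (fun a b => by
      rw [End.mul_apply, hc, hsum, hcT.pow_right, ← hsum, End.mul_apply, LinearMap.sum_apply,
        LinearMap.sum_apply, map_sum, map_sum, LinearMap.sum_apply, neg_inj]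
      exact Fintype.sum_equiv (Equiv.inv P) _ _ fun y => hσ _ _ _)
    (Commute.mul_right (LinearMap.ext hSc) (Commute.sum_right _ _ _ fun y _ => (hS y).symm))
    (I := Fin f) (μ := fun i => 2 * Rk K r g₀ ^ (f + 1 + i)) (fun i j hij => by
      have h2 : IsPrimitiveRoot (Rk K r g₀) (Nat.card H) := ⟨(GD.Rk_pow_eq_one_iff K _ _).2
        (h.r_pow_card (h.le hg₀)), fun l hl =>
          hog ▸ orderOf_dvd_of_pow_eq_one ((GD.Rk_pow_eq_one_iff K _ _).1 hl)⟩
      have := h2.pow_inj (by omega) (by omega) (mul_left_cancel₀ e2 hij)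
      omega) fun j => ?_
  · simpa using key
  obtain ⟨i, hi, hi1, hi2⟩ : ∃ i, f + 1 + j = i ∧ f < i ∧ i ≤ 2 * f := ⟨_, rfl, by omega, by omega⟩
  simp only [hi]
  obtain ⟨y, hy⟩ := exists_hw ρ hd hud hu (i := i) (by omega) (by omega) (by omega)
  set u := (T ^ (2 * i)) y with hu'
  have hTu : T u = 0 := by rw [hu', ← End.mul_apply, ← pow_succ']; exact hy.nil
  have h0 : ∀ a ∈ LinearMap.range (T ^ (2 * i + 1)), B a y = 0 := fun a ha =>
    trace_eq_zero ρ le_rfl ha hy.nil
  have h2 : S₁ u - Rk K r g₀ ^ i • u ∈ LinearMap.range (T ^ (2 * i + 1)) := by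
    obtain ⟨w, hw⟩ := hS₁' u (sub_eq_zero.1 hTu)
    obtain ⟨k, hk, hk'⟩ := h.hR K g₀ hg₀
    rw [hw, add_sub_right_comm, ← hk', ← LinearMap.sum_apply, hsum]
    exact add_mem (hy.wt g₀ k hk) (hle _ _ (by omega) ⟨w, rfl⟩)
  have h3 : S u - (2 * Rk K r g₀ ^ i) • u ∈ LinearMap.range (T ^ (2 * i + 1)) := by
    obtain ⟨t, ht⟩ := hy.eig (S₂ u) (by
      have := hTc S₂ (hS₂ x) 1 u
      rwa [pow_one, hTu, map_zero] at this)
      ⟨S₂ y, hTc S₂ (hS₂ x) _ y⟩
    have h5 := h0 _ ht
    have h6 := h0 _ h2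
    have h7 : σ x⁻¹ (S₁ u) = S₁ u := by
      rw [← End.mul_apply, hS₁, End.mul_apply, apply_eq_of_mem_zpowers σ (inv_mem (mem_zpowers x))
        (sub_eq_zero.1 hTu)]
    have h8 : ∀ k, ((-σ x⁻¹) ^ (2 * k)) (S₁ u) = S₁ u := fun k => by
      induction k with
      | zero => rfl
      | succ k ih => simp [mul_add, pow_succ, h7, ih]
    rw [map_sub, LinearMap.sub_apply, map_smul, LinearMap.smul_apply, sub_eq_zero] at h5 h6
    rw [h1, show B u (S₁ y) = _ from trace_sub_pow ρ _ _ _, hTc S₁ (hS₁ x), h8,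
      show LinearMap.trace K V (y * S₁ u) = B (S₁ u) y from trB_symm _ _, h6] at h5
    rw [← mul_right_cancel₀ hy.ne h5] at ht
    convert add_mem h2 ht using 1
    rw [two_mul, add_smul, LinearMap.add_apply]
    abel
  set μ := 2 * Rk K r g₀ ^ i
  obtain ⟨q, hq, hq'⟩ := exists_eq_pow_rootMultiplicity_mul_and_not_dvd S.charpoly
    S.charpoly_monic.ne_zero μ
  have hq1 : ∀ q : K[X], Commute (σ x) (aeval S q) ∧
      aeval S q u - q.eval μ • u ∈ LinearMap.range (T ^ (2 * i + 1)) := fun q => by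
    induction q using Polynomial.induction_on with
    | C c => simp [Algebra.algebraMap_eq_smul_one, Commute.smul_right]
    | add a b ha hb =>
      refine ⟨map_add (aeval S) a b ▸ ha.1.add_right hb.1, ?_⟩
      convert add_mem ha.2 hb.2 using 1
      rw [map_add, eval_add, add_smul, LinearMap.add_apply]
      abel
    | monomial n t ih =>
      obtain ⟨w, hw⟩ := ih.2
      rw [pow_succ, ← mul_assoc, mul_comm _ X, map_mul, aeval_X]
      refine ⟨(hS x).mul_right ih.1, ?_⟩
      convert add_mem (⟨S w, hTc S (hS x) _ w⟩ : _ ∈ LinearMap.range _)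
        (Submodule.smul_mem _ (eval μ (C t * X ^ n)) h3) using 1
      rw [hw, eval_mul (p := X), eval_X, End.mul_apply, map_sub, map_smul]
      module
  have hL : aeval S q y ∈ S.maxGenEigenspace μ := (End.mem_maxGenEigenspace _ _ _).2 ⟨_, by
    have h5 := S.aeval_self_charpoly
    rw [hq, map_mul, map_pow, map_sub, aeval_X, aeval_C, Algebra.algebraMap_eq_smul_one] at h5
    exact LinearMap.congr_fun h5 y⟩
  by_contra! h5
  set W := (S.maxGenEigenspace μ).map c
  have hW : ∀ g, ∀ a ∈ W, σ g a ∈ W := by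
    rintro g _ ⟨a, ha, rfl⟩
    exact ⟨_, End.mapsTo_maxGenEigenspace_of_comm (hS g).symm μ ha,
      (LinearMap.congr_fun (h.cE_comm σ g) a).symm⟩
  have hco : ∀ k (a : W), (((subrepresentation σ W hW x - 1) ^ k) a : End K V) = (T ^ k) a :=
    fun k a => pow_semiconj W.subtype (fun _ => rfl) k a
  obtain ⟨U, t, ht, hU⟩ := nf_eq_mul H
  have hy' : (T ^ (2 * i + 1)) (aeval S q y) = 0 := by rw [hTc _ (hq1 q).1, hy.nil, map_zero]
  obtain ⟨a, ha⟩ := ker_pow_le (h.ker_le_range (subrepresentation σ W hW) (k := p - (2 * f + 2))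
    (fun ⟨_, a, ha, rfl⟩ h6 => Subtype.ext (by
      obtain ⟨s, hs⟩ := h.exists_scalar ρ hf (f := c a) (by omega) fun g =>
        (linHom_eq_self_iff ρ g _).1 (congrArg Subtype.val (h6 g))
      have h7 : c 1 = 0 := by
        have h8 : ∀ g, σ g 1 = 1 := fun g => (linHom_eq_self_iff ρ g _).2 (by simp)
        simp only [c, cE, trN_apply, LinearMap.sum_apply, linHom_apply, LinearMap.comp_apply, h8,
          hU, he, pow_succ, mul_right_comm _ (X - 1 : ℤ[X])]
        simp [h8]
      have h8 := hc a 1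
      rw [h7, hs, map_smul, map_zero, neg_zero, LinearMap.smul_apply, smul_eq_zero] at h8
      exact hs.trans (by rw [h8.resolve_right (by
        rw [trB_apply, mul_one, LinearMap.trace_one, hd]
        exact hne (d + 1) (by omega) (by omega)), zero_smul]; rfl)))
    (LinearMap.ext fun ⟨_, a, ha, rfl⟩ => Subtype.ext ((hco _ _).trans (.trans (by
      rw [hsum, hcT.pow_right]; rfl) (h5 a ha)))) (by omega)) (2 * i + 1)
    (p - (2 * f + 1) - (2 * i + 1)) (by omega) ⟨_, _, hL, rfl⟩ (Subtype.ext ((hco _ _).trans (by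
      rw [hTc c (h.cE_comm σ x), hy', map_zero]; rfl)))
  replace ha := (hco _ a).symm.trans (congrArg Subtype.val ha)
  obtain ⟨w, hw⟩ := trN_eq le_normalizer h.free (h.nf_inv σ)
  obtain ⟨b, hb⟩ := sum_mem_range σ σ h.hxP h.card_P (m := p - (2 * i + 1)) (by omega) w hy'
  have hpa : ∀ k l a, (T ^ k) ((T ^ l) a) = (T ^ (k + l)) a := fun k l a => by
    rw [pow_add, End.mul_apply]
  have h6 : c (aeval S q y) = (T ^ (2 * f + 1)) ((t : K) • aeval S q y + (T ^ 1)
      (aeval (σ x) U (aeval S q y))) + (T ^ (p - (2 * i + 1))) b := by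
    rw [hb, ← he, pow_one, Nat.cast_smul_eq_nsmul]
    refine (LinearMap.congr_fun hw _).trans ?_
    rw [LinearMap.add_apply, add_left_inj]
    simp [hU, ← hT]
  have h7 := congrArg (T ^ (2 * i - (2 * f + 1))) (ha.trans h6)
  rw [map_add, hpa, hpa, hpa, Nat.sub_add_cancel (by omega), map_add, hpa, map_smul, add_assoc,
    hTc _ (hq1 q).1, ← sub_eq_iff_eq_add] at h7
  have h8 := h0 _ (sub_mem (h7 ▸ sub_mem (hle _ _ (by omega) ⟨_, rfl⟩) (add_mem ⟨_, rfl⟩
    (hle _ _ (by omega) ⟨_, rfl⟩))) (Submodule.smul_mem _ (t : K) (hq1 q).2))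
  rw [smul_sub, sub_sub_cancel, map_smul, map_smul, LinearMap.smul_apply, LinearMap.smul_apply,
    smul_eq_zero, smul_eq_zero, CharP.cast_eq_zero_iff K p] at h8
  exact h8.elim ht fun h9 => h9.elim (fun h9 => hq' (dvd_iff_isRoot.2 h9)) hy.ne

end Cfsg.Lib.Block.Lat
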