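import Cfsg.Agent.Block.BlauEx

/-!
# The bound `e ≤ t - 1` and the extremal case
-/

set_option autoImplicit false

namespace Cfsg.Lib.Block.Lat

open Module Subgroup IsLocalRing Cfsg.Lib.Char Cfsg.Lib.Block.TI Cfsg.Lib.Block.SD
open scoped ComplexConjugate

variable {p : ℕ} [hp : Fact p.Prime] {G : Type*} [Group G] [Finite G]
  {P : Sylow p G} {x : G} {H : Subgroup (ZMod p)ˣ} {E : Subgroup G} {r : G → (ZMod p)ˣ}
  {ψ : AddChar (ZMod p) ℂ} {ε : ℤ} {ξ ζ ζ₁ ζ₂ : G → ℂ}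

local notation "N" => normalizer ((P : Subgroup G) : Set G)

namespace GD

variable (h : GD P x H E r)
include h

theorem sum_le [Fintype G] [Fintype E] {φ : G → ℂ} (hφ : IsCharacter G φ) (hψ : ψ ≠ 1)
    {T : ZMod p → G → ℂ} (hT : ∀ a, a ≠ 0 → Ex x H (ψ.mulShift a) ε (T a) ∧
      ∀ g ∈ E, lam p x (T a) g = lam p x ξ g) {μ : E → ℂ} (hμ : IsCharacter E μ) {m n : ℕ}
    (hm : classInner (fun g : E => lam p x ξ g) μ = m)
    (hn : classInner (fun g : E => lam p x φ g) μ = n) {b : ZMod p → ℕ}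
    (hb : ∀ a, a ≠ 0 → classInner φ (T a) = b a) :
    (∑ a ∈ Finset.univ.erase 0, b a) * m ≤ Nat.card H * n := by
  classical
  set J : Finset (ZMod p) := Finset.univ.erase 0
  have hJ : ∀ a ∈ J, a ≠ 0 := fun a => Finset.ne_of_mem_erase
  obtain ⟨c, hc, hc', -⟩ := hφ.exists_nat_multiplicity
  choose u hu using fun χ : IrrCharacter G =>
    (h.isCharacter_lam χ.2.isCharacter).exists_nat_classInner hμ
  have h1 : (fun g : E => lam p x φ g) = ∑ χ, (c χ : ℂ) • fun g : E => lam p x (χ : G → ℂ) g :=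
    funext fun g => by
      simp only [lam, Finset.sum_apply, Pi.smul_apply, smul_eq_mul, congrFun hc', Finset.mul_sum]
      rw [Finset.sum_comm]
      exact Finset.sum_congr rfl fun χ _ => Finset.sum_congr rfl fun j _ => mul_left_comm _ _ _
  simp only [h1, classInner_sum_left, classInner_smul_left, hu, ← Nat.cast_mul, ← Nat.cast_sum,
    Nat.cast_inj] at hn
  let T' : ZMod p → IrrCharacter G := fun a =>
    if ha : a = 0 then ⟨_, isIrrCharacter_one⟩ else ⟨T a, (hT a ha).1.irr⟩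
  have h2 : ∀ a ∈ J, (T' a : G → ℂ) = T a := fun a ha => by simp only [T', dif_neg (hJ a ha)]
  rw [← hn, Finset.sum_mul, Finset.mul_sum,
    ← Finset.sum_fiberwise_of_maps_to (g := T') (t := Finset.univ) (by simp)]
  refine Finset.sum_le_sum fun χ _ => ?_
  rw [Finset.sum_congr rfl (g := fun _ => c χ * u χ) fun a ha => ?_, Finset.sum_const, smul_eq_mul]
  · rcases (J.filter (T' · = χ)).eq_empty_or_nonempty with h0 | ⟨a, ha⟩
    · simp [h0]
    rw [Finset.mem_filter] at ha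
    obtain ⟨ha, rfl⟩ := ha
    refine Nat.mul_le_mul_right _ (card_fiber_le hψ (hJ a ha) _ fun a' ha' => ?_)
    obtain ⟨ha', h3⟩ := Finset.mem_filter.1 ha'
    refine ⟨hJ a' ha', fun j hj => mul_left_cancel₀ (a := (ε : ℂ)) ?_ ?_⟩
    · rcases (hT a (hJ a ha)).1.sign with rfl | rfl <;> simp
    · rw [← eta_mulShift, ← eta_mulShift, ← (hT a (hJ a ha)).1.val j hj,
        ← (hT a' (hJ a' ha')).1.val j hj, ← h2 a ha, ← h2 a' ha', h3]
  · rw [Finset.mem_filter] at ha
    obtain ⟨ha, rfl⟩ := ha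
    congr 1 <;> refine Nat.cast_injective (R := ℂ) ?_
    · rw [← hc, ← hb a (hJ a ha), h2 a ha]
    · rw [← hu, ← hm, h2 a ha, funext fun g : E => (hT a (hJ a ha)).2 g g.2]

variable (s₁ : Sm x H ψ ζ₁) (s₂ : Sm x H (ψ.mulShift (-1)) ζ₂)
  (hl : ∀ g ∈ E, lam p x ζ₂ g = lam p x ζ₁ g) (hodd : Odd (Nat.card H))
include s₁ s₂ hl hodd

omit hl [Finite G] in
theorem sum_mul_conj : ∑ j : ZMod p, ζ₂ (xp x j) * conj (ζ₁ (xp x j)) =
    p * (p - 2 * Nat.card H) := by
  have h2 := h.two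
  have he := Nat.card_pos (α := H)
  have e1 := sum_eq_zero_term (p := p) (f := fun j => ζ₁ (xp x j) * conj (ζ₂ (xp x j)) -
    ψ (j * 0) * (eta H ψ j * eta H ψ j)) fun j hj => by
      rw [mul_conj_eq s₁ s₂ hj, mul_zero, AddChar.map_zero_eq_one, one_mul, sub_self]
  rw [Finset.sum_sub_distrib, sum_mul_eta_sq s₁.ne, cnt_zero (by omega) hodd, xp_zero, eta_zero,
    s₁.deg, s₂.deg, map_natCast, Nat.cast_sub (by omega)] at e1
  have e2 := congrArg conj e1
  simp only [map_sub, map_sum, map_mul, map_natCast, Complex.conj_conj, mul_zero, map_one,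
    AddChar.map_zero_eq_one, Nat.cast_zero, map_zero, mul_comm (conj (ζ₁ _))] at e2
  linear_combination e2

omit hodd in
theorem center_le' : center G ≤ charKer (ζ₂ * fun g => conj (ζ₁ g)) := fun z hz y => by
  simpa [mul_comm] using congrArg conj (h.center_le s₁ s₂ hl hz y)

open scoped Classical in
theorem mul_inner [Fintype E] {μ : E → ℂ} (hμ : IsIrrCharacter E μ)
    (hz : ∀ g : E, (g : G) ∈ center G → μ g = 1) {n : ℕ}
    (hn : classInner (fun g : E => lam p x (ζ₂ * fun g => conj (ζ₁ g)) g) μ = n) :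
    Nat.card H * n + 2 * Nat.card H + 1 = p + if μ = fun _ => 1 then Nat.card H else 0 := by
  let μ' : G → ℂ := fun g => if hg : g ∈ E then conj (μ ⟨g, hg⟩) else 0
  have h1 : ∀ g : E, μ' g = conj (μ g) := fun g => dif_pos g.2
  have h2 := h.sum_E (f := fun g => lam p x (ζ₂ * fun g => conj (ζ₁ g)) g * μ' g) (u := μ')
    (c := p - 2 * Nat.card H - 1) (fun g hg hg' => by
      rw [h1 ⟨g, hg⟩, hz ⟨g, hg⟩ hg', map_one, mul_one, lam_center hg' (h.center_le' s₁ s₂ hl hg')]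
      simp only [lam, mul_one, Pi.mul_apply, h.sum_mul_conj s₁ s₂ hodd]
      rw [inv_mul_cancel_left₀ (Nat.cast_ne_zero.2 hp.out.ne_zero)]
      ring) fun g hg hr => by
      rw [← h.apply_eq_lam (s₂.irr.isClassFunction.mul s₁.irr.isClassFunction.conj) (h.le hg) hr,
        Pi.mul_apply, h.apply_eq_lam s₂.irr.isClassFunction (h.le hg) hr,
        h.apply_eq_lam s₁.irr.isClassFunction (h.le hg) hr, hl g hg, h.lam_mul_conj s₁ (h.le hg),
        one_mul]
  have h3 := isIrrCharacter_one.classInner_eq_ite hμ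
  simp only [classInner, one_mul, ← h1] at hn h3
  rw [hn, h3] at h2
  refine Nat.cast_injective (R := ℂ) ?_
  by_cases h4 : μ = fun _ => 1
  · rw [if_pos h4.symm] at h2
    rw [if_pos h4]
    push_cast
    linear_combination h2
  · rw [if_neg (Ne.symm h4)] at h2
    rw [if_neg h4]
    push_cast
    linear_combination h2

end GD

namespace GS

variable (h : GS P x H E r)
include h

theorem lam_ne_zero (e : Ex x H ψ ε ξ) (h1 : 1 < Nat.card H) : lam p x ξ 1 ≠ 0 := fun h0 => by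
  obtain ⟨m, hm, hm'⟩ := h.deg e
  rw [← hm, h0, zero_mul, zero_add] at hm'
  obtain ⟨n, hn⟩ := e.irr.isCharacter.exists_nat_degree
  obtain rfl : ε = 1 := e.sign.resolve_right fun h2 => by
    rw [h2, hn, Int.cast_neg, Int.cast_one, neg_one_mul, eq_neg_iff_add_eq_zero] at hm'
    norm_cast at hm'
    omega
  obtain ⟨M, hM⟩ := Princ.exists_isPModular hp.out
  have := charP_kM hM
  obtain ⟨A, hA⟩ := exists_intRep (OM M) e.irr hn
  have h2 : ∀ j, ξ (xp x j) = 1 * eta H ψ j := fun j => by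
    by_cases hj : j = 0
    · rw [hj, xp_zero, hm', eta_zero, Int.cast_one]
    · rw [e.val j hj, Int.cast_one]
  have h3 := h.eq_one_of_nil _ (nil_of_val h.hx hM A e.ne fun j => (hA _).trans (h2 j))
    (by have := h.lt; omega)
  have := Finite.one_lt_card_iff_nontrivial.1 h1
  obtain ⟨⟨a, ha⟩, ha'⟩ := exists_ne (1 : H)
  obtain ⟨g, hg, rfl⟩ := h.surj a ha
  have h4 := eq_one_of_red A (h.not_dvd hg) (h3 g)
  have h5 : ∀ j, eta H ψ j = n := fun j => by
    rw [← one_mul (eta H ψ j), ← h2, ← hA, ← mul_one (A _), ← h4, ← map_mul, hA,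
      h.apply_xp_mul e.irr.isClassFunction (h.le hg) fun h => ha' (Subtype.ext h), ← hA, h4, ← hn,
      ← hA, map_one]
  have h6 := sum_eta (H := H) e.ne
  simp only [h5, Finset.sum_const, Finset.card_univ, ZMod.card, nsmul_eq_mul, ← hn] at h6
  exact mul_ne_zero (Nat.cast_ne_zero.2 hp.out.ne_zero) e.irr.apply_one_ne_zero h6

theorem ex_cases {ψ' : AddChar (ZMod p) ℂ} (s : Sm x H ψ' ζ) (e : Ex x H ψ ε ξ)
    (hodd : Odd (Nat.card H)) (h1 : 1 < Nat.card H) {t : ℕ} (ht : p = Nat.card H * t + 1) :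
    Nat.card H + 2 ≤ t ∨ t = Nat.card H + 1 ∧ ε = 1 ∧ ∀ g ∈ E, lam p x ξ g = 1 := by
  classical
  have := Fintype.ofFinite G
  have := Fintype.ofFinite E
  have ht3 : 3 ≤ t := by have := h.lt; nlinarith
  obtain ⟨ζ₁, s₁, -⟩ := h.exists_sm s e.ne
  obtain ⟨ζ₂, s₂, hl, -⟩ := h.exists_sm s₁
    (AddChar.IsPrimitive.of_ne_one e.ne (neg_ne_zero.2 one_ne_zero))
  choose! T hT using fun a (ha : a ≠ 0) => h.exists_ex e ha
  have hφ := s₂.irr.isCharacter.mul s₁.irr.isCharacter.conj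
  choose! b hb using fun a (ha : a ≠ 0) => hφ.exists_nat_classInner (hT a ha).1.irr.isCharacter
  have hb' := fun a (ha : a ≠ 0) => h.le_mult s₁ s₂ hl (hT a ha).1 (by nlinarith) (b := b a) (by
    rw [← conj_classInner, mul_comm, classInner_mul_right, hb a ha, map_natCast])
  have hc := sum_cnt (H := H)
  rw [← Finset.add_sum_erase _ _ (Finset.mem_univ 0), cnt_zero (by have := h.lt; omega) hodd, zero_add] at hc
  have hξ := h.isCharacter_lam e.irr.isCharacter
  have key : ∀ μ, IsIrrCharacter E μ → classInner (fun g : E => lam p x ξ g) μ ≠ 0 →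
      ∃ m n : ℕ, 1 ≤ m ∧ classInner (fun g : E => lam p x ξ g) μ = m ∧
        (∑ a ∈ Finset.univ.erase 0, b a) * m ≤ Nat.card H * n ∧
        n + 2 = t + if μ = fun _ => 1 then 1 else 0 := fun μ hμ h0 => by
    obtain ⟨m, hm⟩ := hξ.exists_nat_classInner hμ.isCharacter
    obtain ⟨n, hn⟩ := (h.isCharacter_lam hφ).exists_nat_classInner hμ.isCharacter
    have h2 := h.mul_inner s₁ s₂ hl hodd hμ (fun g hg => (apply_of_mem_charKer
      (hξ.charKer_le_of_classInner_ne_zero hμ h0 (hξ.mem_charKer_iff.2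
        (GD.lam_center hg (e.ker hg))))).trans
      (hμ.apply_one_of_comm fun a b => Subtype.ext (h.comm a.2 b.2))) hn
    refine ⟨m, n, Nat.pos_of_ne_zero fun h => h0 (by rw [hm, h, Nat.cast_zero]), hm,
      h.sum_le hφ e.ne hT hμ.isCharacter hm hn hb, Nat.eq_of_mul_eq_mul_left (by omega : 0 < Nat.card H) ?_⟩
    split_ifs at h2 ⊢ <;> linarith
  obtain ⟨μ, hμ, hμ'⟩ := hξ.isClassFunction.exists_irr_classInner_ne_zero fun h0 =>
    h.lam_ne_zero e h1 (congrFun h0 1)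
  rcases e.sign with rfl | rfl
  · refine or_iff_not_imp_left.2 fun h2 => ?_
    have h3 := hc.ge.trans (Finset.sum_le_sum fun a ha => (hb' a (Finset.ne_of_mem_erase ha)).1 rfl)
    have key' : ∀ μ, IsIrrCharacter E μ → classInner (fun g : E => lam p x ξ g) μ ≠ 0 →
        t = Nat.card H + 1 ∧ (μ = fun _ => 1) ∧
          classInner (fun g : E => lam p x ξ g) μ = 1 := fun μ hμ h0 => by
      obtain ⟨m, n, k1, k2, k3, k4⟩ := key μ hμ h0
      have k5 : Nat.card H * m ≤ n := Nat.le_of_mul_le_mul_left (by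
        rw [← mul_assoc]; exact (Nat.mul_le_mul_right m h3).trans k3) (by omega : 0 < Nat.card H)
      have k6 := Nat.le_mul_of_pos_right (Nat.card H) k1
      split_ifs at k4 with k7
      · exact ⟨by omega, k7, by rw [k2, show m = 1 by nlinarith, Nat.cast_one]⟩
      · omega
    obtain ⟨k1, rfl, k3⟩ := key' μ hμ hμ'
    refine ⟨k1, rfl, fun g hg => (hξ.isClassFunction.apply_eq_sum_irr ⟨g, hg⟩).trans ?_⟩
    rw [Finset.sum_eq_single ⟨_, hμ⟩ (fun χ _ h4 => mul_eq_zero_of_left (by_contra fun h5 =>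
      h4 (Subtype.ext (key' χ χ.2 h5).2.1)) _) (by simp), k3, one_mul]
  · obtain ⟨m, n, k1, -, k3, k4⟩ := key μ hμ hμ'
    have h3 := Finset.sum_le_sum fun a (ha : a ∈ Finset.univ.erase 0) =>
      show Nat.card H + 1 ≤ 2 * b a + 2 * cnt H a by
        have := (hb' a (Finset.ne_of_mem_erase ha)).2 rfl
        obtain ⟨k, hk⟩ := hodd
        omega
    rw [Finset.sum_const, Finset.sum_add_distrib, ← Finset.mul_sum, ← Finset.mul_sum, hc,
      Finset.card_erase_of_mem (Finset.mem_univ _), Finset.card_univ, ZMod.card, smul_eq_mul,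
      show p - 1 = Nat.card H * t by omega] at h3
    have k5 := (Nat.le_mul_of_pos_right _ k1).trans k3
    have k6 : n + 1 ≤ t := by split_ifs at k4 <;> omega
    have k7 : t * (Nat.card H + 1) ≤ 2 * n + 2 * Nat.card H :=
      Nat.le_of_mul_le_mul_left (by linarith) (by omega : 0 < Nat.card H)
    nlinarith

theorem exists_ex' (s : Sm x H ψ ζ) (hodd : Odd (Nat.card H)) {t : ℕ}
    (ht : p = Nat.card H * t + 1) (h1 : ¬ t ∣ Nat.card H) : ∃ ψ ε ξ, Ex x H ψ ε ξ := by
  have := Fintype.ofFinite G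
  by_contra h0
  obtain ⟨ζ₂, s₂, hl, -⟩ := h.exists_sm s
    (AddChar.IsPrimitive.of_ne_one s.ne (neg_ne_zero.2 one_ne_zero))
  have hφ := s₂.irr.isCharacter.mul s.irr.isCharacter.conj
  have h2 := h.sum_mul_conj s s₂ hodd
  have h3 := h.center_le' s s₂ hl
  have h4 : (ζ₂ * fun g => conj (ζ g)) 1 = (p - Nat.card H) ^ 2 := by
    rw [Pi.mul_apply, s.deg, s₂.deg, map_natCast, Nat.cast_sub (by have := h.lt; omega), sq]
  change ∑ j : ZMod p, (ζ₂ * fun g => conj (ζ g)) (xp x j) = _ at h2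
  generalize (ζ₂ * fun g => conj (ζ g)) = φ at *
  obtain ⟨v, hv⟩ : ∃ v, ∀ j : ZMod p, j ≠ 0 → φ (xp x j) = v := ⟨φ (xp x (1 : ZMod p)), fun j hj => by
    rw [hφ.isClassFunction.apply_eq_sum_irr, hφ.isClassFunction.apply_eq_sum_irr (xp x (1 : ZMod p))]
    refine Finset.sum_congr rfl fun χ _ => ?_
    by_cases h5 : classInner φ χ = 0
    · rw [h5, zero_mul, zero_mul]
    rcases h.dich h.rel χ.2 with ⟨v, hv⟩ | ⟨ψ, ε, h6, h7, h8⟩
    · rw [hv j hj, hv 1 one_ne_zero]
    · exact absurd ⟨ψ, ε, _, χ.2, h3.trans (hφ.charKer_le_of_classInner_ne_zero χ.2 h5), h6, h7,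
        h8⟩ h0⟩
  obtain ⟨n, hn, -⟩ := exists_mult h.hx hφ ψ
  have e1 := sum_eq_zero_term (p := p) (f := fun j => φ (xp x j) - v)
    fun j hj => by rw [hv j hj, sub_self]
  have e2 := sum_eq_zero_term (p := p) (f := fun j => (φ (xp x j) - v) * ψ (-j))
    fun j hj => by rw [hv j hj, sub_self, zero_mul]
  have e3 : ∑ j : ZMod p, ψ (-j) = 0 :=
    (Equiv.sum_comp (Equiv.neg _) ψ).trans (AddChar.sum_eq_zero_of_ne_one s.ne)
  simp only [Finset.sum_sub_distrib, h2, xp_zero, h4, Finset.sum_const, Finset.card_univ,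
    ZMod.card, nsmul_eq_mul] at e1
  simp only [sub_mul, Finset.sum_sub_distrib, hn, ← Finset.mul_sum, e3, xp_zero, h4, neg_zero,
    AddChar.map_zero_eq_one, mul_one, mul_zero, sub_zero] at e2
  have e4 : (p : ℂ) = Nat.card H * t + 1 := by exact_mod_cast ht
  have e5 : (Nat.card H : ℂ) = t * (n - p + 2 * Nat.card H) :=
    mul_left_cancel₀ (card_ne_zero H) (mul_left_cancel₀ (Nat.cast_ne_zero.2 hp.out.ne_zero :
      (p : ℂ) ≠ 0) (by linear_combination -e1 - (p - 1) * e2 + p * (n - p + 2 * Nat.card H) * e4))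
  exact h1 (Int.natCast_dvd_natCast.1 ⟨n - p + 2 * Nat.card H, by exact_mod_cast e5⟩)

end GS

end Cfsg.Lib.Block.Lat
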