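import Cfsg.Agent.Block.BlauLin
import Cfsg.Agent.Block.SmallNil

/-!
# The kernel of the norm element on the tensor product with a uniserial module
-/

set_option autoImplicit false

namespace Cfsg.Lib.Block.Lat

open Module Subgroup Representation Polynomial Cfsg.Lib.Block.TI Cfsg.Lib.Block.SD

variable {K G V : Type*} [Field K] [Group G] [AddCommGroup V] [Module K V] {x : G}
  {E : Subgroup G} {ν R : G → K} {σ : Representation K G V} {d d₁ : ℕ}
  [Finite G] [FiniteDimensional K V] {p : ℕ} [hp : Fact p.Prime] [CharP K p]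

theorem range_add_ker (hE : (Nat.card E : K) ≠ 0) (hν : IsW E ν) (hx : orderOf x = p)
    {H : Subgroup (ZMod p)ˣ}
    (hH : ∀ g ∈ E, ∃ h ∈ H, g * x * g⁻¹ = xp x ((h : (ZMod p)ˣ) : ZMod p)) :
    finrank K ↥(wt σ E ν ⊓ LinearMap.range ((σ x - 1) ^ Nat.card H)) +
      finrank K ↥(wt σ E ν ⊓ LinearMap.ker (aeval (σ x) (nf H))) ≤ finrank K (wt σ E ν) := by
  have := Fintype.ofFinite E
  obtain ⟨u, hu⟩ := exists_nf_unit H (K := K)
    (isNilpotent_sub_one σ ((Nat.card_zpowers x).trans hx))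
  rw [← finrank_map_add (aeval (σ x) (nf H)) (wt σ E ν), add_le_add_iff_right]
  refine Submodule.finrank_mono ?_
  rintro _ ⟨hm, m, rfl⟩
  refine ⟨avg σ E ν ((u⁻¹).val m), avg_mem σ hν _, ?_⟩
  rw [← avg_comm σ fun g hg => by
      obtain ⟨h, hh, h4⟩ := hH g hg
      exact nf_comm hx σ hh h4, hu, Module.End.mul_apply, ← Module.End.mul_apply u.val,
    Units.mul_inv, Module.End.one_apply, avg_eq σ hE hν hm]

variable {V₁ V₂ : Type*} [AddCommGroup V₁] [Module K V₁] [FiniteDimensional K V₁]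
  [AddCommGroup V₂] [Module K V₂] [FiniteDimensional K V₂] {σ₁ : Representation K G V₁}
  {σ₂ : Representation K G V₂} {ν₁ ν₂ : G → K}

omit [CharP K p] in
theorem le_finrank_ker (h₁ : Uni σ₁ x E d₁ ν₁) (h₂ : Uni σ₂ x E d ν₂)
    (hE : (Nat.card E : K) ≠ 0) (hν₁ : IsW E ν₁) (hν₂ : IsW E ν₂)
    (hR : ∀ g ∈ E, ∃ k : ℕ, g * x * g⁻¹ = x ^ k ∧ (k : K) = R g) (hR' : IsW E R)
    (hx : orderOf x = p) {H : Subgroup (ZMod p)ˣ}
    (hH : ∀ g ∈ E, ∃ h ∈ H, g * x * g⁻¹ = xp x ((h : (ZMod p)ˣ) : ZMod p))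
    (β : V₁ →ₗ[K] V₂ →ₗ[K] V) (hβ : ∀ g a b, σ g (β a b) = β (σ₁ g a) (σ₂ g b))
    (hγ : ∀ (c₁ : Dual K V₁) (c₂ : Dual K V₂), ∃ γ : Dual K V, ∀ a b, γ (β a b) = c₁ a * c₂ b)
    {i lo n : ℕ} (hi : ∀ g ∈ E, ν g = ν₁ g * ν₂ g * R g ^ i) (h1 : lo + n ≤ d₁ + 1)
    (h2 : lo + n ≤ i + 1) (h3 : i ≤ lo + d) :
    n ≤ finrank K ↥(wt σ E ν ⊓ LinearMap.ker (aeval (σ x) (nf H)) ⊓ Submodule.map₂ β ⊤ ⊤) := by
  classical
  obtain ⟨w₁, c₁, a1, a2, a3, a4, -⟩ := h₁.exists_basis hE hν₁ hR hR'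
  obtain ⟨w₂, c₂, b1, b2, b3, b4, -⟩ := h₂.exists_basis hE hν₂ hR hR'
  choose γ hγ using hγ
  set W := wt σ E ν
  set f := aeval (σ x) (nf H) with hf
  have hfE : ∀ g ∈ E, σ g * f = f * σ g := fun g hg => by
    obtain ⟨h, hh, h4⟩ := hH g hg
    exact nf_comm hx σ hh h4
  let F : ℕ → Submodule K V := fun j => Submodule.span K
    {m | ∃ a b s t, a + b = j ∧ m = β (((σ₁ x - 1) ^ a) s) (((σ₂ x - 1) ^ b) t)}
  have hF : ∀ a b s t, β (((σ₁ x - 1) ^ a) s) (((σ₂ x - 1) ^ b) t) ∈ F (a + b) :=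
    fun a b s t => Submodule.subset_span ⟨a, b, s, t, rfl, rfl⟩
  have hF1 : ∀ j, F (j + 1) ≤ F j := fun j => Submodule.span_le.2 (by
    rintro _ ⟨a, b, s, t, h, rfl⟩
    rcases a with _ | a
    · obtain rfl : b = j + 1 := by omega
      simpa [pow_succ] using hF 0 j s ((σ₂ x - 1) t)
    · obtain rfl : j = a + b := by omega
      simpa [pow_succ] using hF a b ((σ₁ x - 1) s) t)
  have hF2 : ∀ j, ∀ m ∈ F j, (σ x - 1) m ∈ F (j + 1) := fun j =>
    (Submodule.span_le (p := (F (j + 1)).comap (σ x - 1))).2 (by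
      rintro _ ⟨a, b, s, t, rfl, rfl⟩
      have e1 := hF (a + 1) b s (σ₂ x t)
      have e2 := hF a (b + 1) s t
      rw [add_right_comm] at e1
      have e3 : ((σ₂ x - 1) ^ b) (σ₂ x t) = σ₂ x (((σ₂ x - 1) ^ b) t) := by
        rw [← Module.End.mul_apply, ← Module.End.mul_apply,
          (((Commute.refl _).sub_left (Commute.one_left _)).pow_left b).eq]
      have e4 := (F (a + b + 1)).add_mem e1 e2
      rw [e3, pow_succ', pow_succ'] at e4
      simpa [hβ] using e4)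
  have hF3 : ∀ j (q : ℤ[X]), ∀ m ∈ F j, aeval (σ x) q m ∈ F j := fun j q => by
    induction q using Polynomial.induction_on with
    | C a => intro m hm; simpa using (F j).toAddSubgroup.zsmul_mem hm a
    | add a b ha hb => intro m hm; simpa using (F j).add_mem (ha m hm) (hb m hm)
    | monomial k a ih =>
      intro m hm
      have := (F j).add_mem (hF1 j (hF2 j m hm)) hm
      rw [pow_succ, ← mul_assoc, map_mul, aeval_X]
      exact ih _ (by simpa using this)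
  have hF4 : ∀ m ∈ F i, f m ∈ F (i + 1) := fun m hm => by
    obtain ⟨U, c, -, h⟩ := nf_eq_mul H
    obtain ⟨e, he⟩ := Nat.exists_eq_succ_of_ne_zero (Nat.card_pos (α := H)).ne'
    rw [hf, h, he, pow_succ, mul_right_comm, map_mul, Module.End.mul_apply]
    exact hF3 _ _ _ (by simpa using hF2 i m hm)
  let Γ : V →ₗ[K] (Fin n → K) := LinearMap.pi fun s => γ (c₁ (lo + s)) (c₂ (i - (lo + s)))
  have hΓ : ∀ (a b : ℕ) s t (r : Fin n), lo + r < a ∨ i - (lo + r) < b →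
      Γ (β (((σ₁ x - 1) ^ a) s) (((σ₂ x - 1) ^ b) t)) r = 0 := fun a b s t r h => by
    rw [LinearMap.pi_apply, hγ]
    rcases h with h | h
    · rw [a4 _ _ h, zero_mul]
    · rw [b4 _ _ h, mul_zero]
  have k2 : F (i + 1) ≤ LinearMap.ker Γ := Submodule.span_le.2 (by
    rintro _ ⟨a, b, s, t, h, rfl⟩
    exact funext fun r => hΓ a b s t r (by have := r.2; omega))
  have k3 : (W ⊓ F i).map Γ = ⊤ := by
    rw [eq_top_iff, ← (Pi.basisFun K (Fin n)).span_eq, Submodule.span_le]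
    rintro _ ⟨r, rfl⟩
    have := r.2
    obtain ⟨s, hs⟩ := a2 (lo + r)
    obtain ⟨t, ht⟩ := b2 (i - (lo + r))
    refine ⟨β (w₁ (lo + r)) (w₂ (i - (lo + r))), ⟨fun g hg => ?_, ?_⟩, funext fun r' => ?_⟩
    · rw [hβ, a1 _ g hg, b1 _ g hg, map_smul, map_smul, LinearMap.smul_apply, smul_smul, hi g hg]
      congr 1
      conv_rhs => rw [show i = (lo + r) + (i - (lo + r)) by omega]
      simp only [Pi.mul_apply, Pi.pow_apply]
      ring
    · have h4 := hF (lo + r) (i - (lo + r)) s t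
      rwa [hs, ht, show lo + r + (i - (lo + r)) = i by omega] at h4
    · rw [Pi.basisFun_apply]
      by_cases h : r' = r
      · rw [h, Pi.single_eq_same, LinearMap.pi_apply, hγ, a3 _ (by omega), b3 _ (by omega), mul_one]
      · have h4 := Fin.val_ne_of_ne h
        have := r'.2
        rw [Pi.single_eq_of_ne h, ← hs, ← ht, hΓ _ _ _ _ _ (by omega)]
  have k4 : (W ⊓ F i).map f ≤ W ⊓ F i ⊓ LinearMap.ker Γ := by
    rintro _ ⟨m, hm, rfl⟩
    refine ⟨⟨fun g hg => ?_, hF1 i (hF4 m hm.2)⟩, k2 (hF4 m hm.2)⟩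
    rw [← Module.End.mul_apply, hfE g hg, Module.End.mul_apply, hm.1 g hg, map_smul]
  have k5 : F i ≤ Submodule.map₂ β ⊤ ⊤ := Submodule.span_le.2 (by
    rintro _ ⟨a, b, s, t, -, rfl⟩
    exact Submodule.apply_mem_map₂ _ trivial trivial)
  have e2 := finrank_map_add f (W ⊓ F i)
  have e3 := finrank_map_add Γ (W ⊓ F i)
  have e5 := Submodule.finrank_mono k4
  have e6 := Submodule.finrank_mono (show W ⊓ F i ⊓ LinearMap.ker f ≤
    W ⊓ LinearMap.ker f ⊓ Submodule.map₂ β ⊤ ⊤ from fun m hm => ⟨⟨hm.1.1, hm.2⟩, k5 hm.1.2⟩)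
  rw [k3, finrank_top, finrank_fin_fun] at e3
  omega

omit [FiniteDimensional K V] in
theorem sub_one_pow_p (σ : Representation K G V) (hx : orderOf x = p) : (σ x - 1) ^ p = 0 := by
  have := Fintype.ofFinite G
  have := Fintype.ofFinite (zpowers x)
  have h : p = p ^ 1 - 1 + 1 := by have := hp.out.pos; rw [pow_one]; omega
  conv_lhs => rw [h]
  rw [pow_succ, ← sum_eq_pow K σ rfl ((Nat.card_zpowers x).trans (hx.trans (pow_one p).symm)),
    mul_sub, mul_one, Finset.sum_mul, sub_eq_zero]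
  exact Fintype.sum_equiv (Equiv.mulRight ⟨x, mem_zpowers x⟩) _ _ fun y => by simp

omit [FiniteDimensional K V] in
theorem apply_pow_eq {g : G} {k : ℕ} (hk : g * x * g⁻¹ = x ^ k) {a : ℕ} {s : V}
    (hs : ((σ x - 1) ^ (a + 1)) (σ g s) = 0) :
    σ g (((σ x - 1) ^ a) s) = (k : K) ^ a • ((σ x - 1) ^ a) (σ g s) := by
  obtain ⟨S, hS, hS'⟩ := pow_sub_one_eq (K := K) (σ x) k
  obtain ⟨b, hb, hb'⟩ := Nil.smul_add_pow hS (k : K) a
  rw [← Module.End.mul_apply, (SemiconjBy.pow_right (conj_sub_one σ hk) a).eq, hS', hb',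
    ((show Commute _ b from hb).pow_left _).eq]
  simp [hs]

omit [FiniteDimensional K V] in
theorem inv_of_decomp (hG : ∀ g, ∃ y ∈ zpowers x, ∃ e ∈ E, g = y * e) {J : Submodule K V}
    (h1 : ∀ v ∈ J, σ x v ∈ J) (h2 : ∀ g ∈ E, ∀ v ∈ J, σ g v ∈ J) (g : G) : ∀ v ∈ J, σ g v ∈ J := by
  obtain ⟨y, hy, e, he, rfl⟩ := hG g
  obtain ⟨k, rfl⟩ := mem_powers_iff_mem_zpowers.2 hy
  intro v hv
  simp only [map_mul, map_pow]
  exact Module.End.pow_apply_mem_of_forall_mem k h1 _ (h2 e he v hv)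

theorem exists_pow_eq_smul {T : End K V} (hd : finrank K V = d + 1) (h : T ^ (d + 1) = 0) {v : V}
    (hv : (T ^ d) v ≠ 0) {u : V} (hu : u ≠ 0) : ∃ (i : ℕ) (c : K), c ≠ 0 ∧
      (T ^ i) u = c • (T ^ d) v := by
  obtain ⟨c, -, -, hc, -⟩ := exists_coord.{_, _, 0} hd h hv
  by_contra h0
  have key : ∀ j ≤ d + 1, u ∈ LinearMap.range (T ^ j) := fun j hj => by
    induction j with
    | zero => exact ⟨u, rfl⟩
    | succ j ih =>
      obtain ⟨w, rfl⟩ := ih (by omega)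
      obtain ⟨w', hw⟩ := hc w
      rw [eq_sub_iff_add_eq] at hw
      by_cases h1 : c 0 w = 0
      · exact ⟨w', by rw [← hw, h1, zero_smul, add_zero, pow_succ, Module.End.mul_apply]⟩
      refine absurd ⟨d - j, _, h1, ?_⟩ h0
      rw [← Module.End.mul_apply, ← pow_add, Nat.sub_add_cancel (by omega)]
      conv_lhs => rw [← hw, map_add, ← Module.End.mul_apply, ← pow_succ, h, map_smul]
      simp
  obtain ⟨w, rfl⟩ := key _ le_rfl
  exact hu (by rw [h, LinearMap.zero_apply])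

theorem exists_split [IsAlgClosed K] (hE : (Nat.card E : K) ≠ 0)
    (hR : ∀ g ∈ E, ∃ k : ℕ, g * x * g⁻¹ = x ^ k ∧ (k : K) = R g) (hR' : IsW E R)
    (hx : orderOf x = p) (hG : ∀ g, ∃ y ∈ zpowers x, ∃ e ∈ E, g = y * e) {g₀ : G}
    (hc : ∀ g ∈ E, ∃ k : ℕ, σ g = σ g₀ ^ k) {S : Submodule K V} (hS : ∀ g, ∀ v ∈ S, σ g v ∈ S)
    (h0 : S ≠ ⊥) : ∃ (U S' : Submodule K V) (hU : ∀ g, ∀ v ∈ U, σ g v ∈ U) (a : ℕ) (μ : G → K),
      U ≤ S ∧ S' < S ∧ (∀ g, ∀ v ∈ S', σ g v ∈ S') ∧ Disjoint U S' ∧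
      finrank K S ≤ a + 1 + finrank K S' ∧ a < p ∧ IsW E μ ∧ (∃ v ≠ 0, v ∈ wt σ E μ) ∧
      Uni (subrepresentation σ U hU) x E a μ := by
  classical
  have := Fintype.ofFinite E
  set T := σ x - 1 with hT
  have hN : ∀ g : G, g ∈ normalizer ((zpowers x : Subgroup G) : Set G) := fun g => by
    obtain ⟨y, hy, e, he, rfl⟩ := hG g
    obtain ⟨k, hk, -⟩ := hR e he
    refine mul_mem (le_normalizer hy) (mem_normalizer_fintype ?_)
    rintro _ ⟨n, rfl⟩
    simp only [SetLike.mem_coe]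
    rw [← conj_zpow, hk]
    exact zpow_mem (pow_mem (mem_zpowers x) k) n
  have hTp : T ^ p = 0 := sub_one_pow_p σ hx
  have hex : ∃ a, S.map (T ^ (a + 1)) = ⊥ := ⟨p, by simp [pow_succ, hTp]⟩
  set a := Nat.find hex
  have ha : ∀ s ∈ S, (T ^ (a + 1)) s = 0 := fun s hs =>
    (Nat.find_spec hex).le (Submodule.mem_map_of_mem hs)
  have ha' : S.map (T ^ a) ≠ ⊥ := by
    rcases h : a with _ | b
    · simpa [Module.End.one_eq_id] using h0
    · exact Nat.find_min hex (show b < a by omega)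
  have hTS : ∀ s ∈ S, T s ∈ S := fun s hs => S.sub_mem (hS x s hs) hs
  have hpow : ∀ g ∈ E, ∀ s ∈ S, σ g ((T ^ a) s) = R g ^ a • (T ^ a) (σ g s) := fun g hg s hs => by
    obtain ⟨k, hk, hk'⟩ := hR g hg
    rw [apply_pow_eq hk (ha _ (hS g s hs)), hk']
  obtain ⟨_, ⟨s, hs, rfl⟩, hz, κ, hκ⟩ := exists_eigen_mem (σ g₀) ha' (by
    rintro _ ⟨s, hs, rfl⟩
    obtain ⟨k, hk⟩ := exists_conj_eq_pow' (hN g₀)
    rw [apply_pow_eq hk (ha _ (hS g₀ s hs)), ← map_smul]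
    exact Submodule.mem_map_of_mem (S.smul_mem _ (hS g₀ s hs)))
  set z := (T ^ a) s with hzs
  obtain ⟨φ₀, hφ₀⟩ := Module.Projective.exists_dual_eq_one K hz
  let ν' : G → K := fun g => φ₀ (σ g z)
  have hν' : z ∈ wt σ E ν' := fun g hg => by
    obtain ⟨k, hk⟩ := hc g hg
    have h1 : σ g z = κ ^ k • z := by
      rw [hk]
      clear hk
      induction k with
      | zero => simp
      | succ k ih => rw [pow_succ, Module.End.mul_apply, hκ, map_smul, ih, smul_smul, pow_succ']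
    simp only [ν', h1, map_smul, hφ₀, smul_eq_mul, mul_one]
  have w' : IsW E ν' := ⟨by simp [ν', hφ₀], fun a ha b hb => by
    simp only [ν']
    rw [map_mul, Module.End.mul_apply, hν' b hb, map_smul, map_smul, map_smul, hφ₀]
    simp [ν', mul_comm]⟩
  let μ : G → K := fun g => ν' g / R g ^ a
  have w : IsW E μ := ⟨by simp [μ, w'.one, hR'.one], fun a ha b hb => by
    simp only [μ, w'.mul a ha b hb, hR'.mul a ha b hb, mul_pow, div_mul_div_comm]⟩
  set v := avg σ E μ s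
  have hvS : v ∈ S := avg_mem_of_inv σ (fun g _ => hS g) hs
  have hv : (T ^ a) v = z := by
    have h1 := avg_sub_mem σ hE w (J := LinearMap.ker (T ^ a)) (m := s) fun g hg => by
      have h2 := hpow g hg s hs
      rw [hν' g hg, ← inv_smul_eq_iff₀ (pow_ne_zero _ (hR'.ne_zero hg)), smul_smul] at h2
      rw [LinearMap.mem_ker, map_sub, ← h2, map_smul, sub_eq_zero, inv_mul_eq_div]
    rwa [LinearMap.mem_ker, map_sub, sub_eq_zero] at h1
  let φ := φ₀ ∘ₗ avg σ E ν'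
  have hφz : φ z = 1 := by rw [LinearMap.comp_apply, avg_eq σ hE w' hν', hφ₀]
  have hφ : ∀ g ∈ E, ∀ u, φ (σ g u) = ν' g * φ u := fun g hg u => by
    rw [LinearMap.comp_apply, avg_comm σ fun b hb => by
      obtain ⟨k, hk⟩ := hc g hg
      obtain ⟨l, hl⟩ := hc b hb
      rw [hk, hl, (Commute.pow_pow_self _ l k).eq], avg_mem σ w' u g hg, map_smul]
    rfl
  have hinv : ∀ J : Submodule K V, (∀ u ∈ J, T u ∈ J) → (∀ u ∈ J, σ x u ∈ J) ∧
      ∀ k j : ℕ, ∀ u ∈ J, ((σ x ^ k - 1) ^ j) u ∈ J := fun J hJ => by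
    have h1 : ∀ u ∈ J, σ x u ∈ J := fun u hu => by simpa [hT] using J.add_mem (hJ u hu) hu
    exact ⟨h1, fun k j => Module.End.pow_apply_mem_of_forall_mem j fun u hu =>
      J.sub_mem (Module.End.pow_apply_mem_of_forall_mem k h1 u hu) hu⟩
  let U := Submodule.span K (Set.range fun j : Fin (a + 1) => (T ^ (j : ℕ)) v)
  have hUv : ∀ j, (T ^ j) v ∈ U := fun j => by
    by_cases hj : j < a + 1
    · exact Submodule.subset_span ⟨⟨j, hj⟩, rfl⟩
    · obtain ⟨i, rfl⟩ := Nat.exists_eq_add_of_le' (not_lt.1 hj)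
      rw [pow_add, Module.End.mul_apply, ha v hvS, map_zero]
      exact zero_mem _
  have hU1 := hinv U ((Submodule.span_le (p := U.comap T)).2 (by
    rintro _ ⟨j, rfl⟩
    simpa [pow_succ'] using hUv (j + 1)))
  have hU := inv_of_decomp hG hU1.1 fun g hg => (Submodule.span_le (p := U.comap (σ g))).2 (by
    rintro _ ⟨j, rfl⟩
    obtain ⟨k, hk, -⟩ := hR g hg
    change (σ g * T ^ (j : ℕ)) v ∈ U
    rw [(SemiconjBy.pow_right (conj_sub_one σ hk) _).eq, Module.End.mul_apply, avg_mem σ w s g hg]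
    exact hU1.2 _ _ _ (U.smul_mem _ (hUv 0)))
  let S' := S ⊓ ⨅ j : ℕ, LinearMap.ker (φ ∘ₗ T ^ j)
  have hS' : ∀ u, u ∈ S' ↔ u ∈ S ∧ ∀ j, φ ((T ^ j) u) = 0 := fun u => by simp [S']
  have hS1 := hinv S' fun u hu => (hS' _).2 ⟨hTS u hu.1, fun j => by
    simpa [pow_succ] using ((hS' u).1 hu).2 (j + 1)⟩
  have hUS : U ≤ S := Submodule.span_le.2 (by
    rintro _ ⟨j, rfl⟩
    exact Module.End.pow_apply_mem_of_forall_mem _ hTS v hvS)
  have hco : ∀ i (u : U), (((subrepresentation σ U hU x - 1) ^ i) u : V) = (T ^ i) u :=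
    fun i u => pow_semiconj U.subtype (fun _ => rfl) i u
  have hrk : finrank K U = a + 1 := by
    rw [finrank_span_eq_card, Fintype.card_fin]
    have h1 := Nil.linearIndependent_pow (u := T.restrict hTS) (d := a) (v := ⟨v, hvS⟩)
      (LinearMap.ext fun u => Subtype.ext (by
        rw [Module.End.pow_restrict]; exact ha u u.2)) (fun h => hz (by
        rw [← hv]; rw [Module.End.pow_restrict] at h; exact congrArg Subtype.val h))
    have h2 := h1.map' S.subtype S.ker_subtype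
    rwa [show S.subtype ∘ _ = fun j : Fin (a + 1) => (T ^ (j : ℕ)) v from funext fun j =>
      pow_semiconj S.subtype (a := T.restrict hTS) (fun _ => rfl) _ ⟨v, hvS⟩] at h2
  have hnil : (subrepresentation σ U hU x - 1) ^ (a + 1) = 0 :=
    LinearMap.ext fun u => Subtype.ext ((hco _ u).trans (ha u (hUS u.2)))
  have hgen : ((subrepresentation σ U hU x - 1) ^ a) ⟨v, hUv 0⟩ ≠ 0 := fun h =>
    hz (hv.symm.trans ((hco _ ⟨v, hUv 0⟩).symm.trans (congrArg Subtype.val h)))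
  refine ⟨U, S', hU, a, μ, hUS, lt_of_le_of_ne inf_le_left fun h => ?_, inv_of_decomp hG hS1.1
    fun g hg u hu => (hS' _).2 ⟨hS g u hu.1, fun j => ?_⟩, Submodule.disjoint_def.2 fun u h1 h2 => ?_,
    ?_, ?_, w, ⟨v, fun h => hz (by rw [← hv, h, map_zero]), avg_mem σ w s⟩, hrk, hnil, _, hgen,
    fun g hg => ⟨0, Subtype.ext ((map_zero (σ x - 1)).trans
      (sub_eq_zero.2 (avg_mem σ w s g hg)).symm)⟩⟩
  · exact one_ne_zero (hφz.symm.trans (((hS' s).1 (h.ge hs)).2 a))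
  · obtain ⟨k, hk, -⟩ := hR _ (inv_mem hg)
    have h1 := LinearMap.congr_fun (SemiconjBy.pow_right (conj_sub_one σ hk) j).eq (σ g u)
    rw [Module.End.mul_apply, Module.End.mul_apply, σ.inv_self_apply] at h1
    rw [← σ.self_inv_apply g ((T ^ j) _), h1, hφ g hg]
    exact mul_eq_zero_of_right _ (((hS' _).1 (hS1.2 k j u hu)).2 0)
  · by_contra h3
    obtain ⟨i, c, hc0, h4⟩ := exists_pow_eq_smul hrk hnil hgen (u := ⟨u, h1⟩)
      fun h => h3 (congrArg Subtype.val h)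
    have h5 := ((hS' u).1 h2).2 i
    rw [← hco i ⟨u, h1⟩, h4, Submodule.coe_smul, hco, hv, map_smul, hφz, smul_eq_mul, mul_one] at h5
    exact hc0 h5
  · let Ψ : V →ₗ[K] (Fin (a + 1) → K) := LinearMap.pi fun j => φ ∘ₗ T ^ (j : ℕ)
    rw [← finrank_map_add Ψ S]
    refine add_le_add ((Submodule.finrank_le _).trans (by simp)) (Submodule.finrank_mono
      fun u hu => (hS' u).2 ⟨hu.1, fun j => ?_⟩)
    by_cases hj : j < a + 1
    · exact congrFun hu.2 ⟨j, hj⟩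
    · obtain ⟨i, rfl⟩ := Nat.exists_eq_add_of_le' (not_lt.1 hj)
      rw [pow_add, Module.End.mul_apply, ha u hu.1, map_zero, map_zero]
  · by_contra h
    exact ha' (by simp [pow_eq_zero_of_le (not_lt.1 h) hTp])

theorem tens_bound [IsAlgClosed K] (h₂ : Uni σ₂ x E d ν₂)
    (hE : (Nat.card E : K) ≠ 0) (hν₂ : IsW E ν₂)
    (hR : ∀ g ∈ E, ∃ k : ℕ, g * x * g⁻¹ = x ^ k ∧ (k : K) = R g) (hR' : IsW E R)
    (hx : orderOf x = p) {H : Subgroup (ZMod p)ˣ}
    (hH : ∀ g ∈ E, ∃ h ∈ H, g * x * g⁻¹ = xp x ((h : (ZMod p)ˣ) : ZMod p))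
    (hG : ∀ g, ∃ y ∈ zpowers x, ∃ e ∈ E, g = y * e) {g₀ : G}
    (hc : ∀ g ∈ E, ∃ k : ℕ, σ₁ g = σ₁ g₀ ^ k) (hRe : ∀ g ∈ E, R g ^ Nat.card H = 1)
    (hi : ∀ μ, IsW E μ → (∃ v ≠ 0, v ∈ wt σ₁ E μ) → ∃ i, ∀ g ∈ E, ν g = μ g * ν₂ g * R g ^ i)
    (β : V₁ →ₗ[K] V₂ →ₗ[K] V) (hβ : ∀ g a b, σ g (β a b) = β (σ₁ g a) (σ₂ g b))
    (hγ : ∀ (c₁ : Dual K V₁) (c₂ : Dual K V₂), ∃ γ : Dual K V, ∀ a b, γ (β a b) = c₁ a * c₂ b)
    (hπ : ∀ π : End K V₁, ∃ Q : End K V, ∀ a b, Q (β a b) = β (π a) b)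
    {s : ℕ} (hd : d + 1 + Nat.card H = p) (hs : s + 2 * Nat.card H = p) (S : Submodule K V₁)
    (hS : ∀ g, ∀ v ∈ S, σ₁ g v ∈ S) : ∃ m B, m * s ≤ B ∧ finrank K S + m * s ≤ B + m * p ∧
      finrank K S + B ≤ 2 * finrank K
        ↥(wt σ E ν ⊓ LinearMap.ker (aeval (σ x) (nf H)) ⊓ Submodule.map₂ β S ⊤) := by
  induction S using WellFoundedLT.induction with | ind S ih => ?_
  by_cases h0 : S = ⊥
  · subst h0
    exact ⟨0, 0, by simp, by simp, by simp⟩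
  obtain ⟨U, S', hU, a, μ, h1, h2, h3, h4, h5, h6, h7, h8, h9⟩ :=
    exists_split hE hR hR' hx hG hc hS h0
  obtain ⟨m, B, k1, k2, k3⟩ := ih S' h2 h3
  obtain ⟨i₀, hi₀⟩ := hi μ h7 h8
  have he := Nat.card_pos (α := H)
  set e := Nat.card H
  set n := min (a + 1) ((a + s + 2) / 2)
  have h10 := Nat.mod_lt (i₀ + (n - 1) * (e - 1)) he
  have k4 := le_finrank_ker (σ := σ) (ν := ν) h9 h₂ hE h7 hν₂ hR hR' hx hH (β ∘ₗ U.subtype)
    (fun g a b => hβ g a b) (fun c₁ c₂ => by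
      obtain ⟨c, rfl⟩ := c₁.exists_extend
      exact (hγ c c₂).imp fun γ h a b => h a b)
    (i := n - 1 + (i₀ + (n - 1) * (e - 1)) % e) (lo := n - 1 + (i₀ + (n - 1) * (e - 1)) % e - d)
    (n := n) (fun g hg => by
      rw [pow_add, ← pow_eq_pow_mod _ (hRe g hg), ← pow_add, add_left_comm, ← mul_one_add,
        show 1 + (e - 1) = e by omega, pow_add, mul_comm _ e, pow_mul, hRe g hg, one_pow, mul_one, hi₀ g hg])
    (by omega) (by omega) (by omega)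
  set A := wt σ E ν ⊓ LinearMap.ker (aeval (σ x) (nf H))
  have k5 := Submodule.finrank_sup_add_finrank_inf_eq (A ⊓ Submodule.map₂ (β ∘ₗ U.subtype) ⊤ ⊤)
    (A ⊓ Submodule.map₂ β S' ⊤)
  obtain ⟨C, hC, hC'⟩ := h4.symm.exists_isCompl
  obtain ⟨Q, hQ⟩ := hπ (U.projection C hC'.symm)
  have h11 : Submodule.map₂ (β ∘ₗ U.subtype) ⊤ ⊤ ≤ LinearMap.ker (Q - 1) :=
    Submodule.map₂_le.2 fun a _ b _ => sub_eq_zero.2
      ((hQ a b).trans (by rw [Submodule.projection_apply_left]; rfl))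
  have h12 : Submodule.map₂ β S' ⊤ ≤ LinearMap.ker Q := Submodule.map₂_le.2 fun a ha b _ =>
    (hQ a b).trans (by rw [Submodule.projection_apply_of_mem_right _ (hC ha)]; simp)
  rw [(Submodule.eq_bot_iff (A ⊓ Submodule.map₂ (β ∘ₗ U.subtype) ⊤ ⊤ ⊓
    (A ⊓ Submodule.map₂ β S' ⊤))).2 fun z hz =>
    (sub_eq_zero.1 (h11 hz.1.2)).symm.trans (h12 hz.2.2), finrank_bot] at k5
  have k6 := Submodule.finrank_mono (sup_le (a := A ⊓ Submodule.map₂ (β ∘ₗ U.subtype) ⊤ ⊤)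
    (inf_le_inf_left A (Submodule.map₂_le.2 fun a _ b hb => Submodule.apply_mem_map₂ β (h1 a.2) hb))
    (inf_le_inf_left A (Submodule.map₂_le_map₂_left h2.le)))
  by_cases h13 : s ≤ a + 1
  · refine ⟨m + 1, B + s, ?_, ?_, ?_⟩ <;> (try rw [add_mul]) <;> (try rw [add_mul]) <;> omega
  · exact ⟨m, B + (a + 1), by omega, by omega, by omega⟩

end Cfsg.Lib.Block.Lat
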