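import Cfsg.Agent.Spor.M24PK

/-!
A class list of a subgroup of `Sym(24)` as an indexed family of elements of the subgroup.
-/

set_option autoImplicit false

namespace Cfsg.Lib.Spor.MP

open Subgroup

theorem card_centralizer_coe {G : Type*} [Group G] {H : Subgroup G} (g : H) :
    Nat.card (centralizer ({g} : Set H)) = Nat.card ↥(H ⊓ centralizer {(g : G)}) := by
  rw [← card_map_of_injective (K := centralizer ({g} : Set H)) H.subtype_injective]
  congr 2
  ext y
  simp only [mem_map, mem_inf, mem_centralizer_singleton_iff]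
  constructor
  · rintro ⟨z, hz, rfl⟩
    exact ⟨z.2, congrArg Subtype.val hz⟩
  · rintro ⟨h1, h2⟩
    exact ⟨⟨y, h1⟩, Subtype.ext h2, rfl⟩

theorem IsClassList.exists_family {H : Subgroup (Equiv.Perm GolayPt)} {reps : List (ℕ × ℕ × ℕ)}
    (h : IsClassList H reps) {n : ℕ} (hn : reps.length = n) : ∃ x : Fin n → H,
      (∀ i, orderOf (x i) = (reps[i.1]'(hn ▸ i.2)).2.1) ∧
      (∀ i, Nat.card (centralizer ({x i} : Set H)) = (reps[i.1]'(hn ▸ i.2)).2.2) ∧
      (∀ i j, IsConj (x i) (x j) → i = j) ∧ ∀ g, ∃ i, IsConj (x i) g := by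
  subst hn
  refine ⟨fun i => ⟨toPerm (reps[i.1]).1, (h.mem _ (List.getElem_mem _)).2⟩, fun i => ?_,
    fun i => ?_, fun i j hij => ?_, fun g => ?_⟩
  · rw [orderOf_mk, h.ord _ (List.getElem_mem _)]
  · rw [card_centralizer_coe, h.cent _ (List.getElem_mem _)]
  · have key : ∀ i j : Fin reps.length, i < j → ¬ IsConj
        (⟨toPerm (reps[i.1]).1, (h.mem _ (List.getElem_mem _)).2⟩ : H)
        ⟨toPerm (reps[j.1]).1, (h.mem _ (List.getElem_mem _)).2⟩ := fun i j hij hc => by
      obtain ⟨c, hc⟩ := isConj_iff.1 hc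
      refine List.pairwise_iff_getElem.1 h.pair i j i.2 j.2 hij ⟨c, c.2, ?_⟩
      have := congrArg Subtype.val hc
      simp only [coe_mul, coe_inv] at this
      rw [← this, inv_mul_cancel_right]
    rcases lt_trichotomy i j with h1 | h1 | h1
    · exact absurd hij (key i j h1)
    · exact h1
    · exact absurd hij.symm (key j i h1)
  · obtain ⟨r, hr, c, hc, e⟩ := h.all g g.2
    obtain ⟨i, hi, rfl⟩ := List.getElem_of_mem hr
    exact ⟨⟨i, hi⟩, isConj_iff.2 ⟨⟨c, hc⟩, Subtype.ext e⟩⟩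

end Cfsg.Lib.Spor.MP
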