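import Cfsg.Agent.Block.CycCons
import Cfsg.Agent.Block.SubClass
import Cfsg.Agent.Block.CentQuot
import Cfsg.Agent.Block.SubBound

/-!
The minimum of the form of a block with cyclic defect group, and Brauer's bounds for `k(B)`.
-/

set_option autoImplicit false

open scoped ComplexConjugate MonoidAlgebra
open Cfsg Cfsg.Lib.Char Cfsg.Lib.Block.Pair
open Subgroup (centralizer zpowers)

namespace Cfsg.Lib.Block

universe u

theorem card_le_form {ι : Type*} (X : Finset ι) (z : ι → ℤ) (hz : ∃ i ∈ X, z i ≠ 0) {m : ℤ}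
    (hm : 1 ≤ m) : (X.card : ℤ) ≤
      (X.card * m + 1) * ∑ i ∈ X, z i * z i - m * ((∑ i ∈ X, z i) * ∑ i ∈ X, z i) := by
  have h1 := CD.card_le_sum_sq (X.filter fun i => z i ≠ 0) z fun i hi => (Finset.mem_filter.1 hi).2
  have h2 := sq_sum_le_card_mul_sum_sq (s := X.filter fun i => z i ≠ 0) (f := z)
  have h3 : (1 : ℤ) ≤ (X.filter fun i => z i ≠ 0).card := by
    obtain ⟨i, hi, h⟩ := hz
    exact_mod_cast Finset.card_pos.2 ⟨i, Finset.mem_filter.2 ⟨hi, h⟩⟩
  have h4 : ((X.filter fun i => z i ≠ 0).card : ℤ) ≤ X.card := by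
    exact_mod_cast Finset.card_filter_le _ _
  simp only [sq] at h2
  rw [Finset.sum_filter_ne_zero] at h2
  rw [Finset.sum_filter_of_ne fun i _ h => left_ne_zero_of_mul h] at h1 h2
  generalize ((X.filter fun i => z i ≠ 0).card : ℤ) = s at *
  generalize ∑ i ∈ X, z i * z i = A at *
  generalize (∑ i ∈ X, z i) * ∑ i ∈ X, z i = S at *
  nlinarith [mul_nonneg (sub_nonneg.2 h4) (sub_nonneg.2 (h3.trans h1)),
    mul_nonneg (sub_nonneg.2 hm) (sub_nonneg.2 h2),
    mul_nonneg (sub_nonneg.2 hm) (mul_nonneg (sub_nonneg.2 h4) (zero_le_one.trans (h3.trans h1)))]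

variable {G : Type u} [Group G] {p : ℕ} [hp : Fact p.Prime] {M : Ideal AlgInt}
  {B : Set (IrrCharacter G)} {D : Subgroup G}

omit hp in
theorem classInner_reg_eq_sub [Fintype G] (f g : G → ℂ) :
    classInner (pRegularPart p f) (pRegularPart p g) =
      classInner f g - classInner (f - pRegularPart p f) (g - pRegularPart p g) := by
  rw [classInner_sub_left, classInner_sub_right, classInner_sub_right,
    classInner_pRegularPart_both, ← classInner_pRegularPart_comm]
  ring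

omit hp in
theorem sub_reg_congr {f g : G → ℂ} (h : ∀ x, p ∣ orderOf x → f x = g x) :
    f - pRegularPart p f = g - pRegularPart p g := by
  funext x
  simp only [Pi.sub_apply, pRegularPart_eq_ite]
  split_ifs with hx <;> simp [h x, *]

namespace CD.Struct

variable [Fintype G] {Z : Subgroup G} {c : Set (IrrCharacter (Cz Z))} {θ₁ : IrrCharacter (Cz Z)}
  {X Y : Finset (IrrCharacter G)} {μ : IrrCharacter (Cz Z) → IrrCharacter G} {ε : ℤ}
  {a : IrrCharacter G → ℤ} (h : Struct p M B D c θ₁ X Y μ ε a)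
include h

theorem exists_coords (η : regLat p B) : ∃ x : IrrCharacter G → ℤ,
    (η : G → ℂ) = pRegularPart p (∑ χ ∈ X, (x χ : ℂ) • (χ : G → ℂ)) := by
  obtain ⟨n, hn⟩ := mem_regLat_iff.1 η.2
  refine ⟨fun χ => n χ - ε * (∑ ψ ∈ Y, n ψ) * a χ,
    hn.trans ((pRegularPart_eq_iff p).2 fun g hg => ?_)⟩
  have h1 : (ε : ℂ) * ε = 1 := by exact_mod_cast h.sign_mul_self
  simp only [h.sum_B, Finset.sum_apply, Pi.smul_apply, smul_eq_mul, Int.cast_sub,
    Int.cast_mul, Int.cast_sum, sub_mul, Finset.sum_sub_distrib, mul_assoc, ← Finset.mul_sum]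
  rw [Finset.sum_mul, Finset.mul_sum, sub_eq_add_neg, ← Finset.sum_neg_distrib]
  refine congrArg _ (Finset.sum_congr rfl fun ψ hψ => ?_)
  linear_combination (n ψ * ε : ℂ) * h.sign_rel hψ hg - (n ψ * (ψ : G → ℂ) g) * h1

theorem bf_eq {x : IrrCharacter G → ℤ} {η : regLat p B}
    (hη : (η : G → ℂ) = pRegularPart p (∑ χ ∈ X, (x χ : ℂ) • (χ : G → ℂ))) :
    bf p B η η = (X.card * Y.card + 1) * ∑ χ ∈ X, (a χ * x χ) * (a χ * x χ) -
      Y.card * ((∑ χ ∈ X, a χ * x χ) * ∑ χ ∈ X, a χ * x χ) := by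
  classical
  obtain ⟨χ₀, h₀⟩ := h.X_nonempty
  set σ := (a χ₀ : ℂ) • (χ₀ : G → ℂ) - pRegularPart p ((a χ₀ : ℂ) • (χ₀ : G → ℂ)) with hσ
  have ha : ∀ χ ∈ X, (a χ : ℂ) * a χ = 1 := fun χ hχ => by exact_mod_cast h.sign_X_mul_self hχ
  have h1 : ∀ x : IrrCharacter G → ℤ, ∑ χ ∈ X, (x χ : ℂ) • (χ : G → ℂ) - pRegularPart p
      (∑ χ ∈ X, (x χ : ℂ) • (χ : G → ℂ)) = ((∑ χ ∈ X, a χ * x χ : ℤ) : ℂ) • σ := fun x => by
    rw [hσ, smul_sub, ← pRegularPart_smul]
    refine sub_reg_congr fun g hg => ?_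
    simp only [Finset.sum_apply, Pi.smul_apply, smul_eq_mul, Int.cast_sum, Int.cast_mul,
      Finset.sum_mul]
    exact Finset.sum_congr rfl fun χ hχ => by
      linear_combination (a χ * x χ : ℂ) * h.X_apply_eq hχ h₀ hg - (x χ * (χ : G → ℂ) g) * ha χ hχ
  have h2 : (ε : ℂ) • ∑ ψ ∈ Y, (ψ : G → ℂ) - pRegularPart p ((ε : ℂ) • ∑ ψ ∈ Y, (ψ : G → ℂ)) = σ :=
    sub_reg_congr fun g hg => by simpa using h.sum_Y_apply_eq h₀ hg
  have h3 : pRegularPart p ((ε : ℂ) • ∑ ψ ∈ Y, (ψ : G → ℂ)) =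
      (-Y.card : ℂ) • pRegularPart p (∑ χ ∈ X, (a χ : ℂ) • (χ : G → ℂ)) := by
    rw [← pRegularPart_smul, pRegularPart_eq_iff]
    intro g hg
    simp only [Finset.sum_apply, Pi.smul_apply, smul_eq_mul, Finset.mul_sum (s := Y)]
    rw [Finset.sum_congr rfl fun ψ hψ => eq_neg_of_add_eq_zero_left (h.sign_rel hψ hg)]
    simp
  have h4 := classInner_reg_eq_sub (p := p) ((ε : ℂ) • ∑ ψ ∈ Y, (ψ : G → ℂ))
    ((a χ₀ : ℂ) • (χ₀ : G → ℂ))
  have h5 : ∀ ψ ∈ Y, ψ ≠ χ₀ := fun ψ hψ h0 => Finset.disjoint_left.1 h.disj h₀ (h0 ▸ hψ)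
  rw [h2, h3, classInner_smul_left, classInner_reg_eq_sub, h1, ← hσ, Finset.sum_congr rfl
    fun χ hχ => h.sign_X_mul_self hχ] at h4
  simp only [classInner_smul_left, classInner_smul_right, classInner_sum_left, classInner_irr,
    mul_ite, mul_zero, mul_one, Finset.sum_ite_eq', h₀, if_true, map_intCast, ha χ₀ h₀,
    Finset.sum_congr rfl fun ψ hψ => if_neg (h5 ψ hψ)] at h4
  have h6 : ((p : ℂ) ^ blockDefect p B) = X.card * Y.card + 1 := by
    rw [h.card_X, ← Nat.cast_pow, ← card_defect h.hM h.hB h.defect, ← h.card_Y]; push_cast; rfl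
  have h7 : ∑ χ ∈ X, (a χ : ℂ) * x χ * (a χ * x χ) = ∑ χ ∈ X, (x χ : ℂ) * x χ :=
    Finset.sum_congr rfl fun χ hχ => by linear_combination (x χ * x χ : ℂ) * ha χ hχ
  refine Int.cast_injective (α := ℂ) ?_
  rw [bf_cast, hη, classInner_reg_eq_sub, h1, h6]
  simp only [classInner_smul_left, classInner_smul_right, classInner_sum_left, classInner_irr,
    classInner_sum_right, mul_ite, mul_zero, mul_one, Finset.sum_ite_eq', map_intCast]
  rw [Finset.sum_congr rfl fun χ hχ => if_pos hχ]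
  simp at h4
  push_cast
  rw [h7]
  linear_combination (∑ χ ∈ X, (a χ : ℂ) * x χ) ^ 2 * h4

theorem blockRank_le_bf {η : regLat p B} (h0 : η ≠ 0) : (blockRank p B : ℤ) ≤ bf p B η η := by
  obtain ⟨x, hx⟩ := h.exists_coords η
  rw [h.bf_eq hx, h.rank, ← h.card_X]
  refine card_le_form X _ ?_ (by exact_mod_cast h.Y_nonempty.card_pos)
  by_contra h1
  push Not at h1
  refine h0 (Subtype.ext (hx.trans ?_))
  rw [Finset.sum_eq_zero fun χ hχ => by
    rw [(mul_eq_zero.1 (h1 χ hχ)).resolve_left (left_ne_zero_of_mul_eq_one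
      (h.sign_X_mul_self hχ)), Int.cast_zero, zero_smul], pRegularPart_zero]
  rfl

end CD.Struct

theorem blockRank_le_bf_of_isCyclic [Fintype G] (hM : IsPModular p M) (hB : IsPBlock M B)
    (hD : IsDefectGroup p M B D) [IsCyclic D] {η : regLat p B} (h0 : η ≠ 0) :
    (blockRank p B : ℤ) ≤ bf p B η η := by
  by_cases h1 : D = ⊥
  · rw [blockRank_eq_one_of_le_center hM hB hD (h1 ▸ bot_le)]
    exact bf_self_pos h0
  obtain ⟨b, hb⟩ := CD.exists_root hM hB hD
  obtain ⟨Z, c, θ₁, X, Y, μ, ε, a, h, -⟩ := CD.exists_struct_of_root hM hD h1 hb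
  exact h.blockRank_le_bf h0

theorem IsCQ.blockRank_le_bf [Fintype G] {H : Type*} [Group H] [Finite H] {f : G →* H}
    (h : IsCQ p f) (hM : IsPModular p M) (hB : IsPBlock M B) (hD : IsDefectGroup p M B D)
    (hc : IsCyclic (D.map f)) {η : regLat p B} (h0 : η ≠ 0) :
    (blockRank p B : ℤ) ≤ bf p B η η := by
  have := Fintype.ofFinite H
  obtain ⟨η, rfl⟩ := (h.latEquiv hM hB).surjective η
  rw [h.bf_latEquiv, ← h.blockRank_eq hM hB]
  exact blockRank_le_bf_of_isCyclic hM (h.isPBlock hM hB) (h.isDefectGroup_map hM hB hD)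
    fun h1 => h0 (by rw [h1, map_zero])

variable [Finite G]

omit [Finite G] hp in
theorem isCQ_mk_zpowers {H : Subgroup G} {u : G} (hH : H = centralizer ({u} : Set G))
    (hu : ∃ k : ℕ, orderOf u = p ^ k) [(zpowers (⟨u, cent_self_mem hH⟩ : H)).Normal] :
    IsCQ p (QuotientGroup.mk' (zpowers (⟨u, cent_self_mem hH⟩ : H))) := by
  obtain ⟨k, hk⟩ := hu
  exact isCQ_mk_of_le_center (IsPGroup.of_card (n := k) (by
    rw [Nat.card_zpowers, ← Subgroup.orderOf_coe, hk])) (Subgroup.zpowers_le.2 (cent_mem_center hH))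

omit [Finite G] hp in
theorem normal_zpowers_cent {H : Subgroup G} {u : G} (hH : H = centralizer ({u} : Set G)) :
    (zpowers (⟨u, cent_self_mem hH⟩ : H)).Normal :=
  ⟨fun x hx g => by
    rwa [Subgroup.mem_center_iff.1 (Subgroup.zpowers_le.2 (cent_mem_center hH) hx) g,
      mul_inv_cancel_right]⟩

/-- The quotient block of a major subsection. -/
theorem exists_major_quot (hM : IsPModular p M) (hB : IsPBlock M B) (hD : IsDefectGroup p M B D)
    {z : G} (hz : z ∈ D) (hc : D ≤ centralizer ({z} : Set G)) :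
    ∃ (H : Type u) (_ : Group H) (_ : Finite H) (c : Set (IrrCharacter H)) (f : D →* H),
      IsPBlock M c ∧ IsDefectGroup p M c f.range ∧ f ⟨z, hz⟩ = 1 ∧
      orderOf z * p ^ blockDefect p c = p ^ blockDefect p B ∧
      (IsCyclic f.range → Nat.card B ≤ p ^ blockDefect p B) ∧
      Nat.card B ≤ p ^ blockDefect p B * blockRank p c ∧
      ((∀ χ ∈ B, blockHeight p B (χ : G → ℂ) = 0) →
        Nat.card B ^ 2 ≤ p ^ (2 * blockDefect p B) * blockRank p c) := by
  have := Fintype.ofFinite G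
  have := Fintype.ofFinite (centralizer ({z} : Set G))
  obtain ⟨e, h⟩ := exists_isMax_eB hM hB hD
  have := normal_zpowers_cent (rfl : centralizer ({z} : Set G) = _)
  have hu := isMax_pElt h hz
  have h1 := isCQ_mk_zpowers rfl hu
  have hb := isPBlock_subBlk hM h hz
  have hi := isInducedBlock_subBlk hM hB h hz
  have hd := blockDefect_subBlk_of_le hM hB h hz hc
  have h2 : ((QuotientGroup.mk' _).comp (Subgroup.inclusion hc)).range =
      (D.subgroupOf _).map (QuotientGroup.mk' (zpowers (⟨z, cent_self_mem rfl⟩ :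
        centralizer ({z} : Set G)))) := by
    rw [MonoidHom.range_comp, Subgroup.inclusion_range]
  refine ⟨_, inferInstance, inferInstance, _, (QuotientGroup.mk' _).comp (Subgroup.inclusion hc),
    h1.isPBlock hM hb, h2 ▸ h1.isDefectGroup_map hM hb (isDefectGroup_subBlk_of_le hM h hz hc),
    (QuotientGroup.eq_one_iff _).2 (Subgroup.mem_zpowers _), ?_, fun h3 => ?_, ?_, fun h3 => ?_⟩
  · rw [← hd, ← h1.card_mul_pow_defect hM hb, QuotientGroup.ker_mk', Nat.card_zpowers,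
      ← Subgroup.orderOf_coe]
  · have h4 := card_mul_le_of_major hM rfl hu hi hd (Int.natCast_nonneg _) fun η hη =>
      h1.blockRank_le_bf hM hb (isDefectGroup_subBlk_of_le hM h hz hc) (h2 ▸ h3) hη
    exact_mod_cast le_of_mul_le_mul_right h4
      (by exact_mod_cast blockRank_pos hp.out (isPBlock_nonempty hM hb))
  · have h4 := card_mul_le_of_major hM rfl hu hi hd zero_le_one fun η hη => bf_self_pos hη
    rw [h1.blockRank_eq hM hb]
    exact_mod_cast (mul_one _).symm.trans_le h4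
  · have h4 := card_height_zero_sq_le hM rfl hu hi
    rwa [Finset.filter_true_of_mem fun χ hχ => h3 χ (mem_irrFin.1 hχ), card_irrFin, hd,
      ← h1.blockRank_eq hM hb] at h4

/-- Brauer: an abelian defect group on two generators gives `k(B) ≤ |D|`. -/
theorem card_le_of_two_gen (hM : IsPModular p M) (hB : IsPBlock M B) (hD : IsDefectGroup p M B D)
    {z y : D} (hc : D ≤ centralizer ({(z : G)} : Set G)) (h : zpowers z ⊔ zpowers y = ⊤) :
    Nat.card B ≤ p ^ blockDefect p B := by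
  obtain ⟨H, _, _, c, f, -, -, h1, -, h2, -⟩ := exists_major_quot hM hB hD z.2 hc
  refine h2 ?_
  rw [MonoidHom.range_eq_map, ← h, Subgroup.map_sup, MonoidHom.map_zpowers, MonoidHom.map_zpowers,
    h1, Subgroup.zpowers_one_eq_bot, bot_sup_eq]
  infer_instance

theorem card_le_of_defect_le_two (hM : IsPModular p M) (hB : IsPBlock M B)
    (hd : blockDefect p B ≤ 2) : Nat.card B ≤ p ^ blockDefect p B := by
  obtain ⟨D, hD⟩ := exists_isDefectGroup (p := p) hM hB
  by_cases h0 : blockDefect p B = 0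
  · rw [card_eq_one_of_defect_zero hM hB h0, h0, pow_zero]
  have h1 := card_defect hM hB hD
  have : Nontrivial D := Finite.one_lt_card_iff_nontrivial.1
    (h1 ▸ Nat.one_lt_pow h0 hp.out.one_lt)
  obtain ⟨z, hz⟩ := @exists_ne _ (defect_isPGroup hD).center_nontrivial 1
  obtain ⟨H, _, _, c, f, h2, h3, -, h4, h5, -⟩ := exists_major_quot hM hB hD z.1.2 fun d hd =>
    Subgroup.mem_centralizer_singleton_iff.2
      (congrArg Subtype.val (Subgroup.mem_center_iff.1 z.2 ⟨d, hd⟩))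
  obtain ⟨k, hk⟩ := pElt_of_mem (defect_isPGroup hD) z.1.2
  have hk0 : k ≠ 0 := fun h => hz (Subtype.ext (Subtype.ext (orderOf_eq_one_iff.1 (by
    rw [hk, h, pow_zero]))))
  rw [hk, ← pow_add, (Nat.pow_right_injective hp.out.two_le).eq_iff] at h4
  refine h5 (isCyclic_of_card_dvd_prime (p := p) ?_)
  rw [card_defect hM h2 h3]
  exact (pow_dvd_pow p (by omega)).trans (pow_one p).dvd

end Cfsg.Lib.Block
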