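import Cfsg.Agent.Char.SymPerm
import Cfsg.Agent.Char.SymDim
import Cfsg.Agent.Block.Subsec
import Cfsg.Agent.Block.Cover
import Cfsg.Agent.Block.DefectNum
import Cfsg.Agent.Block.BrauerFeit
import Cfsg.Agent.Block.Contrib

/-!
# The blocks of the symmetric groups

Two irreducible characters lie in the same block iff their labels have the same number of beads
on every runner; defect groups and heights.
-/

set_option autoImplicit false

open Equiv Finset Cfsg Cfsg.Lib.Char Cfsg.Lib.Block Subgroup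

namespace Cfsg.Lib.Block

variable {G : Type*} [Group G] [Finite G] {p : ℕ} {M : Ideal AlgInt}

/-- A character vanishing on the singular elements is alone in its block. -/
theorem blockOf_eq_singleton_of_vanish (hM : IsPModular p M) {κ : IrrCharacter G}
    (h : ∀ g, p ∣ orderOf g → (κ : G → ℂ) g = 0) : blockOf M (κ : G → ℂ) = {κ} := by
  have := Fintype.ofFinite G
  have hB := isPBlock_blockOf (M := M) κ
  have hκ := mem_blockOf_self hM κ
  obtain ⟨χ, hχ, h0⟩ := Ht.exists_blockHeight_eq_zero p (block_nonempty hM hB)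
  have h1 := ca_ne_zero hM hB hχ hκ h0
  have e : ∀ a b : IrrCharacter G, classInner (a : G → ℂ) (b : G → ℂ) ≠ 0 → a = b := by
    intro a b hab
    by_contra hne
    exact hab (by classical rw [classInner_irr, if_neg hne])
  have h2 : χ = κ := by
    refine e _ _ fun h3 => h1 ?_
    have := ca_cast hM.1 χ hκ
    rw [Ht.classInner_reg_comm, Ht.reg_eq_self h, h3, mul_zero] at this
    exact_mod_cast this
  subst h2
  refine Set.eq_singleton_iff_unique_mem.2 ⟨hχ, fun ψ hψ => (e _ _ fun h3 => ?_).symm⟩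
  have := ca_cast hM.1 χ hψ
  rw [Ht.reg_eq_self h, h3, mul_zero] at this
  exact ca_ne_zero hM hB hχ hψ h0 (by exact_mod_cast this)

theorem blockDefect_eq_zero_of_vanish (hM : IsPModular p M) {κ : IrrCharacter G}
    (h : ∀ g, p ∣ orderOf g → (κ : G → ℂ) g = 0) : blockDefect p (blockOf M (κ : G → ℂ)) = 0 := by
  have hB := isPBlock_blockOf (M := M) κ
  refine defect_zero_of_card_eq_blockRank hM hB (le_antisymm ?_ (blockRank_le_card p _))
  have := blockRank_pos hM.1 (block_nonempty hM hB)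
  rw [blockOf_eq_singleton_of_vanish hM h] at this ⊢
  rw [Nat.card_unique]
  exact this

end Cfsg.Lib.Block

namespace Cfsg.Lib.SymChar

variable {ι : Type*} [Fintype ι] [DecidableEq ι] {Ω : Type*} [Fintype Ω] [DecidableEq Ω]
  {P : Ω → Prop} [DecidablePred P] {p w : ℕ} {M : Ideal AlgInt} {β β' : ι → ℕ}
  {ψ ψ' : IrrCharacter (Perm Ω)} {v : Perm {x // P x}}

theorem Lab.apply_eq_zero_of_isCore (hp : p.Prime) (h : Lab ψ β) (hβ : IsCore p β) {g : Perm Ω}
    (hg : p ∣ orderOf g) : (ψ : Perm Ω → ℂ) g = 0 := by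
  obtain ⟨e, -, he⟩ := h.exists_eq'
  obtain ⟨r, hr, hpr⟩ := (dvd_orderOf_iff hp g).1 hg
  rw [he, Pi.smul_apply, chi_apply, hβ.F_eq_zero hr
    (Nat.pos_of_ne_zero fun h => zero_notMem_parts g (h ▸ hr)) hpr, smul_zero]

theorem Lab.mul_wt_le (hp : 0 < p) (h : Lab ψ β) : p * wt p β ≤ Fintype.card Ω := by
  have h1 := sum_core_add hp h.injective
  have h2 := sum_del_add (core_injective hp h.injective)
  have h3 := mem_T.1 h.mem_TT
  omega

theorem Lab.exists_lab_core (hp : 0 < p) (hN : Fintype.card Ω ≤ Fintype.card ι) (h : Lab ψ β)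
    (hP : Fintype.card {x // P x} = p * wt p β) :
    ∃ κ : IrrCharacter (Perm {x // ¬ P x}), Lab κ (core p β) := by
  have h1 := sum_core_add hp h.injective
  have h3 := mem_T.1 h.mem_TT
  have h4 := h.mul_wt_le hp
  refine exists_lab_of_injective ((Fintype.card_subtype_le _).trans hN)
    (core_injective hp h.injective) (mem_T.2 ?_)
  rw [Fintype.card_subtype_compl, hP]
  omega

theorem Lab.exists_apply_jj (hp : 0 < p) (h : Lab ψ β) (hv : parts v = Multiset.replicate (wt p β) p)
    {κ : IrrCharacter (Perm {x // ¬ P x})} (hκ : Lab κ (core p β)) :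
    ∃ e : ℂ, (e = 1 ∨ e = -1) ∧ ∀ b, (ψ : Perm Ω → ℂ) (jj P (v, b)) =
      e * NP p β * (κ : Perm {x // ¬ P x} → ℂ) b := by
  obtain ⟨e, he, h1⟩ := h.exists_eq'
  obtain ⟨e', he', h2⟩ := hκ.exists_eq
  refine ⟨e * e', by rcases he with rfl | rfl <;> rcases he' with rfl | rfl <;> simp, fun b => ?_⟩
  rw [h1, Pi.smul_apply, chi_apply, parts_jj, hv, F_replicate_add hp h.injective, ← chi_apply, h2]
  simp only [Pi.smul_apply, smul_eq_mul]
  ring

/-- The inflation of a character of the second factor to the centralizer. -/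
noncomputable def xi (hv : ∀ x, v x ≠ x) (κ : IrrCharacter (Perm {x // ¬ P x})) :
    IrrCharacter (centralizer ({jj P (v, 1)} : Set (Perm Ω))) :=
  ⟨fun h => (κ : Perm {x // ¬ P x} → ℂ) ((centEquiv hv).symm h).2,
    κ.2.comp_of_surjective ((MonoidHom.snd _ _).comp (centEquiv hv).symm.toMonoidHom)
      (Prod.snd_surjective.comp (centEquiv hv).symm.surjective)⟩

omit [Fintype Ω] [DecidableEq Ω] in
theorem xi_apply (hv : ∀ x, v x ≠ x) (κ : IrrCharacter (Perm {x // ¬ P x}))
    (t : centralizer ({v} : Set (Perm {x // P x})) × Perm {x // ¬ P x}) :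
    (xi hv κ : centralizer ({jj P (v, 1)} : Set (Perm Ω)) → ℂ) (centEquiv hv t) =
      (κ : Perm {x // ¬ P x} → ℂ) t.2 := by
  simp [xi]

theorem exists_orderOf_jj (hp : p.Prime) (hv : parts v = Multiset.replicate w p) :
    ∃ k, orderOf (jj P (v, 1)) = p ^ k := by
  have := Fact.mk hp
  rw [orderOf_injective _ jj_injective, Prod.orderOf_mk, orderOf_one, Nat.lcm_one_right]
  exact ⟨_, ((Nat.dvd_prime_pow hp).1 (orderOf_dvd_of_pow_eq_one
    (n := p ^ 1) (by rw [pow_one, pow_eq_one_of_parts hp hv]))).choose_spec.2⟩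

theorem jj_pow_eq_one (hp : p.Prime) (hv : parts v = Multiset.replicate w p) :
    jj P (v, 1) ^ p = 1 := by
  rw [← map_pow, Prod.pow_mk, pow_eq_one_of_parts hp hv, one_pow]; exact map_one _

theorem fix_of_mem_centralizer_cycQ (hp : p.Prime) (hv : parts v = Multiset.replicate w p)
    {g : centralizer ({jj P (v, 1)} : Set (Perm Ω))}
    (hg : g ∈ centralizer (cycQ (jj P (v, 1)) : Set (centralizer ({jj P (v, 1)} : Set (Perm Ω)))))
    (hreg : ¬ p ∣ orderOf g) {x : Ω} (hx : P x) : g.1 x = x :=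
  apply_eq_of_commute_cycleOf hp (jj_pow_eq_one hp hv) (commute_coe g) (by rwa [orderOf_coe])
    (congrArg Subtype.val (hg _ (cycleOf_mem_cycQ _ x)))
    ((jj_apply_ne_iff (apply_ne_of_parts hp hv)).2 hx)

/-- The block of the inflated core character induces the block of the character. -/
theorem Lab.isInducedBlock (hM : IsPModular p M) (h : Lab ψ β)
    (hv : parts v = Multiset.replicate (wt p β) p) (hv' : ∀ x, v x ≠ x)
    {κ : IrrCharacter (Perm {x // ¬ P x})} (hκ : Lab κ (core p β)) :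
    IsInducedBlock M (centralizer ({jj P (v, 1)} : Set (Perm Ω)))
      (blockOf M (xi hv' κ : centralizer ({jj P (v, 1)} : Set (Perm Ω)) → ℂ))
      (blockOf M (ψ : Perm Ω → ℂ)) := by
  classical
  have hp := hM.1
  have := Fact.mk hp
  set H := centralizer ({jj P (v, 1)} : Set (Perm Ω)) with hH
  have hf := isPBlock_blockOf (M := M) (xi hv' κ)
  obtain ⟨B, hB⟩ := cent_exists_isInducedBlock hM hH (exists_orderOf_jj hp hv) hf
  by_cases hψ : ψ ∈ B
  · rwa [← block_eq_blockOf hM hB.2.1 hψ]
  exfalso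
  let θ := centEquiv hv'
  let L : Subgroup H := ((MonoidHom.fst _ _).comp θ.symm.toMonoidHom).ker
  have hL : ∀ t, θ t ∈ L ↔ t.1 = 1 := fun t => by simp [L, Subgroup.mem_prod]
  have hirr : IsIrrCharacter L fun l => (xi hv' κ : H → ℂ) l :=
    κ.2.comp_of_surjective (((MonoidHom.snd _ _).comp θ.symm.toMonoidHom).comp L.subtype)
      fun b => ⟨⟨θ (1, b), (hL _).2 rfl⟩, by simp⟩
  let κ' : IrrCharacter L := ⟨_, hirr⟩
  have hb := isPBlock_blockOf (M := M) κ'
  have hcov : Covers L (blockOf M (xi hv' κ : H → ℂ)) (blockOf M (κ' : L → ℂ)) :=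
    ⟨_, mem_blockOf_self hM _, _, mem_blockOf_self hM _, over_of_res_eq hirr fun _ => rfl⟩
  have hs := hcov.eq_overSet_of_support hM hf hb fun g hg => by
    obtain ⟨b, hb⟩ := exists_jj_of_fix_left (P := P) fun x hx =>
      fix_of_mem_centralizer_cycQ hp hv (mem_centralizer_of_coeff_eB hM hf (normal_cycQ _)
        (isPGroup_cycQ (jj_pow_eq_one hp hv)) hg) (coeff_eB_support_regular hM hf hg) hx
    have : g = θ (1, b) := Subtype.ext hb
    rw [this, hL]
  have h0 := sum_blockCoeff_mul_eq_zero_of_not_mem hM hB ⟨_, cent_self_mem hH⟩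
    (isPPart_self hp (exists_orderOf_jj hp hv)) le_rfl hψ
  obtain ⟨e, he, hval⟩ := h.exists_apply_jj hp.pos hv hκ
  have h1 : evalFn (fun k : H => (ψ : Perm Ω → ℂ) (k * jj P (v, 1)))
      (fB (blockOf M (xi hv' κ : H → ℂ))) = 0 := by
    rw [evalFn_apply]; simpa only [coeff_fB] using h0
  have h2 : (fun l : L => (ψ : Perm Ω → ℂ) ((l : H) * jj P (v, 1))) =
      (e * NP p β) • (κ' : L → ℂ) := by
    funext ⟨l, hl⟩
    obtain ⟨⟨a, b⟩, rfl⟩ := θ.surjective l
    obtain rfl : a = 1 := (hL _).1 hl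
    change _ = _ * (xi hv' κ : H → ℂ) (θ (1, b))
    rw [xi_apply, ← hval]
    change (ψ : Perm Ω → ℂ) (jj P (1, b) * _) = _
    rw [← map_mul]; simp
  rw [hs, ← incSub_fB_orbB, evalFn_incSub, h2, evalFn_smul_fun,
    evalFn_eq_omega_mul κ'.2.apply_one_ne_zero,
    omega_fB_of_mem (subset_orbB _ (mem_blockOf_self hM κ')), one_mul] at h1
  refine mul_ne_zero (mul_ne_zero ?_ ?_) κ'.2.apply_one_ne_zero h1
  · rcases he with rfl | rfl <;> simp
  · exact_mod_cast (NP_pos hp.pos h.injective).ne'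

open Classical in
theorem inducedCentralChar_xi (hp : p.Prime) (hv : parts v = Multiset.replicate w p)
    (hv' : ∀ x, v x ≠ x) {κ : IrrCharacter (Perm {x // ¬ P x})}
    (hκ : ∀ g, p ∣ orderOf g → (κ : Perm {x // ¬ P x} → ℂ) g = 0) {y : Perm {x // ¬ P x}}
    (hy : ¬ p ∣ orderOf y) :
    inducedCentralChar (centralizer ({jj P (v, 1)} : Set (Perm Ω))) (xi hv' κ : _ → ℂ)
      (jj P (v, y)) = #(univ.filter fun a : Perm {x // P x} => Commute v a ∧ IsConj v a) *
        centralChar (κ : Perm {x // ¬ P x} → ℂ) y := by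
  have hnot : ∀ b : Perm {x // ¬ P x}, ¬ p ∣ orderOf b → (parts b).count p = 0 := fun b hb =>
    Multiset.count_eq_zero.2 fun h => hb ((dvd_orderOf_iff hp b).2 ⟨p, h, dvd_rfl⟩)
  rw [inducedCentralChar, finsum_mem_eq_finite_toFinset_sum _ (Set.toFinite _),
    ← omega_classSum κ.2.isClassFunction, omega_apply', Finset.card_filter,
    ← Finset.sum_filter_of_ne (p := fun a => a ∈ centralizer ({v} : Set (Perm {x // P x})))
      (fun a _ ha => mem_centralizer_singleton_iff.2 (by
        by_contra h; exact ha (if_neg fun h' => h h'.1.symm.eq))),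
    Finset.sum_subtype (p := fun a => a ∈ centralizer ({v} : Set (Perm {x // P x}))) _ (by simp),
    Nat.cast_sum, Finset.sum_mul_sum, ← Fintype.sum_prod_type', Set.Finite.toFinset_ofPred,
    Finset.sum_filter, ← Equiv.sum_comp (centEquiv hv').toEquiv]
  refine Finset.sum_congr rfl fun ⟨a, b⟩ _ => ?_
  have e1 : (xi hv' κ).1 1 = (κ : Perm {x // ¬ P x} → ℂ) 1 := by
    rw [← map_one (centEquiv hv'), xi_apply]; rfl
  simp only [MulEquiv.toEquiv_eq_coe, EquivLike.coe_coe, xi_apply, e1, coe_centEquiv,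
    coeff_classSum, commute_coe a, true_and]
  by_cases hb : p ∣ orderOf b
  · simp [hκ b hb]
  have : IsConj (jj P (v, y)) (jj P (a, b)) ↔ IsConj v a ∧ IsConj y b := by
    simp only [isConj_iff_parts_eq, parts_jj]
    refine ⟨fun h => ?_, fun h => by rw [h.1, h.2]⟩
    have h1 := congrArg (Multiset.count p) h
    rw [Multiset.count_add, Multiset.count_add, hnot y hy, hnot b hb, hv,
      Multiset.count_replicate_self, add_zero, add_zero] at h1
    obtain ⟨μ, hμ⟩ := Multiset.le_iff_exists_add.1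
      (Multiset.le_count_iff_replicate_le.1 h1.le)
    have h2 := sum_parts a.1
    rw [← sum_parts v, hv, hμ, Multiset.sum_add, add_eq_left, Multiset.sum_eq_zero_iff] at h2
    have h3 : μ = 0 := Multiset.eq_zero_of_forall_notMem fun r hr =>
      zero_notMem_parts a.1 (by rw [hμ, ← h2 r hr]; exact Multiset.mem_add.2 (Or.inr hr))
    rw [h3, add_zero, ← hv] at hμ
    exact ⟨hμ.symm, by rw [hμ] at h; exact add_left_cancel h⟩
  by_cases h1 : IsConj v a <;> by_cases h2 : IsConj y b <;> simp only [this, h1, h2] <;> simp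

/-- The idempotent of the block has a coefficient centralizing the first factor. -/
theorem Lab.brC_ne_zero (hM : IsPModular p M) (hN : Fintype.card Ω ≤ Fintype.card ι)
    (h : Lab ψ β) (hP : Fintype.card {x // P x} = p * wt p β) {R : Subgroup (Perm Ω)}
    (hR : ∀ r ∈ R, ∀ x, ¬ P x → r x = x) : brC R (eB M (blockOf M (ψ : Perm Ω → ℂ))) ≠ 0 := by
  have hp := hM.1
  have := Fact.mk hp
  obtain ⟨v, hv⟩ := exists_parts_replicate hp.pos hP
  obtain ⟨κ, hκ⟩ := h.exists_lab_core hp.pos hN hP
  have hind := h.isInducedBlock hM hv (apply_ne_of_parts hp hv) hκ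
  have hQ := isPGroup_cycQ (jj_pow_eq_one hp hv)
  obtain ⟨c, hc, h0⟩ := brC_ne_zero_iff.1 (brC_eB_ne_zero_of_isInducedBlock hM hind hQ
    (brC_eB_ne_zero_of_normal hM hind.1 (normal_cycQ _) hQ))
  obtain ⟨b, rfl⟩ := exists_jj_of_fix_left (P := P) (h := c) fun x hx =>
    apply_eq_of_commute_cycleOf hp (jj_pow_eq_one hp hv) (hc _ ⟨_, self_mem_cycQ _, rfl⟩)
      (coeff_eB_support_regular hM hind.2.1 h0) (hc _ ⟨_, cycleOf_mem_cycQ _ x, rfl⟩)
      ((jj_apply_ne_iff (apply_ne_of_parts hp hv)).2 hx)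
  refine brC_ne_zero_iff.2 ⟨_, fun r hr => ?_, h0⟩
  obtain ⟨a, rfl⟩ := exists_jj_of_fix_right (hR r hr)
  rw [← map_mul, ← map_mul]; simp

theorem Lab.le_blockDefect (hM : IsPModular p M) (hN : Fintype.card Ω ≤ Fintype.card ι)
    (h : Lab ψ β) :
    (p * wt p β).factorial.factorization p ≤ blockDefect p (blockOf M (ψ : Perm Ω → ℂ)) := by
  have hp := hM.1
  have := Fact.mk hp
  obtain ⟨S, _, hS⟩ := exists_pred_card (h.mul_wt_le hp.pos)
  obtain ⟨T⟩ : Nonempty (Sylow p (Perm {x // S x})) := inferInstance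
  have h1 := card_le_pow_blockDefect hM (isPBlock_blockOf ψ) (T.isPGroup'.map Perm.ofSubtype)
    (h.brC_ne_zero hM hN hS (by
      rintro _ ⟨a, -, rfl⟩ x hx
      exact Perm.ofSubtype_apply_of_not_mem a hx))
  rwa [Subgroup.card_map_of_injective Perm.ofSubtype_injective, T.card_eq_multiplicity,
    Nat.pow_le_pow_iff_right hp.one_lt, Nat.card_eq_fintype_card, Fintype.card_perm, hS] at h1

open Classical in
theorem Lab.vM_centralChar_sub (hM : IsPModular p M) (h : Lab ψ β)
    (hv : parts v = Multiset.replicate (wt p β) p) {κ : IrrCharacter (Perm {x // ¬ P x})}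
    (hκ : Lab κ (core p β)) {y : Perm {x // ¬ P x}} (hy : ¬ p ∣ orderOf y) :
    vM M (#(univ.filter fun a : Perm {x // P x} => Commute v a ∧ IsConj v a) *
      centralChar (κ : Perm {x // ¬ P x} → ℂ) y -
        centralChar (ψ : Perm Ω → ℂ) (jj P (v, y))) < 1 := by
  have hv' := apply_ne_of_parts hM.1 hv
  rw [← inducedCentralChar_xi hM.1 hv hv'
    (fun g hg => hκ.apply_eq_zero_of_isCore hM.1 (isCore_core hM.1.pos h.injective) hg) hy]
  exact vM_lt_one_of_memLocalIdeal hM ((h.isInducedBlock hM hv hv' hκ).2.2 _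
    (mem_blockOf_self hM _) _ (mem_blockOf_self hM _) _)

theorem Lab.defect_aux (hM : IsPModular p M) (hN : Fintype.card Ω ≤ Fintype.card ι)
    (h : Lab ψ β) :
    blockDefect p (blockOf M (ψ : Perm Ω → ℂ)) ≤ (p * wt p β).factorial.factorization p ∧
    (charDegree (ψ : Perm Ω → ℂ)).factorization p + (p * wt p β).factorial.factorization p =
      (NP p β).factorization p + (Nat.card (Perm Ω)).factorization p := by
  classical
  have hp := hM.1
  have := Fact.mk hp
  obtain ⟨S, _, hS⟩ := exists_pred_card (h.mul_wt_le hp.pos)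
  obtain ⟨v, hv⟩ := exists_parts_replicate hp.pos hS
  obtain ⟨κ, hκ⟩ := h.exists_lab_core hp.pos hN hS
  have hvan := fun g hg => hκ.apply_eq_zero_of_isCore hp (isCore_core hp.pos h.injective) (g := g) hg
  have hb := isPBlock_blockOf (M := M) κ
  have hκb := mem_blockOf_self hM κ
  obtain ⟨y, hy⟩ := exists_isDefectClass hM hb
  have hreg := not_dvd_orderOf_of_isDefectClass hM hb hy
  have h1 := factorization_card_centralizer_of_isDefectClass hM hb hy
  rw [blockDefect_eq_zero_of_vanish hM hvan] at h1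
  have h2 := ((isDefectClass_iff_of_mem hM hb hκb y).1 hy).2
  have h3 : vM M ((κ : _ → ℂ) y) = 1 := vM_char_eq_one_of_isDefectClass hM hb hκb (by
    rw [Ht.blockHeight_eq_zero_iff_le hκb, blockOf_eq_singleton_of_vanish hM hvan]
    rintro _ rfl; rfl) hy
  have h4 : vM M (centralChar (ψ : Perm Ω → ℂ) (jj S (v, y))) = 1 := by
    have := h.vM_centralChar_sub hM hv hκ hreg
    rw [vM_sub_comm] at this
    refine vM_eq_one_of_sub_lt this ?_
    rw [map_mul, h2, mul_one, vM_natCast_eq_one_iff hM]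
    exact not_dvd_card_commute hp hv
  have h5 : (Nat.card (centralizer ({jj S (v, y)} : Set (Perm Ω)))).factorization p =
      (p * wt p β).factorial.factorization p := by
    rw [card_centralizer_eq_zz] at h1
    have h6 := Nat.card_pos (α := centralizer ({y} : Set _))
    rw [card_centralizer_eq_zz] at h6
    rw [card_centralizer_eq_zz, parts_jj, hv, zz_add_replicate
      (fun hm => hreg ((dvd_orderOf_iff hp y).2 ⟨p, hm, dvd_rfl⟩)),
      Nat.factorization_mul (mul_ne_zero (pow_ne_zero _ hp.ne_zero) (Nat.factorial_ne_zero _))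
        h6.ne', Finsupp.add_apply, h1, add_zero, factorization_factorial_mul' hp,
      Nat.factorization_mul (pow_ne_zero _ hp.ne_zero) (Nat.factorial_ne_zero _),
      Finsupp.add_apply, Nat.factorization_pow_self hp]
  constructor
  · rw [← h5]
    refine blockDefect_le_of_lamB_classSum hM (isPBlock_blockOf ψ) ?_
    rw [lamB_classSum_ne_zero_iff hM (isPBlock_blockOf ψ) (mem_blockOf_self hM ψ),
      memLocalIdeal_centralChar_iff hM ψ.2, h4]
    exact lt_irrefl _
  · obtain ⟨e, he, hval⟩ := h.exists_apply_jj hp.pos hv hκ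
    have h6 := vM_centralChar_mul hM ψ (jj S (v, y))
    have h7 : vM M e = 1 := by rcases he with rfl | rfl <;> simp
    rwa [h4, h5, hval, map_mul, map_mul, h3, h7, one_mul, one_mul, mul_one,
      vM_natCast hM (NP_pos hp.pos h.injective).ne', ← pow_add, vM_p_pow_inj hM] at h6

theorem Lab.blockDefect_eq (hM : IsPModular p M) (hN : Fintype.card Ω ≤ Fintype.card ι)
    (h : Lab ψ β) :
    blockDefect p (blockOf M (ψ : Perm Ω → ℂ)) = (p * wt p β).factorial.factorization p :=
  le_antisymm (h.defect_aux hM hN).1 (h.le_blockDefect hM hN)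

theorem Lab.blockHeight_eq (hM : IsPModular p M) (hN : Fintype.card Ω ≤ Fintype.card ι)
    (h : Lab ψ β) :
    blockHeight p (blockOf M (ψ : Perm Ω → ℂ)) (ψ : Perm Ω → ℂ) = (NP p β).factorization p := by
  have h1 := (h.defect_aux hM hN).2
  have h2 := Ht.blockDefect_add_minVal p (block_nonempty hM (isPBlock_blockOf (M := M) ψ))
  rw [h.blockDefect_eq hM hN] at h2
  have h3 := Ht.factorization_charDegree_eq (p := p) (mem_blockOf_self hM ψ)
  omega

/-- The defect groups. -/
theorem Lab.isDefectGroup (hM : IsPModular p M) (hN : Fintype.card Ω ≤ Fintype.card ι)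
    (h : Lab ψ β) (hP : Fintype.card {x // P x} = p * wt p β) (T : Sylow p (Perm {x // P x})) :
    IsDefectGroup p M (blockOf M (ψ : Perm Ω → ℂ))
      ((T : Subgroup (Perm {x // P x})).map Perm.ofSubtype) := by
  have hp := hM.1
  have := Fact.mk hp
  refine isDefectGroup_of_pow_le_card hM (isPBlock_blockOf ψ) (T.isPGroup'.map _)
    (h.brC_ne_zero hM hN hP (by
      rintro _ ⟨a, -, rfl⟩ x hx
      exact Perm.ofSubtype_apply_of_not_mem a hx)) ?_
  rw [Subgroup.card_map_of_injective Perm.ofSubtype_injective, T.card_eq_multiplicity,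
    h.blockDefect_eq hM hN, Nat.card_eq_fintype_card, Fintype.card_perm, hP]

theorem factorization_factorial_mul_inj (hp : p.Prime) {a b : ℕ}
    (h : (p * a).factorial.factorization p = (p * b).factorial.factorization p) : a = b := by
  have key : ∀ a b : ℕ, a < b →
      (p * a).factorial.factorization p < (p * b).factorial.factorization p := by
    intro a b hab
    rw [factorization_factorial_mul' hp, factorization_factorial_mul' hp]
    have := (Nat.factorization_le_iff_dvd (Nat.factorial_ne_zero a)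
      (Nat.factorial_ne_zero b)).2 (Nat.factorial_dvd_factorial hab.le) p
    omega
  rcases lt_trichotomy a b with h' | h' | h'
  · exact absurd h (key a b h').ne
  · exact h'
  · exact absurd h (key b a h').ne'

theorem wt_eq_of_cnt (hp : 0 < p) (h : Lab ψ β) (h' : Lab ψ' β') (hc : cnt p β' = cnt p β) :
    wt p β' = wt p β := by
  have h1 := (isCore_core hp h.injective).sum_add hp h'.injective (by rw [cnt_core, hc])
  have h2 := sum_core_add hp h.injective
  rw [mem_T.1 h'.mem_TT, ← mem_T.1 h.mem_TT, ← h2] at h1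
  exact Nat.eq_of_mul_eq_mul_left hp (add_left_cancel h1)

/-- Nakayama's conjecture. -/
theorem Lab.sameBlock_iff (hM : IsPModular p M) (hN : Fintype.card Ω ≤ Fintype.card ι)
    (h : Lab ψ β) (h' : Lab ψ' β') :
    SameBlock M (ψ : Perm Ω → ℂ) (ψ' : Perm Ω → ℂ) ↔ cnt p β' = cnt p β := by
  classical
  have hp := hM.1
  have := Fact.mk hp
  obtain ⟨S, _, hS⟩ := exists_pred_card (h.mul_wt_le hp.pos)
  obtain ⟨v, hv⟩ := exists_parts_replicate hp.pos hS
  have hv' := apply_ne_of_parts hp hv
  obtain ⟨κ, hκ⟩ := h.exists_lab_core hp.pos hN hS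
  have hc := isCore_core hp.pos h.injective
  have hc' := isCore_core hp.pos h'.injective
  constructor
  · intro hs
    have hw : wt p β' = wt p β := factorization_factorial_mul_inj hp (by
      rw [← h.blockDefect_eq hM hN, ← h'.blockDefect_eq hM hN, blockOf_eq_of_sameBlock hM hs])
    obtain ⟨κ', hκ'⟩ := h'.exists_lab_core hp.pos hN (hS.trans (by rw [hw]))
    have hvan := fun g hg => hκ.apply_eq_zero_of_isCore hp hc (g := g) hg
    have hvan' := fun g hg => hκ'.apply_eq_zero_of_isCore hp hc' (g := g) hg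
    have h1 : κ' ∈ blockOf M (κ : Perm {x // ¬ S x} → ℂ) := by
      rw [mem_blockOf, sameBlock_iff_vM hM κ.2 κ'.2]
      intro y
      by_cases hy : p ∣ orderOf y
      · simp [centralChar, hvan y hy, hvan' y hy]
      have h2 := h.vM_centralChar_sub hM hv hκ hy
      have h3 := h'.vM_centralChar_sub hM (hv.trans (by rw [hw])) hκ' hy
      rw [vM_sub_comm] at h3
      have h4 := vM_sub_trans (vM_sub_trans h2 ((sameBlock_iff_vM hM ψ.2 ψ'.2).1 hs _)) h3
      rwa [← mul_sub, map_mul, (vM_natCast_eq_one_iff hM _).2 (not_dvd_card_commute hp hv),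
        one_mul] at h4
    rw [blockOf_eq_singleton_of_vanish hM hvan] at h1
    obtain rfl : κ' = κ := h1
    obtain ⟨t, ht⟩ := hκ.exists_perm ((Fintype.card_subtype_le _).trans hN) hκ'
    rw [← cnt_core β', ht, cnt_comp, cnt_core]
  · intro hcnt
    have hw := wt_eq_of_cnt hp.pos h h' hcnt
    obtain ⟨t, ht⟩ := hc.exists_perm hp.pos hc' (by rw [cnt_core, cnt_core, hcnt])
    have h1 := isInducedBlock_unique' hM (h.isInducedBlock hM hv hv' hκ)
      (h'.isInducedBlock hM (hv.trans (by rw [hw])) hv' (ht ▸ hκ.comp t))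
    rw [← mem_blockOf, h1]
    exact mem_blockOf_self hM _

end Cfsg.Lib.SymChar
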