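import Cfsg.Agent.Block.DefZeroBN
import Cfsg.Agent.Block.SymBlock
import Cfsg.Agent.Block.BrauerFeit
import Cfsg.Agent.Block.PrincBasic
import Cfsg.Agent.Chev.RGDSplit

/-!
# The Steinberg character is the only character of defect zero

For a finite group with a faithful root group datum whose torus is generated by the rank one tori.
-/

set_option autoImplicit false

open Subgroup
open Cfsg.Lib.Char Cfsg.Lib.Chev

namespace Cfsg.Lib.Block.DZ

section transport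

variable {G K : Type*} [Group G] [Group K]

theorem mem_normalizer_comap (f : K →* G) {U : Subgroup G} {h : K}
    (hh : f h ∈ normalizer (U : Set G)) : h ∈ normalizer (U.comap f : Set K) := by
  rw [mem_normalizer_iff] at hh ⊢
  intro x
  simpa using hh (f x)

theorem Good.comap {f : K →* G} (hf : Function.Injective f) {U V : Subgroup G} (hU : U ≤ f.range)
    (hV : V ≤ f.range) {h : K} (hh : Good U V (f h)) : Good (U.comap f) (V.comap f) h := by
  obtain ⟨hn, X, R, Y, S, hX, hR, hY, hS, hX0, d1, f1, d2, f2, hXS, σ, hσ1, hσ⟩ := hh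
  have dj : ∀ {X R : Subgroup G}, (∀ g ∈ X, g ∈ R → g = 1) →
      ∀ g ∈ X.comap f, g ∈ R.comap f → g = 1 := fun d g h1 h2 => hf (by rw [d _ h1 h2, map_one])
  have fc : ∀ {U X R : Subgroup G}, U ≤ f.range → X ≤ U → R ≤ U →
      (∀ g ∈ U, ∃ x ∈ X, ∃ r ∈ R, g = x * r) →
      ∀ g ∈ U.comap f, ∃ x ∈ X.comap f, ∃ r ∈ R.comap f, g = x * r :=
    fun hU hX hR d g hg => by
      obtain ⟨x, hx, r, hr, e⟩ := d _ hg
      obtain ⟨x, rfl⟩ := hU (hX hx)
      obtain ⟨r, rfl⟩ := hU (hR hr)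
      exact ⟨x, hx, r, hr, hf (by rw [map_mul, e])⟩
  let e : Y.comap f ≃ Y := Equiv.ofBijective (fun y => ⟨f y, y.2⟩)
    ⟨fun y y' e => Subtype.ext (hf (congrArg Subtype.val e)), fun y => by
      obtain ⟨x, hx⟩ := hV (hY y.2)
      exact ⟨⟨x, by rw [mem_comap, hx]; exact y.2⟩, Subtype.ext hx⟩⟩
  have he : ∀ y, (e y : G) = f y := fun _ => rfl
  have he' : ∀ y, f (e.symm y) = y := fun y => by rw [← he, e.apply_symm_apply]
  have he1 : e 1 = 1 := Subtype.ext (by rw [he]; simp)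
  refine ⟨mem_normalizer_comap f hn, X.comap f, R.comap f, Y.comap f, S.comap f, comap_mono hX,
    comap_mono hR, comap_mono hY, comap_mono hS, fun h0 => hX0 (eq_bot_iff.2 fun x hx => ?_),
    dj d1, fc hU hX hR f1, dj d2, fc hV hY hS f2,
    fun x hx => mem_normalizer_comap f (hXS hx), (e.trans σ).trans e.symm, ?_, fun y hy => ?_⟩
  · obtain ⟨x, rfl⟩ := hU (hX hx)
    have : x ∈ X.comap f := hx
    rw [h0, mem_bot] at this
    simp [this]
  · rw [Equiv.trans_apply, Equiv.trans_apply, he1, hσ1, Equiv.symm_apply_eq, he1]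
  · obtain ⟨a, ha, b, hb, h1⟩ := hσ (e y) fun h1 => hy (e.injective (h1.trans he1.symm))
    obtain ⟨a, rfl⟩ := hU ha
    obtain ⟨b, rfl⟩ := hU (hX hb)
    refine ⟨a, ha, b, hb, hf ?_⟩
    rw [map_mul, map_mul, map_mul, Equiv.trans_apply, Equiv.trans_apply, he', ← h1, he]

end transport

variable {ι A : Type} [Fintype ι] [DecidableEq ι] [DecidableEq A] {G : Type*} [Group G]
  {R : WeylData ι A} {Y : RGD R G}

/-- `h` permutes the double cosets of the non-trivial elements of a negative simple root group. -/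
def RankOne (Y : RGD R G) (h : G) : Prop :=
  h ∈ Y.H ∧ ∃ (i : ι) (σ : Y.X (R.neg (R.simple i)) ≃ Y.X (R.neg (R.simple i))), σ 1 = 1 ∧
    ∀ y, y ≠ 1 → ∃ a ∈ Y.U, ∃ b ∈ Y.X (R.simple i), h * y = a * σ y * b

theorem RankOne_eq_1' : type_of% @RankOne.eq_1 := @RankOne.eq_1

/-- The parametrised form. -/
theorem rankOne_of_param {h : G} (hh : h ∈ Y.H) (i : ι) {α : Type*} (y : α → G)
    (hy : ∀ t, y t ∈ Y.X (R.neg (R.simple i))) (hinj : Function.Injective y)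
    (hsurj : ∀ x ∈ Y.X (R.neg (R.simple i)), ∃ t, y t = x) (σ : α ≃ α)
    (h1 : ∀ t, y t = 1 → y (σ t) = 1)
    (h2 : ∀ t, y t ≠ 1 → ∃ a ∈ Y.U, ∃ b ∈ Y.X (R.simple i), h * y t = a * y (σ t) * b) :
    RankOne Y h := by
  let e : α ≃ Y.X (R.neg (R.simple i)) := Equiv.ofBijective (fun t => ⟨y t, hy t⟩)
    ⟨fun t t' e => hinj (congrArg Subtype.val e), fun x => by
      obtain ⟨t, ht⟩ := hsurj x x.2
      exact ⟨t, Subtype.ext ht⟩⟩
  have he : ∀ t, (e t : G) = y t := fun _ => rfl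
  have he' : ∀ x, y (e.symm x) = x := fun x => by rw [← he, e.apply_symm_apply]
  refine ⟨hh, i, (e.symm.trans σ).trans e, Subtype.ext ?_, fun x hx => ?_⟩
  · rw [Equiv.trans_apply, Equiv.trans_apply, he, h1 _ (he' 1)]
    rfl
  · obtain ⟨a, ha, b, hb, h3⟩ := h2 (e.symm x) fun h3 => hx (Subtype.ext (by rw [← he' x, h3]; rfl))
    exact ⟨a, ha, b, hb, by rw [Equiv.trans_apply, Equiv.trans_apply, he, ← h3, he']⟩

theorem RankOne.good (hY : Y.Faithful) {h : G} (hh : RankOne Y h) : Good Y.U Y.V h := by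
  obtain ⟨hH, i, σ, hσ1, hσ⟩ := hh
  have hs := R.simple_mem i
  have hn := R.neg_mem _ hs
  have hnp : ¬ R.Pos (R.neg (R.simple i)) := fun h => (R.pos_neg_iff hs).1 h (R.pos_simple i)
  have z1 : R.stHt {i} (R.rc (R.simple i)) = 0 :=
    (R.stHt_eq_zero_iff _ hs).2 (R.stIn_singleton_iff.2 (Or.inl rfl))
  have z2 : R.stHt {i} (R.rc (R.neg (R.simple i))) = 0 :=
    (R.stHt_eq_zero_iff _ hn).2 (R.stIn_singleton_iff.2 (Or.inr rfl))
  refine ⟨Y.H_le_normalizer_U hH, Y.X (R.simple i), Y.UJ {i}, Y.X (R.neg (R.simple i)),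
    spanX Y.X {r | r ∈ R.Φ ∧ 1 ≤ (-R.stHt {i}) (R.rc r)}, Y.X_le_U (R.pos_simple i), Y.UJ_le_U _,
    Y.X_le_V hn hnp, spanX_mono _ fun r hr => ⟨hr.1, fun hp => ?_⟩, hY.nontriv _ hs,
    fun g h1 h2 => ?_, fun g hg => ?_, fun g h1 h2 => ?_, fun g hg => ?_, ?_, σ, hσ1, hσ⟩
  · have := R.stHt_nonneg {i} hp.2
    have h2 := hr.2
    rw [LinearMap.neg_apply] at h2
    omega
  · exact hY.sep (R.stHt {i}) g (Y.UJ_eq {i} ▸ h2)
      (mem_sup_left (mem_spanX Y.X (T := {k | k ∈ R.Φ ∧ R.stHt {i} (R.rc k) ≤ 0}) ⟨hs, z1.le⟩ h1))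
  · obtain ⟨a, ha, b, hb, e⟩ := Y.exists_Uneg_mul_Upos (R.s i) hg
    rw [Y.Uneg_s] at ha
    rw [Y.Upos_s, ← Y.UJ_singleton] at hb
    exact ⟨a, ha, b, hb, e⟩
  · exact hY.sep (-R.stHt {i}) g h2
      (mem_sup_left (mem_spanX Y.X (T := {k | k ∈ R.Φ ∧ (-R.stHt {i}) (R.rc k) ≤ 0})
        ⟨hn, by rw [LinearMap.neg_apply, z2, neg_zero]⟩ h1))
  · suffices H : {r | r ∈ R.Φ ∧ ¬ R.Pos r} =
        {R.neg (R.simple i)} ∪ {r | r ∈ R.Φ ∧ 1 ≤ (-R.stHt {i}) (R.rc r)} by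
      obtain ⟨a, ha, b, hb, e⟩ := Y.comm.exists_mul_of_union (fun r hr => hr.1) R.stClosed_neg
        (-R.stHt ∅) (fun r hr => by
          have := (R.stHt_empty_neg_iff hr.1).2 hr.2
          rw [LinearMap.neg_apply]; omega) H hg
      exact ⟨a, by simpa using ha, b, hb, e⟩
    · ext r
      constructor
      · rintro ⟨h1, h2⟩
        have h3 := R.stHt_nonpos {i} ((R.not_pos_iff h1).1 h2)
        rcases h3.lt_or_eq with h4 | h4
        · exact Or.inr ⟨h1, by rw [LinearMap.neg_apply]; omega⟩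
        · rcases R.stIn_singleton_iff.1 ((R.stHt_eq_zero_iff _ h1).1 h4) with rfl | rfl
          · exact absurd (R.pos_simple i) h2
          · exact Or.inl rfl
      · rintro (rfl | ⟨h1, h2⟩)
        · exact ⟨hn, hnp⟩
        · refine ⟨h1, fun hp => ?_⟩
          have := R.stHt_nonneg {i} hp.2
          rw [LinearMap.neg_apply] at h2
          omega
  · exact (le_spanX Y.X (T := {r | r ∈ R.Φ ∧ 0 ≤ (-R.stHt {i}) (R.rc r)})
      ⟨hs, by rw [LinearMap.neg_apply, z1, neg_zero]⟩).trans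
      (Y.comm.le_normalizer_level (-R.stHt {i}) one_pos)

theorem big_cell (hY : Y.Faithful) {n : G} (hn : Y.Lifts n (R.w0 Set.univ)) {g : G}
    (hg : g ∈ Y.G0) : (∃ x ∈ Y.U, x ≠ 1 ∧ g * x * g⁻¹ ∈ Y.U) ∨
      ∃ a ∈ Y.U, ∃ h ∈ Y.H, ∃ b ∈ Y.U, g = a * h * n * b := by
  obtain ⟨w, hw⟩ := RGD.mem_G0_iff.1 hg
  obtain ⟨u, hu, m, hm, u', hu', rfl⟩ := RGD.exists_normal_form' hw
  have hu'' := Y.Uneg_le_U w hu'
  by_cases h : ∀ i, ¬ R.Pos (w • R.simple i)
  · obtain rfl := R.eq_w0 (J := Set.univ) (w := w) (by simp [R.WJ_univ]) fun j _ => h j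
    exact Or.inr ⟨u, hu, m * n⁻¹, hm.mul_inv_mem_H hn, u', hu'', by group⟩
  · push Not at h
    obtain ⟨i, hi⟩ := h
    obtain ⟨a, ha, h1⟩ := hY.exists_ne_one (R.simple_mem i)
    refine Or.inl ⟨u'⁻¹ * a * u', mul_mem (mul_mem (inv_mem hu'') (Y.X_le_U (R.pos_simple i) ha))
      hu'', fun e => h1 ?_, ?_⟩
    · have : a = u' * (u'⁻¹ * a * u') * u'⁻¹ := by group
      rw [this, e]; simp
    · have : u * m * u' * (u'⁻¹ * a * u') * (u * m * u')⁻¹ = u * (m * a * m⁻¹) * u⁻¹ := by group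
      rw [this]
      exact mul_mem (mul_mem hu (Y.X_le_U hi (hm.conj_X (R.simple_mem i) ha))) (inv_mem hu)

variable {K : Type*} [Group K] [Finite K] {p : ℕ} [Fact p.Prime]

/-- At most one block of defect zero. -/
theorem block_eq_of_rgd (hY : Y.Faithful) {f : K →* G} (hf : Function.Injective f)
    (hr : f.range = Y.G0) (hU : IsPGroup p Y.U) (hgen : Y.H ≤ closure {h | RankOne Y h})
    {M : Ideal AlgInt} (hM : IsPModular p M) {B B' : Set (IrrCharacter K)} (hB : IsPBlock M B)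
    (hB' : IsPBlock M B') (h0 : blockDefect p B = 0) (h0' : blockDefect p B' = 0) : B = B' := by
  obtain ⟨n, hn⟩ := Y.exists_lifts (R.w0 Set.univ)
  obtain ⟨n, rfl⟩ : n ∈ f.range := hr ▸ Y.N_le_G0 hn.mem_N
  have hUr : Y.U ≤ f.range := hr ▸ Y.U_le_G0
  have hHr : Y.H ≤ f.range := hr ▸ Y.H_le_G0
  refine eq_of_defect_zero_of_good hM (U := Y.U.comap f) (V := Y.V.comap f) (H := Y.H.comap f)
    (hU.comap_of_injective f hf) (n := n) (fun x => ?_)
    (fun h hh => mem_normalizer_comap f (Y.H_le_normalizer_U hh)) (fun h hh => ?_)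
    (mem_normalizer_comap f (Y.H_le_normalizer_U ?_)) (fun g => ?_) (fun h hh => ?_) hB hB' h0 h0'
  · rw [mem_comap, mem_comap, ← hn.map_U_w0, map_mul, map_mul, map_inv]
    exact (mem_map_iff_mem (f := (MulAut.conj (f n)).toMonoidHom) (MulAut.conj (f n)).injective).symm
  · rw [mem_comap, map_mul, map_mul, map_inv]
    exact (mem_normalizer_iff.1 (Y.N_le_normalizer_H hn.mem_N) _).1 hh
  · rw [map_mul, ← RGD.lifts_one_iff, ← R.w0_mul_self Set.univ]
    exact hn.mul hn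
  · rcases big_cell hY hn (g := f g) (hr ▸ ⟨g, rfl⟩) with ⟨x, hx, h1, h2⟩ | ⟨a, ha, h, hh, b, hb, e⟩
    · obtain ⟨x, rfl⟩ := hUr hx
      exact Or.inl ⟨x, hx, fun e => h1 (by rw [e, map_one]), by simpa using h2⟩
    · obtain ⟨a, rfl⟩ := hUr ha
      obtain ⟨b, rfl⟩ := hUr hb
      obtain ⟨h, rfl⟩ := hHr hh
      exact Or.inr ⟨a, ha, h, hh, b, hb, hf (by simpa using e)⟩
  · have h1 : closure {h | RankOne Y h} ≤
        (closure {h | Good (Y.U.comap f) (Y.V.comap f) h}).map f := by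
      rw [closure_le]
      intro x hx
      obtain ⟨x, rfl⟩ := hHr hx.1
      exact ⟨x, subset_closure ((RankOne.good hY hx).comap hf hUr (hr ▸ Y.V_le_G0)), rfl⟩
    exact (mem_map_iff_mem hf).1 (h1 (hgen hh))

/-- At most one irreducible character vanishing on the `p`-singular elements. -/
theorem irr_eq_of_rgd (hY : Y.Faithful) {f : K →* G} (hf : Function.Injective f)
    (hr : f.range = Y.G0) (hU : IsPGroup p Y.U) (hgen : Y.H ≤ closure {h | RankOne Y h})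
    {χ ψ : K → ℂ} (hχ : IsIrrCharacter K χ) (hψ : IsIrrCharacter K ψ)
    (h1 : ∀ g, p ∣ orderOf g → χ g = 0) (h2 : ∀ g, p ∣ orderOf g → ψ g = 0) : χ = ψ := by
  obtain ⟨M, hM⟩ := Princ.exists_isPModular (p := p) Fact.out
  have d1 := blockDefect_eq_zero_of_vanish hM (κ := ⟨χ, hχ⟩) h1
  have d2 := blockDefect_eq_zero_of_vanish hM (κ := ⟨ψ, hψ⟩) h2
  have e := block_eq_of_rgd hY hf hr hU hgen hM ⟨⟨χ, hχ⟩, rfl⟩ ⟨⟨ψ, hψ⟩, rfl⟩ d1 d2
  have hc := card_eq_one_of_defect_zero hM ⟨⟨χ, hχ⟩, rfl⟩ d1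
  haveI := (Nat.card_eq_one_iff_unique.1 hc).1
  have m1 : (⟨χ, hχ⟩ : IrrCharacter K) ∈ blockOf M χ := mem_blockOf_self hM ⟨χ, hχ⟩
  have m2 : (⟨ψ, hψ⟩ : IrrCharacter K) ∈ blockOf M χ := e ▸ mem_blockOf_self hM ⟨ψ, hψ⟩
  exact congrArg (fun x : blockOf M χ => ((x : IrrCharacter K) : K → ℂ))
    (Subsingleton.elim (⟨_, m1⟩ : blockOf M χ) ⟨_, m2⟩)

/-- An irreducible character whose degree has full `p`-part vanishes on `p`-singular elements. -/
theorem vanish_of_dvd {χ : K → ℂ} (hχ : IsIrrCharacter K χ) {d : ℕ} (hd : χ 1 = d)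
    (h : p ^ (Nat.card K).factorization p ∣ d) {g : K} (hg : p ∣ orderOf g) : χ g = 0 := by
  have hp : p.Prime := Fact.out
  obtain ⟨t, ht⟩ : d ∣ Nat.card K := by
    have := Ht.charDegree_dvd_card hχ
    rwa [show charDegree χ = d from by simp [charDegree, hd]] at this
  refine Brauer.irr_apply_eq_zero_of_defect_zero hχ hp hd ht (fun h1 => ?_) hg
  have h2 : p ^ ((Nat.card K).factorization p + 1) ∣ Nat.card K := by
    conv_rhs => rw [ht]
    rw [pow_succ]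
    exact mul_dvd_mul h h1
  exact absurd ((hp.pow_dvd_iff_le_factorization Nat.card_pos.ne').1 h2) (by omega)

/-- The Steinberg character is the only irreducible character of defect zero. -/
theorem eq_St (hY : Y.Faithful) {L : Subgroup G} (hL : Y.G0 = L) [Finite L]
    (hU : IsPGroup p Y.U) (hH : ∀ h ∈ Y.H, (∃ k, orderOf h = p ^ k) → h = 1)
    (hgen : Y.H ≤ closure {h | RankOne Y h}) {χ : L → ℂ} (hχ : IsIrrCharacter L χ) {d : ℕ}
    (hd : χ 1 = d) (h : p ^ (Nat.card L).factorization p ∣ d) : χ = BN.St (hY.bnPair hL) :=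
  irr_eq_of_rgd hY (f := L.subtype) L.subtype_injective (by rw [range_subtype, hL]) hU hgen hχ
    (BN.isIrrCharacter_St _) (fun _ hg => vanish_of_dvd hχ hd h hg)
    fun _ hg => (hY.splitAt hL hU hH).St_eq_zero_of_dvd hg

/-- Exactly one block of defect zero. -/
theorem card_block_defect_zero (hY : Y.Faithful) {f : K →* G} (hf : Function.Injective f)
    (hr : f.range = Y.G0) (hU : IsPGroup p Y.U) (hH : ∀ h ∈ Y.H, (∃ k, orderOf h = p ^ k) → h = 1)
    (hgen : Y.H ≤ closure {h | RankOne Y h}) {M : Ideal AlgInt} (hM : IsPModular p M) :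
    Nat.card {B : Set (IrrCharacter K) // IsPBlock M B ∧ blockDefect p B = 0} = 1 := by
  let e : K ≃* f.range := MonoidHom.ofInjective hf
  haveI : Finite f.range := Finite.of_equiv _ e.toEquiv
  have hχ := (BN.isIrrCharacter_St (hY.bnPair hr.symm)).comp_equiv e
  refine Nat.card_eq_one_iff_exists.2 ⟨⟨blockOf M _, ⟨⟨_, hχ⟩, rfl⟩,
    blockDefect_eq_zero_of_vanish hM (κ := ⟨_, hχ⟩) fun g hg => ?_⟩, fun B => Subtype.ext ?_⟩
  · exact (hY.splitAt hr.symm hU hH).St_eq_zero_of_dvd (by rwa [e.orderOf_eq])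
  · refine block_eq_of_rgd hY hf hr hU hgen hM B.2.1 ⟨⟨_, hχ⟩, rfl⟩ B.2.2
      (blockDefect_eq_zero_of_vanish hM (κ := ⟨_, hχ⟩) fun g hg => ?_)
    exact (hY.splitAt hr.symm hU hH).St_eq_zero_of_dvd (by rwa [e.orderOf_eq])

end Cfsg.Lib.Block.DZ
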