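import Cfsg.Agent.Block.DefFull
import Cfsg.Agent.Block.DefectCount
import Cfsg.Agent.Block.DefZeroRGD
import Cfsg.Agent.Chev.BorelTits
import Cfsg.Agent.Chev.UnipMat
import Cfsg.Agent.Chev.CoreAll
import Cfsg.Agent.Class.SLCenter

/-!
# Counting the blocks in the defining characteristic
-/

set_option autoImplicit false

open Subgroup
open Cfsg.Lib.Char Cfsg.Lib.Chev

namespace Cfsg.Lib.Block.DZ

section General

variable {G : Type*} [Group G] [Finite G] {M : Ideal AlgInt} {p : ℕ} [Fact p.Prime]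

/-- The `p`-regular elements centralizing a non-trivial radical `p`-subgroup are central. -/
def RadCent (p : ℕ) (G : Type*) [Group G] : Prop :=
  ∀ D : Subgroup G, IsPGroup p D → D ≠ ⊥ →
    (∀ R : Subgroup G, IsPGroup p R → normalizer (D : Set G) ≤ normalizer (R : Set G) → R ≤ D) →
    ∀ x ∈ centralizer (D : Set G), ¬ p ∣ orderOf x → x ∈ center G

theorem RadCent.blockDefect (h : RadCent p G) (hM : IsPModular p M) {B : Set (IrrCharacter G)}
    (hB : IsPBlock M B) :
    blockDefect p B = 0 ∨ blockDefect p B = (Nat.card G).factorization p :=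
  blockDefect_eq_zero_or hM h hB

omit [Finite G] [Fact p.Prime] in
theorem radCent_of_exists (h : ∀ D : Subgroup G, IsPGroup p D → D ≠ ⊥ → ∃ R : Subgroup G,
    IsPGroup p R ∧ normalizer (D : Set G) ≤ normalizer (R : Set G) ∧
      ∀ x ∈ centralizer (R : Set G), ¬ p ∣ orderOf x → x ∈ center G) : RadCent p G := by
  intro D hD h0 hrad x hx hp
  obtain ⟨R, hR, hN, hC⟩ := h D hD h0
  exact hC x (centralizer_le (hrad R hR hN) hx) hp

theorem RadCent.mem_center (h : RadCent p G) (hp : p ∣ Nat.card G) {g : G} (hg : ¬ p ∣ orderOf g)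
    (hc : (Nat.card (centralizer ({g} : Set G))).factorization p = (Nat.card G).factorization p) :
    g ∈ center G := by
  obtain ⟨P⟩ : Nonempty (Sylow p (centralizer ({g} : Set G))) := inferInstance
  have hcard : Nat.card ((P : Subgroup (centralizer ({g} : Set G))).map (Subgroup.subtype _)) =
      p ^ (Nat.card G).factorization p := by
    rw [card_map_of_injective (subtype_injective _), Sylow.card_eq_multiplicity, hc]
  let S := Sylow.ofCard _ hcard
  refine h (S : Subgroup G) S.isPGroup' (S.ne_bot_of_dvd_card hp) (fun R hR hN => ?_) g ?_ hg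
  · have := S.is_maximal' (IsPGroup.to_sup_of_normal_right' S.isPGroup' hR (le_normalizer.trans hN))
      le_sup_left
    exact this ▸ le_sup_right
  · rintro _ ⟨y, -, rfl⟩
    exact mem_centralizer_singleton_iff.1 y.2

theorem RadCent.card_max (h : RadCent p G) (hM : IsPModular p M) (hp : p ∣ Nat.card G)
    (hZ : ¬ p ∣ Nat.card (center G)) :
    Nat.card {B : Set (IrrCharacter G) // IsPBlock M B ∧
      Cfsg.blockDefect p B = (Nat.card G).factorization p} = Nat.card (center G) := by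
  rw [card_blocks_max_defect hM]
  symm
  refine Nat.card_eq_of_bijective (fun z => ⟨ConjClasses.mk z.1, z.1, rfl, fun hd => hZ
    (hd.trans (orderOf_dvd_natCard _ z.2)), by
      rw [(centralizer_eq_top_iff_subset.2 (Set.singleton_subset_iff.2 z.2) :
        centralizer ({z.1} : Set G) = ⊤), card_top]⟩) ⟨fun z z' e => ?_, ?_⟩
  · obtain ⟨c, hc⟩ := isConj_iff.1 (ConjClasses.mk_eq_mk_iff_isConj.1 (congrArg Subtype.val e))
    refine Subtype.ext ?_
    rw [← hc, mem_center_iff.1 z.2 c, mul_inv_cancel_right]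
  · rintro ⟨_, g, rfl, hg, hc⟩
    exact ⟨⟨g, h.mem_center hp hg hc⟩, rfl⟩

theorem RadCent.card_blocks (h : RadCent p G) (hM : IsPModular p M) (hp : p ∣ Nat.card G)
    (hZ : ¬ p ∣ Nat.card (center G))
    (h0 : Nat.card {B : Set (IrrCharacter G) // IsPBlock M B ∧ Cfsg.blockDefect p B = 0} = 1) :
    Nat.card {B : Set (IrrCharacter G) // IsPBlock M B} = Nat.card (center G) + 1 := by
  have hne : (Nat.card G).factorization p ≠ 0 :=
    (hM.1.factorization_pos_of_dvd Nat.card_pos.ne' hp).ne'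
  rw [← h.card_max hM hp hZ, ← h0]
  change Nat.card {B | IsPBlock M B} = Nat.card {B | IsPBlock M B ∧ _} + Nat.card {B | IsPBlock M B ∧ _}
  rw [Nat.card_coe_set_eq, Nat.card_coe_set_eq, Nat.card_coe_set_eq, ← Set.ncard_union_eq]
  · congr 1
    ext B
    constructor
    · intro hB
      rcases h.blockDefect hM hB with e | e
      exacts [Or.inr ⟨hB, e⟩, Or.inl ⟨hB, e⟩]
    · rintro (hB | hB) <;> exact hB.1
  · exact Set.disjoint_left.2 fun B h1 h2 => hne (h1.2.symm.trans h2.2)

end General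

theorem radCent_SL {p : ℕ} [Fact p.Prime] {F : Type*} [Field F] [Fintype F] [CharP F p] (n : ℕ) :
    RadCent p (Matrix.SpecialLinearGroup (Fin n) F) := by
  intro D hD h0 hrad x hx hp
  obtain ⟨k, V, hk, hV, hV0, hV1, hN, -⟩ := Cfsg.Agent.S2391.result p n D hD h0
  have h1 := hrad _ (isPGroup_radSL (V 1)) fun g hg => mem_normalizer_radSL (hN g hg 1)
  refine mem_center_of_radSL (W := V 1) ?_ ?_ (centralizer_le h1 hx) hp
  · rw [← hV0]
    exact (hV Fin.zero_lt_one).ne'
  · rw [← hV1]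
    exact (hV (by rw [Fin.lt_def]; simp; omega)).ne

section RGD

variable {ι A : Type} [Fintype ι] [DecidableEq ι] [DecidableEq A] {G : Type*} [Group G]
  {R : WeylData ι A} {Y : RGD R G} {K : Type*} [Group K] [Finite K] {p : ℕ} [Fact p.Prime]

theorem radCent_of_rgd (hY : Y.Faithful) {f : K →* G} (hf : Function.Injective f)
    (hr : f.range = Y.G0) (hU : IsPGroup p Y.U)
    (hH : ∀ h ∈ Y.H, (∃ k, orderOf h = p ^ k) → h = 1)
    (hC : ∀ J : Set ι, J ≠ Set.univ → ∀ g : K, (∀ a ∈ Y.UJ J, f g * a = a * f g) →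
      ¬ p ∣ orderOf g → g ∈ center K) : RadCent p K := by
  haveI : Finite Y.G0 := hr ▸ Finite.of_surjective _ f.rangeRestrict_surjective
  refine radCent_of_exists fun D hD h0 => ?_
  obtain ⟨g, hg, J, hJ, -, hN⟩ := hY.borel_tits_pgroup hU hH (V := D.map f)
    (hr ▸ map_le_range f D) (hD.map f) (by rwa [Ne, map_eq_bot_iff_of_injective _ hf])
  obtain ⟨k, rfl⟩ : g ∈ f.range := hr ▸ hg
  have hUJ : Y.UJ J ≤ f.range := hr ▸ (Y.UJ_le_U J).trans Y.U_le_G0
  refine ⟨((Y.UJ J).comap f).map (MulAut.conj k).toMonoidHom,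
    ((hU.to_le (Y.UJ_le_U J)).comap_of_injective f hf).map _, fun n hn => ?_, fun x hx hp => ?_⟩
  · have h1 := Y.P_le_normalizer_UJ J (hN (f n) (hr ▸ ⟨n, rfl⟩) (le_normalizer_map f ⟨n, hn, rfl⟩))
    rw [← map_inv, ← map_mul, ← map_mul] at h1
    have h2 := le_normalizer_map (MulAut.conj k).toMonoidHom ⟨_, mem_normalizer_comap f h1, rfl⟩
    simpa [mul_assoc] using h2
  · have h1 := hC J hJ (k⁻¹ * x * k) (fun a ha => by
      obtain ⟨b, rfl⟩ := hUJ ha
      have h2 := hx (k * b * k⁻¹) ⟨b, ha, rfl⟩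
      rw [← map_mul, ← map_mul]
      congr 1
      calc k⁻¹ * x * k * b = k⁻¹ * (x * (k * b * k⁻¹)) * k := by group
        _ = _ := by rw [← h2]; group) (by
      rwa [← inv_inv k, inv_inv k⁻¹, ← MulAut.conj_apply, MulEquiv.orderOf_eq])
    have h2 := mem_center_iff.1 h1 k
    have h3 : k⁻¹ * x * k = x := by
      calc k⁻¹ * x * k = k * (k⁻¹ * x * k) * k⁻¹ := by rw [h2]; group
        _ = x := by group
    rwa [h3] at h1

end RGD

section Chev

open Cfsg.Lib.Chev.Core Cfsg.Lie

variable {D : ChevalleyDatum} {F : Type*} [Field F] (C : Cert D) (R : RootData D)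

theorem rankOne_hel (i : Fin D.rank) (s : Fˣ) :
    RankOne (C.Y F R) (hel D (xGL D F) (D.simple i) s) := by
  have h := C.stRelN F R
  have hr := R.simple_lt i i.2
  have hn := R.neg_lt hr
  have hs := s.ne_zero
  have hH : hel D (xGL D F) (D.simple i) s ∈ (C.Y F R).H := hel_mem_hSub _ hr hs
  refine rankOne_of_param hH i (xGL D F (D.neg (D.simple i)))
    (fun t => x_mem_xSub _ _ t) (C.xGL_injective R hn)
    (fun x hx => by
      obtain ⟨t, rfl⟩ := (h.toStRel.mem_xSub_iff hn).1 hx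
      exact ⟨t, rfl⟩)
    (Equiv.mulLeft₀ (s : F)⁻¹ (inv_ne_zero hs)) (fun t ht => ?_) (fun t ht => ?_)
  · have : t = 0 := C.xGL_injective R hn (ht.trans (h.toStRel.zero hn).symm)
    subst this
    simpa using ht
  · have t0 : t ≠ 0 := by
      rintro rfl
      exact ht (h.toStRel.zero hn)
    have hx : ∀ u, xGL D F (D.simple i) u ∈ (C.Y F R).X (R.weyl.simple i) :=
      fun u => x_mem_xSub _ _ u
    have hU := (C.Y F R).X_le_U (R.weyl.pos_simple i)
    refine ⟨_, mul_mem (hU ((C.Y F R).H_conj _ (R.weyl.simple_mem i) _ hH _ (hx t⁻¹)))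
      (inv_mem (hU (hx ((s : F)⁻¹ * t)⁻¹))), _,
      mul_mem (inv_mem (hx ((s : F)⁻¹ * t)⁻¹)) (hx t⁻¹), ?_⟩
    have e : -((s : F)⁻¹ * t)⁻¹ = s * -t⁻¹ := by field_simp
    rw [Equiv.mulLeft₀_apply, h.toStRel.x_neg_eq R hr t, h.toStRel.x_neg_eq R hr (_ * t), e,
      ← h.hmul _ hr _ _ hs (neg_ne_zero.2 (inv_ne_zero t0))]
    group

theorem H_le_closure_rankOne : (C.Y F R).H ≤ closure {h | RankOne (C.Y F R) h} := by
  have h := C.stRelN F R
  intro g hg
  obtain ⟨c, rfl⟩ : g ∈ (h.hHom R).range := (h.range_hHom R).symm ▸ hg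
  rw [h.hHom_apply]
  refine Subgroup.list_prod_mem _ fun y hy => ?_
  obtain ⟨i, -, rfl⟩ := List.mem_map.1 hy
  exact Subgroup.subset_closure (rankOne_hel C R i (c i))

variable [Finite F] (p : ℕ) [Fact p.Prime] [CharP F p]
include C R

theorem radCent_chev : RadCent p (D.group F) := by
  haveI := C.finite_group (F := F) R
  refine radCent_of_rgd (C.faithful F R) (subtype_injective (D.group F))
    ((range_subtype _).trans (C.group_eq_Y R)) (C.isPGroup_U R p)
    (fun _ hh => Cert.eq_one_of_mem_range_torGL R p (C.hSub_le_range R hh)) fun J hJ g hg hp => ?_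
  have h1 := C.mem_U_of_centralizes_UJ R hJ (C.Y_G0_le_Yhat R ((C.group_eq_Y R).le g.2)) hg
  obtain ⟨k, hk⟩ := IsPGroup.iff_orderOf.1 (C.isPGroup_U (F := F) R p) ⟨_, h1⟩
  have h2 : orderOf g = p ^ k := by
    rw [← hk, ← orderOf_coe, ← orderOf_coe]
  have h3 : g = 1 := by
    rw [← orderOf_eq_one_iff, h2]
    rcases k with _ | k
    · rfl
    · exact absurd (h2 ▸ dvd_pow_self p k.succ_ne_zero) hp
  exact h3 ▸ one_mem _

theorem card_blocks_chev (hD : 0 < D.rank) {M : Ideal AlgInt} (hM : IsPModular p M) :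
    Nat.card {B : Set (IrrCharacter (D.group F)) // IsPBlock M B} = 2 := by
  haveI := C.finite_group (F := F) R
  have hZ : Nat.card (center (D.group F)) = 1 := by rw [C.center_eq_bot R, card_bot]
  have hp : p ∣ Nat.card (D.group F) := by
    have h := C.stRelN F R
    have hr := R.simple_lt 0 hD
    have hx : xGL D F (D.simple 0) 1 ∈ D.group F :=
      (C.group_eq_Y R).ge ((C.Y F R).X_le_G0 (R.weyl.simple_mem ⟨0, hD⟩) (x_mem_xSub _ _ 1))
    have ho : orderOf (xGL D F (D.simple 0) 1) = p := by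
      refine orderOf_eq_prime ?_ fun e => ?_
      · rw [C.xGL_pow R hr, CharP.cast_eq_zero, zero_mul, h.toStRel.zero hr]
      · exact one_ne_zero (C.xGL_injective R hr (e.trans (h.toStRel.zero hr).symm))
    exact ho ▸ orderOf_dvd_natCard _ hx
  rw [(radCent_chev C R p).card_blocks hM hp (by rw [hZ]; exact hM.1.not_dvd_one)
    (card_block_defect_zero (C.faithful F R) (subtype_injective (D.group F))
      ((range_subtype _).trans (C.group_eq_Y R)) (C.isPGroup_U R p)
      (fun _ hh => Cert.eq_one_of_mem_range_torGL R p (C.hSub_le_range R hh))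
      (H_le_closure_rankOne C R) hM), hZ]

end Chev

end Cfsg.Lib.Block.DZ
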