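import Cfsg.Agent.Block.DefectNum
import Cfsg.Agent.Class.Tv
import Cfsg.Agent.S2391

/-!
# Groups all of whose blocks have defect zero or full defect
-/

set_option autoImplicit false

open Subgroup
open Cfsg.Lib.Char

namespace Cfsg.Lib.Block.DZ

variable {G : Type*} [Group G] [Finite G] {M : Ideal AlgInt} {p : ℕ} [Fact p.Prime]

/-- A defect group contains every `p`-subgroup normalised by its normaliser. -/
theorem le_defect_of_normalizer_le (hM : IsPModular p M) {B : Set (IrrCharacter G)}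
    (hB : IsPBlock M B) {D : Subgroup G} (hD : IsDefectGroup p M B D) {R : Subgroup G}
    (hR : IsPGroup p R) (h : normalizer (D : Set G) ≤ normalizer (R : Set G)) : R ≤ D := by
  have hDp := defect_isPGroup hD
  have hT : IsPGroup p (D ⊔ R : Subgroup G) :=
    IsPGroup.to_sup_of_normal_right' hDp hR (le_normalizer.trans h)
  by_contra hc
  have hlt : D < D ⊔ R := lt_of_le_of_ne le_sup_left fun e => hc (e ▸ le_sup_right)
  refine (lt_inf_normalizer_of_lt hT hlt).not_ge ?_
  have hn : normalizer (D : Set G) ≤ normalizer ((D ⊔ R : Subgroup G) : Set G) :=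
    (le_inf le_rfl h).trans (normalizer_inf_normalizer_le_normalizer_sup D R)
  have h1 : (D ⊔ R).subgroupOf (normalizer (D : Set G)) ≤ pCore p (normalizer (D : Set G)) :=
    le_pCore_of_normal ⟨fun a ha g => (mem_normalizer_iff.1 (hn g.2) a).1 ha⟩ hT.comap_subtype
  intro x hx
  rw [← pCore_normalizer_defect hM hB hD]
  exact ⟨⟨x, hx.2⟩, h1 hx.1, rfl⟩

theorem blockDefect_eq_zero_or (hM : IsPModular p M)
    (h : ∀ D : Subgroup G, IsPGroup p D → D ≠ ⊥ →
      (∀ R : Subgroup G, IsPGroup p R → normalizer (D : Set G) ≤ normalizer (R : Set G) → R ≤ D) →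
      ∀ x ∈ centralizer (D : Set G), ¬ p ∣ orderOf x → x ∈ center G)
    {B : Set (IrrCharacter G)} (hB : IsPBlock M B) :
    blockDefect p B = 0 ∨ blockDefect p B = (Nat.card G).factorization p := by
  obtain ⟨D, hD⟩ := exists_isDefectGroup hM hB
  by_cases h0 : D = ⊥
  · exact Or.inl ((blockDefect_eq_zero_iff hM hB hD).2 h0)
  right
  have hD' := hD
  obtain ⟨x, hx, P, rfl⟩ := hD'
  have h1 := h _ (defect_isPGroup hD) h0 (fun R hR => le_defect_of_normalizer_le hM hB hD hR) x
    (by
      rintro _ ⟨y, -, rfl⟩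
      exact mem_centralizer_singleton_iff.1 y.2)
    (not_dvd_orderOf_of_isDefectClass hM hB hx)
  rw [← factorization_card_centralizer_of_isDefectClass hM hB hx,
    (centralizer_eq_top_iff_subset.2 (Set.singleton_subset_iff.2 h1) :
      centralizer ({x} : Set G) = ⊤), card_top]

section SL

open Matrix Cfsg.Lib.Class

variable {F : Type*} [Field F] {n : ℕ}

/-- The elements acting trivially on `W` and on the quotient by `W`. -/
def radSL (W : Submodule F (Fin n → F)) : Subgroup (Matrix.SpecialLinearGroup (Fin n) F) where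
  carrier := {g | (∀ v, (g : Matrix (Fin n) (Fin n) F) *ᵥ v - v ∈ W) ∧
    ∀ w ∈ W, (g : Matrix (Fin n) (Fin n) F) *ᵥ w = w}
  one_mem' := ⟨fun v => by simp, fun w _ => by simp⟩
  mul_mem' := fun {a b} ha hb => ⟨fun v => by
    have := W.add_mem (ha.1 ((b : Matrix (Fin n) (Fin n) F) *ᵥ v)) (hb.1 v)
    rwa [sub_add_sub_cancel, mulVec_mulVec, ← Matrix.SpecialLinearGroup.coe_mul] at this,
    fun w hw => by rw [Matrix.SpecialLinearGroup.coe_mul, ← mulVec_mulVec, hb.2 w hw, ha.2 w hw]⟩
  inv_mem' := fun {a} ha => ⟨fun v => by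
    have := W.neg_mem (ha.1 (((a⁻¹ : Matrix.SpecialLinearGroup (Fin n) F) : Matrix (Fin n) (Fin n) F) *ᵥ v))
    rwa [mulVec_mulVec, ← Matrix.SpecialLinearGroup.coe_mul, mul_inv_cancel, Matrix.SpecialLinearGroup.coe_one,
      one_mulVec, neg_sub] at this,
    fun w hw => by
      conv_lhs => rw [← ha.2 w hw]
      rw [mulVec_mulVec, ← Matrix.SpecialLinearGroup.coe_mul, inv_mul_cancel, Matrix.SpecialLinearGroup.coe_one,
        one_mulVec]⟩

theorem radSL_eq_1' : type_of% @radSL.eq_1 := @radSL.eq_1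

theorem pow_eq_of_sq_zero {R : Type*} [Ring R] [Algebra F R] [CharP F p] {N : R} (hN : N * N = 0)
    (c : F) : (algebraMap F R c + N) ^ p = algebraMap F R (c ^ p) := by
  have h : ∀ k : ℕ, (algebraMap F R c + N) ^ (k + 1) =
      algebraMap F R (c ^ (k + 1)) + (((k + 1 : ℕ) : F) * c ^ k) • N := fun k => by
    induction k with
    | zero => simp
    | succ k ih =>
      rw [pow_succ, ih, add_mul, mul_add, mul_add, smul_mul_assoc, smul_mul_assoc, hN, smul_zero,
        add_zero, ← map_mul, ← pow_succ, ← Algebra.commutes, ← Algebra.smul_def, ← Algebra.smul_def,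
        smul_smul, add_assoc, ← add_smul]
      congr 2
      push_cast
      ring
  obtain ⟨k, hk⟩ : ∃ k, p = k + 1 := ⟨p - 1, by have := (Fact.out : p.Prime).pos; omega⟩
  have := h k
  rwa [← hk, CharP.cast_eq_zero, zero_mul, zero_smul, add_zero] at this

theorem isPGroup_radSL [CharP F p] (W : Submodule F (Fin n → F)) : IsPGroup p (radSL W) :=
  fun g => ⟨1, Subtype.ext (Subtype.ext (by
    have h := pow_eq_of_sq_zero (p := p) (F := F)
      (N := ((g : Matrix.SpecialLinearGroup (Fin n) F) : Matrix (Fin n) (Fin n) F) - 1)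
      (mat_ext_mulVec fun x => by
        rw [← mulVec_mulVec, sub_mulVec, sub_mulVec, one_mulVec, one_mulVec, g.2.2 _ (g.2.1 x),
          sub_self, zero_mulVec]) 1
    simpa using h))⟩

theorem mem_normalizer_radSL [Finite F] {W : Submodule F (Fin n → F)}
    {g : Matrix.SpecialLinearGroup (Fin n) F} (h : W.map (mulVecLin (g : Matrix (Fin n) (Fin n) F)) = W) :
    g ∈ normalizer (radSL W : Set (Matrix.SpecialLinearGroup (Fin n) F)) := by
  refine mem_normalizer_fintype fun a ha => ⟨fun v => ?_, fun w hw => ?_⟩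
  · rw [← h]
    refine ⟨_, ha.1 (((g⁻¹ : Matrix.SpecialLinearGroup (Fin n) F) : Matrix (Fin n) (Fin n) F) *ᵥ v), ?_⟩
    simp only [mulVecLin_apply, mulVec_sub, mulVec_mulVec, ← Matrix.SpecialLinearGroup.coe_mul,
      mul_inv_cancel, Matrix.SpecialLinearGroup.coe_one, one_mulVec, mul_assoc]
  · rw [← h] at hw
    obtain ⟨w, hw, rfl⟩ := hw
    rw [mulVecLin_apply, mulVec_mulVec, ← Matrix.SpecialLinearGroup.coe_mul, inv_mul_cancel_right,
      Matrix.SpecialLinearGroup.coe_mul, ← mulVec_mulVec, ha.2 w hw]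

theorem mem_center_of_radSL [Finite F] [CharP F p] {W : Submodule F (Fin n → F)} (h0 : W ≠ ⊥)
    (h1 : W ≠ ⊤) {x : Matrix.SpecialLinearGroup (Fin n) F}
    (hx : x ∈ centralizer (radSL W : Set (Matrix.SpecialLinearGroup (Fin n) F))) (hp : ¬ p ∣ orderOf x) :
    x ∈ center (Matrix.SpecialLinearGroup (Fin n) F) := by
  set X : Matrix (Fin n) (Fin n) F := (x : Matrix (Fin n) (Fin n) F) with hX
  have key : ∀ w ∈ W, ∀ f : Fin n → F, (∀ w ∈ W, f ⬝ᵥ w = 0) → ∀ u,
      (f ⬝ᵥ u) • X *ᵥ w = (f ⬝ᵥ X *ᵥ u) • w := fun w hw f hf u => by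
    have e := hx ⟨1 + vecMulVec w f, by rw [det_one_add_vecMulVec, hf w hw, add_zero]⟩
      ⟨fun v => by
        change (1 + vecMulVec w f) *ᵥ v - v ∈ W
        rw [one_add_vecMulVec_mulVec, add_sub_cancel_left]
        exact W.smul_mem _ hw,
      fun v hv => by
        change (1 + vecMulVec w f) *ᵥ v = v
        rw [one_add_vecMulVec_mulVec, hf v hv, zero_smul, add_zero]⟩
    have e' : (1 + vecMulVec w f) * X = X * (1 + vecMulVec w f) := congrArg Subtype.val e
    have e2 := congrArg (· *ᵥ u) e'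
    simp only [← mulVec_mulVec, one_add_vecMulVec_mulVec, mulVec_add, mulVec_smul] at e2
    exact (add_left_cancel e2).symm
  obtain ⟨u₀, hu₀⟩ : ∃ u, u ∉ W := by
    by_contra hc
    push Not at hc
    exact h1 (eq_top_iff.2 fun u _ => hc u)
  obtain ⟨w₀, hw₀, hw0⟩ := (Submodule.ne_bot_iff W).1 h0
  obtain ⟨f₀, hf₀, hfu⟩ := exists_dot_of_notMem hu₀
  set c := f₀ ⬝ᵥ X *ᵥ u₀
  have k1 : ∀ w ∈ W, X *ᵥ w = c • w := fun w hw => by
    have := key w hw f₀ hf₀ u₀
    rwa [hfu, one_smul] at this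
  have k2 : ∀ u, X *ᵥ u - c • u ∈ W := fun u => mem_of_forall_dot fun f hf => by
    have := key w₀ hw₀ f hf u
    rw [k1 w₀ hw₀, smul_smul] at this
    rw [dotProduct_sub, dotProduct_smul, ← smul_left_injective F hw0 this, smul_eq_mul, mul_comm,
      sub_self]
  have k3 := pow_eq_of_sq_zero (p := p) (N := X - algebraMap F _ c) (mat_ext_mulVec fun u => by
    have e : ∀ v, (X - algebraMap F _ c) *ᵥ v = X *ᵥ v - c • v := fun v => by
      rw [sub_mulVec, Algebra.algebraMap_eq_smul_one, smul_mulVec, one_mulVec]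
    rw [← mulVec_mulVec, e, e, k1 _ (k2 u), sub_self, zero_mulVec]) c
  rw [add_sub_cancel] at k3
  have k4 : x ^ p ∈ center (Matrix.SpecialLinearGroup (Fin n) F) := mem_center_iff.2 fun g =>
    Subtype.ext (by
      rw [Matrix.SpecialLinearGroup.coe_mul, Matrix.SpecialLinearGroup.coe_mul, Matrix.SpecialLinearGroup.coe_pow, ← hX,
        k3, Algebra.commutes])
  obtain ⟨m, hm⟩ := exists_pow_eq_self_of_coprime (x := x)
    ((Nat.Prime.coprime_iff_not_dvd Fact.out).2 hp)
  rw [← hm]
  exact pow_mem k4 m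

/-- Every block of `SL_n(q)` in the defining characteristic has defect zero or full defect. -/
theorem blockDefect_SL [Fintype F] [CharP F p] (hM : IsPModular p M)
    {B : Set (IrrCharacter (Matrix.SpecialLinearGroup (Fin n) F))} (hB : IsPBlock M B) :
    blockDefect p B = 0 ∨
      blockDefect p B = (Nat.card (Matrix.SpecialLinearGroup (Fin n) F)).factorization p := by
  refine blockDefect_eq_zero_or hM (fun D hD h0 hrad x hx hp => ?_) hB
  obtain ⟨k, V, hk, hV, hV0, hV1, hN, -⟩ := Cfsg.Agent.S2391.result p n D hD h0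
  have h1 := hrad _ (isPGroup_radSL (V 1)) fun g hg => mem_normalizer_radSL (hN g hg 1)
  refine mem_center_of_radSL (W := V 1) ?_ ?_ (centralizer_le h1 hx) hp
  · rw [← hV0]
    exact (hV Fin.zero_lt_one).ne'
  · rw [← hV1]
    exact (hV (by rw [Fin.lt_def]; simp; omega)).ne

end SL

end Cfsg.Lib.Block.DZ
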