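import Cfsg.Agent.Block.ModSimple
import Cfsg.Agent.Block.PairBridge
import Cfsg.Agent.Block.DefectNum
import Mathlib.GroupTheory.FiniteAbelian.Basic

/-!
Idempotent kernels invariant under a `p`-group, and blocks of minimal dimension.
-/

set_option autoImplicit false

open Cfsg Cfsg.Lib.Char Subgroup MulAction
open scoped MonoidAlgebra ComplexConjugate

namespace Cfsg.Lib.Block.MinDim

section Abstract

variable {p : ℕ} [hp : Fact p.Prime]

/-- A `p`-group fixes a nonzero vector in every nonzero invariant subgroup of exponent `p`. -/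
theorem exists_fixed_vec {R V : Type*} [Group R] [Finite R] (hR : IsPGroup p R) [AddCommGroup V]
    [DistribMulAction R V] (hV : ∀ v : V, p • v = 0) (W : AddSubgroup V)
    (hW : ∀ (r : R), ∀ v ∈ W, r • v ∈ W) {w : V} (hw : w ∈ W) (h0 : w ≠ 0) :
    ∃ v ∈ W, v ≠ 0 ∧ ∀ r : R, r • v = v := by
  let A : AddSubgroup V := AddSubgroup.closure (Set.range fun r : R => r • w)
  have hAW : A ≤ W := (AddSubgroup.closure_le _).2 (by rintro _ ⟨r, rfl⟩; exact hW r w hw)
  have hA : ∀ (r : R), ∀ v ∈ A, r • v ∈ A := by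
    intro r v hv
    induction hv using AddSubgroup.closure_induction with
    | mem x hx => obtain ⟨s, rfl⟩ := hx; exact AddSubgroup.subset_closure ⟨r * s, mul_smul r s w⟩
    | zero => rw [smul_zero]; exact A.zero_mem
    | add x y _ _ hx hy => rw [smul_add]; exact A.add_mem hx hy
    | neg x _ hx => rw [smul_neg]; exact A.neg_mem hx
  have hfg : AddGroup.FG A := AddGroup.closure_finite_fg _
  have hfin : Finite A := by
    refine AddCommGroup.finite_of_fg_isAddTorsion A fun v => ?_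
    exact isOfFinAddOrder_iff_nsmul_eq_zero.2 ⟨p, hp.out.pos, Subtype.ext (hV v)⟩
  have hwA : w ∈ A := AddSubgroup.subset_closure ⟨1, one_smul R w⟩
  let : MulAction R A :=
    { smul := fun r v => ⟨r • (v : V), hA r v v.2⟩
      one_smul := fun v => Subtype.ext (one_smul R (v : V))
      mul_smul := fun r s v => Subtype.ext (mul_smul r s (v : V)) }
  have hd : p ∣ Nat.card A := by
    have h1 : addOrderOf (⟨w, hwA⟩ : A) = p :=
      addOrderOf_eq_prime (Subtype.ext (hV w)) fun h => h0 (congrArg Subtype.val h)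
    rw [← h1]
    exact addOrderOf_dvd_natCard _
  obtain ⟨v, hv, hne⟩ := hR.exists_fixed_point_of_prime_dvd_card_of_fixed_point A hd (a := 0)
    fun r => Subtype.ext (smul_zero r)
  exact ⟨v, hAW v.2, fun h => hne (Subtype.ext h.symm), fun r => congrArg Subtype.val (hv r)⟩

variable {k R X : Type*} [Field k] [CharP k p] [Group R] [Finite R] [MulAction R X] [Fintype X]

omit [Finite R] in
theorem exists_fixed_pt (hR : IsPGroup p R) (K : Subgroup R) (F : X → k)
    (hF : ∀ r ∈ K, ∀ x, F (r • x) = F x) (h : ∑ x, F x ≠ 0) :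
    ∃ x, F x ≠ 0 ∧ ∀ r ∈ K, r • x = x := by
  classical
  rw [sum_eq_sum_fixedPoints (hR.to_subgroup K) (CharP.cast_eq_zero k p) F
    fun r x => hF r r.2 x] at h
  obtain ⟨x, -, hx⟩ := Finset.exists_ne_zero_of_sum_ne_zero h
  split_ifs at hx with h1
  · exact ⟨x, hx, fun r hr => h1 ⟨r, hr⟩⟩
  · exact absurd rfl hx

/-- The action on functions. -/
@[reducible] def funAct (k R X : Type*) [Field k] [Group R] [MulAction R X] :
    DistribMulAction R (X → k) where
  smul r a := fun x => a (r⁻¹ • x)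
  one_smul a := funext fun x => by
    change a ((1 : R)⁻¹ • x) = a x
    rw [inv_one, one_smul]
  mul_smul r s a := funext fun x => by
    change a ((r * s)⁻¹ • x) = a (s⁻¹ • r⁻¹ • x)
    rw [mul_inv_rev, mul_smul]
  smul_zero _ := rfl
  smul_add _ _ _ := rfl

theorem exists_inv_fun (hR : IsPGroup p R) (W : AddSubgroup (X → k))
    (hW : ∀ (r : R), ∀ a ∈ W, (fun x => a (r • x)) ∈ W) {w : X → k} (hw : w ∈ W) (h0 : w ≠ 0) :
    ∃ a ∈ W, a ≠ 0 ∧ ∀ (r : R) x, a (r • x) = a x := by
  let := funAct k R X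
  obtain ⟨a, ha, ha0, hfix⟩ := exists_fixed_vec hR (V := X → k) (fun v => by
    rw [← Nat.cast_smul_eq_nsmul k, CharP.cast_eq_zero, zero_smul]) W
    (fun r a ha => hW r⁻¹ a ha) hw h0
  refine ⟨a, ha, ha0, fun r x => ?_⟩
  have := congrFun (hfix r⁻¹) x
  change a (r⁻¹⁻¹ • x) = a x at this
  rwa [inv_inv] at this

/-- The operator with kernel `e`. -/
def op (e : X → X → k) : (X → k) →ₗ[k] (X → k) where
  toFun a := fun z => ∑ x, a x * e x z
  map_add' a b := funext fun z => by simp [add_mul, Finset.sum_add_distrib]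
  map_smul' c a := funext fun z => by simp [Finset.mul_sum, mul_assoc]

omit [CharP k p] in
theorem op_apply (e : X → X → k) (a : X → k) (z : X) : op e a z = ∑ x, a x * e x z := rfl

variable {e : X → X → k}

omit [CharP k p] [Finite R] in
theorem op_comp (he : ∀ (r : R) x y, e (r • x) (r • y) = e x y) (a : X → k) (r : R) :
    op e (fun x => a (r • x)) = fun z => op e a (r • z) := by
  funext z
  rw [op_apply, op_apply, ← Equiv.sum_comp (MulAction.toPerm r) fun x => a x * e x (r • z)]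
  exact Finset.sum_congr rfl fun x _ => by rw [MulAction.toPerm_apply, he]

open Classical in
/-- The indicator function of an orbit. -/
noncomputable def ind (k R : Type*) {X : Type*} [Field k] [Group R] [MulAction R X] (w : X) :
    X → k := fun x => if x ∈ orbit R w then 1 else 0

omit [CharP k p] [Finite R] [Fintype X] in
theorem ind_smul (w : X) (r : R) (x : X) : ind k R w (r • x) = ind k R w x := by
  have : r • x ∈ orbit R w ↔ x ∈ orbit R w :=
    ⟨fun h => by simpa using mem_orbit_of_mem_orbit r⁻¹ h, mem_orbit_of_mem_orbit r⟩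
  unfold ind
  rw [propext this]

omit [CharP k p] [Finite R] in
theorem exists_op_ind_ne_zero (n : ℕ) : ∀ z : X → k, (Function.support z).ncard ≤ n →
    (∀ (r : R) x, z (r • x) = z x) → op e z ≠ 0 → ∃ w, z w ≠ 0 ∧ op e (ind k R w) ≠ 0 := by
  induction n with
  | zero =>
    intro z hz _ h
    rw [Nat.le_zero, Set.ncard_eq_zero (Set.toFinite _), Function.support_eq_empty_iff] at hz
    rw [hz, map_zero] at h
    exact absurd rfl h
  | succ n ih =>
    intro z hz hinv h
    obtain ⟨w, hw⟩ : ∃ w, z w ≠ 0 := by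
      by_contra hc
      push Not at hc
      rw [show z = 0 from funext hc, map_zero] at h
      exact h rfl
    by_cases h1 : op e (ind k R w) = 0
    · have hsub : ∀ x, (z - z w • ind k R w) x ≠ 0 → z x ≠ 0 ∧ x ≠ w := by
        intro x hx
        by_cases hxw : x ∈ orbit R w
        · obtain ⟨r, rfl⟩ := hxw
          refine absurd ?_ hx
          simp [ind, hinv]
        · refine ⟨fun h0 => hx (by simp [ind, hxw, h0]), fun h0 => hxw (h0 ▸ mem_orbit_self x)⟩
      obtain ⟨v, hv, hv'⟩ := ih (z - z w • ind k R w) (by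
        have : (Function.support (z - z w • ind k R w)).ncard < (Function.support z).ncard :=
          Set.ncard_lt_ncard ⟨fun x hx => (hsub x hx).1, fun hc => (hsub w (hc hw)).2 rfl⟩
            (Set.toFinite _)
        omega) (fun r x => by simp [hinv, ind_smul]) (by rwa [map_sub, map_smul, h1, smul_zero, sub_zero])
      exact ⟨v, (hsub v hv).1, hv'⟩
    · exact ⟨w, hw, h1⟩

/-- If the image of an invariant idempotent kernel is small, one orbit carries it. -/
theorem exists_orbit (hR : IsPGroup p R) (he : ∀ (r : R) x y, e (r • x) (r • y) = e x y)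
    (hi : ∀ x z, ∑ y, e x y * e y z = e x z) (h0 : e ≠ 0) {n : ℕ}
    (hst : ∀ x y, e x y ≠ 0 → Nat.card (stabilizer R x ⊓ stabilizer R y : Subgroup R) ≤ n)
    (hdim : ∀ T : Set X, LinearIndependent k (fun x : T => e x) → T.ncard * n ≤ Nat.card R) :
    ∃ w, Nat.card (stabilizer R w) ≤ n ∧ ∀ (K : Subgroup R) (g y : X), (∀ r ∈ K, r • g = g) →
      (∀ r ∈ K, r • y = y) → e g y ≠ 0 → ∃ x : X, x ∈ orbit R w ∧ ∀ r ∈ K, r • x = x := by
  classical
  have hop : ∀ a, op e (op e a) = op e a := fun a => funext fun z => by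
    simp only [op_apply, Finset.sum_mul]
    rw [Finset.sum_comm]
    exact Finset.sum_congr rfl fun x _ => by simp only [mul_assoc, ← Finset.mul_sum, hi]
  have hsingle : ∀ x, op e (Pi.single x 1) = e x := fun x => funext fun z => by
    simp [op_apply, Pi.single_apply]
  obtain ⟨x₀, hx₀⟩ : ∃ x, e x ≠ 0 := Function.ne_iff.1 h0
  obtain ⟨z, ⟨a, rfl⟩, hz0, hz⟩ := exists_inv_fun hR (LinearMap.range (op e)).toAddSubgroup
    (by rintro r _ ⟨a, rfl⟩; exact ⟨_, op_comp he a r⟩) ⟨_, hsingle x₀⟩ hx₀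
  obtain ⟨v, -, hv⟩ := exists_op_ind_ne_zero _ _ le_rfl hz (e := e) (by rwa [hop])
  have hinv : ∀ (r : R) x, op e (ind k R v) (r • x) = op e (ind k R v) x := fun r x => by
    rw [← congrFun (op_comp he (ind k R v) r) x]
    simp only [ind_smul]
  obtain ⟨w, hw1, hw⟩ := exists_op_ind_ne_zero _ _ le_rfl hinv (e := e) (by rwa [hop])
  have hwn : Nat.card (stabilizer R w) ≤ n := by
    obtain ⟨x, hx, hfix⟩ := exists_fixed_pt hR (stabilizer R w) (fun x => ind k R v x * e x w)
      (fun r hr x => by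
        rw [ind_smul, ← he r x w, mem_stabilizer_iff.1 hr]) hw1
    have := hst x w (right_ne_zero_of_mul hx)
    rwa [inf_eq_right.2 fun r hr => hfix r hr] at this
  have hinj : ∀ a : X → k, (∀ x, x ∉ orbit R w → a x = 0) → op e a = 0 → a = 0 := by
    intro a ha1 ha2
    by_contra ha0
    let W : AddSubgroup (X → k) :=
      { carrier := {a | (∀ x, x ∉ orbit R w → a x = 0) ∧ op e a = 0}
        add_mem' := fun {a b} ha hb => ⟨fun x hx => by simp [ha.1 x hx, hb.1 x hx], by
          rw [map_add, ha.2, hb.2, add_zero]⟩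
        zero_mem' := ⟨fun _ _ => rfl, map_zero _⟩
        neg_mem' := fun {a} ha => ⟨fun x hx => by simp [ha.1 x hx], by
          rw [map_neg, ha.2, neg_zero]⟩ }
    obtain ⟨c, ⟨hc1, hc2⟩, hc0, hc⟩ := exists_inv_fun hR W (fun r a ha =>
      ⟨fun x hx => ha.1 _ fun h => hx (by simpa using mem_orbit_of_mem_orbit r⁻¹ h), by
        rw [op_comp he, ha.2]; rfl⟩) ⟨ha1, ha2⟩ ha0
    have hcw : c = c w • ind k R w := funext fun x => by
      by_cases hx : x ∈ orbit R w
      · obtain ⟨r, rfl⟩ := hx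
        simp [ind, hc]
      · simp [ind, hx, hc1 x hx]
    rw [hcw, map_smul, smul_eq_zero] at hc2
    rcases hc2 with h | h
    · exact hc0 (by rw [hcw, h, zero_smul])
    · exact hw h
  have hli : LinearIndependent k fun x : orbit R w => e x := by
    rw [Fintype.linearIndependent_iff]
    intro c hc x
    have := hinj (fun y => if h : y ∈ orbit R w then c ⟨y, h⟩ else 0) (fun y hy => dif_neg hy) (by
      rw [← hc]
      funext z
      rw [op_apply, Finset.sum_apply, ← Finset.sum_subset (Finset.subset_univ (orbit R w).toFinset)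
        (fun y _ hy => by rw [dif_neg (by simpa using hy), zero_mul]),
        ← Finset.sum_coe_sort, ← (Equiv.subtypeEquivRight fun _ => Set.mem_toFinset.symm).sum_comp]
      exact Finset.sum_congr rfl fun y _ => by simp)
    simpa using congrFun this x
  refine ⟨w, hwn, fun K g y hg hy hgy => ?_⟩
  have hspan : e g ∈ Submodule.span k (e '' orbit R w) := by
    by_contra hc
    have hgw : g ∉ orbit R w := fun h => hc (Submodule.subset_span ⟨g, h, rfl⟩)
    have h1 := hdim (insert g (orbit R w)) ((linearIndepOn_insert hgw).2 ⟨hli, hc⟩)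
    rw [Set.ncard_insert_of_notMem hgw (Set.toFinite _), ← index_stabilizer,
      ← (stabilizer R w).index_mul_card] at h1
    have h2 : 0 < Nat.card (stabilizer R w) := Nat.card_pos
    nlinarith [Nat.mul_le_mul_left (stabilizer R w).index hwn]
  obtain ⟨a, ha1, ha2⟩ : ∃ a : X → k, (∀ x, x ∉ orbit R w → a x = 0) ∧ op e a = e g := by
    refine Submodule.span_induction (p := fun v _ => ∃ a : X → k,
      (∀ x, x ∉ orbit R w → a x = 0) ∧ op e a = v) ?_ ?_ ?_ ?_ hspan
    · rintro _ ⟨x, hx, rfl⟩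
      exact ⟨Pi.single x 1, fun y hy => Pi.single_eq_of_ne (by rintro rfl; exact hy hx) _, hsingle x⟩
    · exact ⟨0, fun _ _ => rfl, map_zero _⟩
    · rintro _ _ _ _ ⟨a, ha, rfl⟩ ⟨b, hb, rfl⟩
      exact ⟨a + b, fun x hx => by simp [ha x hx, hb x hx], map_add _ _ _⟩
    · rintro c _ _ ⟨a, ha, rfl⟩
      exact ⟨c • a, fun x hx => by simp [ha x hx], map_smul _ _ _⟩
  have hainv : ∀ r ∈ K, ∀ x, a (r • x) = a x := by
    intro r hr x
    have := hinj ((fun x => a (r • x)) - a) (fun x hx => by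
      rw [Pi.sub_apply, ha1 x hx, ha1 _ fun h => hx (by simpa using mem_orbit_of_mem_orbit r⁻¹ h),
        sub_zero]) (by
      rw [map_sub, op_comp he, ha2, sub_eq_zero]
      funext z
      rw [← he r g z, hg r hr])
    exact sub_eq_zero.1 (congrFun this x)
  obtain ⟨x, hx, hfix⟩ := exists_fixed_pt hR K (fun x => a x * e x y) (fun r hr x => by
    rw [hainv r hr, ← he r x y, hy r hr]) (by rw [← op_apply, ha2]; exact hgy)
  exact ⟨x, by_contra fun h => hx (by rw [ha1 x h, zero_mul]), hfix⟩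

end Abstract

section Group

variable {G : Type*} [Group G]

/-- Two-sided translation by a subgroup. -/
@[reducible] def biAct (S : Subgroup G) : MulAction (S × S) G where
  smul r x := r.1 * x * (r.2 : G)⁻¹
  one_smul x := by
    change ((1 : S) : G) * x * ((1 : S) : G)⁻¹ = x
    simp
  mul_smul r s x := by
    change ((r.1 * s.1 : S) : G) * x * ((r.2 * s.2 : S) : G)⁻¹ =
      r.1 * (s.1 * x * (s.2 : G)⁻¹) * (r.2 : G)⁻¹
    simp [mul_assoc]

/-- The twisted diagonal of `Q`. -/
def twist (S Q : Subgroup G) (g : G) : Subgroup (S × S) where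
  carrier := {r | (r.1 : G) ∈ Q ∧ (r.2 : G) = g⁻¹ * r.1 * g}
  mul_mem' := fun {a b} ha hb => ⟨Q.mul_mem ha.1 hb.1, by
    simp only [Prod.snd_mul, Prod.fst_mul, coe_mul, ha.2, hb.2]; group⟩
  one_mem' := ⟨Q.one_mem, by simp⟩
  inv_mem' := fun {a} ha => ⟨Q.inv_mem ha.1, by
    simp only [Prod.snd_inv, Prod.fst_inv, coe_inv, ha.2]; group⟩

variable {p : ℕ} [hp : Fact p.Prime] {k : Type*} [Field k] [CharP k p] [Finite G]

/-- If `k[G] b` has dimension at most `|S| ^ 2 / |P|` then `S` controls fusion in `P`. -/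
theorem exists_conj_of_dim {S P : Subgroup G} (hS : IsPGroup p S) (hPS : P ≤ S) {b : k[G]}
    (hc : b ∈ Subalgebra.center k k[G]) (hi : b * b = b)
    (hP : ∃ y ∈ centralizer (P : Set G), b.coeff y ≠ 0)
    (hmax : ∀ (y : G) (Q : Subgroup G), b.coeff y ≠ 0 → IsPGroup p Q →
      Q ≤ centralizer ({y} : Set G) → Nat.card Q ≤ Nat.card P)
    (hdim : ∀ T : Set G, LinearIndependent k (fun x : T => fun y => b.coeff ((x : G)⁻¹ * y)) →
      T.ncard * Nat.card P ≤ Nat.card S * Nat.card S)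
    {Q : Subgroup G} (hQ : Q ≤ P) {g : G} (hg : g ∈ normalizer (Q : Set G)) :
    ∃ s ∈ S, ∀ u ∈ Q, g⁻¹ * u * g = s⁻¹ * u * s := by
  classical
  have := Fintype.ofFinite G
  let := biAct S
  have hsm : ∀ (r : S × S) (x : G), r • x = r.1 * x * (r.2 : G)⁻¹ := fun _ _ => rfl
  have hR : IsPGroup p (S × S) := fun r => by
    obtain ⟨i, h1⟩ := hS r.1
    obtain ⟨j, h2⟩ := hS r.2
    refine ⟨i + j, Prod.ext ?_ ?_⟩
    · rw [Prod.pow_fst, pow_add, pow_mul, h1, one_pow, Prod.fst_one]
    · rw [Prod.pow_snd, pow_add, mul_comm, pow_mul, h2, one_pow, Prod.snd_one]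
  obtain ⟨y, hy, hy0⟩ := hP
  obtain ⟨w, hw, h⟩ := exists_orbit (e := fun x y : G => b.coeff (x⁻¹ * y)) (n := Nat.card P) hR
    (fun r x y => by
      rw [hsm, hsm, ← mem_center_iff_coeff.1 hc r.2 (x⁻¹ * y)]
      congr 1
      group)
    (fun x z => by
      conv_rhs => rw [← hi, coeff_mul_fintype, ← Equiv.sum_comp (Equiv.mulLeft x⁻¹)]
      exact Finset.sum_congr rfl fun y _ => by simp [mul_assoc])
    (fun h => hy0 (by simpa using congrFun (congrFun h 1) y))
    (fun x z hxz => by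
      let K : Subgroup (S × S) := stabilizer (S × S) x ⊓ stabilizer (S × S) z
      let f : K →* G := (S.subtype.comp (MonoidHom.snd S S)).comp K.subtype
      have hf : Function.Injective f := by
        rw [injective_iff_map_eq_one]
        rintro ⟨r, hr⟩ h1
        have h2 : (r.2 : G) = 1 := h1
        have h3 := mem_stabilizer_iff.1 hr.1
        rw [hsm, h2, inv_one, mul_one, mul_eq_right] at h3
        exact Subtype.ext (Prod.ext (Subtype.ext h3) (Subtype.ext h2))
      rw [Nat.card_congr (MonoidHom.ofInjective hf).toEquiv]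
      refine hmax _ _ hxz ((hR.to_subgroup K).of_equiv (MonoidHom.ofInjective hf)) ?_
      rintro _ ⟨⟨r, hr⟩, rfl⟩
      have h3 := mem_stabilizer_iff.1 hr.1
      have h4 := mem_stabilizer_iff.1 hr.2
      rw [hsm] at h3 h4
      rw [mem_centralizer_singleton_iff]
      change (r.2 : G) * (x⁻¹ * z) = x⁻¹ * z * r.2
      calc (r.2 : G) * (x⁻¹ * z) = (r.1 * x * (r.2 : G)⁻¹)⁻¹ * (r.1 * z * (r.2 : G)⁻¹) * r.2 := by
            group
        _ = _ := by rw [h3, h4])
    (fun T hT => by rw [Nat.card_prod]; exact hdim T hT)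
  have key : ∀ (Q : Subgroup G) (g : G), Q ≤ P → g ∈ normalizer (Q : Set G) →
      ∃ x ∈ orbit (S × S) w, ∀ r ∈ twist S Q g, r • x = x := fun Q g hQ hg =>
    h (twist S Q g) g (g * y) (fun r hr => by rw [hsm, hr.2]; group) (fun r hr => by
      have h1 : g⁻¹ * r.1 * g ∈ P := hQ ((mem_normalizer_iff''.1 hg _).1 hr.1)
      rw [hsm, hr.2]
      calc r.1 * (g * y) * (g⁻¹ * r.1 * g)⁻¹ = g * (g⁻¹ * r.1 * g * y) * (g⁻¹ * r.1 * g)⁻¹ := by
            group
        _ = g * y := by rw [hy _ h1]; group) (by simpa using hy0)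
  obtain ⟨x₀, hx₀, h₀⟩ := key P 1 le_rfl (one_mem _)
  obtain ⟨x, hx, h₁⟩ := key Q g hQ hg
  have hst : twist S P 1 = stabilizer (S × S) x₀ := by
    refine eq_of_le_of_card_ge (fun r hr => h₀ r hr) ?_
    obtain ⟨r, rfl⟩ := hx₀
    rw [← Nat.card_congr (stabilizerEquivStabilizer (g := r) (a := w) (b := r • w) rfl).toEquiv]
    refine hw.trans (Nat.card_le_card_of_injective
      (fun u : P => (⟨(⟨u, hPS u.2⟩, ⟨u, hPS u.2⟩), u.2, by simp⟩ : twist S P 1)) ?_)
    intro u v huv
    exact Subtype.ext (congrArg (fun r : twist S P 1 => (r.1.1 : G)) huv)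
  obtain ⟨r, rfl⟩ : x ∈ orbit (S × S) x₀ := by rwa [orbit_eq_iff.2 hx₀]
  refine ⟨r.1 * (r.2 : G)⁻¹, S.mul_mem r.1.2 (S.inv_mem r.2.2), fun u hu => ?_⟩
  have h1 : g⁻¹ * u * g ∈ Q := (mem_normalizer_iff''.1 hg _).1 hu
  have h2 := h₁ (⟨u, hPS (hQ hu)⟩, ⟨_, hPS (hQ h1)⟩) ⟨hu, rfl⟩
  have h3 : r⁻¹ * (⟨u, hPS (hQ hu)⟩, ⟨_, hPS (hQ h1)⟩) * r ∈ twist S P 1 := by
    rw [hst, mem_stabilizer_iff, mul_smul, mul_smul, h2, inv_smul_smul]
  have h4 := h3.2
  simp only [Prod.snd_mul, Prod.fst_mul, Prod.snd_inv, Prod.fst_inv, coe_mul, coe_inv, inv_one,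
    one_mul, mul_one] at h4
  calc g⁻¹ * u * g = r.2 * ((r.2 : G)⁻¹ * (g⁻¹ * u * g) * r.2) * (r.2 : G)⁻¹ := by group
    _ = _ := by rw [h4]; group

omit [Finite G] in
theorem mem_centralizer_of_conj_eq {Q : Subgroup G} {g s : G} {n : ℕ} (hs : s ^ p ^ n = 1)
    (hg : ¬ p ∣ orderOf g) (h : ∀ u ∈ Q, g⁻¹ * u * g = s⁻¹ * u * s)
    (hn : g ∈ normalizer (Q : Set G)) : g ∈ centralizer (Q : Set G) := by
  have h1 : ∀ m : ℕ, ∀ u ∈ Q, (g ^ m)⁻¹ * u * g ^ m = (s ^ m)⁻¹ * u * s ^ m := by
    intro m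
    induction m with
    | zero => simp
    | succ m ih =>
      intro u hu
      have h2 := ih _ ((mem_normalizer_iff''.1 hn _).1 hu)
      calc (g ^ (m + 1))⁻¹ * u * g ^ (m + 1) = (g ^ m)⁻¹ * (g⁻¹ * u * g) * g ^ m := by group
        _ = (s ^ m)⁻¹ * (s⁻¹ * u * s) * s ^ m := by rw [h2, h u hu]
        _ = _ := by group
  have h2 : g ^ p ^ n ∈ centralizer (Q : Set G) := fun u hu => by
    have := h1 (p ^ n) u hu
    rw [hs, inv_one, one_mul, mul_one] at this
    calc u * g ^ p ^ n = g ^ p ^ n * ((g ^ p ^ n)⁻¹ * u * g ^ p ^ n) := by group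
      _ = _ := by rw [this]
  have hco : (p ^ n).Coprime (orderOf g) :=
    Nat.Coprime.pow_left _ ((Nat.Prime.coprime_iff_not_dvd hp.out).2 hg)
  obtain ⟨m, hm⟩ := exists_pow_eq_self_of_coprime hco
  rw [← hm]
  exact pow_mem h2 m

end Group

section Block

variable {G : Type*} [Group G] [Finite G] {p : ℕ} {M : Ideal AlgInt} {B : Set (IrrCharacter G)}

/-- The dimension of `ℂ[G] e` for an idempotent `e`. -/
theorem finrank_range_mulRight {e : ℂ[G]} (he : IsIdempotentElem e) :
    (Module.finrank ℂ (LinearMap.range (LinearMap.mulRight ℂ e)) : ℂ) =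
      Nat.card G * e.coeff 1 := by
  classical
  have := Fintype.ofFinite G
  have hproj : LinearMap.IsProj (LinearMap.range (LinearMap.mulRight ℂ e))
      (LinearMap.mulRight ℂ e) := ⟨fun x => ⟨x, rfl⟩, by
    rintro _ ⟨x, rfl⟩
    simp only [LinearMap.mulRight_apply, mul_assoc, he.eq]⟩
  rw [← hproj.trace, LinearMap.trace_eq_matrix_trace ℂ (MonoidAlgebra.basis G ℂ), Matrix.trace,
    Finset.sum_congr rfl (g := fun _ => e.coeff 1), Finset.sum_const, Finset.card_univ,
    Nat.card_eq_fintype_card, nsmul_eq_mul]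
  intro x _
  simp [LinearMap.toMatrix_apply, MonoidAlgebra.basis]

/-- Independent translates of the reduction of an idempotent. -/
theorem card_le_of_linearIndependent {e : ℂ[G]} (hO : e ∈ OG M G) (he : IsIdempotentElem e)
    {N : ℕ} (hN : (N : ℂ) = Nat.card G * e.coeff 1) {J : Type*} [Finite J] (x : J → G)
    (h : LinearIndependent (kM M) fun j => fun y => (redG M e).coeff ((x j)⁻¹ * y)) :
    Nat.card J ≤ N := by
  have := Fintype.ofFinite J
  have h1 := Mod.linearIndependent_of_redM (fun j y => e.coeff ((x j)⁻¹ * y)) (fun _ _ => hO _) h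
  let s : J → LinearMap.range (LinearMap.mulRight ℂ e) := fun j =>
    ⟨_, MonoidAlgebra.single (x j) 1, rfl⟩
  let f : ℂ[G] →ₗ[ℂ] (G → ℂ) :=
    { toFun := fun a y => a.coeff y
      map_add' := fun _ _ => rfl
      map_smul' := fun _ _ => rfl }
  have h2 : LinearIndependent ℂ s :=
    LinearIndependent.of_comp (f ∘ₗ Submodule.subtype _) (by
      convert h1 using 2
      funext y
      change (MonoidAlgebra.single (x _) 1 * e).coeff y = _
      simp)
  have h3 := h2.fintype_card_le_finrank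
  rw [← finrank_range_mulRight he, Nat.cast_inj] at hN
  rwa [hN, Nat.card_eq_fintype_card]

theorem card_mul_blockCoeff_one :
    ((∑ᶠ χ ∈ B, charDegree (χ : G → ℂ) ^ 2 : ℕ) : ℂ) = Nat.card G * (fB B).coeff 1 := by
  rw [coeff_fB, blockCoeff, finsum_mem_irr, finsum_mem_irr, ← mul_assoc,
    mul_inv_cancel₀ (Nat.cast_ne_zero.2 Nat.card_pos.ne'), one_mul, Nat.cast_sum]
  refine Finset.sum_congr rfl fun χ _ => ?_
  rw [← irr_charDegree_cast χ, Complex.conj_natCast, Nat.cast_pow, sq]

/-- A block of minimal dimension is nilpotent. -/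
theorem isNilpotentBlock_of_min [hp : Fact p.Prime] (hM : IsPModular p M) (hB : IsPBlock M B)
    (h : (∑ᶠ χ ∈ B, charDegree (χ : G → ℂ) ^ 2) * p ^ blockDefect p B ≤
      p ^ (2 * (Nat.card G).factorization p)) : IsNilpotentBlock p M B := by
  have := charP_kM hM
  refine ⟨hB, fun Q e he x hx _ hreg => ?_⟩
  obtain ⟨hQ, he', -, hbr⟩ := (Pair.isBrauerPairOf_iff hM).1 he
  have h1 : Pair.br Q (eB M B) ≠ 0 := fun h0 =>
    (Pair.isPrim_hat hM he').ne_zero (by rw [← hbr, h0, zero_mul])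
  obtain ⟨D, hD, hQD⟩ := (brC_eB_ne_zero_iff_le hM hB hQ).1
    (brC_ne_zero_iff.2 (Pair.br_ne_zero_iff.1 h1))
  obtain ⟨S, hS⟩ := (defect_isPGroup hD).exists_le_sylow
  obtain ⟨s, hs, hc⟩ := exists_conj_of_dim S.isPGroup' hS (eB_mem_center B) (eB_mul_self hM hB)
    (brC_ne_zero_iff.1 (defect_brC_ne_zero hM hB hD))
    (fun y R hy hR hRy => defect_card_le hM hB hD hR
      (brC_ne_zero_iff.2 ⟨y, le_centralizer_singleton_iff.1 hRy, hy⟩))
    (fun T hT => by
      have h2 := card_le_of_linearIndependent (fB_mem_OG hM hB) (isIdempotentElem_fB B)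
        card_mul_blockCoeff_one _ hT
      rw [S.card_eq_multiplicity, ← pow_add, ← two_mul, card_defect hM hB hD]
      exact (Nat.mul_le_mul_right _ h2).trans h) hQD hx
  obtain ⟨n, hn⟩ := S.isPGroup' ⟨s, hs⟩
  exact mem_centralizer_of_conj_eq (congrArg Subtype.val hn) hreg hc hx

end Block

end Cfsg.Lib.Block.MinDim
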