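import Cfsg.Agent.Block.DefectNum
import Cfsg.Agent.Block.MinDim

/-!
# At most one block of defect zero

Let `U` be a `p`-subgroup of the finite group `G` and `u` the sum of its elements in `kG`.
The idempotent `e` of a block of defect zero satisfies `0 ≠ e u ∈ u kG u`.  Hence, if the elements
`u g u g' u` span a space of dimension at most one, there is at most one such block.
This is the case in groups with a suitable split `(B,N)`-pair.
-/

set_option autoImplicit false

open MonoidAlgebra Subgroup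
open Cfsg.Lib.Char

namespace Cfsg.Lib.Block.DZ

section alg

variable {k : Type*} [CommRing k] {G : Type*} [Group G] [Finite G]

/-- An invariant function supported on points with trivial stabiliser is an orbit sum. -/
theorem exists_orbit_section {Γ X : Type*} [Group Γ] [Fintype Γ] [MulAction Γ X] (f : X → k)
    (hf : ∀ (γ : Γ) x, f (γ • x) = f x) (hfree : ∀ x, f x ≠ 0 → ∀ γ : Γ, γ • x = x → γ = 1) :
    ∃ a : X → k, ∀ x, f x = ∑ γ : Γ, a (γ • x) := by
  classical
  let r : X → X := fun x => (Quotient.mk (MulAction.orbitRel Γ X) x).out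
  have hr : ∀ x, ∃ γ : Γ, γ • x = r x := fun x => by
    have h : (MulAction.orbitRel Γ X) (r x) x := Quotient.exact (Quotient.out_eq _)
    exact MulAction.orbitRel_apply.1 h
  have hr' : ∀ (γ : Γ) x, r (γ • x) = r x := fun γ x => by
    have : Quotient.mk (MulAction.orbitRel Γ X) (γ • x) = Quotient.mk _ x :=
      Quotient.sound (MulAction.orbitRel_apply.2 ⟨γ, rfl⟩)
    simp only [r, this]
  refine ⟨fun x => if x = r x then f x else 0, fun x => ?_⟩
  by_cases h0 : f x = 0
  · rw [h0]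
    exact (Finset.sum_eq_zero fun γ _ => by simp [hf, h0]).symm
  obtain ⟨γ, hγ⟩ := hr x
  rw [Finset.sum_eq_single γ]
  · simp only [hr', hγ.symm, if_true, hf]
  · intro δ _ hδ
    refine if_neg fun e => ?_
    rw [hr', ← hγ] at e
    apply hδ
    have := hfree x h0 (γ⁻¹ * δ) (by rw [mul_smul, e, inv_smul_smul])
    exact (inv_mul_eq_one.1 this).symm
  · simp

variable (k) in
/-- The sum of the elements of a subgroup. -/
noncomputable def sS (U : Subgroup G) : k[G] :=
  letI := Fintype.ofFinite U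
  ∑ x : U, of k G x

theorem sS_eq_1' : type_of% @sS.eq_1 := @sS.eq_1

theorem sS_eq (U : Subgroup G) [Fintype U] : sS k U = ∑ x : U, of k G x := by
  unfold sS
  congr 1
  exact congrArg (fun i => @Finset.univ _ i) (Subsingleton.elim _ _)

theorem sS_eq_sum {α : Type*} [Fintype α] {U : Subgroup G} (y : α → G) (hy : ∀ a, y a ∈ U)
    (hinj : Function.Injective y) (hsurj : ∀ x ∈ U, ∃ a, y a = x) :
    sS k U = ∑ a, of k G (y a) := by
  letI := Fintype.ofFinite U
  rw [sS_eq]
  refine (Fintype.sum_bijective (fun a => (⟨y a, hy a⟩ : U)) ⟨fun a b e => hinj ?_, fun x => ?_⟩ _ _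
    fun _ => rfl).symm
  · exact congrArg Subtype.val e
  · obtain ⟨a, ha⟩ := hsurj x x.2
    exact ⟨a, Subtype.ext ha⟩

theorem of_mul_sS {U : Subgroup G} {x : G} (hx : x ∈ U) : of k G x * sS k U = sS k U := by
  letI := Fintype.ofFinite U
  rw [sS_eq, Finset.mul_sum]
  exact Fintype.sum_equiv (Equiv.mulLeft (⟨x, hx⟩ : U)) _ _ fun y => by rw [← map_mul]; rfl

theorem sS_mul_of {U : Subgroup G} {x : G} (hx : x ∈ U) : sS k U * of k G x = sS k U := by
  letI := Fintype.ofFinite U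
  rw [sS_eq, Finset.sum_mul]
  exact Fintype.sum_equiv (Equiv.mulRight (⟨x, hx⟩ : U)) _ _ fun y => by rw [← map_mul]; rfl

theorem of_mul_sS_of_conj {U V : Subgroup G} {g : G} (h : ∀ x, x ∈ U ↔ g * x * g⁻¹ ∈ V) :
    of k G g * sS k U = sS k V * of k G g := by
  letI := Fintype.ofFinite U
  rw [sS_eq_sum (U := V) (fun x : U => g * x * g⁻¹) (fun x => (h x).1 x.2)
    (fun x y e => Subtype.ext (by simpa using e))
    (fun x hx => ⟨⟨g⁻¹ * x * g, (h _).2 (by simpa [mul_assoc] using hx)⟩, by simp [mul_assoc]⟩),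
    sS_eq, Finset.mul_sum, Finset.sum_mul]
  exact Finset.sum_congr rfl fun x _ => by rw [← map_mul, ← map_mul]; simp

theorem of_mul_sS_of_norm {U : Subgroup G} {g : G} (h : g ∈ normalizer (U : Set G)) :
    of k G g * sS k U = sS k U * of k G g :=
  of_mul_sS_of_conj (mem_normalizer_iff.1 h)

theorem sS_mul_sS_of_le {U Q : Subgroup G} (h : Q ≤ U) :
    sS k Q * sS k U = (Nat.card Q : k) • sS k U := by
  letI := Fintype.ofFinite Q
  rw [sS_eq Q, Finset.sum_mul, Finset.sum_congr rfl fun x _ => of_mul_sS (h x.2)]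
  simp [Nat.cast_smul_eq_nsmul]

theorem sS_mul_sS_of_ge {U Q : Subgroup G} (h : Q ≤ U) :
    sS k U * sS k Q = (Nat.card Q : k) • sS k U := by
  letI := Fintype.ofFinite Q
  rw [sS_eq Q, Finset.mul_sum, Finset.sum_congr rfl fun x _ => sS_mul_of (h x.2)]
  simp [Nat.cast_smul_eq_nsmul]

theorem sS_comm {X S : Subgroup G} (h : X ≤ normalizer (S : Set G)) :
    sS k X * sS k S = sS k S * sS k X := by
  letI := Fintype.ofFinite X
  rw [sS_eq X, Finset.mul_sum, Finset.sum_mul]
  exact Finset.sum_congr rfl fun x _ => of_mul_sS_of_norm (h x.2)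

theorem sS_eq_mul {U X R : Subgroup G} (hX : X ≤ U) (hR : R ≤ U)
    (hd : ∀ g ∈ X, g ∈ R → g = 1) (h : ∀ g ∈ U, ∃ x ∈ X, ∃ r ∈ R, g = x * r) :
    sS k U = sS k X * sS k R := by
  letI := Fintype.ofFinite X
  letI := Fintype.ofFinite R
  rw [sS_eq_sum (U := U) (fun x : X × R => (x.1 : G) * x.2) (fun x => mul_mem (hX x.1.2) (hR x.2.2))
    ?_ ?_, sS_eq X, sS_eq R, Finset.sum_mul_sum, Fintype.sum_prod_type]
  · simp only [map_mul]
  · rintro ⟨x, r⟩ ⟨x', r'⟩ e
    have e1 : (x' : G)⁻¹ * x = r' * (r : G)⁻¹ := by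
      have e' : (x : G) * r = x' * r' := e
      rw [inv_mul_eq_iff_eq_mul, ← mul_assoc, ← e', mul_inv_cancel_right]
    have e2 := hd _ (mul_mem (inv_mem x'.2) x.2) (e1 ▸ mul_mem r'.2 (inv_mem r.2))
    have e3 : x = x' := Subtype.ext (inv_mul_eq_one.1 e2).symm
    have e4 : r = r' := Subtype.ext (mul_inv_eq_one.1 (e1 ▸ e2)).symm
    rw [e3, e4]
  · intro g hg
    obtain ⟨x, hx, r, hr, rfl⟩ := h g hg
    exact ⟨(⟨x, hx⟩, ⟨r, hr⟩), rfl⟩

theorem coeff_of_mul (x : G) (a : k[G]) (g : G) : (of k G x * a).coeff g = a.coeff (x⁻¹ * g) := by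
  simp

theorem coeff_of_mul_mul_of (x y : G) (a : k[G]) (g : G) :
    (of k G x * a * of k G y).coeff g = a.coeff (x⁻¹ * g * y⁻¹) :=
  coeff_single_mul_mul_single a x y g

/-- A left invariant element is a left multiple of the subgroup sum. -/
theorem exists_eq_sS_mul {Q : Subgroup G} {f : k[G]} (hf : ∀ x ∈ Q, of k G x * f = f) :
    ∃ a, f = sS k Q * a := by
  letI := Fintype.ofFinite Q
  obtain ⟨a, ha⟩ := exists_orbit_section (Γ := Q) (fun g => f.coeff g)
    (fun γ x => by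
      conv_lhs => rw [← hf γ γ.2, coeff_of_mul]
      simp [Subgroup.smul_def])
    (fun x _ γ h => Subtype.ext (by simpa [Subgroup.smul_def] using h))
  refine ⟨ofFun a, galg_ext fun g => ?_⟩
  rw [ha, sS_eq, Finset.sum_mul, coeff_sum_apply]
  exact Fintype.sum_equiv (Equiv.inv Q) _ _ fun γ => by
    rw [coeff_of_mul, coeff_ofFun]; simp [Subgroup.smul_def]

/-- An element fixed by `U` and supported on elements with trivial centraliser in `U` is a trace. -/
theorem exists_mul_sS_eq {U : Subgroup G} {e : k[G]} (he : IsFixedBy U e)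
    (hfree : ∀ g, e.coeff g ≠ 0 → ∀ x ∈ U, x * g = g * x → x = 1) :
    ∃ a, e * sS k U = sS k U * a * sS k U := by
  letI := Fintype.ofFinite U
  letI : MulAction U G := MulAction.compHom G ((MulAut.conj (G := G)).comp U.subtype)
  have hs : ∀ (γ : U) (g : G), γ • g = γ * g * (γ : G)⁻¹ := fun _ _ => rfl
  obtain ⟨a, ha⟩ := exists_orbit_section (Γ := U) (fun g => e.coeff g)
    (fun γ x => he γ γ.2 x)
    (fun x hx γ h => Subtype.ext (hfree x hx γ γ.2 (by
      rw [hs] at h
      exact mul_inv_eq_iff_eq_mul.1 h)))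
  have h1 : e = ∑ γ : U, of k G γ * ofFun a * of k G (γ : G)⁻¹ := galg_ext fun g => by
    rw [ha, coeff_sum_apply]
    exact Fintype.sum_equiv (Equiv.inv U) _ _ fun γ => by
      rw [coeff_of_mul_mul_of, coeff_ofFun, hs]; simp
  refine ⟨ofFun a, ?_⟩
  conv_lhs => rw [h1]
  rw [Finset.sum_mul, Finset.sum_congr rfl fun γ _ => by
    rw [mul_assoc, of_mul_sS (inv_mem γ.2)], ← Finset.sum_mul, ← Finset.sum_mul, ← sS_eq]

variable {p : ℕ} [Fact p.Prime]

theorem natCast_card_eq_zero (hk : (p : k) = 0) {Q : Subgroup G} (hQ : IsPGroup p Q)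
    (h : Q ≠ ⊥) : (Nat.card Q : k) = 0 := by
  obtain ⟨n, hn⟩ := IsPGroup.iff_card.1 hQ
  rcases n with _ | n
  · exact absurd (Subgroup.eq_bot_of_card_eq _ (by simpa using hn)) h
  · rw [hn, pow_succ, Nat.cast_mul, hk, mul_zero]

theorem sS_mul_of_mul_sS_eq_zero (hk : (p : k) = 0) {U : Subgroup G} (hU : IsPGroup p U) {g x : G}
    (hx : x ∈ U) (h1 : x ≠ 1) (hg : g * x * g⁻¹ ∈ U) : sS k U * of k G g * sS k U = 0 := by
  let Q : Subgroup G := U ⊓ U.comap (MulAut.conj g).toMonoidHom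
  obtain ⟨a, ha⟩ := exists_eq_sS_mul (k := k) (Q := Q) (f := sS k U) fun y hy => of_mul_sS hy.1
  have h2 : sS k U * of k G g * sS k Q = 0 := by
    letI := Fintype.ofFinite Q
    have : ∀ y : Q, sS k U * of k G g * of k G y = sS k U * of k G g := fun y => by
      have e : g * y = (g * y * g⁻¹) * g := by simp
      have hy : g * y * g⁻¹ ∈ U := y.2.2
      rw [mul_assoc, ← map_mul, e, map_mul, ← mul_assoc, sS_mul_of hy]
    rw [sS_eq Q, Finset.mul_sum, Finset.sum_congr rfl fun y _ => this y, Finset.sum_const,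
      ← Nat.cast_smul_eq_nsmul k, Finset.card_univ, ← Nat.card_eq_fintype_card,
      natCast_card_eq_zero hk (hU.to_le inf_le_left) fun e => h1 ?_, zero_smul]
    have : x ∈ U ⊓ U.comap (MulAut.conj g).toMonoidHom := ⟨hx, hg⟩
    rwa [e, Subgroup.mem_bot] at this
  conv_lhs => enter [2]; rw [ha]
  rw [← mul_assoc, h2, zero_mul]

theorem mul_sS_ne_zero (hk : (p : k) = 0) {U : Subgroup G} (hU : IsPGroup p U) {e : k[G]}
    (hc : e ∈ Subalgebra.center k k[G]) (he : e * e = e) (h0 : e ≠ 0) : e * sS k U ≠ 0 := by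
  letI : DistribMulAction U k[G] :=
    DistribMulAction.compHom k[G] ((of k G).comp U.subtype)
  have hs : ∀ (γ : U) (a : k[G]), γ • a = of k G γ * a := fun _ _ => rfl
  let W : AddSubgroup k[G] :=
    { carrier := {a | e * a = a}
      add_mem' := fun {a b} ha hb => by
        change e * (a + b) = a + b
        rw [mul_add, ha, hb]
      zero_mem' := mul_zero e
      neg_mem' := fun {a} ha => by
        change e * -a = -a
        rw [mul_neg, ha] }
  obtain ⟨v, hv, hv0, hfix⟩ := MinDim.exists_fixed_vec (R := U) (V := k[G]) hU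
    (fun v => by rw [← Nat.cast_smul_eq_nsmul k, hk, zero_smul]) W
    (fun γ a ha => by
      change e * (of k G γ * a) = of k G γ * a
      have ha' : e * a = a := ha
      rw [← mul_assoc, (commute_of_mem_center hc _).eq, mul_assoc, ha'])
    (w := e) he h0
  obtain ⟨a, rfl⟩ := exists_eq_sS_mul (Q := U) (f := v) fun x hx => hfix ⟨x, hx⟩
  intro h
  have hv' : e * (sS k U * a) = sS k U * a := hv
  rw [← mul_assoc, h, zero_mul] at hv'
  exact hv0 hv'.symm

/-- The rank one step. -/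
theorem rank_one_step (hk : (p : k) = 0) {U X Y : Subgroup G} (hU : IsPGroup p U) (hX : X ≤ U)
    (hX0 : X ≠ ⊥) {h : G} (hh : h ∈ normalizer (U : Set G)) (σ : Y ≃ Y) (hσ1 : σ 1 = 1)
    (hσ : ∀ y : Y, y ≠ 1 → ∃ a ∈ U, ∃ b ∈ X, h * y = a * σ y * b) :
    sS k U * of k G h * sS k Y * sS k X = sS k U * sS k Y * sS k X := by
  letI := Fintype.ofFinite Y
  have h0 : sS k U * sS k X = 0 := by
    rw [sS_mul_sS_of_ge hX, natCast_card_eq_zero hk (hU.to_le hX) hX0, zero_smul]
  rw [sS_eq Y, Finset.mul_sum, Finset.mul_sum, Finset.sum_mul, Finset.sum_mul]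
  refine Fintype.sum_equiv σ _ _ fun y => ?_
  by_cases hy : y = 1
  · subst hy
    rw [hσ1, OneMemClass.coe_one, map_one, mul_one, mul_one, h0, ← of_mul_sS_of_norm hh, mul_assoc,
      h0, mul_zero]
  · obtain ⟨a, ha, b, hb, e⟩ := hσ y hy
    rw [mul_assoc (sS k U), ← map_mul, e, map_mul, map_mul, ← mul_assoc, ← mul_assoc,
      sS_mul_of ha, mul_assoc _ (of k G b), of_mul_sS hb]

/-- The data attached to one simple root, for an element `h` of the torus. -/
def Good (U V : Subgroup G) (h : G) : Prop :=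
  h ∈ normalizer (U : Set G) ∧ ∃ X R Y S : Subgroup G, X ≤ U ∧ R ≤ U ∧ Y ≤ V ∧ S ≤ V ∧ X ≠ ⊥ ∧
    (∀ g ∈ X, g ∈ R → g = 1) ∧ (∀ g ∈ U, ∃ x ∈ X, ∃ r ∈ R, g = x * r) ∧
    (∀ g ∈ Y, g ∈ S → g = 1) ∧ (∀ g ∈ V, ∃ y ∈ Y, ∃ s ∈ S, g = y * s) ∧
    X ≤ normalizer (S : Set G) ∧ ∃ σ : Y ≃ Y, σ 1 = 1 ∧
      ∀ y : Y, y ≠ 1 → ∃ a ∈ U, ∃ b ∈ X, h * y = a * σ y * b

theorem Good_eq_1' : type_of% @Good.eq_1 := @Good.eq_1

theorem Good.mul_eq (hk : (p : k) = 0) {U V : Subgroup G} (hU : IsPGroup p U) {h : G}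
    (hh : Good U V h) :
    of k G h * (sS k U * sS k V * sS k U) = sS k U * sS k V * sS k U := by
  obtain ⟨hn, X, R, Y, S, hX, hR, hY, hS, hX0, d1, f1, d2, f2, hXS, σ, hσ1, hσ⟩ := hh
  have e1 : sS k V * sS k U = sS k Y * sS k X * (sS k S * sS k R) := by
    rw [sS_eq_mul hX hR d1 f1, sS_eq_mul hY hS d2 f2, mul_assoc, mul_assoc, ← mul_assoc (sS k S),
      ← sS_comm hXS, mul_assoc]
  rw [mul_assoc, e1, ← mul_assoc, of_mul_sS_of_norm hn, ← mul_assoc, ← mul_assoc, ← mul_assoc,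
    rank_one_step hk hU hX hX0 hn σ hσ1 hσ]
  simp only [mul_assoc]

theorem mul_eq_of_mem_closure {T : k[G]} {A : Set G} (hA : ∀ h ∈ A, of k G h * T = T) {h : G}
    (hh : h ∈ closure A) : of k G h * T = T := by
  induction hh using closure_induction with
  | mem x hx => exact hA x hx
  | one => rw [map_one, one_mul]
  | mul x y _ _ hx hy => rw [map_mul, mul_assoc, hy, hx]
  | inv x _ hx =>
    conv_lhs => rw [← hx]
    rw [← mul_assoc, ← map_mul, inv_mul_cancel, map_one, one_mul]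

theorem exists_eq_smul (hk : (p : k) = 0) {U V H : Subgroup G} (hU : IsPGroup p U) {n : G}
    (hV : ∀ x, x ∈ U ↔ n * x * n⁻¹ ∈ V) (hH : H ≤ normalizer (U : Set G))
    (hnH : ∀ h ∈ H, n * h * n⁻¹ ∈ H) (hn : n * n ∈ normalizer (U : Set G))
    (hbig : ∀ g, (∃ x ∈ U, x ≠ 1 ∧ g * x * g⁻¹ ∈ U) ∨
      ∃ a ∈ U, ∃ h ∈ H, ∃ b ∈ U, g = a * h * n * b)
    (hgen : H ≤ closure {h | Good U V h}) (g g' : G) :
    ∃ c : k, sS k U * of k G g * sS k U * of k G g' * sS k U =
      c • (sS k U * sS k V * sS k U * of k G (n * n)) := by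
  rcases hbig g with ⟨x, hx, h1, hg⟩ | ⟨a, ha, h, hh, b, hb, rfl⟩
  · exact ⟨0, by rw [sS_mul_of_mul_sS_eq_zero hk hU hx h1 hg]; simp⟩
  rcases hbig g' with ⟨x, hx, h1, hg⟩ | ⟨a', ha', h', hh', b', hb', rfl⟩
  · refine ⟨0, ?_⟩
    rw [mul_assoc _ (sS k U), mul_assoc _ (sS k U * _), sS_mul_of_mul_sS_eq_zero hk hU hx h1 hg]
    simp
  refine ⟨1, ?_⟩
  have hT := mul_eq_of_mem_closure (k := k) (fun h hh => Good.mul_eq hk hU hh)
    (hgen (mul_mem hh (hnH h' hh')))
  have e1 : ∀ {a h b : G}, a ∈ U → h ∈ H → b ∈ U → ∀ z : k[G],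
      sS k U * (of k G (a * h * n * b) * (sS k U * z)) =
        of k G h * (sS k U * (of k G n * (sS k U * z))) := fun {a h b} ha hh hb z => by
    simp only [map_mul, ← mul_assoc]
    rw [sS_mul_of ha, of_mul_sS_of_norm (hH hh), mul_assoc _ (of k G b), of_mul_sS hb]
  have e2 := e1 ha' hh' hb' 1
  simp only [mul_one] at e2
  have e3 : of k G n * of k G h' = of k G (n * h' * n⁻¹) * of k G n := by
    rw [← map_mul, ← map_mul]; simp
  have e4 : ∀ z : k[G], of k G n * (sS k U * z) = sS k V * (of k G n * z) := fun z => by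
    rw [← mul_assoc, of_mul_sS_of_conj hV, mul_assoc]
  have e5 : of k G n * (of k G n * sS k U) = sS k U * of k G (n * n) := by
    rw [← mul_assoc, ← map_mul, of_mul_sS_of_norm hn]
  have e6 : ∀ z : k[G], sS k U * (of k G (n * h' * n⁻¹) * z) =
      of k G (n * h' * n⁻¹) * (sS k U * z) := fun z => by
    rw [← mul_assoc, ← of_mul_sS_of_norm (hH (hnH h' hh')), mul_assoc]
  simp only [mul_assoc, one_smul] at hT ⊢
  rw [← mul_assoc a, ← mul_assoc (a * h), e1 ha hh hb, ← mul_assoc a', ← mul_assoc (a' * h'), e2,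
    ← mul_assoc (of k G n), e3, mul_assoc, e6, e4, ← mul_assoc (of k G h), ← map_mul, e5]
  have := congrArg (· * of k G (n * n)) hT
  simpa only [mul_assoc] using this

end alg

variable {G : Type*} [Group G] [Finite G] {M : Ideal AlgInt} {p : ℕ} [Fact p.Prime]

/-- At most one block of defect zero: the abstract criterion. -/
theorem eq_of_defect_zero (hM : IsPModular p M) {U : Subgroup G} (hU : IsPGroup p U)
    (T : (kM M)[G]) (hT : ∀ g g' : G, ∃ c : kM M,
      sS (kM M) U * of _ G g * sS (kM M) U * of _ G g' * sS (kM M) U = c • T)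
    {B B' : Set (IrrCharacter G)} (hB : IsPBlock M B) (hB' : IsPBlock M B')
    (h0 : blockDefect p B = 0) (h0' : blockDefect p B' = 0) : B = B' := by
  haveI := charP_kM hM
  have hk : (p : kM M) = 0 := CharP.cast_eq_zero _ p
  letI := Fintype.ofFinite G
  have hT' : ∀ a b : (kM M)[G], ∃ c : kM M,
      sS (kM M) U * a * sS (kM M) U * b * sS (kM M) U = c • T := fun a b => by
    choose c hc using hT
    refine ⟨∑ g, ∑ g', a.coeff g * b.coeff g' * c g g', ?_⟩
    conv_lhs => rw [eq_sum_smul_single a, eq_sum_smul_single b]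
    simp only [Finset.mul_sum, Finset.sum_mul, Finset.sum_smul, mul_smul_comm, smul_mul_assoc,
      Finset.smul_sum]
    rw [Finset.sum_comm]
    refine Finset.sum_congr rfl fun g _ => Finset.sum_congr rfl fun g' _ => ?_
    have := hc g g'
    simp only [of_apply] at this
    rw [this, smul_smul, smul_smul, mul_comm (b.coeff g')]
  have key : ∀ {C : Set (IrrCharacter G)}, IsPBlock M C → blockDefect p C = 0 →
      ∃ c : kM M, c ≠ 0 ∧ eB M C * sS (kM M) U = c • T := fun {C} hC hC0 => by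
    obtain ⟨a, ha⟩ := exists_mul_sS_eq (U := U) (isFixedBy_of_mem_center (eB_mem_center C) U)
      fun g hg x hx e => by
        have h1 := factorization_card_centralizer_le_of_coeff_eB hM hC hg
        rw [hC0, Nat.le_zero] at h1
        have h2 : ¬ p ∣ Nat.card (centralizer ({g} : Set G)) := fun h =>
          (Nat.Prime.factorization_pos_of_dvd Fact.out Nat.card_pos.ne' h).ne' h1
        obtain ⟨j, hj⟩ := IsPGroup.iff_orderOf.1 hU ⟨x, hx⟩
        rw [Subgroup.orderOf_mk] at hj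
        rcases j with _ | j
        · simpa using hj
        · refine absurd (Dvd.dvd.trans ?_ (Subgroup.orderOf_dvd_natCard _
            (mem_centralizer_singleton_iff.2 e))) h2
          rw [hj]; exact dvd_pow_self p j.succ_ne_zero
    obtain ⟨c, hc⟩ := hT' a a
    have e : eB M C * sS (kM M) U = c • T := by
      rw [← hc, ← ha, mul_assoc (eB M C), mul_assoc (eB M C), ← ha, ← mul_assoc, eB_mul_self hM hC]
    refine ⟨c, fun h => ?_, e⟩
    rw [h, zero_smul] at e
    exact mul_sS_ne_zero hk hU (eB_mem_center C) (eB_mul_self hM hC) (eB_ne_zero hM hC) e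
  by_contra hne
  obtain ⟨c, hc0, hc⟩ := key hB h0
  obtain ⟨c', -, hc'⟩ := key hB' h0'
  refine mul_sS_ne_zero hk hU (eB_mem_center B') (eB_mul_self hM hB') (eB_ne_zero hM hB') ?_
  have e : eB M B' * sS (kM M) U = (c' * c⁻¹) • (eB M B * sS (kM M) U) := by
    rw [hc, hc', smul_smul, inv_mul_cancel_right₀ hc0]
  rw [← eB_mul_self hM hB', mul_assoc, e, mul_smul_comm, ← mul_assoc,
    eB_mul_eB_of_ne hM hB' hB (Ne.symm hne), zero_mul, smul_zero]

/-- At most one block of defect zero in a group with a suitable split `(B,N)`-pair. -/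
theorem eq_of_defect_zero_of_good (hM : IsPModular p M) {U V H : Subgroup G} (hU : IsPGroup p U)
    {n : G} (hV : ∀ x, x ∈ U ↔ n * x * n⁻¹ ∈ V) (hH : H ≤ normalizer (U : Set G))
    (hnH : ∀ h ∈ H, n * h * n⁻¹ ∈ H) (hn : n * n ∈ normalizer (U : Set G))
    (hbig : ∀ g, (∃ x ∈ U, x ≠ 1 ∧ g * x * g⁻¹ ∈ U) ∨
      ∃ a ∈ U, ∃ h ∈ H, ∃ b ∈ U, g = a * h * n * b)
    (hgen : H ≤ closure {h | Good U V h})
    {B B' : Set (IrrCharacter G)} (hB : IsPBlock M B) (hB' : IsPBlock M B')
    (h0 : blockDefect p B = 0) (h0' : blockDefect p B' = 0) : B = B' :=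
  haveI := charP_kM hM
  eq_of_defect_zero hM hU _
    (exists_eq_smul (CharP.cast_eq_zero _ p) hU hV hH hnH hn hbig hgen) hB hB' h0 h0'

end Cfsg.Lib.Block.DZ
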