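import Cfsg.Agent.Block.F3Mod
import Cfsg.Agent.Recog.X32Gen

/-!
# Generators of an affine subgroup `3²:GL₂(3)`
-/

set_option autoImplicit false

namespace Cfsg.Lib.Block.F3

open Subgroup

universe u

variable {G : Type u} [Group G]

/-- An affine subgroup with its translation group. -/
structure Side (P V : Subgroup G) : Prop where
  le : V ≤ P
  norm : ∀ g ∈ P, ∀ v ∈ V, g * v * g⁻¹ ∈ V
  comm : ∀ v ∈ V, ∀ w ∈ V, v * w = w * v
  cube : ∀ v ∈ V, v * v * v = 1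
  cardV : Nat.card V = 9
  cardP : Nat.card P = 432
  cent : ∀ g ∈ P, (∀ v ∈ V, g * v = v * g) → g ∈ V

theorem mem_zpowers_three {z v : G} (h : z * z * z = 1) :
    v ∈ zpowers z ↔ v = 1 ∨ v = z ∨ v = z⁻¹ := by
  have zi : z⁻¹ = z * z := inv_eq_of_mul_eq_one_left h
  refine ⟨fun ⟨k, hk⟩ => ?_, by rintro (rfl | rfl | rfl) <;> simp⟩
  have h3 : z ^ (3 : ℤ) = 1 := by rw [← h, zpow_ofNat, pow_three']
  have : k % 3 = 0 ∨ k % 3 = 1 ∨ k % 3 = 2 := by omega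
  simp only at hk
  rw [← hk, zpow_eq_zpow_emod k h3]
  rcases this with e | e | e <;> rw [e]
  · simp
  · simp
  · right; right; rw [zi, zpow_two]

theorem card_zpowers_three {z : G} (h : z * z * z = 1) (h1 : z ≠ 1) : Nat.card (zpowers z) = 3 := by
  have : Fact (Nat.Prime 3) := ⟨by norm_num⟩
  rw [Nat.card_zpowers]
  exact orderOf_eq_prime (by rw [← h, pow_three']) h1

namespace Side

variable {P V : Subgroup G} (h : Side P V)
include h

theorem fin : Finite V := Nat.finite_of_card_ne_zero (by rw [h.cardV]; omega)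

theorem eq_one_of_inv {v : G} (hv : v ∈ V) (e : v⁻¹ = v) : v = 1 := by
  have := h.cube v hv
  rw [mul_eq_one_iff_eq_inv.2 e.symm, one_mul] at this
  exact this

section

variable {a z : G} (ha : a ∈ V) (hz : z ∈ V) (z1 : z ≠ 1) (az : a ∉ zpowers z)
include ha hz z1 az

theorem span {v : G} (hv : v ∈ V) : ∃ x ∈ zpowers a, ∃ y ∈ zpowers z, x * y = v := by
  have := h.fin
  let K : Subgroup G :=
    { carrier := {v | ∃ x ∈ zpowers a, ∃ y ∈ zpowers z, x * y = v}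
      one_mem' := ⟨1, one_mem _, 1, one_mem _, mul_one _⟩
      mul_mem' := by
        rintro _ _ ⟨x, hx, y, hy, rfl⟩ ⟨x', hx', y', hy', rfl⟩
        refine ⟨x * x', mul_mem hx hx', y * y', mul_mem hy hy', ?_⟩
        rw [mul_assoc, mul_assoc, ← mul_assoc x', ← mul_assoc y,
          h.comm y (zpowers_le.2 hz hy) x' (zpowers_le.2 ha hx')]
      inv_mem' := by
        rintro _ ⟨x, hx, y, hy, rfl⟩
        refine ⟨x⁻¹, inv_mem hx, y⁻¹, inv_mem hy, ?_⟩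
        rw [← mul_inv_rev, h.comm y (zpowers_le.2 hz hy) x (zpowers_le.2 ha hx)] }
  have hK : K ≤ V := by
    rintro _ ⟨x, hx, y, hy, rfl⟩
    exact mul_mem (zpowers_le.2 ha hx) (zpowers_le.2 hz hy)
  have hZ : zpowers z ≤ K := fun y hy => ⟨1, one_mem _, y, hy, one_mul _⟩
  have : Finite K := Finite.of_injective _ (inclusion_injective hK)
  have c3 := card_zpowers_three (h.cube z hz) z1
  have d1 : Nat.card K ∣ 3 ^ 2 := (card_dvd_of_le hK).trans (h.cardV ▸ dvd_rfl)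
  have d2 := c3 ▸ card_dvd_of_le hZ
  have d3 : Nat.card K ≠ 3 := fun e => az (eq_of_le_of_card_ge hZ (by omega) ▸
    (⟨a, mem_zpowers a, 1, one_mem _, mul_one _⟩ : a ∈ K))
  obtain ⟨i, hi, e⟩ := (Nat.dvd_prime_pow Nat.prime_three).1 d1
  have : K = V := eq_of_le_of_card_ge hK (by
    rw [h.cardV]; interval_cases i <;> omega)
  exact (this ▸ hv : v ∈ K)

theorem mem_of_comm {g : G} (hg : g ∈ P) (e1 : g * a * g⁻¹ = a) (e2 : g * z * g⁻¹ = z) : g ∈ V :=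
  h.cent g hg fun v hv => by
    obtain ⟨x, hx, y, hy, rfl⟩ := h.span ha hz z1 az hv
    have c1 : Commute g a := mul_inv_eq_iff_eq_mul.1 e1
    have c2 : Commute g z := mul_inv_eq_iff_eq_mul.1 e2
    obtain ⟨i, rfl⟩ := hx
    obtain ⟨j, rfl⟩ := hy
    exact ((c1.zpow_right i).mul_right (c2.zpow_right j)).eq

theorem trans {a' z' : G} (ha' : a' ∈ V) (hz' : z' ∈ V) (z1' : z' ≠ 1) (az' : a' ∉ zpowers z') :
    ∃ g ∈ P, g * a * g⁻¹ = a' ∧ g * z * g⁻¹ = z' := by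
  have := h.fin
  have e1 := X32.ncard_conj_mul P z
  have e2 := X32.ncard_conj_mul (P ⊓ centralizer {z}) a
  have l1 : {y : G | ∃ b ∈ P, b * z * b⁻¹ = y} ⊆ (V : Set G) \ {1} := by
    rintro _ ⟨g, hg, rfl⟩
    exact ⟨h.norm g hg z hz, by simpa using z1⟩
  have l2 : {y : G | ∃ b ∈ P ⊓ centralizer {z}, b * a * b⁻¹ = y} ⊆ (V : Set G) \ zpowers z := by
    rintro _ ⟨g, hg, rfl⟩
    refine ⟨h.norm g hg.1 a ha, fun ⟨k, hk⟩ => az ⟨k, ?_⟩⟩
    have c : Commute g z := mem_centralizer_singleton_iff.1 hg.2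
    simp only at hk ⊢
    rw [eq_mul_inv_iff_mul_eq, ← (c.zpow_right k).eq] at hk
    exact mul_left_cancel hk
  have l3 : Nat.card (P ⊓ centralizer {z} ⊓ centralizer {a} : Subgroup G) ≤ 9 :=
    h.cardV ▸ card_le_of_le fun g hg => h.mem_of_comm ha hz z1 az hg.1.1
      (mul_inv_eq_iff_eq_mul.2 (mem_centralizer_singleton_iff.1 hg.2))
      (mul_inv_eq_iff_eq_mul.2 (mem_centralizer_singleton_iff.1 hg.1.2))
  have hV : (V : Set G).ncard = 9 := h.cardV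
  have fV : (V : Set G).Finite := Set.toFinite _
  have c1 : ((V : Set G) \ {1}).ncard = 8 := by
    rw [Set.ncard_sdiff_singleton_of_mem (one_mem V), hV]
  have c2 : ((V : Set G) \ zpowers z).ncard = 6 := by
    rw [Set.ncard_sdiff (zpowers_le.2 hz) (fV.subset (zpowers_le.2 hz)), hV]
    exact congrArg (9 - ·) (card_zpowers_three (h.cube z hz) z1)
  have n1 := c1 ▸ Set.ncard_le_ncard l1 fV.sdiff
  have n2 := c2 ▸ Set.ncard_le_ncard l2 fV.sdiff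
  rw [h.cardP, e2] at e1
  have m1 := Set.eq_of_subset_of_ncard_le l1 (by rw [c1]; nlinarith [Nat.mul_le_mul n2 l3]) fV.sdiff
  have m2 := Set.eq_of_subset_of_ncard_le l2 (by
    rw [c2]; by_contra hc
    nlinarith [Nat.mul_le_mul (Nat.le_of_lt_succ (not_le.1 hc)) l3]) fV.sdiff
  obtain ⟨g, hg, e⟩ : z' ∈ {y : G | ∃ b ∈ P, b * z * b⁻¹ = y} := m1 ▸ ⟨hz', z1'⟩
  obtain ⟨k, hk, e'⟩ : g⁻¹ * a' * g ∈ {y : G | ∃ b ∈ P ⊓ centralizer {z}, b * a * b⁻¹ = y} := by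
    rw [m2]
    refine ⟨by simpa using h.norm g⁻¹ (inv_mem hg) a' ha', fun ⟨i, hi⟩ => az' ⟨i, ?_⟩⟩
    simp only at hi ⊢
    rw [← e, conj_zpow, hi]; group
  refine ⟨g * k, mul_mem hg hk.1, ?_, ?_⟩
  · rw [show g * k * a * (g * k)⁻¹ = g * (k * a * k⁻¹) * g⁻¹ by group, e']; group
  · rw [show g * k * z * (g * k)⁻¹ = g * (k * z) * k⁻¹ * g⁻¹ by group,
      mem_centralizer_singleton_iff.1 hk.2, ← e]; group

end

theorem exists_pair {z : G} (hz : z ∈ V) (z1 : z ≠ 1) : ∃ a ∈ V, a ∉ zpowers z := by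
  by_contra hc
  push Not at hc
  have := h.fin
  have := card_zpowers_three (h.cube z hz) z1
  have : Finite (zpowers z) := Nat.finite_of_card_ne_zero (by omega)
  have := card_le_of_le (show V ≤ zpowers z from hc)
  have := h.cardV
  omega

theorem sq_of_inverts {t : G} (ht : t ∈ P) (hi : ∀ v ∈ V, t * v * t⁻¹ = v⁻¹) : t * t = 1 := by
  have m : t * t ∈ V := h.cent _ (mul_mem ht ht) fun v hv => by
    rw [← mul_inv_eq_iff_eq_mul, show t * t * v * (t * t)⁻¹ = t * (t * v * t⁻¹) * t⁻¹ by group, hi v hv,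
      hi _ (inv_mem hv), inv_inv]
  exact h.eq_one_of_inv m ((hi _ m).symm.trans (by group))

theorem exists_inverts {z : G} (hz : z ∈ V) (z1 : z ≠ 1) :
    ∃ t ∈ P, ∀ v ∈ V, t * v * t⁻¹ = v⁻¹ := by
  obtain ⟨a, ha, az⟩ := h.exists_pair hz z1
  obtain ⟨t, ht, e1, e2⟩ := h.trans ha hz z1 az (inv_mem ha) (inv_mem hz) (by simpa using z1)
    (by simpa using az)
  refine ⟨t, ht, fun v hv => ?_⟩
  obtain ⟨_, ⟨i, rfl⟩, _, ⟨j, rfl⟩, rfl⟩ := h.span ha hz z1 az hv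
  simp only
  rw [← conj_mul, ← conj_zpow, ← conj_zpow, e1, e2, h.comm _ (zpow_mem ha i) _ (zpow_mem hz j)]
  rw [h.comm _ (zpow_mem (inv_mem ha) i) _ (zpow_mem (inv_mem hz) j), mul_inv_rev, inv_zpow, inv_zpow,
    h.comm _ (inv_mem (zpow_mem ha i)) _ (inv_mem (zpow_mem hz j))]

end Side

/-- Two affine subgroups. -/
structure Amal (A B V W : Subgroup G) : Prop where
  sA : Side A V
  sB : Side B W
  VB : V ≤ B
  WA : W ≤ A
  card : Nat.card (V ⊓ W : Subgroup G) = 3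
  norm : ∀ g, (∀ v ∈ V ⊓ W, g * v * g⁻¹ ∈ V ⊓ W) → g ∈ A ∧ g ∈ B

namespace Amal

variable {A B V W : Subgroup G} (h : Amal A B V W)
include h

theorem symm : Amal B A W V :=
  ⟨h.sB, h.sA, h.WA, h.VB, inf_comm V W ▸ h.card, fun g hg => (h.norm g (inf_comm V W ▸ hg)).symm⟩

theorem exists_z : ∃ z ∈ V ⊓ W, z ≠ 1 := by
  by_contra hc
  push Not at hc
  have := h.card
  rw [(eq_bot_iff_forall _).2 hc, card_bot] at this
  omega

theorem exists_not : ∃ a ∈ V, a ∉ W := by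
  by_contra hc
  push Not at hc
  have := h.card
  rw [inf_eq_left.2 (show V ≤ W from hc), h.sA.cardV] at this
  omega

theorem eq_zpowers {z : G} (hz : z ∈ V ⊓ W) (z1 : z ≠ 1) : zpowers z = V ⊓ W := by
  have : Finite (V ⊓ W : Subgroup G) := Nat.finite_of_card_ne_zero (by rw [h.card]; omega)
  exact eq_of_le_of_card_ge (zpowers_le.2 hz)
    (by rw [h.card, card_zpowers_three (h.sA.cube z hz.1) z1])

variable {a b : G} (aV : a ∈ V) (aW : a ∉ W) (bW : b ∈ W) (bV : b ∉ V)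

include aV bW in
theorem z_mem : a * b * a⁻¹ * b⁻¹ ∈ V ⊓ W :=
  mem_inf.2 ⟨by simpa only [mul_assoc] using mul_mem aV (h.sA.norm b (h.WA bW) _ (inv_mem aV)),
    mul_mem (h.sB.norm a (h.VB aV) b bW) (inv_mem bW)⟩

include aV aW bW bV in
theorem z_ne : a * b * a⁻¹ * b⁻¹ ≠ 1 := fun e => by
  obtain ⟨z, hz, z1⟩ := h.exists_z
  refine bV (h.sA.mem_of_comm aV hz.1 z1 (fun m => aW (h.eq_zpowers hz z1 ▸ m : a ∈ V ⊓ W).2)
    (h.WA bW) ?_ (by rw [h.sB.comm b bW z hz.2]; group))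
  rw [mul_inv_eq_one, mul_inv_eq_iff_eq_mul] at e
  rw [← e]; group

theorem exists_inverts : ∃ t ∈ A, t ∈ B ∧ ∀ v ∈ V, t * v * t⁻¹ = v⁻¹ := by
  obtain ⟨z, hz, z1⟩ := h.exists_z
  obtain ⟨t, ht, hi⟩ := h.sA.exists_inverts hz.1 z1
  exact ⟨t, ht, (h.norm t fun v hv => hi v hv.1 ▸ inv_mem hv).2, hi⟩

theorem comm_mem' {t u : G} (tA : t ∈ A) (uA : u ∈ A) (ti : ∀ v ∈ V, t * v * t⁻¹ = v⁻¹) :
    t * u * t⁻¹ * u⁻¹ ∈ V :=
  h.sA.cent _ (mul_mem (mul_mem (mul_mem tA uA) (inv_mem tA)) (inv_mem uA)) fun v hv => by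
    have m := h.sA.norm _ (inv_mem uA) v hv
    have e := (ti _ (inv_mem m)).trans (inv_inv _)
    have e' := (ti _ (inv_mem hv)).trans (inv_inv _)
    rw [← mul_inv_eq_iff_eq_mul, show t * u * t⁻¹ * u⁻¹ * v * (t * u * t⁻¹ * u⁻¹)⁻¹ =
      t * u * t⁻¹ * (u⁻¹ * v * u⁻¹⁻¹) * (t * u * t⁻¹)⁻¹ by group, ← e]
    conv_rhs => rw [← e']
    group

theorem exists_fix {u : G} (uA : u ∈ A) (uB : u ∈ B) (ui : ∀ w ∈ W, u * w * u⁻¹ = w⁻¹) :
    ∃ a ∈ V, a ∉ W ∧ u * a = a * u := by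
  obtain ⟨v, vV, vW⟩ := h.exists_not
  obtain ⟨w, wW, wV⟩ := h.symm.exists_not
  have u2 := h.sB.sq_of_inverts uB ui
  have m := h.sA.norm u uA v vV
  have e : u * (v * (u * v * u⁻¹)) * u⁻¹ = v * (u * v * u⁻¹) := by
    rw [h.sA.comm v vV _ m, show u * (u * v * u⁻¹ * v) * u⁻¹ = u * u * v * (u * u)⁻¹ * (u * v * u⁻¹) by group,
      u2, h.sA.comm _ m v vV]; group
  refine ⟨v * (u * v * u⁻¹), mul_mem vV m, fun hW => ?_, mul_inv_eq_iff_eq_mul.1 e⟩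
  have e1 := eq_inv_of_mul_eq_one_right (h.sB.eq_one_of_inv hW ((ui _ hW).symm.trans e))
  have c := h.z_mem vV wW
  refine h.z_ne vV vW wW wV (h.sB.eq_one_of_inv c.2 ?_)
  rw [← ui _ c.2, show u * (v * w * v⁻¹ * w⁻¹) * u⁻¹ =
    u * v * u⁻¹ * (u * w * u⁻¹) * (u * v * u⁻¹)⁻¹ * (u * w * u⁻¹)⁻¹ by group, e1, ui w wW,
    show v⁻¹ * w⁻¹ * v⁻¹⁻¹ * w⁻¹⁻¹ = v⁻¹ * (w⁻¹ * (v * w * v⁻¹ * w⁻¹)) * w * v by group,
    h.sB.comm _ (inv_mem wW) _ c.2, ← mul_assoc, h.sA.comm _ (inv_mem vV) _ c.1]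
  group

end Amal

/-- Two affine subgroups with generators of their intersection. -/
structure Frame (A B V W : Subgroup G) (a b t u : G) : Prop extends Amal A B V W where
  tA : t ∈ A
  tB : t ∈ B
  uA : u ∈ A
  uB : u ∈ B
  ti : ∀ v ∈ V, t * v * t⁻¹ = v⁻¹
  ui : ∀ w ∈ W, u * w * u⁻¹ = w⁻¹
  tu : t * u = u * t
  aV : a ∈ V
  aW : a ∉ W
  bW : b ∈ W
  bV : b ∉ V
  ua : u * a = a * u
  tb : t * b = b * t

theorem Amal.exists_frame {A B V W : Subgroup G} (h : Amal A B V W) :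
    ∃ a b t u, Frame A B V W a b t u := by
  obtain ⟨t, tA, tB, ti⟩ := h.exists_inverts
  obtain ⟨u, uB, uA, ui⟩ := h.symm.exists_inverts
  have m1 := h.comm_mem' tA uA ti
  have m2 : t * u * t⁻¹ * u⁻¹ ∈ W := by
    simpa only [mul_inv_rev, inv_inv, mul_assoc] using inv_mem (h.symm.comm_mem' uB tB ui)
  obtain ⟨w, hw⟩ : ∃ w, w = t * u * t⁻¹ * u⁻¹ := ⟨_, rfl⟩
  rw [← hw] at m1 m2
  have ui' : ∀ x ∈ W, w⁻¹ * u * x * (w⁻¹ * u)⁻¹ = x⁻¹ := fun x hx => by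
    rw [show w⁻¹ * u * x * (w⁻¹ * u)⁻¹ = w⁻¹ * (u * x * u⁻¹) * w by group, ui x hx,
      h.sB.comm _ (inv_mem m2) _ (inv_mem hx)]; group
  have uA' := mul_mem (inv_mem (h.sA.le m1)) uA
  have uB' := mul_mem (inv_mem (h.sB.le m2)) uB
  obtain ⟨a, aV, aW, ua⟩ := h.exists_fix uA' uB' ui'
  obtain ⟨b, bW, bV, tb⟩ := h.symm.exists_fix tB tA ti
  refine ⟨a, b, t, w⁻¹ * u, h, tA, tB, uA', uB', ti, ui', ?_, aV, aW, bW, bV, ua, tb⟩
  rw [show t * (w⁻¹ * u) = t * w⁻¹ * t⁻¹ * (t * u * t⁻¹ * u⁻¹) * u * t by group, ← hw,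
    ti _ (inv_mem m1), inv_inv, inv_eq_of_mul_eq_one_left (h.sA.cube w m1)]

namespace Frame

variable {A B V W : Subgroup G} {a b t u : G} (h : Frame A B V W a b t u)
include h

theorem symm : Frame B A W V b a u t :=
  ⟨h.toAmal.symm, h.uB, h.uA, h.tB, h.tA, h.ui, h.ti, h.tu.symm, h.bW, h.bV, h.aV, h.aW, h.tb, h.ua⟩

theorem t2 : t * t = 1 := h.sA.sq_of_inverts h.tA h.ti

theorem u2 : u * u = 1 := h.symm.t2

theorem t1 : t ≠ 1 := fun e => h.aW (by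
  rw [h.sA.eq_one_of_inv h.aV ((h.ti a h.aV).symm.trans (by rw [e]; group))]; exact one_mem _)

theorem tu1 : u ≠ t := fun e => h.aW (by
  rw [h.sA.eq_one_of_inv h.aV ((h.ti a h.aV).symm.trans (by rw [← e, h.ua]; group))]; exact one_mem _)

section

variable {z : G} (hz : z = a * b * a⁻¹ * b⁻¹)
include hz

theorem zV : z ∈ V := hz ▸ (h.z_mem h.aV h.bW).1
theorem zW : z ∈ W := hz ▸ (h.z_mem h.aV h.bW).2
theorem z1 : z ≠ 1 := hz ▸ h.z_ne h.aV h.aW h.bW h.bV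
theorem zeq : zpowers z = V ⊓ W := h.eq_zpowers ⟨h.zV hz, h.zW hz⟩ (h.z1 hz)
theorem az : a ∉ zpowers z := fun m => h.aW (h.zeq hz ▸ m : a ∈ V ⊓ W).2
theorem caz : Commute a z := h.sA.comm a h.aV z (h.zV hz)

theorem E_congr {i j k l : ℤ} (e1 : i % 3 = k % 3) (e2 : j % 3 = l % 3) :
    a ^ i * z ^ j = a ^ k * z ^ l := by
  have c : ∀ x ∈ V, x ^ (3 : ℤ) = 1 := fun x hx => by rw [← h.sA.cube x hx, zpow_ofNat, pow_three']
  rw [zpow_eq_zpow_emod i (c a h.aV), zpow_eq_zpow_emod j (c z (h.zV hz)), e1, e2,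
    ← zpow_eq_zpow_emod k (c a h.aV), ← zpow_eq_zpow_emod l (c z (h.zV hz))]

theorem E_inj {i j k l : ℤ} (e : a ^ i * z ^ j = a ^ k * z ^ l) : i % 3 = k % 3 ∧ j % 3 = l % 3 := by
  have : Fact (Nat.Prime 3) := ⟨by norm_num⟩
  have e' : a ^ (i - k) = z ^ (l - j) := by
    rw [show a ^ (i - k) = (a ^ k)⁻¹ * (a ^ i * z ^ j) * (z ^ j)⁻¹ by group, e]; group
  have e1 : (i - k) % 3 = 0 := by
    have m : a ^ (i - k) * z ^ (0 : ℤ) ∈ zpowers z := by simp [e']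
    by_contra hc
    rcases (by omega : (i - k) % 3 = 1 % 3 ∨ (i - k) % 3 = (-1) % 3) with e1 | e1 <;>
      rw [h.E_congr hz e1 rfl] at m <;> exact h.az hz (by simpa using m)
  have e2 : z ^ (l - j) = 1 := by
    simpa [e'] using h.E_congr hz (i := i - k) (j := 0) (k := 0) (l := 0) e1 rfl
  have o : orderOf z = 3 := orderOf_eq_prime (by rw [← h.sA.cube z (h.zV hz), pow_three']) (h.z1 hz)
  have := orderOf_dvd_iff_zpow_eq_one.2 e2
  rw [o] at this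
  omega

theorem E_surj {v : G} (hv : v ∈ V) : ∃ i j : ℤ, v = a ^ i * z ^ j := by
  obtain ⟨_, ⟨i, rfl⟩, _, ⟨j, rfl⟩, rfl⟩ := h.sA.span h.aV (h.zV hz) (h.z1 hz) (h.az hz) hv
  exact ⟨i, j, rfl⟩

theorem E_b (i j : ℤ) : MulAut.conj b (a ^ i * z ^ j) = a ^ i * z ^ (j - i) := by
  have c := h.caz hz
  have e1 : MulAut.conj b a = a * z⁻¹ := by
    rw [c.inv_right.eq, hz, MulAut.conj_apply]; group
  have e2 : MulAut.conj b z = z := by
    rw [MulAut.conj_apply, h.sB.comm b h.bW z (h.zW hz)]; group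
  rw [map_mul, map_zpow, map_zpow, e1, e2, c.inv_right.mul_zpow]; group

theorem E_t (i j : ℤ) : MulAut.conj t (a ^ i * z ^ j) = a ^ (-i) * z ^ (-j) := by
  rw [map_mul, map_zpow, map_zpow, MulAut.conj_apply, MulAut.conj_apply, h.ti a h.aV, h.ti z (h.zV hz)]
  group

theorem E_u (i j : ℤ) : MulAut.conj u (a ^ i * z ^ j) = a ^ i * z ^ (-j) := by
  rw [map_mul, map_zpow, map_zpow, MulAut.conj_apply, MulAut.conj_apply, h.ua, h.ui z (h.zW hz)]
  group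

theorem E_m {m : G} (e1 : m * a * m⁻¹ = z⁻¹) (e2 : m * z * m⁻¹ = a⁻¹) (i j : ℤ) :
    MulAut.conj m (a ^ i * z ^ j) = a ^ (-j) * z ^ (-i) := by
  rw [map_mul, map_zpow, map_zpow, MulAut.conj_apply, MulAut.conj_apply, e1, e2,
    ((h.caz hz).zpow_zpow (-j) (-i)).eq]
  group

theorem mem_V {g : G} (hg : g ∈ A) (e1 : MulAut.conj g (a ^ (1 : ℤ) * z ^ (0 : ℤ)) = a ^ (1 : ℤ) * z ^ (0 : ℤ))
    (e2 : MulAut.conj g (a ^ (0 : ℤ) * z ^ (1 : ℤ)) = a ^ (0 : ℤ) * z ^ (1 : ℤ)) : g ∈ V :=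
  h.sA.mem_of_comm h.aV (h.zV hz) (h.z1 hz) (h.az hz) hg (by simpa using e1) (by simpa using e2)

theorem eq_of {g k : G} (hg : g ∈ A) (hk : k ∈ A) (c1 : Commute g t) (c2 : Commute k t)
    (e1 : MulAut.conj g (a ^ (1 : ℤ) * z ^ (0 : ℤ)) = MulAut.conj k (a ^ (1 : ℤ) * z ^ (0 : ℤ)))
    (e2 : MulAut.conj g (a ^ (0 : ℤ) * z ^ (1 : ℤ)) = MulAut.conj k (a ^ (0 : ℤ) * z ^ (1 : ℤ))) :
    g = k := by
  have m := h.mem_V hz (mul_mem (inv_mem hk) hg)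
    (by rw [map_mul MulAut.conj, MulAut.mul_apply, e1, map_inv, MulAut.inv_apply_self])
    (by rw [map_mul MulAut.conj, MulAut.mul_apply, e2, map_inv, MulAut.inv_apply_self])
  refine (inv_mul_eq_one.1 (h.sA.eq_one_of_inv m ((h.ti _ m).symm.trans ?_))).symm
  rw [← (c2.inv_left.mul_left c1).eq]; group

theorem exists_m : ∃ m ∈ A, m * a * m⁻¹ = z⁻¹ ∧ m * z * m⁻¹ = a⁻¹ ∧ Rel a b z t u m := by
  have zV := h.zV hz
  have a1 : a ≠ 1 := fun e => h.aW (e ▸ one_mem _)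
  obtain ⟨k, hk, k1, k2⟩ := h.sA.trans h.aV zV (h.z1 hz) (h.az hz) (inv_mem zV) (inv_mem h.aV)
    (by simpa using a1) (by
      rw [zpowers_inv, inv_mem_iff, mem_zpowers_three (h.sA.cube a h.aV)]
      rintro (e | e | e)
      exacts [h.z1 hz e, h.aW (e ▸ h.zW hz), h.aW (inv_mem_iff.1 (e ▸ h.zW hz))])
  have ti := inv_eq_of_mul_eq_one_left h.t2
  obtain ⟨v, hv⟩ : ∃ v, v = (t * k * t⁻¹ * k⁻¹)⁻¹ := ⟨_, rfl⟩
  have vV : v ∈ V := hv ▸ inv_mem (h.comm_mem' h.tA hk h.ti)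
  obtain ⟨m, hm⟩ : ∃ m, m = v * k := ⟨_, rfl⟩
  have mA : m ∈ A := hm ▸ mul_mem (h.sA.le vV) hk
  have m1 : m * a * m⁻¹ = z⁻¹ := by
    rw [hm, show v * k * a * (v * k)⁻¹ = v * (k * a * k⁻¹) * v⁻¹ by group, k1,
      h.sA.comm v vV _ (inv_mem zV)]; group
  have m2 : m * z * m⁻¹ = a⁻¹ := by
    rw [hm, show v * k * z * (v * k)⁻¹ = v * (k * z * k⁻¹) * v⁻¹ by group, k2,
      h.sA.comm v vV _ (inv_mem h.aV)]; group
  have mt : Commute m t := by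
    rw [Commute, SemiconjBy, hm, show t * (v * k) = t * v * t⁻¹ * (t * k * t⁻¹ * k⁻¹)⁻¹⁻¹ * k * t by group,
      ← hv, h.ti v vV, ← mul_inv_rev, inv_eq_of_mul_eq_one_right (h.sA.cube v vV)]
  have bt : Commute b t := h.tb.symm
  have ut : Commute u t := h.tu.symm
  have bA := h.WA h.bW
  have uA := h.uA
  have mm : m * m = 1 := h.eq_of hz (mul_mem mA mA) (one_mem _) (mt.mul_left mt) (Commute.one_left _)
    (by simp only [map_mul (MulAut.conj), MulAut.mul_apply, h.E_m hz m1 m2, map_one, MulAut.one_apply]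
        exact h.E_congr hz rfl rfl)
    (by simp only [map_mul (MulAut.conj), MulAut.mul_apply, h.E_m hz m1 m2, map_one, MulAut.one_apply]
        exact h.E_congr hz rfl rfl)
  refine ⟨m, mA, m1, m2, h.sA.cube a h.aV, h.sB.cube b h.bW, h.t2, h.u2, mm, h.tu, ?_, h.tb, h.ua, ?_,
    by rw [hz]; group, h.caz hz, h.sB.comm b h.bW z (h.zW hz), mt, ?_, ?_, ?_⟩
  · have := h.ti a h.aV
    rw [ti] at this; rw [this, inv_mul_cancel]
  · have := h.ui b h.bW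
    rw [inv_eq_of_mul_eq_one_left h.u2] at this; rw [this, inv_mul_cancel]
  · refine h.eq_of hz (by apply_rules [mul_mem]) h.tA (((mt.mul_left ut).mul_left mt).mul_left ut)
      (Commute.refl _) ?_ ?_ <;>
    simp only [map_mul (MulAut.conj), MulAut.mul_apply, h.E_m hz m1 m2, h.E_t hz, h.E_u hz] <;>
    exact h.E_congr hz rfl rfl
  · rw [inv_eq_of_mul_eq_one_left mm] at m1; rw [m1, inv_mul_cancel]
  · refine h.eq_of hz (by apply_rules (maxDepth := 20) [mul_mem]) (mul_mem mA uA)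
      (((bt.mul_left mt).mul_left bt).mul_left ((bt.mul_left mt).mul_left bt)) (mt.mul_left ut) ?_ ?_ <;>
    simp only [map_mul (MulAut.conj), MulAut.mul_apply, h.E_m hz m1 m2, h.E_b hz, h.E_u hz] <;>
    exact h.E_congr hz rfl rfl

theorem le_of {m : G} (mA : m ∈ A) (m1 : m * a * m⁻¹ = z⁻¹) (m2 : m * z * m⁻¹ = a⁻¹) {K : Subgroup G}
    (ha : a ∈ K) (hb : b ∈ K) (ht : t ∈ K) (hu : u ∈ K) (hm : m ∈ K) : A ≤ K := by
  have zK : z ∈ K := hz ▸ mul_mem (mul_mem (mul_mem ha hb) (inv_mem ha)) (inv_mem hb)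
  have bb : b ∈ K ⊓ A := ⟨hb, h.WA h.bW⟩
  have tt : t ∈ K ⊓ A := ⟨ht, h.tA⟩
  have uu : u ∈ K ⊓ A := ⟨hu, h.uA⟩
  have mm : m ∈ K ⊓ A := ⟨hm, mA⟩
  have oo : 1 ∈ K ⊓ A := one_mem _
  have nV : ∀ g ∈ A, ∀ i j : ℤ, ∃ k l : ℤ, MulAut.conj g (a ^ i * z ^ j) = a ^ k * z ^ l :=
    fun g hg i j => h.E_surj hz (h.sA.norm g hg _ (mul_mem (zpow_mem h.aV i) (zpow_mem (h.zV hz) j)))
  have s2 : ∀ g ∈ A, MulAut.conj g (a ^ (0 : ℤ) * z ^ (1 : ℤ)) = a ^ (0 : ℤ) * z ^ (1 : ℤ) → g ∈ K := by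
    intro g hg e
    obtain ⟨i, j, e1⟩ := nV g hg 1 0
    have fin : ∀ k ∈ K ⊓ A, MulAut.conj k (a ^ (1 : ℤ) * z ^ (0 : ℤ)) = a ^ i * z ^ j →
        MulAut.conj k (a ^ (0 : ℤ) * z ^ (1 : ℤ)) = a ^ (0 : ℤ) * z ^ (1 : ℤ) → g ∈ K := fun k hk f1 f2 => by
      obtain ⟨p, q, e2⟩ := h.E_surj hz (h.mem_V hz (mul_mem (inv_mem hk.2) hg)
        (by rw [map_mul MulAut.conj, MulAut.mul_apply, e1, ← f1, map_inv, MulAut.inv_apply_self])
        (by rw [map_mul MulAut.conj, MulAut.mul_apply, e, map_inv]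
            conv_lhs => rw [← f2]
            rw [MulAut.inv_apply_self]))
      exact (mul_mem_cancel_left (inv_mem (mem_inf.1 hk).1)).1 (e2 ▸ mul_mem (zpow_mem ha p) (zpow_mem zK q))
    have hi : i % 3 ≠ 0 := fun hi => by
      have : MulAut.conj g (a ^ (0 : ℤ) * z ^ j) = a ^ i * z ^ j := by
        simp only [zpow_zero, zpow_one, one_mul] at e
        rw [h.E_congr hz (k := 0) (l := j) hi rfl]
        simp only [zpow_zero, one_mul, map_zpow, e]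
      have := (h.E_inj hz ((MulAut.conj g).injective (e1.trans this.symm))).1
      omega
    rcases (by omega : i % 3 = 1 ∨ i % 3 = 2) with p | p <;>
      rcases (by omega : j % 3 = 0 ∨ j % 3 = 1 ∨ j % 3 = 2) with q | q | q
    on_goal 1 => refine fin _ oo ?_ ?_
    on_goal 3 => refine fin _ (mul_mem bb bb) ?_ ?_
    on_goal 5 => refine fin _ bb ?_ ?_
    on_goal 7 => refine fin _ (mul_mem tt uu) ?_ ?_
    on_goal 9 => refine fin _ (mul_mem bb (mul_mem tt uu)) ?_ ?_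
    on_goal 11 => refine fin _ (mul_mem bb (mul_mem bb (mul_mem tt uu))) ?_ ?_
    all_goals
      simp only [map_mul (MulAut.conj), MulAut.mul_apply, h.E_b hz, h.E_t hz, h.E_u hz, map_one,
        MulAut.one_apply]
      try exact h.E_congr hz (by omega) (by omega)
  intro g hg
  obtain ⟨i, j, e1⟩ := nV g hg 0 1
  have fin : ∀ k ∈ K ⊓ A, MulAut.conj k (a ^ (0 : ℤ) * z ^ (1 : ℤ)) = a ^ i * z ^ j → g ∈ K :=
    fun k hk f1 => (mul_mem_cancel_left (inv_mem (mem_inf.1 hk).1)).1 (s2 _ (mul_mem (inv_mem hk.2) hg)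
      (by rw [map_mul MulAut.conj, MulAut.mul_apply, e1, ← f1, map_inv, MulAut.inv_apply_self]))
  rcases (by omega : i % 3 = 0 ∨ i % 3 = 1 ∨ i % 3 = 2) with p | p | p <;>
    rcases (by omega : j % 3 = 0 ∨ j % 3 = 1 ∨ j % 3 = 2) with q | q | q
  · rw [h.E_congr hz (k := 0) (l := 0) p q] at e1
    exact absurd (by simpa using e1) (h.z1 hz)
  on_goal 1 => refine fin _ oo ?_
  on_goal 2 => refine fin _ tt ?_
  on_goal 3 => refine fin _ (mul_mem tt mm) ?_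
  on_goal 4 => refine fin _ (mul_mem bb (mul_mem bb (mul_mem tt mm))) ?_
  on_goal 5 => refine fin _ (mul_mem bb (mul_mem tt mm)) ?_
  on_goal 6 => refine fin _ mm ?_
  on_goal 7 => refine fin _ (mul_mem bb mm) ?_
  on_goal 8 => refine fin _ (mul_mem bb (mul_mem bb mm)) ?_
  all_goals
    simp only [map_mul (MulAut.conj), MulAut.mul_apply, h.E_b hz, h.E_t hz, h.E_m hz m1 m2, map_one,
      MulAut.one_apply]
    exact h.E_congr hz (by omega) (by omega)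

theorem cent {g : G} (c1 : Commute g z) (c2 : Commute g (t * u)) :
    g ∈ zpowers z ∨ t * u * g ∈ zpowers z := by
  have Es : ∀ i j : ℤ, MulAut.conj (t * u) (a ^ i * z ^ j) = a ^ (-i) * z ^ j := fun i j => by
    rw [map_mul MulAut.conj, MulAut.mul_apply, h.E_u hz, h.E_t hz, neg_neg]
  have ez : MulAut.conj g (a ^ (0 : ℤ) * z ^ (1 : ℤ)) = a ^ (0 : ℤ) * z ^ (1 : ℤ) := by
    simp [c1.eq]
  have gA : g ∈ A := (h.norm g fun v hv => by
    rw [← h.zeq hz] at hv ⊢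
    obtain ⟨k, rfl⟩ := hv
    simp only [(c1.zpow_right k).eq, mul_inv_cancel_right]
    exact zpow_mem (mem_zpowers z) k).1
  have fin : ∀ k ∈ V, Commute k (t * u) → k ∈ zpowers z := fun k hk c => by
    obtain ⟨i, j, rfl⟩ := h.E_surj hz hk
    have := (h.E_inj hz ((Es i j).symm.trans (by rw [MulAut.conj_apply, ← c.eq]; group :
      _ = a ^ i * z ^ j))).1
    rw [h.E_congr hz (k := 0) (l := j) (by omega) rfl]
    simp
  obtain ⟨i, j, e⟩ := h.E_surj hz (h.sA.norm g gA a h.aV)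
  have e' : MulAut.conj g (a ^ (1 : ℤ) * z ^ (0 : ℤ)) = a ^ i * z ^ j := by simpa using e
  have hj : a ^ (-i) * z ^ j = a ^ (-i) * z ^ (-j) := by
    rw [← Es, ← e', ← MulAut.mul_apply, ← map_mul, ← c2.eq, map_mul MulAut.conj, MulAut.mul_apply, Es,
      ← h.E_t hz, ← e, MulAut.conj_apply t, h.ti _ (h.sA.norm g gA a h.aV)]
    simp [mul_assoc]
  have hj' := (h.E_inj hz hj).2
  rcases (by omega : i % 3 = 0 ∨ i % 3 = 1 ∨ i % 3 = 2) with p | p | p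
  · rw [h.E_congr hz (k := 0) (l := 0) p (by omega)] at e
    exact absurd ((by simpa using e : a = 1) ▸ one_mem _) h.aW
  · exact Or.inl (fin g (h.mem_V hz gA (e'.trans (h.E_congr hz (by omega) (by omega))) ez) c2)
  · refine Or.inr (fin _ (h.mem_V hz (mul_mem (mul_mem h.tA h.uA) gA) ?_ ?_)
      ((Commute.refl _).mul_left c2))
    · rw [map_mul MulAut.conj, MulAut.mul_apply, e', Es]; exact h.E_congr hz (by omega) (by omega)
    · rw [map_mul MulAut.conj, MulAut.mul_apply, ez, Es]; rfl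

end

end Frame

end Cfsg.Lib.Block.F3
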