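import Cfsg.Agent.Block.F3Loc
import Cfsg.Agent.S3331
import Cfsg.Agent.Known.PSL2Basic

/-!
# Groups generated by two affine subgroups `3²:GL₂(3)`
-/

set_option autoImplicit false

namespace Cfsg.Lib.Block.F3

open Subgroup

universe u

variable {G : Type u} [Group G]

theorem cube_of_fpf [Finite G] {N : Subgroup G} [hN : N.Normal] {x : G} (x3 : x * x * x = 1)
    (h : ∀ v ∈ N, Commute v x → v = 1) {v : G} (hv : v ∈ N) : x * v * (x * v) * (x * v) = 1 := by
  let f : N → N := fun w => ⟨x⁻¹ * w * x * (w : G)⁻¹, mul_mem (by simpa using hN.conj_mem _ w.2 x⁻¹)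
    (inv_mem w.2)⟩
  have hf : Function.Injective f := fun w w' e => by
    have e' : x⁻¹ * w * x * (w : G)⁻¹ = x⁻¹ * w' * x * (w' : G)⁻¹ := congrArg Subtype.val e
    refine Subtype.ext (inv_mul_eq_one.1 (h _ (mul_mem (inv_mem w.2) w'.2) ?_))
    rw [Commute, SemiconjBy, show (w : G)⁻¹ * w' * x = (w : G)⁻¹ * x * (x⁻¹ * w' * x * (w' : G)⁻¹) * w' by group,
      ← e']; group
  obtain ⟨w, hw⟩ := Finite.surjective_of_injective hf ⟨v, hv⟩
  have e : x * v = w * x * (w : G)⁻¹ := by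
    rw [← show x⁻¹ * w * x * (w : G)⁻¹ = v from congrArg Subtype.val hw]; group
  rw [e, conj_mul, conj_mul, x3]; group

/-- The consequence of the theorem on self-centralizing subgroups of order three. -/
theorem exists_fpf [Finite G] {x r : G} (x3 : x * x * x = 1) (x1 : x ≠ 1)
    (hC : ∀ g, Commute g x → g ∈ zpowers x) (r2 : orderOf r = 2) {c : G} (c2 : orderOf (c * c) = 2)
    (hc : ¬ IsConj r (c * c)) : ∃ N : Subgroup G, N.Normal ∧ (∀ d, d ^ 4 = 1 → d * d ∈ N) ∧
      ∀ v ∈ N, x * v * (x * v) * (x * v) = 1 := by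
  have key : ∀ (N : Subgroup G) [N.Normal], (∀ v ∈ N, v * v * v = 1 → v = 1) →
      (∀ y : G ⧸ N, y ^ 4 = 1 → y * y = 1) → ∃ N : Subgroup G, N.Normal ∧ (∀ d, d ^ 4 = 1 → d * d ∈ N) ∧
      ∀ v ∈ N, x * v * (x * v) * (x * v) = 1 := fun N hN h1 h2 =>
    ⟨N, hN, fun d hd => (QuotientGroup.eq_one_iff _).1 (h2 d (by rw [← QuotientGroup.mk_pow, hd]; rfl)),
      fun v hv => cube_of_fpf x3 (fun w hw c => h1 w hw (by
        rcases (mem_zpowers_three x3).1 (hC w c) with rfl | rfl | rfl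
        · simp
        · exact x3
        · rw [← mul_inv_rev, ← mul_inv_rev, ← mul_assoc, x3, inv_one])) hv⟩
  rcases Agent.S3331.result (zpowers x) (card_zpowers_three x3 x1) (le_antisymm
    (fun g hg => hC g (hg x (mem_zpowers x)).symm) (by
      rintro _ ⟨i, rfl⟩ _ ⟨j, rfl⟩; exact Commute.zpow_zpow_self x j i)) with
    ⟨N, hN, -, h1, h2⟩ | ⟨N, hN, -, h1, ⟨e⟩⟩ | ⟨⟨e⟩⟩
  · refine key N (fun v hv e => ?_) fun y hy => ?_
    · have d1 : orderOf v ∣ 3 := orderOf_dvd_of_pow_eq_one (by rw [pow_three', e])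
      exact orderOf_eq_one_iff.1 (Nat.eq_one_of_dvd_coprimes h1 (N.orderOf_dvd_natCard hv) d1)
    rcases h2 with h2 | ⟨⟨e⟩⟩
    · have := pow_card_eq_one' (x := y)
      rw [h2] at this
      rw [show y = 1 by rw [← hy, pow_succ, this, one_mul], mul_one]
    · have : ∀ s : Equiv.Perm (Fin 3), s ^ 4 = 1 → s * s = 1 := by decide
      exact e.injective (by rw [map_mul, map_one, this _ (by rw [← map_pow, hy, map_one])])
  · refine key N (fun v hv e => ?_) fun y hy => ?_
    · rwa [← sq, h1 v hv, one_mul] at e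
    · have : ∀ s : Equiv.Perm (Fin 5), Equiv.Perm.sign s = 1 → s * s * s * s = 1 → s * s = 1 := by
        decide +kernel
      refine e.injective (Subtype.ext ?_)
      rw [map_mul, map_one]
      refine this _ (e y).2 ?_
      have : e y ^ 4 = 1 := by rw [← map_pow, hy, map_one]
      simpa only [pow_succ, pow_zero, one_mul, coe_mul, coe_one] using congrArg Subtype.val this
  · have : Fact (Nat.Prime 7) := ⟨by norm_num⟩
    refine absurd ?_ hc
    simpa using e.symm.toMonoidHom.map_isConj (Known.GL2.isConj_of_orderOf_two_PSL (F := ZMod 7)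
      (x := e r) (y := e (c * c)) (by rw [e.orderOf_eq, r2]) (by rw [e.orderOf_eq, c2]))

theorem Frame.exists_cub [Finite G] {A B V W : Subgroup G} {a b t u z z' m n : G}
    (h : Frame A B V W a b t u) (hz' : z' = b * a * b⁻¹ * a⁻¹) (r : Rel a b z t u m)
    (r' : Rel b a z' u t n) : ∃ e0 e1 e2, Cub b t u m (n * m * n * t * m * n) e0 e1 e2 := by
  have ni := inv_eq_of_mul_eq_one_left r'.m2
  have mi := inv_eq_of_mul_eq_one_left r.m2
  have ti := inv_eq_of_mul_eq_one_left r.t2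
  have ui := inv_eq_of_mul_eq_one_left r.u2
  have nt : MulAut.conj n t = u * t := by
    rw [MulAut.conj_apply, ni, ← r'.mu, mul_assoc (n * t * n), r.t2, mul_one]
  have nu : MulAut.conj n u = u := by rw [MulAut.conj_apply, r'.mt]; group
  have nb : MulAut.conj n b = z'⁻¹ := by rw [MulAut.conj_apply, ni, eq_inv_iff_mul_eq_one, r'.ma]
  have mu : MulAut.conj m u = t * u := by
    rw [MulAut.conj_apply, mi, ← r.mu, mul_assoc (m * u * m), r.u2, mul_one]
  have gu : MulAut.conj (n * m) u = t := by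
    rw [map_mul, MulAut.mul_apply, mu, map_mul, nt, nu, mul_assoc, r.tu, ← mul_assoc, r.u2, one_mul]
  have centb : ∀ g, Commute g b → Commute g t → g ∈ zpowers b ∨ t * g ∈ zpowers b := fun g c1 c2 => by
    have k : ∀ y, MulAut.conj n y ∈ zpowers z' → y ∈ zpowers b := fun y hy => by
      rw [← zpowers_inv, ← nb] at hy
      obtain ⟨i, hi⟩ := hy
      exact ⟨i, (MulAut.conj n).injective ((map_zpow _ _ _).trans hi)⟩
    exact (h.symm.cent hz' (g := MulAut.conj n g)
      (by simpa only [nb, inv_inv] using (c1.map (MulAut.conj n)).inv_right)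
      (nt ▸ c2.map (MulAut.conj n))).imp (k _) fun e => k _ (by rwa [map_mul, nt])
  let H := centralizer ({t} : Set G)
  have mH : ∀ {g}, Commute g t → g ∈ H := mem_centralizer_singleton_iff.2
  have ot : orderOf (⟨t, mH rfl⟩ : H) = 2 := orderOf_eq_prime (Subtype.ext (by simpa [sq] using r.t2))
    fun e => h.t1 (congrArg Subtype.val e)
  have hT : (zpowers (⟨t, mH rfl⟩ : H)).Normal := ⟨by
    rintro _ ⟨i, rfl⟩ g
    have : Commute g ⟨t, mH rfl⟩ := Subtype.ext (mem_centralizer_singleton_iff.1 g.2)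
    simp only [(this.zpow_right i).eq, mul_inv_cancel_right]
    exact zpow_mem (mem_zpowers _) i⟩
  let π := QuotientGroup.mk' (zpowers (⟨t, mH rfl⟩ : H))
  have hπ : ∀ y : H, π y = 1 ↔ (y : G) = 1 ∨ (y : G) = t := fun y => by
    simp only [π, QuotientGroup.mk'_apply, QuotientGroup.eq_one_iff, Local.mem_zpowers_iff_of_orderOf_two ot,
      Subtype.ext_iff, coe_one]
  have bt : Commute b t := r.tb.symm
  have ut : Commute u t := r.tu.symm
  have mt : Commute m t := r.mt
  have ct : Commute (MulAut.conj (n * m) (a * n * a)) t := by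
    have au : Commute a u := r.ua.symm
    exact gu ▸ ((au.mul_left r'.mt).mul_left au).map (MulAut.conj (n * m))
  have cj : MulAut.conj (n * m) (a * n * a) * MulAut.conj (n * m) (a * n * a) = n * m * n * t * m * n := by
    rw [← map_mul, r'.mb, MulAut.conj_apply, mul_inv_rev, mi, ni]; group
  have c4 : MulAut.conj (n * m) (a * n * a) ^ 4 = t := by
    rw [← map_pow, ← gu, ← r'.mu, mul_assoc (n * t), ← r'.mb]
    simp only [pow_succ, pow_zero, one_mul, mul_assoc]
  let b' : H := ⟨b, mH bt⟩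
  let m' : H := ⟨m, mH mt⟩
  let u' : H := ⟨u, mH ut⟩
  obtain ⟨c, hc⟩ : ∃ c, c = MulAut.conj (n * m) (a * n * a) := ⟨_, rfl⟩
  rw [← hc] at ct cj c4
  let c' : H := ⟨c, mH ct⟩
  have d2 : b' * m' * b' * (b' * m' * b') = m' * u' := Subtype.ext r.mb
  have i2 : m * u * (m * u) = t := (mul_assoc _ _ _).symm.trans r.mu
  have b1 : b ≠ 1 := fun e => h.bV (e ▸ one_mem _)
  have nt3 : ∀ y : G, y * y * y = 1 → Commute y t → t * y * (t * y) * (t * y) = t := fun y y3 c => by
    rw [← pow_three', c.symm.mul_pow, pow_three', pow_three', y3, r.t2, one_mul, mul_one]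
  obtain ⟨N, hN, h1, h2⟩ := exists_fpf (x := π b') (r := π u') (c := π (b' * m' * b'))
    (by rw [← map_mul, ← map_mul, hπ]; exact Or.inl r.b3)
    (fun e => ((hπ _).1 e).elim b1 fun e => h.t1 (by
      have := r.b3
      rwa [show b = t from e, r.t2, one_mul] at this))
    (fun g c => by
      obtain ⟨g, rfl⟩ := QuotientGroup.mk'_surjective _ g
      have e : π (g * b' * g⁻¹ * b'⁻¹) = 1 := by
        rw [map_mul, map_mul, map_mul, map_inv, map_inv, (show Commute (π g) (π b') from c).eq]; group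
      have c' : Commute (g : G) b := by
        rcases (hπ _).1 e with e | e
        · exact mul_inv_eq_iff_eq_mul.1 (mul_inv_eq_one.1 e)
        · refine absurd ?_ h.t1
          rw [← nt3 b r.b3 bt, ← show (g : G) * b * (g : G)⁻¹ = t * b from mul_inv_eq_iff_eq_mul.1 e,
            conj_mul, conj_mul, r.b3]; group
      rcases centb g c' (mem_centralizer_singleton_iff.1 g.2) with ⟨i, e⟩ | ⟨i, e⟩
      · exact ⟨i, (map_zpow π _ _).symm.trans (congrArg π (Subtype.ext e))⟩
      · refine ⟨i, (map_zpow π _ _).symm.trans ?_⟩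
        rw [show b' ^ i = ⟨t, mH rfl⟩ * g from Subtype.ext e, map_mul, (hπ _).2 (Or.inr rfl), one_mul])
    (orderOf_eq_prime (by rw [sq, ← map_mul, hπ]; exact Or.inl r.u2)
      fun e => ((hπ _).1 e).elim h.symm.t1 h.tu1)
    (orderOf_eq_prime (by rw [← map_mul, d2, sq, ← map_mul, hπ]; exact Or.inr i2) fun e => by
      rw [← map_mul, d2] at e
      rcases (hπ _).1 e with e | e <;> refine h.t1 ?_ <;> rw [← i2, show m * u = _ from e]
      exacts [mul_one _, r.t2])
    (fun c => by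
      obtain ⟨g, hg⟩ := isConj_iff.1 c
      obtain ⟨g, rfl⟩ := QuotientGroup.mk'_surjective _ g
      have e : π (g * u' * g⁻¹ * (m' * u')⁻¹) = 1 := by
        rw [map_mul, map_mul, map_mul, map_inv, map_inv, ← d2, map_mul, ← hg, mul_inv_cancel]
      have e' : (g : G) * u * (g : G)⁻¹ * ((g : G) * u * (g : G)⁻¹) = 1 := by rw [conj_mul, r.u2]; group
      rcases (hπ _).1 e with e | e
      · rw [show (g : G) * u * (g : G)⁻¹ = m * u from mul_inv_eq_one.1 e, i2] at e'
        exact h.t1 e'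
      · rw [show (g : G) * u * (g : G)⁻¹ = t * (m * u) from mul_inv_eq_iff_eq_mul.1 e, ← sq,
          (mt.mul_left ut).symm.mul_pow, sq, sq, r.t2, i2, one_mul] at e'
        exact h.t1 e')
  have iN : π (m' * u') ∈ N := by
    rw [← d2, map_mul]
    refine h1 _ ?_
    rw [← map_pow, hπ, show (4 : ℕ) = 2 * 2 from rfl, pow_mul, sq (b' * m' * b'), d2, sq]
    exact Or.inr i2
  have jN : π (c' * c') ∈ N := by
    rw [map_mul]; exact h1 _ (by rw [← map_pow, hπ]; exact Or.inr c4)
  have fin : ∀ (q : H) (w : G), π q ∈ N → b * q = w → ∃ e : Bool, w * w * w = bif e then t else 1 :=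
    fun q w hq e => by
      have := h2 _ hq
      rw [← map_mul, ← map_mul, ← map_mul, hπ] at this
      exact this.elim (fun k => ⟨false, e ▸ k⟩) fun k => ⟨true, e ▸ k⟩
  obtain ⟨e0, c0⟩ := fin (m' * u' * (c' * c')) (b * m * u * (n * m * n * t * m * n))
    (map_mul π _ _ ▸ mul_mem iN jN) (by rw [← cj]; simp only [coe_mul, mul_assoc]; rfl)
  obtain ⟨e1, c1⟩ := fin (b'⁻¹ * (m' * u') * b'⁻¹⁻¹ * (c' * c')) (m * u * b * (n * m * n * t * m * n))
    (by rw [map_mul, map_mul, map_mul, map_inv _ b'⁻¹]; exact mul_mem (hN.conj_mem _ iN _) jN)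
    (by rw [← cj]; simp only [coe_mul, coe_inv, inv_inv, mul_assoc, mul_inv_cancel_left, b']; rfl)
  obtain ⟨e2, c2⟩ := fin (b' * (m' * u') * b'⁻¹ * (c' * c'))
    (b * b * m * u * b * b * (n * m * n * t * m * n))
    (by rw [map_mul, map_mul, map_mul, map_inv _ b']; exact mul_mem (hN.conj_mem _ iN _) jN)
    (by rw [← cj]; simp only [coe_mul, coe_inv, r.binv, mul_assoc, b']; rfl)
  exact ⟨e0, e1, e2, c0, c1, c2⟩

theorem Amal.main [Finite G] {A B V W : Subgroup G} (h : Amal A B V W) (top : A ⊔ B = ⊤) :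
    Cfsg.Spor.IsoM12 G ∨ Nonempty (G ≃* Matrix.ProjectiveSpecialLinearGroup (Fin 3) (ZMod 3)) := by
  obtain ⟨a, b, t, u, f⟩ := h.exists_frame
  obtain ⟨m, mA, m1, m2, r⟩ := f.exists_m rfl
  obtain ⟨n, nB, n1, n2, r'⟩ := f.symm.exists_m rfl
  obtain ⟨e0, e1, e2, c⟩ := f.exists_cub rfl r r'
  refine ident r r' c (h.sA.le f.aV) (h.WA f.bW) f.tA f.uA mA (fun hn => f.bV ?_)
    fun K ha hb ht hu hm hn => eq_top_iff.2 (top ▸ sup_le (f.le_of rfl mA m1 m2 ha hb ht hu hm)
      (f.symm.le_of rfl nB n1 n2 hb ha hu ht hn))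
  exact inv_mem_iff.1 (n2 ▸ h.sA.norm n hn _ (f.symm.zW rfl))

end Cfsg.Lib.Block.F3
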