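import Cfsg.Agent.Block.UniqRed
import Cfsg.Agent.PrimeOne.BT
import Cfsg.Agent.PrimeOne.LtSelf
import Cfsg.Agent.Char.Isometry
import Cfsg.Agent.Known.SylowCount
import Cfsg.Agent.Local.ProdCard
import Cfsg.Agent.Solv.CyclicP

/-!
# Groups with a unique irreducible character of degree `p`
-/

set_option autoImplicit false

open scoped ComplexConjugate
open Cfsg Cfsg.Lib.Char Cfsg.Lib.PrimeOne Subgroup

namespace Cfsg.Lib.Block.UD

open Princ

variable {G : Type*} [Group G] [Finite G]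

theorem isCharacter_avg' {χ : G → ℂ} (hχ : IsCharacter G χ) (P H : Subgroup G) [Fintype P]
    (hc : H ≤ normalizer (P : Set G)) :
    IsCharacter H (fun h => (Nat.card P : ℂ)⁻¹ * ∑ x : P, χ (h * x)) := by
  obtain ⟨n, ρ, rfl⟩ := hχ
  set E : Module.End ℂ (Fin n → ℂ) := (Nat.card P : ℂ)⁻¹ • ∑ x : P, ρ x with hE
  have h1 : ∀ y : P, ρ y * ∑ x : P, ρ x = ∑ x : P, ρ x := fun y => by
    rw [Finset.mul_sum]
    exact Fintype.sum_equiv (Equiv.mulLeft y) _ _ fun x => by simp
  have := isCharacter_trace_comp_proj (ρ.comp H.subtype) E (by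
    change E * E = E
    rw [hE, smul_mul_smul_comm, Finset.sum_mul, Finset.sum_congr rfl fun y _ => h1 y,
      Finset.sum_const, Finset.card_univ, ← Nat.cast_smul_eq_nsmul ℂ, smul_smul,
      ← Nat.card_eq_fintype_card, inv_mul_cancel_right₀ (card_ne_zero P)]) fun g => by
    change E * ρ g = ρ g * E
    rw [hE, smul_mul_assoc, mul_smul_comm, Finset.sum_mul, Finset.mul_sum]
    congr 1
    refine (Fintype.sum_equiv (P.normalizerMonoidHom ⟨g, hc g.2⟩).toEquiv _ _ fun x => ?_).symm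
    rw [← map_mul, ← map_mul]
    congr 1
    change _ = (g : G) * x * (g : G)⁻¹ * g
    group
  convert this using 2 with g
  change _ = LinearMap.trace ℂ _ (ρ g * E)
  rw [hE, mul_smul_comm, map_smul, Finset.mul_sum _ _ (ρ g), map_sum, smul_eq_mul]
  simp only [Representation.character, map_mul]

/-- The Brauer–Fowler inequality. -/
theorem sum_deg_mul_le {z : G} (hz : orderOf z = 2) {n : ℕ}
    (hn : Nat.card (centralizer ({z} : Set G)) ≤ n) :
    ∑ χ : IrrCharacter G, (deg χ : ℤ) * (deg χ - n) ≤ -n := by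
  classical
  have := Fintype.ofFinite G
  have h1 : (centralizer ({z} : Set G)).index + 1 ≤ Nat.card {s : G // s * s = 1} := by
    rw [← card_filter_isConj, ← Finset.card_insert_of_notMem (a := 1) (by
      simp only [Finset.mem_filter, Finset.mem_univ, true_and, isConj_one_left]
      rintro rfl
      simp at hz), Nat.card_eq_fintype_card, Fintype.card_subtype]
    refine Finset.card_le_card fun s hs => Finset.mem_filter.2 ⟨Finset.mem_univ _, ?_⟩
    rcases Finset.mem_insert.1 hs with rfl | hs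
    · exact mul_one 1
    · obtain ⟨g, rfl⟩ := isConj_iff.1 (Finset.mem_filter.1 hs).2
      rw [conj_mul, ← sq, ← hz, pow_orderOf_eq_one, mul_one, mul_inv_cancel]
  choose ν hν hν' using fun χ : IrrCharacter G => χ.2.exists_int_fsInd
  have h2 : (Nat.card {s : G // s * s = 1} : ℤ) = ∑ χ : IrrCharacter G, ν χ * deg χ := by
    have := card_sqrt_eq_sum_fsInd (1 : G)
    simp only [hν', ← deg_cast] at this
    exact_mod_cast this
  have h3 : ∑ χ : IrrCharacter G, ν χ * deg χ ≤ ∑ χ : IrrCharacter G, (deg χ : ℤ) :=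
    Finset.sum_le_sum fun χ _ => by rcases hν χ with h | h | h <;> rw [h] <;> omega
  have h4 : ∑ χ : IrrCharacter G, (deg χ : ℤ) ^ 2 = Nat.card G := by exact_mod_cast sum_deg_sq
  have h5 := (centralizer ({z} : Set G)).card_mul_index
  have h6 := Nat.mul_le_mul_right (centralizer ({z} : Set G)).index hn
  simp only [mul_sub, Finset.sum_sub_distrib, ← sq, h4, ← Finset.sum_mul]
  have h7 : ((centralizer ({z} : Set G)).index + 1 : ℤ) * n ≤
      (∑ χ : IrrCharacter G, (deg χ : ℤ)) * n :=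
    mul_le_mul_of_nonneg_right (by omega) (Int.natCast_nonneg n)
  have h8 : (Nat.card G : ℤ) ≤ n * (centralizer ({z} : Set G)).index := by exact_mod_cast h5 ▸ h6
  linarith

variable {p : ℕ} [hp : Fact p.Prime] {P : Sylow p G}

theorem card_of_ineq (hP : Nat.card P = p) (hC : centralizer ((P : Subgroup G) : Set G) ≤ P)
    (hperf : commutator G = ⊤) {e : ℕ} (he : (centralizer ((P : Subgroup G) : Set G)).relIndex
      (normalizer ((P : Subgroup G) : Set G)) = e) (hev : Even e) (hep : 2 * e + 1 ≤ p)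
    {χ : IrrCharacter G} (hχ : deg χ = p) (huniq : ∀ ψ : IrrCharacter G, deg ψ = p → ψ = χ)
    (h0 : ∑ χ : IrrCharacter G, (deg χ : ℤ) * (deg χ - (2 * e : ℕ)) ≤ -(2 * e : ℕ)) :
    2 * e + 1 = p ∧ 2 * Nat.card G = p * (p ^ 2 - 1) := by
  classical
  obtain ⟨M, hM⟩ := exists_isPModular hp.out
  obtain ⟨t, X, Y, δ, ε, h⟩ := exists_B0 hM P hP
  rw [he] at h
  have het : e * t + 1 = p := by rw [h.card_eq, factorization_eq_one hP, pow_one]
  obtain ⟨θ, hθ⟩ := h.Y_nonempty
  set O := irrFin (principalBlock M G)ᶜ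
  set X' := X.erase (triv G)
  have hsum : ∀ f : ℕ → ℤ, ∑ ψ : IrrCharacter G, f (deg ψ) =
      f 1 + ∑ ψ ∈ X', f (deg ψ) + t * f (deg θ) + ∑ ψ ∈ O, f (deg ψ) := fun f => by
    rw [← sum_irrFin_add_compl (principalBlock M G), h.sum_princ,
      ← Finset.add_sum_erase X _ h.triv_mem, deg_triv,
      Finset.sum_congr rfl fun ψ hψ => congrArg f (h.deg_Y_eq hψ hθ), Finset.sum_const, h.card_Y,
      nsmul_eq_mul]
  have he0 := h.e_pos
  have hX : ∀ ψ ∈ X', ∃ k : ℤ, 1 ≤ k ∧ (deg ψ : ℤ) = δ ψ + p * k := fun ψ hψ => by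
    obtain ⟨h1, h2⟩ := Finset.mem_erase.1 hψ
    obtain ⟨k, hk⟩ := (h.deg_X_modEq' h2).symm.dvd
    refine ⟨k, ?_, by omega⟩
    have h3 := mt (eq_triv_of_deg_one hperf) h1
    have h4 := deg_pos ψ
    by_contra h5
    have : (p : ℤ) * k ≤ 0 := mul_nonpos_of_nonneg_of_nonpos (by omega) (by omega)
    rcases h.sign_X ψ h2 with h6 | h6 <;> omega
  have hO : ∀ ψ ∈ O, ∃ k : ℤ, 1 ≤ k ∧ (deg ψ : ℤ) = p * k := fun ψ hψ => by
    obtain ⟨k, hk⟩ : p ∣ deg ψ := by
      by_contra hc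
      exact mem_irrFin.1 hψ (mem_principalBlock_of_not_dvd hP hC h.hM hc)
    have h4 := deg_pos ψ
    refine ⟨k, ?_, by exact_mod_cast hk⟩
    rcases k with _ | k <;> omega
  let f : ℕ → ℤ := fun d => d * (d - (2 * e : ℕ))
  have hf0 : ∀ d : ℕ, (p : ℤ) - 1 ≤ d → 0 ≤ f d := fun d hd =>
    mul_nonneg (by omega) (by omega)
  have hX0 : ∀ ψ ∈ X', 0 ≤ f (deg ψ) := fun ψ hψ => hf0 _ (by
    obtain ⟨k, h1, h2⟩ := hX ψ hψ
    rcases h.sign_X ψ (Finset.mem_of_mem_erase hψ) with h6 | h6 <;> nlinarith)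
  have hO0 : ∀ ψ ∈ O, 0 ≤ f (deg ψ) := fun ψ hψ => hf0 _ (by
    obtain ⟨k, h1, h2⟩ := hO ψ hψ
    nlinarith)
  have h1 := hsum f
  have hA := Finset.sum_nonneg hX0
  have hB := Finset.sum_nonneg hO0
  have het' : (e : ℤ) * t + 1 = p := by exact_mod_cast het
  have h2 : ∑ ψ ∈ X', f (deg ψ) + t * f (deg θ) + ∑ ψ ∈ O, f (deg ψ) ≤ -1 := by
    have : f 1 = 1 - 2 * e := by simp [f]
    change ∑ ψ : IrrCharacter G, f (deg ψ) ≤ _ at h0
    omega
  have hd0 : deg θ < 2 * e := by
    by_contra h3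
    have : 0 ≤ (t : ℤ) * f (deg θ) := mul_nonneg (by omega) (mul_nonneg (by omega) (by omega))
    omega
  have h3 : -((p - 1) * e : ℤ) ≤ t * f (deg θ) := by
    have : -(e : ℤ) ^ 2 ≤ f (deg θ) := by
      simp only [f]; push_cast; nlinarith [sq_nonneg ((deg θ : ℤ) - e)]
    have h4 := mul_le_mul_of_nonneg_left this (Int.natCast_nonneg t)
    rw [← het']; nlinarith
  have hbig : ∀ d : ℕ, f d ≤ (p - 1) * e → (d : ℤ) < 2 * p - 1 := fun d hd => by
    by_contra h4
    simp only [f] at hd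
    push_cast at hd
    nlinarith
  have hX1 : ∀ ψ ∈ X', (deg ψ : ℤ) = δ ψ + p := fun ψ hψ => by
    obtain ⟨k, h4, h5⟩ := hX ψ hψ
    have h6 := hbig _ ((Finset.single_le_sum hX0 hψ).trans (by omega))
    obtain rfl : k = 1 := by
      by_contra h7
      have : (p : ℤ) * 2 ≤ p * k := mul_le_mul_of_nonneg_left (by omega) (by omega)
      rcases h.sign_X ψ (Finset.mem_of_mem_erase hψ) with h6 | h6 <;> omega
    omega
  have hO1 : O = {χ} := by
    refine Finset.eq_singleton_iff_unique_mem.2 ⟨mem_irrFin.2 fun h4 => ?_, fun ψ hψ => huniq ψ ?_⟩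
    · refine not_pow_dvd_deg hM h.dvd_card h4 ?_
      rw [factorization_eq_one hP, pow_one, hχ]
    · obtain ⟨k, h4, h5⟩ := hO ψ hψ
      have h6 := hbig _ ((Finset.single_le_sum hO0 hψ).trans (by omega))
      obtain rfl : k = 1 := by
        by_contra h7
        have : (p : ℤ) * 2 ≤ p * k := mul_le_mul_of_nonneg_left (by omega) (by omega)
        omega
      omega
  have hc : (X'.card : ℤ) = e - 1 := by
    rw [Finset.card_erase_of_mem h.triv_mem, h.card_X]; omega
  set s := ∑ ψ ∈ X', δ ψ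
  have hs : Odd s := by
    have : (2 : ℤ) ∣ ∑ ψ ∈ X', (δ ψ - 1) := Finset.dvd_sum fun ψ hψ => by
      rcases h.sign_X ψ (Finset.mem_of_mem_erase hψ) with h6 | h6 <;> omega
    rw [Finset.sum_sub_distrib, Finset.sum_const, nsmul_eq_mul, hc] at this
    obtain ⟨k, hk⟩ := hev
    rw [Int.odd_iff]
    omega
  have h4 : ε * deg θ = e + p * s := by
    rw [h.deg_rel hθ, ← Finset.add_sum_erase X _ h.triv_mem, deg_triv, h.δ_triv,
      Finset.sum_congr rfl fun ψ hψ => show δ ψ * deg ψ = 1 + p * δ ψ by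
        rw [hX1 ψ hψ, mul_add, h.sign_X_mul_self (Finset.mem_of_mem_erase hψ), mul_comm],
      Finset.sum_add_distrib, ← Finset.mul_sum, Finset.sum_const, nsmul_eq_mul, hc]
    ring
  have hd1 := deg_pos θ
  have hs1 : s = -1 ∧ ε = -1 := by
    rcases lt_trichotomy s (-1) with h5 | h5 | h5
    · have : (p : ℤ) * s ≤ p * (-2) := mul_le_mul_of_nonneg_left (by omega) (by omega)
      rcases h.sign with h6 | h6 <;> rw [h6] at h4 <;> omega
    · rw [h5] at h4
      rcases h.sign with h6 | h6 <;> rw [h6] at h4 <;> omega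
    · have h7 : 1 ≤ s := by rw [Int.odd_iff] at hs; omega
      have : (p : ℤ) * 1 ≤ p * s := mul_le_mul_of_nonneg_left (by omega) (by omega)
      rcases h.sign with h6 | h6 <;> rw [h6] at h4 <;> omega
  rw [hs1.1, hs1.2] at h4
  obtain rfl : t = 2 := by
    have h5 : t < 3 := lt_of_mul_lt_mul_left (a := e) (by omega) e.zero_le
    have h6 : 1 < t := lt_of_mul_lt_mul_left (a := e) (by omega) e.zero_le
    omega
  refine ⟨by omega, ?_⟩
  have h5 := hsum fun d => (d : ℤ) ^ 2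
  have h6 : ∑ χ : IrrCharacter G, (deg χ : ℤ) ^ 2 = Nat.card G := by exact_mod_cast sum_deg_sq
  rw [h6, hO1, Finset.sum_singleton, hχ,
    Finset.sum_congr rfl fun ψ hψ => show (deg ψ : ℤ) ^ 2 = (1 + p ^ 2) + 2 * p * δ ψ by
      rw [hX1 ψ hψ]
      linear_combination h.sign_X_mul_self (Finset.mem_of_mem_erase hψ),
    Finset.sum_add_distrib, ← Finset.mul_sum, Finset.sum_const, nsmul_eq_mul, hc,
    show (deg θ : ℤ) = e + 1 by omega] at h5
  change _ = _ + (_ + _ * s) + _ + _ at h5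
  have h7 : 1 ≤ p ^ 2 := Nat.one_le_pow _ _ hp.out.pos
  zify [h7]
  rw [h5, hs1.1, ← het']
  push_cast
  ring

/-- The hypotheses. -/
structure Hyp (P : Sylow p G) (E : Subgroup G) (χ : IrrCharacter G) : Prop where
  card : Nat.card P = p
  cent : centralizer ((P : Subgroup G) : Set G) ≤ P
  sup : (P : Subgroup G) ⊔ E = normalizer ((P : Subgroup G) : Set G)
  inf : (P : Subgroup G) ⊓ E = ⊥
  cardN : Nat.card (normalizer (E : Set G)) = 2 * Nat.card E
  ti : ∀ g : G, g ∉ normalizer (E : Set G) → E ⊓ E.map (MulAut.conj g).toMonoidHom = ⊥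
  deg_eq : deg χ = p
  uniq : ∀ ψ : IrrCharacter G, deg ψ = p → ψ = χ
  normal : ∀ K : Subgroup G, K.Normal → K ≠ ⊥ → p ∣ Nat.card K

namespace Hyp

variable {E : Subgroup G} {χ : IrrCharacter G} (h : Hyp P E χ)
include h

theorem le_norm : E ≤ normalizer ((P : Subgroup G) : Set G) := h.sup ▸ le_sup_right

theorem card_norm : Nat.card (normalizer ((P : Subgroup G) : Set G)) = p * Nat.card E := by
  have := Local.CD.card_sup_mul_card_inf_of_le_normalizer h.le_norm
  rwa [sup_comm, inf_comm, h.sup, h.inf, card_bot, mul_one, h.card, mul_comm] at this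

theorem relIndex_eq : (centralizer ((P : Subgroup G) : Set G)).relIndex
    (normalizer ((P : Subgroup G) : Set G)) = Nat.card E :=
  Nat.eq_of_mul_eq_mul_left hp.out.pos ((Lt.card_nz h.card h.cent rfl).symm.trans h.card_norm)

theorem not_dvd : ¬ p ∣ Nat.card E := fun h1 =>
  not_sq_dvd h.card ((sq p ▸ h.card_norm ▸ Nat.mul_dvd_mul_left p h1).trans
    (card_subgroup_dvd_card _))

theorem eq_one {g : G} (hg : g ∈ E) (hc : g ∈ centralizer ((P : Subgroup G) : Set G)) : g = 1 :=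
  h.inf.le ⟨h.cent hc, hg⟩

theorem isCyclic : IsCyclic E := isCyclic_of_inf_eq_bot h.card h.le_norm fun _ => h.eq_one

theorem comm {a b : G} (ha : a ∈ E) (hb : b ∈ E) : a * b = b * a :=
  congrArg Subtype.val (h.isCyclic.commutative.is_comm.comm ⟨a, ha⟩ ⟨b, hb⟩)

omit [Finite G] hp in
theorem mem_norm {y g : G} (hy : y ∈ E) (h1 : y ≠ 1) (hg : g * y * g⁻¹ ∈ E) :
    g ∈ normalizer (E : Set G) := by
  by_contra h2
  exact h1 (conj_eq_one_iff.1 ((h.ti g h2).le ⟨hg, y, hy, rfl⟩))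

omit [Finite G] hp in
theorem centralizer_le {y : G} (hy : y ∈ E) (h1 : y ≠ 1) :
    centralizer {y} ≤ normalizer (E : Set G) := fun g hg => h.mem_norm hy h1 (by
  rwa [mem_centralizer_singleton_iff.1 hg, mul_inv_cancel_right])

theorem sq_le : p ^ 2 ≤ Nat.card G := by
  rw [← sum_deg_sq, ← h.deg_eq]
  exact Finset.single_le_sum (f := fun ψ : IrrCharacter G => deg ψ ^ 2) (fun _ _ => Nat.zero_le _)
    (Finset.mem_univ χ)

theorem ne_bot : E ≠ ⊥ := by
  rintro rfl
  have h1 := h.cardN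
  have h2 := h.sq_le
  have h3 := Nat.pow_le_pow_left hp.out.two_le 2
  rw [normalizer_eq_top, card_top, card_bot] at h1
  omega

theorem exists_lin : ∃ μ : E →* ℂˣ, ∀ g : E, g ≠ 1 → (χ : G → ℂ) g = μ g := by
  have := Fintype.ofFinite (P : Subgroup G)
  have hp0 : (p : ℂ) ≠ 0 := Nat.cast_ne_zero.2 hp.out.ne_zero
  obtain ⟨μ, hμ⟩ := (isCharacter_avg' χ.2.isCharacter P E h.le_norm).exists_monoidHom_of_apply_one (by
    rw [Finset.sum_eq_single 1 (fun x _ hx => apply_eq_zero_of_dvd_degree hp.out (not_sq_dvd h.card)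
      χ h.deg_eq.symm.dvd (by
        rw [coe_one, one_mul, orderOf_of_mem h.card x.2 fun h' => hx (Subtype.ext h')])) (by simp),
      coe_one, coe_one, one_mul, ← deg_cast, h.deg_eq, h.card, inv_mul_cancel₀ hp0])
  refine ⟨μ, fun g hg => ?_⟩
  rw [← congrFun hμ g, Finset.sum_congr rfl (g := fun _ => (χ : G → ℂ) g) fun x _ => ?_,
    Finset.sum_const, Finset.card_univ, ← Nat.card_eq_fintype_card, h.card, nsmul_eq_mul,
    inv_mul_cancel_left₀ hp0]
  obtain ⟨y, -, hy⟩ := Lt.exists_conj_mul h.card (h.le_norm g.2)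
    (fun h' => hg (Subtype.ext (h.eq_one g.2 h'))) x.2
  rw [← χ.2.isClassFunction g y, hy, ← χ.2.isClassFunction (g * x) x, ← mul_assoc,
    mul_inv_cancel_right]

theorem perfect : commutator G = ⊤ := by
  refine top_le_iff.1 fun g _ => (mem_commutator_iff_forall_monoidHom g).2 fun lam => ?_
  obtain ⟨μ, hμ⟩ := h.exists_lin
  have h1 := congrArg Subtype.val (h.uniq ⟨_, χ.2.mul_monoidHom lam⟩ (by
    rw [← h.deg_eq]
    simp [deg, charDegree]))
  have h2 : E ≤ lam.ker := fun y hy => by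
    by_cases h3 : y = 1
    · rw [h3]; exact one_mem _
    have h4 : (χ : G → ℂ) y * lam y = (χ : G → ℂ) y := congrFun h1 y
    rw [hμ ⟨y, hy⟩ fun h' => h3 (congrArg Subtype.val h'), mul_eq_left₀ (Units.ne_zero _)] at h4
    exact Units.val_eq_one.1 h4
  have h3 := PS.le_of_dvd_card P h.card lam.ker (h.normal _ inferInstance fun h' =>
    h.ne_bot (le_bot_iff.1 (h' ▸ h2)))
  have h4 := P.normalizer_sup_eq_top' h3
  rw [← P.coe_coe, ← h.sup, sup_eq_right.2 (sup_le h3 h2)] at h4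
  exact h4.ge (mem_top g)

theorem isSimpleGroup : IsSimpleGroup G := by
  have : Nontrivial G := Finite.one_lt_card_iff_nontrivial.1
    (lt_of_lt_of_le (Nat.one_lt_pow two_ne_zero hp.out.one_lt) h.sq_le)
  exact ⟨fun K hK => or_iff_not_imp_left.2 fun h1 => eq_top_of_centralizer_le h.card h.perfect
    (h.cent.trans (PS.le_of_dvd_card P h.card K (h.normal K hK h1)))⟩

theorem card_eq : Nat.card G = p * (Nat.card E * Nat.card (Sylow p G)) :=
  h.relIndex_eq ▸ card_eq_of_centralizer_le h.card h.cent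

theorem even_case (hep : 2 * Nat.card E + 1 ≤ p) (hev : Even (Nat.card E)) :
    2 * Nat.card E + 1 = p ∧ Nat.card (Sylow p G) = p + 1 := by
  obtain ⟨z, hz⟩ := exists_prime_orderOf_dvd_card' 2 hev.two_dvd
  have hz' : orderOf (z : G) = 2 := (orderOf_coe z).trans hz
  obtain ⟨h1, h2⟩ := card_of_ineq h.card h.cent h.perfect h.relIndex_eq hev hep h.deg_eq h.uniq
    (sum_deg_mul_le hz' (h.cardN ▸ card_le_of_le (h.centralizer_le z.2 fun h' => by
      simp [h'] at hz')))
  refine ⟨h1, ?_⟩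
  rw [h.card_eq, mul_left_comm, Nat.mul_right_inj hp.out.ne_zero, ← mul_assoc,
    show p ^ 2 - 1 = 2 * Nat.card E * (p + 1) by
      rw [← h1]; exact Nat.sub_eq_of_eq_add (by ring)] at h2
  exact Nat.eq_of_mul_eq_mul_left (by have := Nat.card_pos (α := E); omega) h2

theorem index_two : (E.subgroupOf (normalizer (E : Set G))).index = 2 := by
  have h1 := (E.subgroupOf (normalizer (E : Set G))).card_mul_index
  rw [Nat.card_congr (subgroupOfEquivOfLe le_normalizer).toEquiv, h.cardN, mul_comm 2] at h1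
  exact Nat.eq_of_mul_eq_mul_left Nat.card_pos h1

theorem mul_mem_iff {a b : G} (ha : a ∈ normalizer (E : Set G)) (hb : b ∈ normalizer (E : Set G)) :
    a * b ∈ E ↔ (a ∈ E ↔ b ∈ E) :=
  mul_mem_iff_of_index_two h.index_two (a := ⟨a, ha⟩) (b := ⟨b, hb⟩)

theorem mem_of_odd {a : G} (ha : a ∈ normalizer (E : Set G)) (ho : Odd (orderOf a)) : a ∈ E := by
  obtain ⟨k, hk⟩ := ho
  have h1 : a ^ 2 ∈ E := by rw [sq, h.mul_mem_iff ha ha]
  have h2 := pow_orderOf_eq_one a
  rw [hk, pow_succ, pow_mul, mul_eq_one_iff_inv_eq] at h2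
  exact h2 ▸ inv_mem (pow_mem h1 k)

theorem eq_one_of_comm (hodd : Odd (Nat.card E)) {u : G} (hu : u ∈ normalizer (E : Set G))
    (hu' : u ∉ E) {y : G} (hy : y ∈ E) (hc : u * y = y * u) : y = 1 := by
  have := h.isSimpleGroup
  by_contra h1
  obtain ⟨r, hr, hry⟩ := Nat.exists_prime_and_dvd (mt orderOf_eq_one_iff.1 h1)
  have : Fact r.Prime := ⟨hr⟩
  set y₀ := y ^ (orderOf y / r)
  have ho : orderOf y₀ = r := orderOf_pow_orderOf_div (orderOf_pos y).ne' hry
  have hy₀ : y₀ ∈ E := pow_mem hy _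
  have hc₀ : u * y₀ = y₀ * u := (show Commute u y from hc).pow_right _
  have hr2 : Odd r := hodd.of_dvd_nat (hry.trans (orderOf_dvd_natCard _ hy))
  have hy1 : y₀ ≠ 1 := fun h' => hr.ne_one (by rw [← ho, h', orderOf_one])
  obtain ⟨R, hR⟩ := (IsPGroup.of_card (p := r) (n := 1) (G := zpowers y₀)
    (by rw [Nat.card_zpowers, ho, pow_one])).exists_le_sylow
  have hyR : y₀ ∈ (R : Subgroup G) := hR (mem_zpowers y₀)
  have hRo : ∀ a ∈ (R : Subgroup G), Odd (orderOf a) := fun a ha => by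
    obtain ⟨k, hk⟩ := IsPGroup.iff_orderOf.1 R.isPGroup' ⟨a, ha⟩
    rw [← orderOf_coe] at hk
    exact hk ▸ hr2.pow
  have hR1 : (R : Subgroup G) ≠ ⊥ := fun h' => hy1 (h'.le hyR)
  have hRE : (R : Subgroup G) ≤ E := by
    have := (nontrivial_iff_ne_bot _).2 hR1
    have := R.isPGroup'.center_nontrivial
    obtain ⟨z, hz⟩ := exists_ne (1 : center R)
    have h2 : ∀ a ∈ (R : Subgroup G), a * z = z * a := fun a ha =>
      congrArg Subtype.val (mem_center_iff.1 z.2 ⟨a, ha⟩)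
    have h3 : ((z : R) : G) ∈ E := h.mem_of_odd (h.centralizer_le hy₀ hy1
      (mem_centralizer_singleton_iff.2 (h2 _ hyR).symm)) (hRo _ z.1.2)
    exact fun a ha => h.mem_of_odd (h.centralizer_le h3 (fun h' => hz (Subtype.ext (Subtype.ext h')))
      (mem_centralizer_singleton_iff.2 (h2 a ha))) (hRo a ha)
  refine Known.SC.not_normalizer_le_centralizer R hR1 (fun h' => hu' (hRE (h'.ge (mem_top u))))
    fun g hg => ?_
  have hgD := h.mem_norm hy₀ hy1 (hRE ((mem_normalizer_iff.1 hg y₀).1 hyR))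
  by_cases hgE : g ∈ E
  · exact fun w hw => h.comm (hRE hw) hgE
  have hgy : g * y₀ = y₀ * g := by
    have h2 : g * u⁻¹ ∈ E := by rw [h.mul_mem_iff hgD (inv_mem hu), inv_mem_iff]; tauto
    calc g * y₀ = g * u⁻¹ * (u * y₀) := by group
      _ = y₀ * (g * u⁻¹) * u := by rw [hc₀, ← mul_assoc, h.comm h2 hy₀]
      _ = _ := by group
  intro w hw
  by_contra h2
  set c := w⁻¹ * (g * w * g⁻¹) with hc'
  have hgw : g * w * g⁻¹ ∈ (R : Subgroup G) := (mem_normalizer_iff.1 hg w).1 hw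
  have hcR : c ∈ (R : Subgroup G) := mul_mem (inv_mem hw) hgw
  have hc1 : c ≠ 1 := fun h' => h2 (by
    rw [hc', inv_mul_eq_one] at h'
    exact eq_mul_inv_iff_mul_eq.1 h')
  have hgc : g * c * g⁻¹ = c⁻¹ := by
    have h3 : g * g * w = w * (g * g) := h.comm (by rw [h.mul_mem_iff hgD hgD]) (hRE hw)
    calc g * c * g⁻¹ = (g * w * g⁻¹)⁻¹ * (g * g * w) * (g * g)⁻¹ := by rw [hc']; group
      _ = _ := by rw [h3, hc']; group
  have hyc : y₀ ∈ zpowers c := by
    have := h.isCyclic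
    refine Solv.PG.le_of_card_dvd_of_isCyclic (zpowers_le.2 hy₀) (zpowers_le.2 (hRE hcR)) ?_
      (mem_zpowers _)
    obtain ⟨k, hk⟩ := IsPGroup.iff_orderOf.1 R.isPGroup' ⟨c, hcR⟩
    rw [← orderOf_coe] at hk
    rw [Nat.card_zpowers, Nat.card_zpowers, ho, hk]
    exact dvd_pow_self r fun h' => hc1 (by rwa [h', pow_zero, orderOf_eq_one_iff] at hk)
  obtain ⟨k, hk⟩ := hyc
  simp only at hk
  have h3 : y₀ = y₀⁻¹ := by
    calc y₀ = g * y₀ * g⁻¹ := by rw [hgy, mul_inv_cancel_right]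
      _ = _ := by rw [← hk, ← conj_zpow, hgc, inv_zpow]
  have h4 : orderOf y₀ ∣ 2 := orderOf_dvd_of_pow_eq_one (by rw [sq]; exact mul_eq_one_iff_eq_inv.2 h3)
  rw [ho, Nat.prime_dvd_prime_iff_eq hr Nat.prime_two] at h4
  exact absurd hr2 (by rw [h4]; decide)

theorem conj_eq_inv (hodd : Odd (Nat.card E)) {u : G} (hu : u ∈ normalizer (E : Set G))
    (hu' : u ∉ E) {y : G} (hy : y ∈ E) : u * y * u⁻¹ = y⁻¹ := by
  have h1 : u * y * u⁻¹ ∈ E := (mem_normalizer_iff.1 hu y).1 hy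
  refine eq_inv_of_mul_eq_one_right (h.eq_one_of_comm hodd hu hu' (mul_mem hy h1) ?_)
  have h3 : u * u * y = y * (u * u) := h.comm (by rw [h.mul_mem_iff hu hu]) hy
  calc u * (y * (u * y * u⁻¹)) = u * y * u⁻¹ * ((u * u * y) * (u * u)⁻¹) * u := by group
    _ = u * y * u⁻¹ * y * u := by rw [h3]; group
    _ = _ := by rw [h.comm h1 hy]

theorem exists_notMem : ∃ u ∈ normalizer (E : Set G), u ∉ E := by
  by_contra h1
  push Not at h1
  have h2 := h.index_two
  rw [subgroupOf_eq_top.2 h1, index_top] at h2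
  omega

theorem indFun_apply [Fintype G] (hodd : Odd (Nat.card E)) {θ : E → ℂ} (h1 : θ 1 = 0) (y : E) :
    indFun E θ y = θ y + θ y⁻¹ := by
  classical
  by_cases hy : y = 1
  · rw [hy, coe_one, indFun_one, inv_one, h1, mul_zero, add_zero]
  have hy' : (y : G) ≠ 1 := fun h' => hy (Subtype.ext h')
  have h2 : ∀ g : G, extendByZero E θ (g * y * g⁻¹) = (if g ∈ E then θ y else 0) +
      if g ∈ normalizer (E : Set G) ∧ g ∉ E then θ y⁻¹ else 0 := fun g => by
    by_cases hg : g ∈ E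
    · rw [h.comm hg y.2, mul_inv_cancel_right, extendByZero_coe]; simp [hg]
    by_cases hg' : g ∈ normalizer (E : Set G)
    · rw [h.conj_eq_inv hodd hg' hg y.2, ← coe_inv, extendByZero_coe]; simp [hg, hg']
    · rw [extendByZero_of_notMem _ _ fun h' => hg' (h.mem_norm y.2 hy' h')]; simp [hg, hg']
  have h3 : ∀ K : Subgroup G, (Finset.univ.filter (· ∈ K)).card = Nat.card K := fun K => by
    rw [Nat.card_eq_fintype_card, Fintype.card_subtype]
  have h4 : (Finset.univ.filter fun g => g ∈ normalizer (E : Set G) ∧ g ∉ E).card = Nat.card E := by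
    have h5 := Finset.card_filter_add_card_filter_not (s := Finset.univ.filter
      (· ∈ normalizer (E : Set G))) (· ∈ E)
    rw [Finset.filter_filter, Finset.filter_filter, h3, h.cardN,
      Finset.filter_congr (q := (· ∈ E)) fun g _ => and_iff_right_of_imp fun hg => le_normalizer hg,
      h3] at h5
    omega
  rw [indFun_apply', Finset.sum_congr rfl fun g _ => h2 g, Finset.sum_add_distrib,
    ← Finset.sum_filter, ← Finset.sum_filter, Finset.sum_const, Finset.sum_const, h3, h4,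
    ← nsmul_add, nsmul_eq_mul, inv_mul_cancel_left₀ (card_ne_zero E)]

theorem exists_real_succ (hodd : Odd (Nat.card E)) : ∃ ψ : G → ℂ, IsIrrCharacter G ψ ∧
    (∀ g, (ψ g).im = 0) ∧ ψ 1 = (p + 1 : ℕ) := by
  classical
  have := Fintype.ofFinite G
  have := Fintype.ofFinite E
  have hsq : ∀ ν : E →* ℂˣ, ν⁻¹ = ν → ν = 1 := fun ν hν => MonoidHom.ext fun g => by
    obtain ⟨k, hk⟩ := hodd
    have h1 : ν g * ν g = 1 := mul_eq_one_iff_inv_eq.2 (DFunLike.congr_fun hν g)
    have h2 := congrArg ν (pow_card_eq_one' (x := g))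
    rwa [hk, map_pow, pow_succ, pow_mul, sq, h1, one_pow, one_mul, map_one] at h2
  obtain ⟨u, hu, hu'⟩ := h.exists_notMem
  obtain ⟨μ, hμ⟩ := h.exists_lin
  obtain rfl : μ = 1 := hsq μ (MonoidHom.ext fun g => by
    by_cases hg : g = 1
    · simp [hg]
    refine Units.ext ?_
    rw [MonoidHom.inv_apply, ← map_inv, ← hμ g hg, ← hμ _ (inv_ne_one.2 hg), coe_inv,
      ← h.conj_eq_inv hodd hu hu' g.2, χ.2.isClassFunction])
  obtain ⟨y, hy⟩ := E.ne_bot_iff_exists_ne_one.1 h.ne_bot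
  obtain ⟨lam, hlam⟩ := exists_monoidHom_apply_ne_one_of_comm
    (fun a b : E => Subtype.ext (h.comm a.2 b.2)) hy
  have hl1 : lam ≠ 1 := fun h' => hlam (by rw [h']; rfl)
  have hl2 : lam⁻¹ ≠ lam := fun h' => hl1 (hsq _ h')
  let c : (E →* ℂˣ) → E → ℂ := fun ν g => ν g
  have hc : ∀ a b, classInner (c a) (c b) = if a = b then 1 else 0 := fun a b => by
    convert classInner_monoidHom a b
  let θ : E → ℂ := c 1 - c lam
  have hθ1 : θ 1 = 0 := by simp [θ, c]
  have hθ : IsGeneralizedCharacter E θ := ⟨_, _, (isIrrCharacter_monoidHom 1).isCharacter,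
    (isIrrCharacter_monoidHom lam).isCharacter, rfl⟩
  have hΘ := isGeneralizedCharacter_indFun hθ
  have e1 : classInner (indFun E θ) (indFun E θ) = 3 := by
    rw [classInner_indFun_left _ _ (indFun_isClassFunction E θ),
      show (fun g : E => indFun E θ g) = θ + (c 1 - c lam⁻¹) from funext fun g => by
        rw [h.indFun_apply hodd hθ1]; simp [θ, c]]
    simp only [θ, classInner_add_right, classInner_sub_left, classInner_sub_right, hc]
    have hl3 : 1 ≠ lam⁻¹ := fun h' => hlam (inv_eq_one.1 (DFunLike.congr_fun h' y).symm)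
    simp [hl1, hl1.symm, hl2.symm, hl3]
    norm_num
  have e0 : classInner θ (fun _ => 1) = 1 := by
    change classInner (c 1 - c lam) (c 1) = 1
    simp [classInner_sub_left, hc, hl1]
  have e2 : classInner (indFun E θ) (fun _ => 1) = 1 := by rw [classInner_indFun_const, e0]
  have e3 : classInner (indFun E θ) χ = 1 := by
    rw [classInner_indFun_congr E {1}ᶜ (fun x hx => by
      rw [show x = 1 from Subtype.ext (by simpa using hx), hθ1]) χ.2.isClassFunction (fun _ => 1)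
      fun x hx => hμ x fun h' => hx (congrArg Subtype.val h'), e0]
  have hχ1 : (fun _ => 1) ≠ (χ : G → ℂ) := fun h' => hp.out.ne_one (by
    have := congrFun h' 1
    rw [← deg_cast, h.deg_eq] at this
    exact_mod_cast this.symm)
  obtain ⟨a1, a2, -⟩ := peel_irr hΘ isIrrCharacter_one (Or.inl rfl) e2
  obtain ⟨b1, b2, -⟩ := peel_irr a1 χ.2 (Or.inl rfl) (by
    rw [classInner_sub_left, e3, one_smul, isIrrCharacter_one.classInner_of_ne χ.2 hχ1, sub_zero])
  obtain ⟨ψ, ε, hψ, hε, hεψ⟩ := exists_eq_sign_smul_of_norm_one b1 (by rw [b2, a2, e1]; norm_num)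
  have hval : ∀ g, ε * ψ g = indFun E θ g - 1 - (χ : G → ℂ) g := fun g => by
    simpa using (congrFun hεψ g).symm
  have h1 := hval 1
  rw [indFun_one, hθ1, ← deg_cast, h.deg_eq] at h1
  obtain rfl : ε = -1 := hε.resolve_left fun h' => by
    rw [h', one_mul, show ψ 1 = _ from (deg_cast ⟨ψ, hψ⟩).symm] at h1
    have : (deg ⟨ψ, hψ⟩ : ℤ) = -1 - p := by
      have h2 : ((deg ⟨ψ, hψ⟩ : ℤ) : ℂ) = ((-1 - p : ℤ) : ℂ) := by push_cast; rw [h1]; ring
      exact_mod_cast h2
    omega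
  refine ⟨ψ, hψ, fun g => ?_, by push_cast; linear_combination -h1⟩
  have h2 : ((χ : G → ℂ) g).im = 0 := by
    rw [← Complex.conj_eq_iff_im]
    refine congrFun (congrArg Subtype.val (h.uniq ⟨_, χ.2.conj⟩ ?_)) g
    rw [← h.deg_eq]
    simp [deg, charDegree]
  have h3 : (indFun E θ g).im = 0 := by
    rw [← hΘ.apply_inv_eq_iff]
    by_cases h4 : ∃ x : G, x * g * x⁻¹ ∈ E
    · obtain ⟨x, hx⟩ := h4
      rw [← indFun_conj_apply E θ g (u * x), ← indFun_conj_apply E θ g⁻¹ x, ← conj_inv,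
        ← h.conj_eq_inv hodd hu hu' hx]
      congr 1
      group
    · push Not at h4
      rw [indFun_eq_zero_of_not_conj E θ h4, indFun_eq_zero_of_not_conj E θ fun x hx =>
        h4 x (by simpa [mul_assoc] using inv_mem hx)]
  have h4 := congrArg Complex.im (hval g)
  simpa [h2, h3] using h4

theorem odd_case (hep : 2 * Nat.card E + 1 ≤ p) (hodd : Odd (Nat.card E)) (H : Subgroup G)
    (hH : H.index = p) : 2 * Nat.card E + 1 = p ∧ Nat.card (Sylow p G) = p + 1 := by
  have := h.isSimpleGroup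
  have := h.isCyclic
  have := Fintype.ofFinite G
  have := Fintype.ofFinite H
  obtain ⟨x, hxP, hx1⟩ := exists_ne_one h.card
  have hx := zpowers_eq h.card hxP hx1
  obtain ⟨y, hy⟩ := IsCyclic.exists_generator (α := E)
  have hyE : zpowers (y : G) = E := le_antisymm (zpowers_le.2 y.2) fun g hg => by
    obtain ⟨k, hk⟩ := hy ⟨g, hg⟩
    exact ⟨k, congrArg Subtype.val hk⟩
  have hoy : orderOf (y : G) = Nat.card E := by rw [← Nat.card_zpowers, hyE]
  have he0 : 0 < Nat.card E := Nat.card_pos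
  have hp2 : p ≠ 2 := by omega
  obtain ⟨u, hu, hu'⟩ := h.exists_notMem
  obtain ⟨ψ, hψ, hre, hd⟩ := h.exists_real_succ hodd
  have hxc := centralizer_singleton_eq h.card hxP hx1
  obtain ⟨-, h1, h2⟩ := TI.index_of_real_succ (x := x) (y := y) hp2 P hx
    ⟨hx ▸ h.card, hx ▸ le_normalizer, hx ▸ le_rfl, hx ▸ TI.free_of_ti P (TI.ti_of_card P h.card),
      h.le_norm y.2, hoy ▸ h.not_dvd, fun n hn => by
        rw [← h.sup, ← SetLike.mem_coe, coe_mul_of_right_le_normalizer_left _ _ h.le_norm] at hn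
        obtain ⟨z, hz, g, hg, rfl⟩ := hn
        exact ⟨z, hx.ge hz, g, hyE.ge hg, rfl⟩⟩ (hoy ▸ hodd)
    (fun h' => h.ne_bot (by rw [← hyE, h.eq_one y.2 (hxc ▸ h'), zpowers_one_eq_bot]))
    (isConj_iff.2 ⟨u, h.conj_eq_inv hodd hu hu' y.2⟩) (by
      rw [hoy]
      refine Nat.Coprime.mul_dvd_of_dvd_of_dvd (Nat.coprime_two_left.2 hodd) ?_
        (h.relIndex_eq ▸ PS.relIndex_dvd P h.card)
      exact (hp.out.even_sub_one hp2).two_dvd) hψ hre hd H (fun h' => not_sq_dvd h.card (by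
      rw [← H.card_mul_index, hH, sq]
      exact Nat.mul_dvd_mul_right h' p)) (by
      by_contra h3
      have h4 := B0.sum_deg_le (isCharacter_indFun_one H) (n := p)
        (by rw [indFun_one, hH, mul_one]) {⟨ψ, hψ⟩} (by
          simp only [Finset.mem_singleton, forall_eq]
          rw [classInner_indFun_left _ _ hψ.isClassFunction]
          intro h4
          simp only [classInner, one_mul, ← map_sum, mul_eq_zero, inv_eq_zero, map_eq_zero] at h4
          exact h4.elim (card_ne_zero H) h3)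
      rw [Finset.sum_singleton] at h4
      have h5 : deg ⟨ψ, hψ⟩ = p + 1 := by exact_mod_cast (deg_cast ⟨ψ, hψ⟩).trans hd
      omega)
  rw [hxc, h.relIndex_eq] at h2
  exact ⟨by omega, P.card_eq_index_normalizer.trans h1⟩

theorem main (hne : Nat.card E ≠ p - 1) (H : Subgroup G) (hH : H.index = p) :
    3 < p ∧ Nonempty (G ≃* Matrix.ProjectiveSpecialLinearGroup (Fin 2) (ZMod p)) := by
  have := h.isSimpleGroup
  have h2 := h.relIndex_eq ▸ two_le_relIndex h.card h.perfect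
  have hep : 2 * Nat.card E + 1 ≤ p := by
    obtain ⟨t, ht⟩ := h.relIndex_eq ▸ PS.relIndex_dvd P h.card
    have := hp.out.two_le
    rcases t with _ | _ | t
    · omega
    · omega
    · rw [mul_add, mul_add] at ht; omega
  obtain ⟨h3, h4⟩ := (Nat.even_or_odd (Nat.card E)).elim (h.even_case hep)
    fun ho => h.odd_case hep ho H hH
  refine ⟨by omega, Known.psl2_of_card_sylow (by omega) ?_ h4⟩
  rw [h.card_eq, h4, mul_left_comm, ← mul_assoc 2]
  congr 1
  rw [← h3]
  exact (Nat.sub_eq_of_eq_add (by ring)).symm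

end Hyp

end Cfsg.Lib.Block.UD
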