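import Cfsg.Agent.Block.UniTensor
import Cfsg.Agent.Block.UniqDeg
import Cfsg.Agent.Block.DegPm2

/-!
# Characters of degree `p - e`: the linear constituent on the normalizer, and the reduction
-/

set_option autoImplicit false

namespace Cfsg.Lib.Block.Lat

open Module Subgroup Representation Polynomial IsLocalRing Matrix Cfsg.Lib.Char Cfsg.Lib.Block.TI
  Cfsg.Lib.Block.SD
open scoped ComplexConjugate

variable {p : ℕ} [hp : Fact p.Prime] {G : Type*} [Group G] [Finite G]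

/-- A Sylow subgroup `⟨x⟩` of order `p` with centralizer `⟨x⟩ Z(G)`. -/
structure GD (P : Sylow p G) (x : G) (H : Subgroup (ZMod p)ˣ) (E : Subgroup G)
    (r : G → (ZMod p)ˣ) : Prop where
  hxP : zpowers x = P
  hx : orderOf x = p
  nZ : x ∉ center G
  cent : ∀ c ∈ centralizer {x}, ¬ p ∣ orderOf c → c ∈ center G
  le : E ≤ normalizer ((P : Subgroup G) : Set G)
  ndvd : ¬ p ∣ Nat.card E
  decomp : ∀ n ∈ normalizer ((P : Subgroup G) : Set G), ∃ y ∈ (P : Subgroup G), ∃ e ∈ E, n = y * e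
  cj : ∀ n ∈ normalizer ((P : Subgroup G) : Set G), r n ∈ H ∧ n * x * n⁻¹ = xp x (r n : ZMod p)
  surj : ∀ h ∈ H, ∃ g ∈ E, r g = h
  two : 2 * Nat.card H + 1 ≤ p

theorem eq_of_card_eq {A : Type*} [Group A] [Finite A] [IsCyclic A] {H L : Subgroup A}
    (h : Nat.card H = Nat.card L) : H = L := by
  obtain ⟨g, hg⟩ := IsCyclic.exists_generator (α := A)
  have key : ∀ H : Subgroup A, H = zpowers (g ^ H.index) := fun H => by
    refine (eq_of_le_of_card_ge (zpowers_le.2 (pow_index_mem H g)) ?_).symm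
    rw [Nat.card_zpowers, orderOf_pow_of_dvd H.index_ne_zero_of_finite, orderOf_eq_card_of_forall_mem_zpowers hg,
      ← H.index_mul_card, Nat.mul_div_cancel_left _ (Nat.pos_of_ne_zero H.index_ne_zero_of_finite)]
    rw [orderOf_eq_card_of_forall_mem_zpowers hg]
    exact H.index_dvd_card
  have h1 : H.index = L.index := Nat.eq_of_mul_eq_mul_right Nat.card_pos
    (H.index_mul_card.trans (h ▸ L.index_mul_card.symm))
  rw [key H, key L, h1]

theorem exists_gd (P : Sylow p G) {x : G} (hxP : zpowers x = P) (hx : orderOf x = p)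
    (nZ : x ∉ center G) (cent : ∀ c ∈ centralizer {x}, ¬ p ∣ orderOf c → c ∈ center G)
    {H : Subgroup (ZMod p)ˣ}
    (hH : Nat.card H = (centralizer {x}).relIndex (normalizer ((zpowers x : Subgroup G) : Set G)))
    (two : 2 * Nat.card H + 1 ≤ p) : ∃ E r, GD P x H E r := by
  classical
  obtain ⟨E, h1, h2, h3⟩ := exists_compl_normalizer P
  obtain ⟨r, hr, hk⟩ := exists_hom hx
  have h4 : r.range = H := by
    refine eq_of_card_eq ?_
    rw [hH, ← index_ker, hk, CD.Cz, PS.centralizer_zpowers]; rfl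
  let s : G → (ZMod p)ˣ := fun g => if h : g ∈ CD.Nz (zpowers x) then (r ⟨g, h⟩)⁻¹ else 1
  have h5 : ∀ n : CD.Nz (zpowers x), s n = (r n)⁻¹ := fun n => dif_pos n.2
  refine ⟨E, s, hxP, hx, nZ, cent, h1, h2, h3, fun n hn => ?_, fun h hh => ?_, two⟩
  · rw [← hxP] at hn
    refine ⟨h5 ⟨n, hn⟩ ▸ inv_mem (h4 ▸ ⟨_, rfl⟩), ?_⟩
    have := hr ⟨n, hn⟩⁻¹ 1
    rwa [xp_one hx, one_mul, map_inv, ← h5, coe_inv, inv_inv] at this
  · obtain ⟨n, hn⟩ := h4.ge (inv_mem hh)
    obtain ⟨y, hy, e, he, h6⟩ := h3 n (hxP ▸ n.2)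
    have he' : e ∈ CD.Nz (zpowers x) := hxP ▸ h1 he
    have hy' : y ∈ CD.Nz (zpowers x) := le_normalizer (hxP.ge hy)
    have h7 : r ⟨y, hy'⟩ = 1 := by
      rw [← MonoidHom.mem_ker, hk]
      exact PS.le_centralizer_of_card ((Nat.card_zpowers x).trans hx) (hxP.ge hy)
    refine ⟨e, he, ?_⟩
    rw [h5 ⟨e, he'⟩, ← one_mul (r _), ← h7, ← map_mul, inv_eq_iff_eq_inv, ← hn]
    exact congrArg r (Subtype.ext h6.symm)

/-- The linear constituent of a character of degree `p - e` on the normalizer. -/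
noncomputable def lam (p : ℕ) [NeZero p] (x : G) (χ : G → ℂ) (g : G) : ℂ :=
  (p : ℂ)⁻¹ * ∑ j : ZMod p, χ (xp x j * g)

/-- A character of degree `p - e`. -/
structure Sm (x : G) (H : Subgroup (ZMod p)ˣ) (ψ : AddChar (ZMod p) ℂ) (χ : G → ℂ) : Prop where
  irr : IsIrrCharacter G χ
  ne : ψ ≠ 1
  deg : χ 1 = (p - Nat.card H : ℕ)
  val : ∀ j, j ≠ 0 → χ (xp x j) = -eta H ψ j

namespace GD

variable {P : Sylow p G} {x : G} {H : Subgroup (ZMod p)ˣ} {E : Subgroup G} {r : G → (ZMod p)ˣ}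
  (h : GD P x H E r)
include h

local notation "N" => normalizer ((P : Subgroup G) : Set G)

theorem card_P : Nat.card P = p := h.hxP ▸ (Nat.card_zpowers x).trans h.hx

theorem xp_mem_N (j : ZMod p) : xp x j ∈ N := le_normalizer (h.hxP.le (xp_mem j))

theorem x_mem_N : x ∈ N := le_normalizer (h.hxP.le (mem_zpowers x))

theorem conj_xp' {n : G} (hn : n ∈ N) (j : ZMod p) : 
    n * xp x j * n⁻¹ = xp x ((r n : ZMod p) * j) := by
  rw [xp_mul h.hx, ← (h.cj n hn).2, conj_pow]; rfl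

theorem r_mul {a b : G} (ha : a ∈ N) (hb : b ∈ N) : r (a * b) = r a * r b :=
  Units.ext (xp_injective h.hx (by
    rw [← (h.cj _ (mul_mem ha hb)).2, Units.val_mul, ← h.conj_xp' ha, ← (h.cj _ hb).2]; group))

theorem r_eq_one_iff {a : G} (ha : a ∈ N) : r a = 1 ↔ a ∈ centralizer {x} := by
  rw [Units.ext_iff, ← (xp_injective h.hx).eq_iff, ← (h.cj a ha).2, Units.val_one, xp_one h.hx,
    mem_centralizer_singleton_iff, mul_inv_eq_iff_eq_mul]

theorem r_one : r 1 = 1 := (h.r_eq_one_iff (one_mem _)).2 (one_mem _)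

theorem not_dvd {g : G} (hg : g ∈ E) : ¬ p ∣ orderOf g :=
  fun h' => h.ndvd (h'.trans (orderOf_dvd_natCard _ hg))

theorem r_eq_one_iff' {g : G} (hg : g ∈ E) : r g = 1 ↔ g ∈ center G := by
  rw [h.r_eq_one_iff (h.le hg)]
  exact ⟨fun h' => h.cent g h' (h.not_dvd hg), fun h' => center_le_centralizer _ h'⟩

theorem r_pow_card {g : G} (hg : g ∈ N) : r g ^ Nat.card H = 1 :=
  congrArg Subtype.val (pow_card_eq_one' (x := (⟨r g, (h.cj g hg).1⟩ : H)))

/-- The action on `⟨x⟩` as a homomorphism. -/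
def rE : E →* (ZMod p)ˣ where
  toFun g := r g
  map_one' := h.r_one
  map_mul' a b := h.r_mul (h.le a.2) (h.le b.2)

theorem range_rE : h.rE.range = H :=
  le_antisymm (by rintro _ ⟨g, rfl⟩; exact (h.cj g (h.le g.2)).1) fun a ha => by
    obtain ⟨g, hg, h1⟩ := h.surj a ha
    exact ⟨⟨g, hg⟩, h1⟩

theorem bij : Function.Bijective fun t : ZMod p × E =>
    (⟨xp x t.1 * t.2, mul_mem (h.xp_mem_N _) (h.le t.2.2)⟩ : N) := by
  refine ⟨fun s t hst => ?_, fun n => ?_⟩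
  · have h1 : xp x s.1 * s.2 = xp x t.1 * t.2 := congrArg Subtype.val hst
    have h2 : xp x (-t.1 + s.1) = t.2 * (s.2 : G)⁻¹ := by
      rw [xp_add h.hx, xp_neg h.hx, eq_mul_inv_iff_mul_eq, mul_assoc, h1, inv_mul_cancel_left]
    have h3 : xp x (-t.1 + s.1) ∈ E ⊓ (P : Subgroup G) :=
      ⟨h2 ▸ E.mul_mem t.2.2 (E.inv_mem s.2.2), h.hxP.le (xp_mem _)⟩
    rw [PS.inf_eq_bot_of_not_dvd h.card_P h.ndvd, mem_bot, xp_eq_one_iff h.hx,
      neg_add_eq_zero] at h3
    rw [h3] at h1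
    exact Prod.ext h3.symm (Subtype.ext (mul_left_cancel h1))
  · obtain ⟨y, hy, e, he, h1⟩ := h.decomp n n.2
    obtain ⟨j, rfl⟩ := exists_xp h.hx (h.hxP.ge hy)
    exact ⟨(j, ⟨e, he⟩), Subtype.ext h1.symm⟩

theorem sum_N [Fintype N] [Fintype E] (f : G → ℂ) :
    ∑ n : N, f n = ∑ g : E, ∑ j : ZMod p, f (xp x j * g) := by
  rw [← Fintype.sum_bijective _ h.bij (fun t => f (xp x t.1 * t.2)) _ fun _ => rfl,
    Fintype.sum_prod_type_right]

theorem card_N : Nat.card N = p * Nat.card E := by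
  rw [← Nat.card_eq_of_bijective _ h.bij, Nat.card_prod, Nat.card_zmod]

theorem apply_xp_mul {f : G → ℂ} (hf : IsClassFunction G f) {g : G} (hg : g ∈ N) (h1 : r g ≠ 1)
    (j : ZMod p) : f (xp x j * g) = f g := by
  have h2 : 1 - (r g : ZMod p) ≠ 0 := fun h' => h1 (Units.ext (sub_eq_zero.1 h').symm)
  rw [← hf.apply_conj g (xp x (j / (1 - (r g : ZMod p)))), ← xp_neg h.hx]
  congr 1
  rw [mul_assoc, ← mul_inv_cancel_right (g * _) g⁻¹, inv_inv, h.conj_xp' hg, ← mul_assoc,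
    ← xp_add h.hx]
  congr 2
  field_simp
  ring

theorem lam_xp_mul (χ : G → ℂ) (i : ZMod p) (g : G) : lam p x χ (xp x i * g) = lam p x χ g := by
  rw [lam, lam]
  congr 1
  exact Fintype.sum_equiv (Equiv.addRight i) _ _ fun j => by
    rw [← mul_assoc, ← xp_add h.hx]; rfl

theorem apply_eq_lam {f : G → ℂ} (hf : IsClassFunction G f) {g : G} (hg : g ∈ N) (h1 : r g ≠ 1) :
    f g = lam p x f g := by
  rw [lam, Finset.sum_congr rfl fun j _ => h.apply_xp_mul hf hg h1 j, Finset.sum_const,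
    Finset.card_univ, ZMod.card, nsmul_eq_mul,
    inv_mul_cancel_left₀ (Nat.cast_ne_zero.2 hp.out.ne_zero)]

variable {ψ : AddChar (ZMod p) ℂ} {χ : G → ℂ} (s : Sm x H ψ χ)
include s

theorem sum_xp_eq : ∑ j : ZMod p, χ (xp x j) = p := by
  have h1 := sum_eta_mul H s.ne 0
  rw [if_neg (by rintro ⟨a, -, ha⟩; exact a.ne_zero ha)] at h1
  simp only [mul_zero, neg_zero, AddChar.map_zero_eq_one, mul_one, Nat.cast_zero] at h1
  rw [← add_zero (∑ j : ZMod p, χ (xp x j)), ← h1, ← Finset.sum_add_distrib,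
    sum_eq_zero_term fun j hj => by rw [s.val j hj, neg_add_cancel], xp_zero, s.deg, eta_zero,
    Nat.cast_sub (by have := h.two; omega), sub_add_cancel]

theorem isW_lam : IsW N (lam p x χ) := by
  have := Fintype.ofFinite (zpowers x)
  have h1 := UD.isCharacter_avg' s.irr.isCharacter (zpowers x) N (h.hxP ▸ le_rfl)
  have h2 : ∀ g : N, (Nat.card (zpowers x) : ℂ)⁻¹ * ∑ y : zpowers x, χ (g * y) = lam p x χ g :=
    fun g => by
      rw [Nat.card_zpowers, h.hx, sum_xp h.hx fun y => χ (g * y), lam]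
      simp only [s.irr.isClassFunction.apply_mul_comm (g : G)]
  have h3 : lam p x χ 1 = 1 := by
    simp only [lam, mul_one]
    rw [h.sum_xp_eq s, inv_mul_cancel₀ (Nat.cast_ne_zero.2 hp.out.ne_zero)]
  rw [funext h2] at h1
  exact ⟨h3, fun a ha b hb => h1.map_mul_of_apply_one h3 ⟨a, ha⟩ ⟨b, hb⟩⟩

theorem apply_center_mul {z : G} (hz : z ∈ center G) (g : G) :
    χ (z * g) = lam p x χ z * χ g := by
  obtain ⟨ω, hω⟩ := s.irr.center_le_charCenter hz
  rw [hω, lam, Finset.sum_congr rfl fun j _ => by rw [mem_center_iff.1 hz, hω], ← Finset.mul_sum,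
    h.sum_xp_eq s, mul_comm (ω : ℂ) p, inv_mul_cancel_left₀ (Nat.cast_ne_zero.2 hp.out.ne_zero)]

theorem vM_lam (M : Ideal AlgInt) {g : G} (hg : g ∈ N) : vM M (lam p x χ g) = 1 := by
  refine vM_eq_one_of_pow_eq_one (orderOf_pos g).ne' ?_
  have : ∀ k, lam p x χ (g ^ k) = lam p x χ g ^ k := fun k => by
    induction k with
    | zero => simpa using (h.isW_lam s).one
    | succ k ih => rw [pow_succ, (h.isW_lam s).mul _ (pow_mem hg k) _ hg, ih, pow_succ]
  rw [← this, pow_orderOf_eq_one, (h.isW_lam s).one]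

theorem lam_mul_conj {g : G} (hg : g ∈ N) : lam p x χ g * conj (lam p x χ g) = 1 := by
  have h1 := h.isW_lam s
  let μ : N →* ℂ := ⟨⟨fun n => lam p x χ n, h1.one⟩, fun a b => h1.mul a a.2 b b.2⟩
  have h2 := (isIrrCharacter_monoidHom' μ).isCharacter.apply_inv ⟨g, hg⟩
  rw [mul_comm, ← h1.inv_mul hg]
  exact congrArg (· * _) h2.symm

theorem isW_red (M : Ideal AlgInt) : IsW E fun g => redM M (lam p x χ g) :=
  ⟨by rw [(h.isW_lam s).one, redM_one], fun a ha b hb => by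
    rw [(h.isW_lam s).mul a (h.le ha) b (h.le hb),
      redM_mul (h.vM_lam s M (h.le ha)).le (h.vM_lam s M (h.le hb)).le]⟩

end GD

end Cfsg.Lib.Block.Lat
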