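import Mathlib.RepresentationTheory.Basic
import Mathlib.LinearAlgebra.Quotient.Card
import Mathlib.GroupTheory.Solvable
import Mathlib.GroupTheory.PGroup
import Mathlib.Algebra.Order.BigOperators.Ring.Finset

/-!
# Average size of fixed point spaces

For an abelian group `N` acting coprimely without trivial constituents on a finite abelian group
`V` and an automorphism `T` normalising the action, the fixed point spaces of the elements `n T`
have on average at most half the dimension of `V`.
-/

namespace Cfsg.Lib.Block.FixAvg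

universe u

/-- The number of fixed points of an endomorphism. -/
noncomputable def fixc {V : Type*} [AddCommGroup V] (f : Module.End ℤ V) : ℕ :=
  Nat.card (LinearMap.ker (f - 1))

section Basic

variable {V : Type*} [AddCommGroup V] [Finite V]

theorem card_mul_card_le_of_disjoint {A B : Submodule ℤ V} (h : Disjoint A B) :
    Nat.card A * Nat.card B ≤ Nat.card V := by
  rw [← Nat.card_prod]
  refine Nat.card_le_card_of_injective (fun x : A × B => (x.1 : V) + x.2) ?_
  rintro ⟨a, b⟩ ⟨a', b'⟩ hab
  have hab' : (a : V) + b = a' + b' := hab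
  have h1 : (a : V) - a' = b' - b := by
    rw [sub_eq_sub_iff_add_eq_add, hab', add_comm]
  have h2 : (a : V) - a' = 0 := by
    refine (Submodule.disjoint_def.1 h) _ (A.sub_mem a.2 a'.2) ?_
    rw [h1]; exact B.sub_mem b'.2 b.2
  have h3 : (b' : V) - b = 0 := h1 ▸ h2
  exact Prod.ext (Subtype.ext (sub_eq_zero.1 h2)) (Subtype.ext (sub_eq_zero.1 h3).symm)

theorem card_le_card_mul_of_sup {A B : Submodule ℤ V} (h : ∀ v, v ∈ A ⊔ B) :
    Nat.card V ≤ Nat.card A * Nat.card B := by
  rw [← Nat.card_prod]
  refine Nat.card_le_card_of_surjective (fun x : A × B => (x.1 : V) + x.2) ?_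
  intro v
  obtain ⟨a, ha, b, hb, rfl⟩ := Submodule.mem_sup.1 (h v)
  exact ⟨(⟨a, ha⟩, ⟨b, hb⟩), rfl⟩

omit [Finite V] in
theorem card_ker_mul_card_range {W : Type*} [AddCommGroup W] (f : V →ₗ[ℤ] W) :
    Nat.card (LinearMap.ker f) * Nat.card (LinearMap.range f) = Nat.card V := by
  rw [Submodule.card_eq_card_quotient_mul_card (LinearMap.ker f),
    Nat.card_congr (LinearMap.quotKerEquivRange f).toEquiv]

theorem fixc_le (f : Module.End ℤ V) (W : Submodule ℤ V) (hW : ∀ v ∈ W, f v ∈ W) :
    fixc f ≤ fixc (f.restrict hW) * fixc (W.mapQ W f hW) := by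
  classical
  let π : LinearMap.ker (f - 1) →ₗ[ℤ] LinearMap.ker (W.mapQ W f hW - 1) :=
    LinearMap.codRestrict _ (W.mkQ ∘ₗ (LinearMap.ker (f - 1)).subtype) (by
      rintro ⟨v, hv⟩
      have hv' : f v = v := by simpa [sub_eq_zero] using hv
      simp [Submodule.mapQ_apply, hv'])
  have hfin : Finite (V ⧸ W) := Finite.of_surjective _ W.mkQ_surjective
  unfold fixc
  rw [← card_ker_mul_card_range π]
  refine Nat.mul_le_mul ?_ (Nat.card_le_card_of_injective _ Subtype.val_injective)
  refine Nat.card_le_card_of_injective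
    (fun x : LinearMap.ker π => (⟨⟨x.1.1, ?_⟩, ?_⟩ : LinearMap.ker (f.restrict hW - 1))) ?_
  · have h : W.mkQ x.1.1 = 0 := congrArg Subtype.val (LinearMap.mem_ker.1 x.2)
    exact (Submodule.Quotient.mk_eq_zero W).1 h
  · have hv' : f x.1.1 = x.1.1 := sub_eq_zero.1 (LinearMap.mem_ker.1 x.1.2)
    rw [LinearMap.mem_ker]
    ext
    simp [hv']
  · intro x y hxy
    have := congrArg (fun z => ((z.1 : W) : V)) hxy
    exact Subtype.ext (Subtype.ext this)

end Basic

section Main

variable {N : Type*} [Group N] [Fintype N]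

/-- The fixed points of a subgroup. -/
def fixSub {V : Type*} [AddCommGroup V] (σ : N →* Module.End ℤ V) (H : Subgroup N) :
    Submodule ℤ V where
  carrier := {v | ∀ h ∈ H, σ h v = v}
  add_mem' ha hb h hh := by rw [map_add, ha h hh, hb h hh]
  zero_mem' h _ := map_zero _
  smul_mem' c v hv h hh := by rw [map_smul, hv h hh]

omit [Fintype N] in
theorem mem_fixSub {V : Type*} [AddCommGroup V] {σ : N →* Module.End ℤ V} {H : Subgroup N}
    {v : V} : v ∈ fixSub σ H ↔ ∀ h ∈ H, σ h v = v := Iff.rfl

omit [Fintype N] in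
theorem mem_fixSub_sup {V : Type*} [AddCommGroup V] {σ : N →* Module.End ℤ V} {H K : Subgroup N}
    {v : V} (hH : v ∈ fixSub σ H) (hK : v ∈ fixSub σ K) : v ∈ fixSub σ (H ⊔ K) := by
  let S : Subgroup N :=
    { carrier := {h | σ h v = v}
      mul_mem' := fun {a b} ha hb => by
        change σ (a * b) v = v
        rw [map_mul, Module.End.mul_apply, hb, ha]
      one_mem' := by change σ 1 v = v; simp
      inv_mem' := fun {a} ha => by
        change σ a⁻¹ v = v
        have ha' : σ a v = v := ha
        conv_lhs => rw [← ha']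
        rw [← Module.End.mul_apply, ← map_mul, inv_mul_cancel, map_one, Module.End.one_apply] }
  have : H ⊔ K ≤ S := sup_le (fun h hh => hH h hh) (fun h hh => hK h hh)
  exact fun h hh => this hh

theorem prod_fixc_sq_le_of_irr (α : N ≃* N) {V : Type*} [AddCommGroup V] [Finite V]
    (σ : N →* Module.End ℤ V) (T : Module.End ℤ V) (hcomm : ∀ a b, σ a * σ b = σ b * σ a)
    (hfix : fixSub σ ⊤ = ⊥) (hT : Function.Injective T) (hα : ∀ m, T * σ m = σ (α m) * T)
    (hirr : ∀ W : Submodule ℤ V, (∀ m, ∀ v ∈ W, σ m v ∈ W) → (∀ v ∈ W, T v ∈ W) →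
      W = ⊥ ∨ W = ⊤) :
    ∏ m, fixc (σ m * T) ^ 2 ≤ Nat.card V ^ Nat.card N := by
  classical
  rcases subsingleton_or_nontrivial V with hV | hV
  · have h1 : ∀ f : Module.End ℤ V, fixc f = 1 := fun f => Nat.card_unique
    simp [h1]
  have hfinS : Finite (Subgroup N) := Finite.of_injective _ SetLike.coe_injective
  obtain ⟨H, hH, hmax⟩ := (Set.toFinite {H : Subgroup N | fixSub σ H ≠ ⊥}).exists_maximal
    ⟨⊥, by
      change fixSub σ ⊥ ≠ ⊥
      have : fixSub σ ⊥ = ⊤ := by
        rw [eq_top_iff]; intro v _ h hh; rw [Subgroup.mem_bot.1 hh]; simp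
      rw [this]; exact top_ne_bot⟩
  have hmax' : ∀ K : Subgroup N, ¬ K ≤ H → ∀ v ∈ fixSub σ H, v ∈ fixSub σ K → v = 0 := by
    intro K hK v hv hv'
    by_contra h0
    have : fixSub σ (H ⊔ K) ≠ ⊥ := fun h => h0 (by
      have := mem_fixSub_sup hv hv'; rwa [h, Submodule.mem_bot] at this)
    exact hK (le_sup_right.trans (hmax this le_sup_left))
  have hUN : ∀ m, ∀ v ∈ fixSub σ H, σ m v ∈ fixSub σ H := by
    intro m v hv h hh
    rw [← Module.End.mul_apply, hcomm, Module.End.mul_apply, hv h hh]
  have hTU : ∀ v ∈ fixSub σ H, T v ∈ fixSub σ (H.map α.toMonoidHom) := by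
    rintro v hv _ ⟨h, hh, rfl⟩
    change σ (α h) (T v) = T v
    rw [← Module.End.mul_apply, ← hα, Module.End.mul_apply, hv h hh]
  by_cases hHα : H.map α.toMonoidHom ≤ H
  · have hHα' : H.map α.toMonoidHom = H :=
      Subgroup.eq_of_le_of_card_ge hHα
        (Subgroup.card_map_of_injective α.injective).ge
    have hU : fixSub σ H = ⊤ :=
      (hirr _ hUN (fun v hv => by have := hTU v hv; rwa [hHα'] at this)).resolve_left hH
    obtain ⟨n₀, hn₀⟩ : ∃ n₀, n₀ ∉ H := by
      by_contra! h
      have : H = ⊤ := eq_top_iff.2 fun x _ => h x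
      exact hH (this ▸ hfix)
    have hpair : ∀ m, fixc (σ m * T) * fixc (σ (n₀ * m) * T) ≤ Nat.card V := by
      intro m
      refine card_mul_card_le_of_disjoint (Submodule.disjoint_def.2 fun v h1 h2 => ?_)
      have h1' : σ m (T v) = v := by simpa [sub_eq_zero] using h1
      have h2' : σ n₀ (σ m (T v)) = v := by simpa [sub_eq_zero] using h2
      rw [h1'] at h2'
      refine hmax' (Subgroup.zpowers n₀) (by simpa using hn₀) v (hU ▸ Submodule.mem_top) ?_
      rintro _ ⟨k, rfl⟩
      induction k using Int.induction_on with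
      | zero => simp
      | succ k ih =>
        change σ (n₀ ^ ((k : ℤ) + 1)) v = v
        rw [zpow_add_one, map_mul, Module.End.mul_apply, h2']; exact ih
      | pred k ih =>
        change σ (n₀ ^ (-(k : ℤ) - 1)) v = v
        have hinv : σ n₀⁻¹ v = v := by
          conv_lhs => rw [← h2']
          rw [← Module.End.mul_apply, ← map_mul, inv_mul_cancel, map_one, Module.End.one_apply]
        rw [zpow_sub_one, map_mul, Module.End.mul_apply, hinv]; exact ih
    calc ∏ m, fixc (σ m * T) ^ 2
        = (∏ m, fixc (σ m * T)) * ∏ m, fixc (σ (n₀ * m) * T) := by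
          rw [Fintype.prod_equiv (Equiv.mulLeft n₀) (fun m => fixc (σ (n₀ * m) * T))
            (fun m => fixc (σ m * T)) (fun _ => rfl), ← Finset.prod_mul_distrib]
          exact Finset.prod_congr rfl fun _ _ => sq _
      _ ≤ ∏ _m : N, Nat.card V := by
          rw [← Finset.prod_mul_distrib]
          exact Finset.prod_le_prod' fun m _ => hpair m
      _ = _ := by simp
  · have hsq : Nat.card (fixSub σ H) * Nat.card (fixSub σ H) ≤ Nat.card V := by
      have h1 : Nat.card (fixSub σ H) ≤ Nat.card (fixSub σ (H.map α.toMonoidHom)) :=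
        Nat.card_le_card_of_injective (fun v => ⟨T v.1, hTU _ v.2⟩)
          fun a b hab => Subtype.ext (hT (congrArg Subtype.val hab))
      exact (Nat.mul_le_mul_left _ h1).trans (card_mul_card_le_of_disjoint
        (Submodule.disjoint_def.2 fun v h1 h2 => hmax' _ hHα v h1 h2))
    have hle : ∀ n, fixc (σ n * T) ≤ Nat.card (fixSub σ H) := by
      intro n
      let S : Submodule ℤ V := fixSub σ H ⊔ LinearMap.range (σ n * T - 1)
      let W : Submodule ℤ V := ⨅ m, S.comap (σ m)
      have hWm : ∀ v, v ∈ W ↔ ∀ m, σ m v ∈ S := fun v => by simp [W]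
      have hW : W = ⊤ := by
        refine (hirr W ?_ ?_).resolve_left fun h => hH ?_
        · intro m v hv
          rw [hWm] at hv ⊢
          intro m'
          rw [← Module.End.mul_apply, ← map_mul]; exact hv _
        · intro v hv
          rw [hWm] at hv ⊢
          intro m
          have h1 : σ m (T v) = (σ n * T) (σ (α.symm (n⁻¹ * m)) v) := by
            rw [← Module.End.mul_apply, ← Module.End.mul_apply, mul_assoc, hα, ← mul_assoc,
              ← map_mul]
            simp
          have h2 : ∀ w, (σ n * T) w = w + (σ n * T - 1) w := fun w => by simp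
          rw [h1, h2]
          exact S.add_mem (hv _) (Submodule.mem_sup_right ⟨_, rfl⟩)
        · rw [eq_bot_iff, ← h]
          intro v hv
          rw [hWm]
          exact fun m => Submodule.mem_sup_left (hUN m v hv)
      have hS : ∀ v, v ∈ S := fun v => by
        have := (hWm v).1 (hW ▸ Submodule.mem_top) 1
        simpa using this
      have h1 := card_le_card_mul_of_sup hS
      rw [← card_ker_mul_card_range (σ n * T - 1)] at h1
      exact Nat.le_of_mul_le_mul_right h1 Nat.card_pos
    calc ∏ m, fixc (σ m * T) ^ 2 ≤ ∏ _m : N, Nat.card V :=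
          Finset.prod_le_prod' fun m _ => by
            rw [sq]; exact (Nat.mul_le_mul (hle m) (hle m)).trans hsq
      _ = _ := by simp

theorem prod_fixc_sq_le (α : N ≃* N) (n : ℕ) : ∀ (V : Type u) [AddCommGroup V] [Finite V]
    (σ : N →* Module.End ℤ V) (T : Module.End ℤ V), Nat.card V = n →
    (∀ a b, σ a * σ b = σ b * σ a) → (∀ v, ∑ m, σ m v = 0) →
    (Nat.card N).Coprime (Nat.card V) → Function.Injective T →
    (∀ m, T * σ m = σ (α m) * T) → ∏ m, fixc (σ m * T) ^ 2 ≤ Nat.card V ^ Nat.card N := by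
  induction n using Nat.strong_induction_on with
  | _ n ih =>
  intro V _ _ σ T hn hcomm hkill hcop hT hα
  by_cases hirr : ∀ W : Submodule ℤ V, (∀ m, ∀ v ∈ W, σ m v ∈ W) → (∀ v ∈ W, T v ∈ W) →
      W = ⊥ ∨ W = ⊤
  · refine prod_fixc_sq_le_of_irr α σ T hcomm ?_ hT hα hirr
    rw [eq_bot_iff]
    intro v hv
    have h1 : Nat.card N • v = 0 := by
      rw [← hkill v, Finset.sum_congr rfl fun m _ => hv m trivial]
      simp
    have h2 : addOrderOf v ∣ 1 := hcop ▸ Nat.dvd_gcd (addOrderOf_dvd_of_nsmul_eq_zero h1)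
      (addOrderOf_dvd_natCard v)
    simpa using h2
  push Not at hirr
  obtain ⟨W, hW, hWT, hW0, hW1⟩ := hirr
  have hfin : Finite (V ⧸ W) := Finite.of_surjective _ W.mkQ_surjective
  have hcard := Submodule.card_eq_card_quotient_mul_card W
  have hW0' : 1 < Nat.card W := by
    have : Nontrivial W := Submodule.nontrivial_iff_ne_bot.2 hW0
    exact Finite.one_lt_card
  have hW1' : 1 < Nat.card (V ⧸ W) := by
    have : Nontrivial (V ⧸ W) := Submodule.Quotient.nontrivial_iff.2 hW1
    exact Finite.one_lt_card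
  let σ₁ : N →* Module.End ℤ W := Representation.subrepresentation σ W fun m => hW m
  let σ₂ : N →* Module.End ℤ (V ⧸ W) := Representation.quotient σ W fun m => hW m
  have hσ₁ : ∀ m (w : W), (σ₁ m w : V) = σ m w := fun _ _ => rfl
  have hσ₂ : ∀ m (v : V), σ₂ m (W.mkQ v) = W.mkQ (σ m v) := fun _ _ => rfl
  have h1 := ih (Nat.card W) (by rw [← hn, hcard]; nlinarith) W σ₁ (T.restrict hWT) rfl
    (fun a b => by
      ext w
      simp only [Module.End.mul_apply, hσ₁]
      rw [← Module.End.mul_apply, hcomm, Module.End.mul_apply])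
    (fun w => Subtype.ext (by
      rw [Submodule.coe_sum]; simp only [hσ₁]; exact hkill _))
    (hcop.coprime_dvd_right ⟨_, hcard⟩)
    (fun a b hab => Subtype.ext (hT (congrArg Subtype.val hab)))
    (fun m => by
      ext w
      change T (σ m w) = σ (α m) (T w)
      rw [← Module.End.mul_apply, hα, Module.End.mul_apply])
  have h2 := ih (Nat.card (V ⧸ W)) (by rw [← hn, hcard]; nlinarith) (V ⧸ W) σ₂
    (W.mapQ W T hWT) rfl
    (fun a b => by
      refine LinearMap.ext fun x => ?_
      obtain ⟨v, rfl⟩ := W.mkQ_surjective x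
      simp only [Module.End.mul_apply, hσ₂]
      rw [← Module.End.mul_apply, hcomm, Module.End.mul_apply])
    (fun x => by
      obtain ⟨v, rfl⟩ := W.mkQ_surjective x
      simp only [hσ₂]
      rw [← map_sum, hkill, map_zero])
    (hcop.coprime_dvd_right ⟨_, hcard.trans (mul_comm _ _)⟩)
    (Finite.injective_iff_surjective.2 fun x => by
      obtain ⟨v, rfl⟩ := W.mkQ_surjective x
      obtain ⟨v, rfl⟩ := Finite.injective_iff_surjective.1 hT v
      exact ⟨W.mkQ v, rfl⟩)
    (fun m => by
      refine LinearMap.ext fun x => ?_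
      obtain ⟨v, rfl⟩ := W.mkQ_surjective x
      change W.mkQ (T (σ m v)) = W.mkQ (σ (α m) (T v))
      rw [← Module.End.mul_apply, hα, Module.End.mul_apply])
  calc ∏ m, fixc (σ m * T) ^ 2
      ≤ ∏ m, (fixc (σ₁ m * T.restrict hWT) ^ 2 * fixc (σ₂ m * W.mapQ W T hWT) ^ 2) := by
        refine Finset.prod_le_prod' fun m _ => ?_
        rw [← mul_pow]
        refine Nat.pow_le_pow_left ?_ 2
        have hinv : ∀ v ∈ W, (σ m * T) v ∈ W := fun v hv => hW m _ (hWT v hv)
        have e1 : σ₁ m * T.restrict hWT = (σ m * T).restrict hinv := by ext w; rfl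
        have e2 : σ₂ m * W.mapQ W T hWT = W.mapQ W (σ m * T) hinv := by
          refine LinearMap.ext fun x => ?_
          obtain ⟨v, rfl⟩ := W.mkQ_surjective x
          rfl
        rw [e1, e2]
        exact fixc_le _ W hinv
    _ ≤ _ := by
        rw [Finset.prod_mul_distrib, hcard, mul_pow]
        exact Nat.mul_le_mul h1 h2

end Main

end Cfsg.Lib.Block.FixAvg
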