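import Cfsg.Agent.Local.KleinA5
import Cfsg.Agent.Local.KleinDich

/-!
Groups in which every class of 2-elements meets a Sylow 2-subgroup in two elements, with one
exception of three: the fusion analysis.
-/

set_option autoImplicit false

namespace Cfsg.Lib.HalfCl

open Cfsg Cfsg.Lib.Trans Cfsg.Lib.Local

variable {G : Type*} [Group G]

/-- The conjugates of `x` inside `P`. -/
def Fz (P : Subgroup G) (x : G) : Set G := {y | y ∈ P ∧ IsConj x y}

theorem mem_Fz_self {P : Subgroup G} {x : G} (hx : x ∈ P) : x ∈ Fz P x := ⟨hx, IsConj.refl x⟩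

theorem conj_mem_Fz {P : Subgroup G} {x y g : G} (hy : y ∈ Fz P x) (h : g * y * g⁻¹ ∈ P) :
    g * y * g⁻¹ ∈ Fz P x := ⟨h, hy.2.trans (isConj_iff.2 ⟨g, rfl⟩)⟩

theorem conj_inj {g a b : G} (h : g * a * g⁻¹ = g * b * g⁻¹) : a = b := by
  simpa using h

theorem conj_mul' (g a b : G) : g * (a * b) * g⁻¹ = g * a * g⁻¹ * (g * b * g⁻¹) := by group

theorem conj_conj (g h a : G) : g * h * a * (g * h)⁻¹ = g * (h * a * h⁻¹) * g⁻¹ := by group

/-- The sizes of the intersections of the classes with a Sylow 2-subgroup. -/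
structure Hyp (P : Sylow 2 G) : Prop where
  two : ∀ x ∈ (P : Subgroup G), x ≠ 1 → ∃ y ∈ (P : Subgroup G), y ≠ x ∧ IsConj x y
  le_three : ∀ x ∈ (P : Subgroup G), x ≠ 1 → (Fz (P : Subgroup G) x).ncard ≤ 3
  uniq : ∀ x ∈ (P : Subgroup G), ∀ y ∈ (P : Subgroup G), x ≠ 1 → y ≠ 1 →
    2 < (Fz (P : Subgroup G) x).ncard → 2 < (Fz (P : Subgroup G) y).ncard → IsConj x y

variable [Finite G]

theorem sq_fix {P : Subgroup G} {y g : G} (h : ¬ 2 < (Fz P y).ncard) (hy : y ∈ P)
    (h1 : g * y * g⁻¹ ∈ P) (h2 : g * (g * y * g⁻¹) * g⁻¹ ∈ P) :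
    g * (g * y * g⁻¹) * g⁻¹ = y := by
  by_contra hne
  apply h
  rw [Set.two_lt_ncard_iff]
  have m0 := mem_Fz_self hy
  have m1 := conj_mem_Fz m0 h1
  have m2 := conj_mem_Fz m1 h2
  refine ⟨y, _, _, m0, m1, m2, fun e => hne ?_, fun e => hne e.symm, fun e => hne ?_⟩
  · rw [← e, ← e]
  · have := conj_inj e
    rw [← this, ← this]

theorem Hyp.central {P : Sylow 2 G} (H : Hyp P) {w : G} (hw : w ∈ (P : Subgroup G)) (hw1 : w ≠ 1)
    (hc : ∀ p ∈ (P : Subgroup G), p * w = w * p) : 2 < (Fz (P : Subgroup G) w).ncard := by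
  by_contra h
  obtain ⟨y, hy, hyw, hcj⟩ := H.two w hw hw1
  have hyc : ∀ p ∈ (P : Subgroup G), p * y * p⁻¹ = y := by
    intro p hp
    by_contra hne
    apply h
    rw [Set.two_lt_ncard_iff]
    have m1 : y ∈ Fz (P : Subgroup G) w := ⟨hy, hcj⟩
    refine ⟨w, y, _, mem_Fz_self hw, m1, conj_mem_Fz (g := p) m1
      (mul_mem (mul_mem hp hy) (inv_mem hp)), hyw.symm, fun e => hyw ?_, fun e => hne e.symm⟩
    apply conj_inj (g := p)
    rw [← e, hc p hp, mul_inv_cancel_right]
  obtain ⟨c, hc'⟩ := isConj_iff.1 hcj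
  obtain ⟨n, hn, hnw⟩ := P.conj_eq_normalizer_conj_of_mem_centralizer w c⁻¹
    (fun p hp => hc p hp) (by
      intro p hp
      rw [inv_inv, hc']
      have := hyc p hp
      calc p * y = p * y * p⁻¹ * p := by group
        _ = y * p := by rw [this])
  rw [inv_inv, hc'] at hnw
  set N := Subgroup.normalizer ((P : Subgroup G) : Set G) with hN
  have hg : n⁻¹ ∈ N := inv_mem hn
  set g := n⁻¹ with hgdef
  have e1 : g * w * g⁻¹ = y := by rw [hnw, hgdef, inv_inv]
  have hconj : ∀ a ∈ (P : Subgroup G), g * a * g⁻¹ ∈ (P : Subgroup G) := fun a ha =>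
    (Subgroup.mem_normalizer_iff.1 hg a).1 ha
  have e2 := sq_fix h hw (hconj w hw) (hconj _ (hconj w hw))
  have c2 : Commute (g * g) w := by
    change g * g * w = w * (g * g)
    calc g * g * w = g * (g * w * g⁻¹) * g⁻¹ * (g * g) := by group
      _ = w * (g * g) := by rw [e2]
  have hodd : ¬ 2 ∣ ((P : Subgroup G).subgroupOf N).index := fun hd =>
    P.not_dvd_index (hd.trans (Subgroup.relIndex_dvd_index_of_le Subgroup.le_normalizer))
  have hpow : (⟨g, hg⟩ : N) ^ ((P : Subgroup G).subgroupOf N).index ∈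
      (P : Subgroup G).subgroupOf N := Subgroup.pow_index_mem _ _
  obtain ⟨j, hj⟩ : Odd ((P : Subgroup G).subgroupOf N).index :=
    Nat.odd_iff.2 (by omega)
  rw [hj, Subgroup.mem_subgroupOf] at hpow
  have c3 : Commute (g ^ (2 * j + 1)) w := hc _ (by simpa using hpow)
  have c4 : Commute g w := by
    have : g = ((g * g) ^ j)⁻¹ * g ^ (2 * j + 1) := by
      rw [← sq, ← pow_mul, pow_succ, inv_mul_cancel_left]
    rw [this]
    exact (c2.pow_left j).inv_left.mul_left c3
  apply hyw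
  rw [← e1, c4.eq, mul_inv_cancel_right]

/-- The four-group `{1, z, x, x z}` whose involutions form the class of `z` in `P`. -/
structure Four (P : Subgroup G) (z x : G) : Prop where
  zP : z ∈ P
  xP : x ∈ P
  zz : z * z = 1
  xx : x * x = 1
  z1 : z ≠ 1
  x1 : x ≠ 1
  xz : x ≠ z
  cen : ∀ p ∈ P, p * z = z * p
  fib : ∀ y ∈ P, IsConj z y ↔ y = z ∨ y = x ∨ y = x * z

theorem Hyp.exists_four {P : Sylow 2 G} (H : Hyp P) (hP : (P : Subgroup G) ≠ ⊥) :
    ∃ z x, Four (P : Subgroup G) z x := by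
  have : Nontrivial (P : Subgroup G) := (Subgroup.nontrivial_iff_ne_bot _).2 hP
  have := IsPGroup.center_nontrivial P.isPGroup'
  obtain ⟨k, hk, hcard⟩ := (P.isPGroup'.to_subgroup
    (Subgroup.center (P : Subgroup G))).nontrivial_iff_card.1 this
  obtain ⟨z0, hz0⟩ := exists_prime_orderOf_dvd_card' (G := Subgroup.center (P : Subgroup G)) 2
    (hcard ▸ dvd_pow_self 2 hk.ne')
  set z : G := ((z0 : (P : Subgroup G)) : G) with hz
  have hzo : orderOf z = 2 := by
    rw [hz, Subgroup.orderOf_coe, Subgroup.orderOf_coe, hz0]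
  have zP : z ∈ (P : Subgroup G) := (z0 : (P : Subgroup G)).2
  have zz : z * z = 1 := by rw [← sq, ← hzo, pow_orderOf_eq_one]
  have z1 : z ≠ 1 := fun e => by rw [e, orderOf_one] at hzo; omega
  have cen : ∀ p ∈ (P : Subgroup G), p * z = z * p := fun p hp =>
    congrArg Subtype.val (Subgroup.mem_center_iff.1 z0.2 ⟨p, hp⟩)
  have h3 : (Fz (P : Subgroup G) z).ncard = 3 :=
    le_antisymm (H.le_three z zP z1) (H.central zP z1 cen)
  obtain ⟨x, x', hxz, hx'z, hxx', hK⟩ : ∃ x x', x ≠ z ∧ x' ≠ z ∧ x ≠ x' ∧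
      Fz (P : Subgroup G) z = {z, x, x'} := by
    obtain ⟨a, b, c, hab, hac, hbc, hs⟩ := Set.ncard_eq_three.1 h3
    have := mem_Fz_self zP
    rw [hs] at this ⊢
    rcases this with rfl | rfl | rfl
    · exact ⟨b, c, hab.symm, hac.symm, hbc, rfl⟩
    · exact ⟨a, c, hab, hbc.symm, hac, by ext; simp only [Set.mem_insert_iff]; tauto⟩
    · exact ⟨a, b, hac, hbc, hab, by
        ext; simp only [Set.mem_insert_iff, Set.mem_singleton_iff]; tauto⟩
  have mx : x ∈ Fz (P : Subgroup G) z := by rw [hK]; simp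
  have mx' : x' ∈ Fz (P : Subgroup G) z := by rw [hK]; simp
  have inv : ∀ y, IsConj z y → y * y = 1 ∧ y ≠ 1 := by
    intro y hy
    obtain ⟨c, rfl⟩ := isConj_iff.1 hy
    refine ⟨by rw [← conj_mul', zz]; group, fun e => z1 ?_⟩
    apply conj_inj (g := c)
    rw [e]; group
  have hzc : ∀ p ∈ (P : Subgroup G), p * z * p⁻¹ = z := fun p hp => by
    rw [cen p hp, mul_inv_cancel_right]
  have step : ∀ p ∈ (P : Subgroup G), ∀ y ∈ Fz (P : Subgroup G) z, y ≠ z →
      p * y * p⁻¹ = x ∨ p * y * p⁻¹ = x' := by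
    intro p hp y hy hyz
    have := conj_mem_Fz (g := p) hy (mul_mem (mul_mem hp hy.1) (inv_mem hp))
    rw [hK] at this
    rcases this with e | e | e
    · exact absurd (conj_inj (e.trans (hzc p hp).symm)) hyz
    · exact Or.inl e
    · exact Or.inr e
  have cxx' : x * x' = x' * x := by
    rcases step x mx.1 x' mx' hx'z with e | e
    · exfalso
      apply hxx'
      apply conj_inj (g := x)
      rw [e, mul_inv_cancel_right]
    · calc x * x' = x * x' * x⁻¹ * x := by group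
        _ = x' * x := by rw [e]
  have hw : x * x' ∈ (P : Subgroup G) := mul_mem mx.1 mx'.1
  have hw1 : x * x' ≠ 1 := fun e => hxx' (by
    calc x = x * (x * x') := by rw [e, mul_one]
      _ = x' := by rw [← mul_assoc, (inv x mx.2).1, one_mul])
  have hwc : ∀ p ∈ (P : Subgroup G), p * (x * x') = x * x' * p := by
    intro p hp
    have : p * (x * x') * p⁻¹ = x * x' := by
      rw [conj_mul']
      rcases step p hp x mx hxz with e | e <;> rcases step p hp x' mx' hx'z with e' | e'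
      · exact absurd (conj_inj (e.trans e'.symm)) hxx'
      · rw [e, e']
      · rw [e, e', cxx']
      · exact absurd (conj_inj (e.trans e'.symm)) hxx'
    calc p * (x * x') = p * (x * x') * p⁻¹ * p := by group
      _ = x * x' * p := by rw [this]
  have hcj := H.uniq z zP _ hw z1 hw1 (H.central zP z1 cen) (H.central hw hw1 hwc)
  have hwK : x * x' ∈ Fz (P : Subgroup G) z := ⟨hw, hcj⟩
  rw [hK] at hwK
  have e : x' = x * z := by
    rcases hwK with e | e | e
    · rw [← e, ← mul_assoc, (inv x mx.2).1, one_mul]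
    · exact absurd (by simpa using e) (inv x' mx'.2).2
    · exact absurd (by simpa using e) (inv x mx.2).2
  refine ⟨z, x, zP, mx.1, zz, (inv x mx.2).1, z1, (inv x mx.2).2, hxz, cen, fun y hy => ?_⟩
  rw [← e]
  constructor
  · intro h
    have : y ∈ Fz (P : Subgroup G) z := ⟨hy, h⟩
    rw [hK] at this
    exact this
  · intro h
    have : y ∈ Fz (P : Subgroup G) z := by rw [hK]; exact h
    exact this.2

namespace Four

omit [Finite G]

variable {P : Subgroup G} {z x : G}

theorem xz_comm (F : Four P z x) : x * z = z * x := F.cen x F.xP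

theorem xzP (F : Four P z x) : x * z ∈ P := mul_mem F.xP F.zP

theorem xz_ne_z (F : Four P z x) : x * z ≠ z := fun e => F.x1 (by simpa using e)

theorem xz_ne_x (F : Four P z x) : x * z ≠ x := fun e => F.z1 (by simpa using e)

theorem xz_ne_one (F : Four P z x) : x * z ≠ 1 := fun e => F.xz (by
  calc x = x * z * z := by rw [mul_assoc, F.zz, mul_one]
    _ = z := by rw [e, one_mul])

theorem xzz (F : Four P z x) : x * z * z = x := by rw [mul_assoc, F.zz, mul_one]

theorem zxz (F : Four P z x) : z * (x * z) = x := by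
  rw [F.xz_comm, ← mul_assoc, F.zz, one_mul]

theorem xxz (F : Four P z x) : x * (x * z) = z := by rw [← mul_assoc, F.xx, one_mul]

theorem xzx (F : Four P z x) : x * z * x = z := by
  rw [F.xz_comm, mul_assoc, F.xx, mul_one]

theorem xzxz (F : Four P z x) : x * z * (x * z) = 1 := by
  rw [← mul_assoc, F.xzx, F.zz]

theorem cjx (F : Four P z x) : IsConj z x := (F.fib x F.xP).2 (Or.inr (Or.inl rfl))

theorem cjxz (F : Four P z x) : IsConj z (x * z) := (F.fib _ F.xzP).2 (Or.inr (Or.inr rfl))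

theorem conj_cases (F : Four P z x) {y g : G} (hy : IsConj z y) (h : g * y * g⁻¹ ∈ P) :
    g * y * g⁻¹ = z ∨ g * y * g⁻¹ = x ∨ g * y * g⁻¹ = x * z :=
  (F.fib _ h).1 (hy.trans (isConj_iff.2 ⟨g, rfl⟩))

theorem conj_z (F : Four P z x) {p : G} (hp : p ∈ P) : p * z * p⁻¹ = z := by
  rw [F.cen p hp, mul_inv_cancel_right]

theorem conj_x (F : Four P z x) {p : G} (hp : p ∈ P) :
    p * x * p⁻¹ = x ∨ p * x * p⁻¹ = x * z := by
  rcases F.conj_cases F.cjx (mul_mem (mul_mem hp F.xP) (inv_mem hp)) with e | e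
  · exact absurd (conj_inj (e.trans (F.conj_z hp).symm)) F.xz
  · exact e

/-- The four-group. -/
def V (F : Four P z x) : Subgroup G where
  carrier := {y | y = 1 ∨ y = z ∨ y = x ∨ y = x * z}
  one_mem' := Or.inl rfl
  mul_mem' := by
    rintro a b (rfl | rfl | rfl | rfl) (rfl | rfl | rfl | rfl) <;>
      simp [F.zz, F.xx, F.xzz, F.zxz, F.xxz, F.xzx, F.xzxz, ← F.xz_comm]
  inv_mem' := by
    rintro a (rfl | rfl | rfl | rfl)
    · simp
    · exact Or.inr (Or.inl (inv_eq_of_mul_eq_one_right F.zz))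
    · exact Or.inr (Or.inr (Or.inl (inv_eq_of_mul_eq_one_right F.xx)))
    · exact Or.inr (Or.inr (Or.inr (inv_eq_of_mul_eq_one_right F.xzxz)))

theorem mem_V (F : Four P z x) {y : G} : y ∈ F.V ↔ y = 1 ∨ y = z ∨ y = x ∨ y = x * z := Iff.rfl

theorem V_le (F : Four P z x) : F.V ≤ P := by
  rintro a (rfl | rfl | rfl | rfl)
  exacts [one_mem _, F.zP, F.xP, F.xzP]

theorem z_mem (F : Four P z x) : z ∈ F.V := Or.inr (Or.inl rfl)

theorem x_mem (F : Four P z x) : x ∈ F.V := Or.inr (Or.inr (Or.inl rfl))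

theorem mul_self (F : Four P z x) {y : G} (hy : y ∈ F.V) : y * y = 1 := by
  rcases hy with rfl | rfl | rfl | rfl
  exacts [mul_one _, F.zz, F.xx, F.xzxz]

theorem comm_x (F : Four P z x) {y : G} (hy : y ∈ F.V) : y * x = x * y := by
  rcases hy with rfl | rfl | rfl | rfl
  · simp
  · exact F.xz_comm.symm
  · rfl
  · rw [F.xzx, F.xxz]

theorem isConj_of_mem (F : Four P z x) {y : G} (hy : y ∈ F.V) (h1 : y ≠ 1) : IsConj z y :=
  (F.fib y (F.V_le hy)).2 (hy.resolve_left h1)

theorem card_V (F : Four P z x) : Nat.card F.V = 4 := by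
  change Nat.card ({y | y = 1 ∨ y = z ∨ y = x ∨ y = x * z} : Set G) = 4
  rw [Nat.card_coe_set_eq, Set.ncard_eq_four]
  exact ⟨1, z, x, x * z, F.z1.symm, F.x1.symm, F.xz_ne_one.symm, F.xz.symm, F.xz_ne_z.symm,
    F.xz_ne_x.symm, rfl⟩

theorem isKleinFour (F : Four P z x) : IsKleinFour F.V where
  card_four := F.card_V
  exponent_two := by
    have : Nontrivial F.V := ⟨⟨⟨z, F.z_mem⟩, 1, fun e => F.z1 (congrArg Subtype.val e)⟩⟩
    exact Monoid.exponent_eq_prime_iff Nat.prime_two |>.2 fun g hg =>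
      orderOf_eq_prime (Subtype.ext (by rw [sq]; exact F.mul_self g.2)) hg

end Four

/-- An element normalising `C_P(x)` whose square moves `z`. -/
theorem Four.exists_rot {P : Sylow 2 G} {z x : G} (F : Four (P : Subgroup G) z x) :
    ∃ g : G, (∀ a ∈ (P : Subgroup G), a * x = x * a →
      g * a * g⁻¹ ∈ (P : Subgroup G) ∧ g * a * g⁻¹ * x = x * (g * a * g⁻¹)) ∧
      g * (g * z * g⁻¹) * g⁻¹ ≠ z := by
  set A : Subgroup G := (P : Subgroup G) ⊓ Subgroup.centralizer {x} with hA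
  have memA : ∀ {a}, a ∈ A ↔ a ∈ (P : Subgroup G) ∧ a * x = x * a := by
    intro a
    rw [hA, Subgroup.mem_inf, Subgroup.mem_centralizer_singleton_iff]
  have hAp : IsPGroup 2 A := P.isPGroup'.to_inf_left
  have hS : IsSylowIn 2 (P : Subgroup G) (Subgroup.centralizer {z}) :=
    isSylowIn_of_le P fun p hp => Subgroup.mem_centralizer_singleton_iff.2 (F.cen p hp)
  have zA : z ∈ A := memA.2 ⟨F.zP, F.xz_comm.symm⟩
  have xA : x ∈ A := memA.2 ⟨F.xP, rfl⟩
  -- an element mapping `A` into `P` maps it into `A`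
  have good : ∀ g : G, (∀ r ∈ A, g * r * g⁻¹ ∈ (P : Subgroup G)) → ∀ r ∈ A, g * r * g⁻¹ ∈ A := by
    intro g hg r hr
    refine memA.2 ⟨hg r hr, ?_⟩
    obtain ⟨hrP, hrx⟩ := memA.1 hr
    have hrz := F.cen r hrP
    have key : ∀ v, r * v = v * r → g * v * g⁻¹ = x → g * r * g⁻¹ * x = x * (g * r * g⁻¹) := by
      intro v hv e
      rw [← e, ← conj_mul', ← conj_mul', hv]
    have hrxz : r * (x * z) = x * z * r := by rw [← mul_assoc, hrx, mul_assoc, hrz, mul_assoc]
    rcases F.conj_cases (IsConj.refl z) (hg z zA) with e | e | e <;>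
      rcases F.conj_cases F.cjx (hg x xA) with e' | e' | e'
    · exact absurd (conj_inj (e'.trans e.symm)) F.xz
    · exact key x hrx e'
    · exact key _ hrxz (by rw [conj_mul', e, e', F.xzz])
    · exact key z hrz e
    · exact key z hrz e
    · exact key z hrz e
    · exact key _ hrxz (by rw [conj_mul', e, e', F.zxz])
    · exact key x hrx e'
    · exact absurd (conj_inj (e'.trans e.symm)) F.xz
  have fin : ∀ g : G, (∀ r ∈ A, g * r * g⁻¹ ∈ A) → g * (g * z * g⁻¹) * g⁻¹ ≠ z →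
      ∃ g : G, (∀ a ∈ (P : Subgroup G), a * x = x * a →
      g * a * g⁻¹ ∈ (P : Subgroup G) ∧ g * a * g⁻¹ * x = x * (g * a * g⁻¹)) ∧
      g * (g * z * g⁻¹) * g⁻¹ ≠ z := fun g h1 h2 =>
    ⟨g, fun a ha hax => memA.1 (h1 a (memA.2 ⟨ha, hax⟩)), h2⟩
  obtain ⟨h, h1, h2⟩ := exists_extremal_conj hS F.cjx.symm hAp (fun r hr => (memA.1 hr).2)
  obtain ⟨k, k1, k2⟩ := exists_extremal_conj hS F.cjxz.symm hAp (fun r hr => by
    rw [← mul_assoc, (memA.1 hr).2, mul_assoc, F.cen r (memA.1 hr).1, mul_assoc])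
  rcases F.conj_cases (IsConj.refl z) (h2 z zA) with e | e | e
  · exact absurd (conj_inj (h1.trans e.symm)) F.xz
  · rcases F.conj_cases (IsConj.refl z) (k2 z zA) with e' | e' | e'
    · exact absurd (conj_inj (k1.trans e'.symm)) F.xz_ne_z
    · refine fin k (good k k2) ?_
      have : k * x * k⁻¹ = x * z := by
        rw [← F.xzz, conj_mul', k1, e', F.xzz, F.xz_comm]
      rw [e', this]
      exact F.xz_ne_z
    · refine fin (h * k) (fun r hr => ?_) ?_
      · rw [conj_conj]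
        exact good h h2 _ (good k k2 r hr)
      · rw [conj_conj, conj_conj, e', conj_mul' h x z, h1, e, ← F.xz_comm, k1, e]
        exact F.xz
  · refine fin h (good h h2) ?_
    rw [e, conj_mul', h1, e, F.zxz]
    exact F.xz

/-- The four-group is self-centralising in `P`. -/
theorem Hyp.self_cent {P : Sylow 2 G} (H : Hyp P) {z x : G} (F : Four (P : Subgroup G) z x)
    {y : G} (hy : y ∈ (P : Subgroup G)) (hyx : y * x = x * y) : y ∈ F.V := by
  obtain ⟨g, hg, hne⟩ := F.exists_rot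
  have key : ∀ y ∈ (P : Subgroup G), y * x = x * y → y ∉ F.V →
      g * (g * y * g⁻¹) * g⁻¹ = y := by
    intro y hy hyx hyV
    have y1 : y ≠ 1 := fun e => hyV (Or.inl e)
    refine sq_fix (P := (P : Subgroup G)) (fun h => hyV ?_) hy (hg y hy hyx).1
      (hg _ (hg y hy hyx).1 (hg y hy hyx).2).1
    exact Or.inr ((F.fib y hy).1
      (H.uniq z F.zP y hy F.z1 y1 (H.central F.zP F.z1 F.cen) h))
  by_contra hyV
  have e1 := key y hy hyx hyV
  have e2 := key (y * z) (mul_mem hy F.zP)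
    (by rw [mul_assoc, ← F.xz_comm, ← mul_assoc, hyx, mul_assoc])
    (fun h => hyV ((mul_mem_cancel_right F.z_mem).1 h))
  rw [conj_mul' g y z, conj_mul' g (g * y * g⁻¹), e1] at e2
  exact hne (mul_left_cancel e2)

end Cfsg.Lib.HalfCl
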