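import Cfsg.Agent.Block.HalfCl1
import Cfsg.Agent.Class.A5Recog
import Cfsg.Agent.Class.PGL2Sub
import Cfsg.Agent.Solv.MinNormal
import Cfsg.Agent.Solv.Cores
import Cfsg.Agent.S0228
import Cfsg.Agent.S0483

/-!
Groups in which every class of 2-elements meets a Sylow 2-subgroup in two elements, with one
exception of three: the structure of the group.
-/

set_option autoImplicit false

namespace Cfsg.Lib.HalfCl

open Cfsg Cfsg.Lib.Trans Cfsg.Lib.Local Cfsg.Lib.Solv

variable {G : Type*} [Group G] [Finite G] {P : Sylow 2 G} {z x : G}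

theorem Hyp.conj_x (H : Hyp P) (F : Four (P : Subgroup G) z x) {s : G}
    (hs : s ∈ (P : Subgroup G)) (hV : s ∉ F.V) : s * x * s⁻¹ = x * z := by
  refine (F.conj_x hs).resolve_left fun e => hV (H.self_cent F hs ?_)
  calc s * x = s * x * s⁻¹ * s := by group
    _ = x * s := by rw [e]

theorem Hyp.idx (H : Hyp P) (F : Four (P : Subgroup G) z x) : IdxLeTwo F.V (P : Subgroup G) := by
  intro s hs t ht h1 h2
  apply H.self_cent F (mul_mem hs ht)
  have : s * t * x * (s * t)⁻¹ = x := by
    rw [conj_conj, H.conj_x F ht h2, conj_mul', H.conj_x F hs h1, F.conj_z hs, F.xzz]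
  calc s * t * x = s * t * x * (s * t)⁻¹ * (s * t) := by group
    _ = x * (s * t) := by rw [this]

omit [Finite G] in
theorem Four.V_le_of_z {P : Subgroup G} (F : Four P z x) {N : Subgroup G} [hN : N.Normal]
    (hz : z ∈ N) : F.V ≤ N := by
  intro y hy
  by_cases h1 : y = 1
  · rw [h1]; exact one_mem _
  · obtain ⟨c, rfl⟩ := isConj_iff.1 (F.isConj_of_mem hy h1)
    exact hN.conj_mem _ hz c

theorem Hyp.V_le_normal (H : Hyp P) (F : Four (P : Subgroup G) z x) (hO : pPrimeCore 2 G = ⊥)
    {N : Subgroup G} [hN : N.Normal] (hN0 : N ≠ ⊥) : F.V ≤ N := by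
  have h2 : 2 ∣ Nat.card N := by
    by_contra h
    exact hN0 (pPrimeCore_eq_bot_iff.1 hO N hN
      ((Nat.Prime.coprime_iff_not_dvd Nat.prime_two).2 h).symm)
  have hne : (P : Subgroup G) ⊓ N ≠ ⊥ := fun e =>
    (isSylowIn_inf_of_normal P N).eq_bot_iff.1 e h2
  obtain ⟨⟨y, hyP, hyN⟩, hy1⟩ := (Subgroup.ne_bot_iff_exists_ne_one).1 hne
  have y1 : y ≠ 1 := fun e => hy1 (Subtype.ext e)
  apply F.V_le_of_z
  by_cases hV : y ∈ F.V
  · obtain ⟨c, hc⟩ := isConj_iff.1 (F.isConj_of_mem hV y1).symm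
    rw [← hc]
    exact hN.conj_mem _ hyN c
  · have e := H.conj_x F hyP hV
    have : z = x⁻¹ * y * x⁻¹⁻¹ * y⁻¹ := by
      calc z = x⁻¹ * (x * z) := by group
        _ = x⁻¹ * (y * x * y⁻¹) := by rw [e]
        _ = _ := by group
    rw [this]
    exact mul_mem (hN.conj_mem _ hyN _) (inv_mem hyN)

theorem Hyp.inf_min (H : Hyp P) (F : Four (P : Subgroup G) z x) (hO : pPrimeCore 2 G = ⊥)
    {N : Subgroup G} (hN : IsMinNormal N) : (P : Subgroup G) ⊓ N = F.V := by
  have := hN.normal
  have hVN := H.V_le_normal F hO hN.ne_bot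
  refine le_antisymm ?_ (le_inf F.V_le hVN)
  rintro y ⟨hyP, hyN⟩
  by_contra hV
  -- an involution outside `V`
  obtain ⟨t, htP, htV, htt⟩ : ∃ t ∈ (P : Subgroup G), t ∉ F.V ∧ t * t = 1 := by
    have e := H.conj_x F hyP hV
    have c : y * (y * y) * y⁻¹ = y * y := by group
    rcases (H.idx F).mul_self_mem hyP with h | h | h | h
    · exact ⟨y, hyP, hV, h⟩
    · refine ⟨y * x, mul_mem hyP F.xP, fun h' => hV ((mul_mem_cancel_right F.x_mem).1 h'), ?_⟩
      calc y * x * (y * x) = y * x * y⁻¹ * (y * y) * x := by group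
        _ = 1 := by rw [e, h, F.xzz, F.xx]
    · rw [h, e] at c
      exact absurd c F.xz_ne_x
    · rw [h, conj_mul', e, F.conj_z hyP, F.xzz] at c
      exact absurd c.symm F.xz_ne_x
  have t1 : t ≠ 1 := fun e => htV (Or.inl e)
  have hto : orderOf t = 2 := orderOf_eq_prime (by rw [sq, htt]) t1
  rcases thompson_or P (H.idx F) hto ⊥ IsPGroup.of_bot (by simp) with ⟨K, hK, htK⟩ | ⟨g, -, h, -⟩
  · have hKn : K.Normal := Subgroup.normal_of_index_eq_two hK
    have hzK : z ∈ K := by
      rw [← F.xxz, Subgroup.mul_mem_iff_of_index_two hK]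
      obtain ⟨c, hc⟩ := isConj_iff.1 (F.cjx.symm.trans F.cjxz)
      rw [← hc]
      exact ⟨fun h => hKn.conj_mem _ h c, fun h => by simpa [mul_assoc] using hKn.conj_mem _ h c⁻¹⟩
    have hVK := F.V_le_of_z hzK
    have hNK : N ≤ K := hN.le_of_inf_ne_bot fun e => F.z1 (by
      have : z ∈ N ⊓ K := ⟨hVN F.z_mem, hzK⟩
      rwa [e, Subgroup.mem_bot] at this)
    exact htK ((mul_mem_cancel_left (hNK hyN)).1 (hVK (H.idx F y hyP t htP hV htV)))
  · have h1 : g * t * g⁻¹ ≠ 1 := fun e => t1 (conj_inj (g := g) (by rw [e]; group))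
    exact htV (Or.inr ((F.fib t htP).1
      ((F.isConj_of_mem h h1).trans (isConj_iff.2 ⟨g, rfl⟩ : IsConj t _).symm)))

theorem Hyp.card_P (H : Hyp P) (F : Four (P : Subgroup G) z x) :
    Nat.card (P : Subgroup G) = 4 ∨ Nat.card (P : Subgroup G) = 8 := by
  rcases (H.idx F).le_or_relIndex with h | h
  · left
    rw [le_antisymm h F.V_le, F.card_V]
  · right
    rw [← card_mul_relIndex F.V_le, h, F.card_V]

/-- If the four-group is normal the group is `A₄` or `S₄`. -/
theorem Hyp.of_normal (H : Hyp P) (F : Four (P : Subgroup G) z x) (hO : pPrimeCore 2 G = ⊥)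
    (hZ : Subgroup.center G = ⊥) [hV : F.V.Normal] :
    Nonempty (G ≃* alternatingGroup (Fin 4)) ∨ Nonempty (G ≃* Equiv.Perm (Fin 4)) := by
  set C := Subgroup.centralizer (F.V : Set G) with hC
  have hCn : C.Normal := inferInstance
  have hVC : F.V ≤ C := by
    intro a ha b hb
    have := F.isKleinFour
    have := IsKleinFour.isMulCommutative (G := F.V)
    exact congrArg Subtype.val (this.is_comm.comm ⟨b, hb⟩ ⟨a, ha⟩)
  have hPC : (P : Subgroup G) ⊓ C = F.V := by
    refine le_antisymm ?_ (le_inf F.V_le hVC)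
    rintro y ⟨hyP, hyC⟩
    exact H.self_cent F hyP (hyC x F.x_mem).symm
  have hS : IsSylowIn 2 F.V C := hPC ▸ isSylowIn_inf_of_normal P C
  have hCV : C ≤ F.V := by
    have hb : Subgroup.normalizer ((hS.toSylow : Subgroup C) : Set C) ≤
        Subgroup.centralizer ((hS.toSylow : Subgroup C) : Set C) := by
      intro a _ b hb
      rw [hS.coe_toSylow] at hb
      exact Subtype.ext (a.2 b hb)
    have hk : (MonoidHom.transferSylow hS.toSylow hb).ker = ⊥ :=
      pPrimeCore_eq_bot_iff.1 (pPrimeCore_eq_bot_of_isSubnormal hCn.isSubnormal hO) _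
        inferInstance ((Nat.Prime.coprime_iff_not_dvd Nat.prime_two).2
          (MonoidHom.not_dvd_card_ker_transferSylow _ hb)).symm
    have hc := MonoidHom.ker_transferSylow_isComplement' hS.toSylow hb
    rw [hk, Subgroup.isComplement'_bot_left, hS.coe_toSylow] at hc
    exact Subgroup.subgroupOf_eq_top.1 hc
  have memV : ∀ g : G, g * z * g⁻¹ = z → g * x * g⁻¹ = x → g ∈ F.V := by
    intro g h1 h2
    apply hCV
    have c1 : z * g = g * z := by
      calc z * g = g * z * g⁻¹ * g := by rw [h1]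
        _ = g * z := by group
    have c2 : x * g = g * x := by
      calc x * g = g * x * g⁻¹ * g := by rw [h2]
        _ = g * x := by group
    rintro b (rfl | rfl | rfl | rfl)
    · simp
    · exact c1
    · exact c2
    · rw [mul_assoc, c1, ← mul_assoc, c2, mul_assoc]
  have cz : ∀ g : G, g * z * g⁻¹ = z ∨ g * z * g⁻¹ = x ∨ g * z * g⁻¹ = x * z := fun g =>
    F.conj_cases (IsConj.refl z) (F.V_le (hV.conj_mem _ F.z_mem g))
  have cx : ∀ g : G, g * x * g⁻¹ = z ∨ g * x * g⁻¹ = x ∨ g * x * g⁻¹ = x * z := fun g =>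
    F.conj_cases F.cjx (F.V_le (hV.conj_mem _ F.x_mem g))
  have sq4 : ∀ g : G, g * g ∈ F.V → g ^ 4 = 1 := fun g h => by
    rw [← F.mul_self h, pow_succ, pow_three, mul_assoc, mul_assoc, mul_assoc]
  have cube : ∀ g : G, g * z * g⁻¹ ≠ z → g * x * g⁻¹ ≠ x → g * (x * z) * g⁻¹ ≠ x * z →
      g * g * g ∈ F.V → g ^ 3 = 1 := by
    intro g h1 h2 h3 h
    have c : g * (g * g * g) * g⁻¹ = g * g * g := by group
    rcases h with h | h | h | h
    · rw [← h, pow_three, mul_assoc]
    · rw [h] at c; exact absurd c h1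
    · rw [h] at c; exact absurd c h2
    · rw [h] at c; exact absurd c h3
  have fixz : ∀ g : G, g * z * g⁻¹ = z → g ^ 4 = 1 := by
    intro g e
    apply sq4
    rcases cx g with e' | e' | e'
    · exact absurd (conj_inj (e'.trans e.symm)) F.xz
    · exact memV _ (by rw [conj_conj, e, e]) (by rw [conj_conj, e', e'])
    · exact memV _ (by rw [conj_conj, e, e]) (by rw [conj_conj, e', conj_mul' g x z, e, e', F.xzz])
  have hpow : ∀ g : G, g ^ 3 = 1 ∨ g ^ 4 = 1 := by
    intro g
    rcases cz g with e | e | e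
    · exact Or.inr (fixz g e)
    · rcases cx g with e' | e' | e'
      · exact Or.inr (sq4 g (memV _ (by rw [conj_conj, e, e']) (by rw [conj_conj, e', e])))
      · exact absurd (conj_inj (e'.trans e.symm)) F.xz
      · have e3 : g * (x * z) * g⁻¹ = z := by rw [conj_mul' g x z, e, e', F.xzx]
        refine Or.inl (cube g (by rw [e]; exact F.xz) (by rw [e']; exact F.xz_ne_x)
          (by rw [e3]; exact F.xz_ne_z.symm) (memV _ ?_ ?_))
        · rw [conj_conj, conj_conj, e, e', e3]
        · rw [conj_conj, conj_conj, e', e3, e]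
    · rcases cx g with e' | e' | e'
      · have e3 : g * (x * z) * g⁻¹ = x := by rw [conj_mul' g x z, e, e', F.zxz]
        refine Or.inl (cube g (by rw [e]; exact F.xz_ne_z) (by rw [e']; exact F.xz.symm)
          (by rw [e3]; exact F.xz_ne_x.symm) (memV _ ?_ ?_))
        · rw [conj_conj, conj_conj, e, e3, e']
        · rw [conj_conj, conj_conj, e', e, e3]
      · have e3 : g * (x * z) * g⁻¹ = z := by rw [conj_mul' g x z, e, e', F.xxz]
        exact Or.inr (sq4 g (memV _ (by rw [conj_conj, e, e3]) (by rw [conj_conj, e', e'])))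
      · exact absurd (conj_inj (e'.trans e.symm)) F.xz
  have hCz : Subgroup.centralizer {z} = (P : Subgroup G) := by
    refine (P.is_maximal' (fun g => ⟨2, Subtype.ext ?_⟩) fun p hp =>
      Subgroup.mem_centralizer_singleton_iff.2 (F.cen p hp))
    exact fixz g (mem_centralizer_singleton_iff_conj.1 g.2)
  have hcl : Nat.card {y // IsConj z y} = 3 := by
    change Nat.card ({y | IsConj z y} : Set G) = 3
    rw [Nat.card_coe_set_eq, Set.ncard_eq_three]
    refine ⟨z, x, x * z, F.xz.symm, F.xz_ne_z.symm, F.xz_ne_x.symm, ?_⟩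
    ext y
    constructor
    · intro h
      obtain ⟨c, rfl⟩ := isConj_iff.1 h
      exact cz c
    · rintro (rfl | rfl | rfl)
      exacts [IsConj.refl _, F.cjx, F.cjxz]
  have hcard := Local.card_isConj_mul_card_centralizer z
  rw [hcl, hCz] at hcard
  rcases H.card_P F with h | h
  · left
    refine Cfsg.Agent.S0228.result (by omega) fun w hw hc => ?_
    rw [hZ, Subgroup.mem_bot] at hc
    rw [hc, orderOf_one] at hw
    omega
  · right
    exact Class.nonempty_mulEquiv_S4_of_pow (by omega) hpow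

theorem Hyp.structure (H : Hyp P) (hP : (P : Subgroup G) ≠ ⊥) (hO : pPrimeCore 2 G = ⊥)
    (hZ : Subgroup.center G = ⊥) :
    Nonempty (G ≃* alternatingGroup (Fin 4)) ∨ Nonempty (G ≃* Equiv.Perm (Fin 4)) ∨
    ∃ S : Subgroup G, S.Normal ∧ IsSimpleGroup S ∧ ¬ IsMulCommutative S ∧
      Subgroup.centralizer (S : Set G) = ⊥ ∧
      ∃ (F : Type) (_ : Field F) (_ : Fintype F), 3 < Fintype.card F ∧
        (Fintype.card F % 8 = 3 ∨ Fintype.card F % 8 = 5) ∧
        Nonempty (S ≃* Matrix.ProjectiveSpecialLinearGroup (Fin 2) F) := by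
  obtain ⟨z, x, F⟩ := H.exists_four hP
  have : Nontrivial G := ⟨⟨z, 1, F.z1⟩⟩
  obtain ⟨N, hN⟩ := exists_isMinNormal G
  have := hN.normal
  have hPN := H.inf_min F hO hN
  have hVN := H.V_le_normal F hO hN.ne_bot
  have hS : IsSylowIn 2 F.V N := hPN ▸ isSylowIn_inf_of_normal P N
  by_cases hC : Subgroup.centralizer (N : Set G) = ⊥
  · right; right
    have hnc : ¬ IsMulCommutative N := fun h => hN.ne_bot (by
      rw [eq_bot_iff, ← hC]
      exact Subgroup.le_centralizer N)
    have : Group.IsPerfect N := ⟨(hN.eq_bot_or_top_of_characteristic (commutator N)).resolve_left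
      fun h => hnc ((commutator_eq_bot_iff N).1 h)⟩
    have hO' : oddCore N = ⊥ := pPrimeCore_eq_bot_of_isSubnormal hN.normal.isSubnormal hO
    have e0 : N ≃* N ⧸ oddCore N :=
      (QuotientGroup.quotientBot.symm.trans (QuotientGroup.quotientMulEquivOfEq hO'.symm))
    have h8 : ¬ 8 ∣ Nat.card N := by
      intro h
      have h1 := hS.card_eq
      rw [F.card_V] at h1
      have h2 : 3 ≤ (Nat.card N).factorization 2 :=
        (Nat.prime_two.pow_dvd_iff_le_factorization Nat.card_pos.ne').1 h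
      have := Nat.pow_le_pow_right (n := 2) (by norm_num) h2
      omega
    have := F.isKleinFour
    obtain ⟨d⟩ := IsKleinFour.nonempty_mulEquiv (G₁ := F.V) (G₂ := DihedralGroup 2)
    rcases Cfsg.Agent.S0483.result hS.toSylow 2 le_rfl
      ⟨(MulEquiv.subgroupCongr hS.coe_toSylow).trans
        ((Subgroup.subgroupOfEquivOfLe hVN).trans d)⟩ with ⟨K, i1, i2, hodd, h3, ⟨e⟩⟩ | ⟨⟨e⟩⟩
    · have e1 := e0.trans e
      have := Matrix.ProjectiveSpecialLinearGroup.rank_two_simple (F := K)
        (by rw [Nat.card_eq_fintype_card]; omega)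
      refine ⟨N, hN.normal, e1.isSimpleGroup, hnc, hC, K, i1, i2, h3, ?_, ⟨e1⟩⟩
      have hc := Class.gcd_mul_card_PSL2 (F := K)
      rw [← Nat.card_congr e1.toEquiv, Nat.card_eq_fintype_card (α := K)] at hc
      set q := Fintype.card K
      obtain ⟨m, hm⟩ := hodd
      have g2 : Nat.gcd 2 (q - 1) = 2 := Nat.gcd_eq_left ⟨m, by omega⟩
      rw [g2] at hc
      by_contra hq
      apply h8
      have h16 : 2 * 8 ∣ q * (q - 1) * (q + 1) := by
        rw [mul_assoc]
        apply Dvd.dvd.mul_left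
        rcases (by omega : q % 8 = 1 ∨ q % 8 = 7) with h | h
        · rw [mul_comm 2 8]
          exact mul_dvd_mul (by omega) (by omega)
        · exact mul_dvd_mul (by omega) (by omega)
      rw [← hc] at h16
      exact Nat.dvd_of_mul_dvd_mul_left (by norm_num) h16
    · exfalso
      apply h8
      rw [Nat.card_congr (e0.trans e).toEquiv, nat_card_alternatingGroup]
      simp [Nat.factorial]
  · have hVC := H.V_le_normal F hO hC
    have hNC : N ≤ Subgroup.centralizer (N : Set G) := hN.le_of_inf_ne_bot fun e => F.z1 (by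
      have : z ∈ N ⊓ Subgroup.centralizer (N : Set G) := ⟨hVN F.z_mem, hVC F.z_mem⟩
      rwa [e, Subgroup.mem_bot] at this)
    have : IsMulCommutative N := ⟨⟨fun a b => Subtype.ext (hNC b.2 a a.2)⟩⟩
    have h2 := hN.pow_eq_one_of_prime_dvd Nat.prime_two
      ((by rw [F.card_V]; norm_num : 2 ∣ Nat.card F.V).trans (Subgroup.card_dvd_of_le hVN))
    have hNp : IsPGroup 2 N := fun g => ⟨1, Subtype.ext (by simpa using h2 g g.2)⟩
    have hNV : N = F.V := hS.eq_of_le hNp hVN le_rfl
    have : F.V.Normal := hNV ▸ hN.normal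
    rcases H.of_normal F hO hZ with h | h
    · exact Or.inl h
    · exact Or.inr (Or.inl h)

end Cfsg.Lib.HalfCl
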