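import Cfsg.Agent.Block.HalfCl2
import Cfsg.Agent.Block.ZStarElt
import Cfsg.Agent.Trans.PLocal

/-!
Groups without odd core in which the number of classes of 2-elements is half the order of a Sylow
2-subgroup.
-/

set_option autoImplicit false

namespace Cfsg.Lib.HalfCl

open Cfsg Cfsg.Lib.Trans Cfsg.Lib.Local Cfsg.Lib.Solv

universe u

/-- The classes of 2-elements. -/
abbrev TC (G : Type*) [Group G] :=
  {c : ConjClasses G // ∀ x ∈ c.carrier, ∃ k : ℕ, orderOf x = 2 ^ k}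

variable {G : Type*} [Group G]

theorem two_class {x : G} (hx : ∃ k, x ^ 2 ^ k = 1) :
    ∀ y ∈ (ConjClasses.mk x).carrier, ∃ k : ℕ, orderOf y = 2 ^ k := by
  intro y hy
  rw [ConjClasses.mem_carrier_iff_mk_eq, ConjClasses.mk_eq_mk_iff_isConj] at hy
  obtain ⟨c, rfl⟩ := isConj_iff.1 hy.symm
  obtain ⟨k, hk⟩ := hx
  exact exists_orderOf_eq_prime_pow_iff.2 ⟨k, by rw [conj_pow, hk]; group⟩

theorem TC.exists_rep (c : TC G) : ∃ x : G, (∃ k, x ^ 2 ^ k = 1) ∧ ConjClasses.mk x = c.1 := by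
  obtain ⟨x, hx⟩ := ConjClasses.exists_rep c.1
  exact ⟨x, exists_orderOf_eq_prime_pow_iff.1
    (c.2 x (ConjClasses.mem_carrier_iff_mk_eq.2 hx)), hx⟩

variable [Finite G]

theorem exists_conj_mem (P : Sylow 2 G) {x : G} (hx : ∃ k, x ^ 2 ^ k = 1) :
    ∃ y ∈ (P : Subgroup G), IsConj x y := by
  have h1 : IsPGroup 2 (Subgroup.zpowers x) := by
    obtain ⟨k, hk⟩ := exists_orderOf_eq_prime_pow_iff.2 hx
    exact IsPGroup.of_card (by rw [Nat.card_zpowers, hk])
  obtain ⟨Q, hQ⟩ := h1.exists_le_sylow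
  obtain ⟨g, rfl⟩ := MulAction.exists_smul_eq G P Q
  refine ⟨g⁻¹ * x * g, (Block.Princ.mem_smul_sylow_iff P g x).1 (hQ (Subgroup.mem_zpowers x)),
    isConj_iff.2 ⟨g⁻¹, by rw [inv_inv]⟩⟩

theorem hyp_of_card (P : Sylow 2 G) (hP : (P : Subgroup G) ≠ ⊥) (hO : pPrimeCore 2 G = ⊥)
    (hZ : Subgroup.center G = ⊥) (hk : Nat.card (P : Subgroup G) ≤ 2 * Nat.card (TC G)) :
    Hyp P ∧ 2 * Nat.card (TC G) = Nat.card (P : Subgroup G) := by
  classical
  have := Fintype.ofFinite G
  have := Fintype.ofFinite (ConjClasses G)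
  have two : ∀ x ∈ (P : Subgroup G), x ≠ 1 → ∃ y ∈ (P : Subgroup G), y ≠ x ∧ IsConj x y := by
    intro x hx x1
    by_contra h
    apply x1
    rw [← Subgroup.mem_bot, ← hZ, Subgroup.mem_center_iff]
    intro g
    have := Block.Princ.zstar_elt P hx (fun g hg => by
      by_contra hne
      exact h ⟨_, hg, hne, isConj_iff.2 ⟨g, rfl⟩⟩) g
    rw [show oddCore G = ⊥ from hO, Subgroup.mem_bot] at this
    calc g * x = g * x * g⁻¹ * x⁻¹ * (x * g) := by group
      _ = x * g := by rw [this, one_mul]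
  set s : Finset G := Finset.univ.filter (· ∈ (P : Subgroup G)) with hs
  set t : Finset (ConjClasses G) :=
    Finset.univ.filter (fun c => ∀ x ∈ c.carrier, ∃ k : ℕ, orderOf x = 2 ^ k) with ht
  have hst : ∀ x ∈ (P : Subgroup G), ConjClasses.mk x ∈ t := by
    intro x hx
    obtain ⟨k, hk⟩ := P.isPGroup' ⟨x, hx⟩
    rw [ht, Finset.mem_filter]
    exact ⟨Finset.mem_univ _, two_class ⟨k, congrArg Subtype.val hk⟩⟩
  set n : ConjClasses G → ℕ := fun c => (s.filter (fun x => ConjClasses.mk x = c)).card with hn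
  have hsum : s.card = ∑ c ∈ t, n c :=
    Finset.card_eq_sum_card_fiberwise (f := ConjClasses.mk) fun x hx =>
      hst x (Finset.mem_filter.1 hx).2
  have hsc : s.card = Nat.card (P : Subgroup G) := by
    rw [Nat.card_eq_fintype_card, Fintype.card_subtype]
  have htc : t.card = Nat.card (TC G) := by
    rw [Nat.card_eq_fintype_card, Fintype.card_subtype]
  have hnF : ∀ x, n (ConjClasses.mk x) = (Fz (P : Subgroup G) x).ncard := by
    intro x
    simp only [hn]
    rw [← Set.ncard_coe_finset]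
    congr 1
    ext y
    simp only [hs, Finset.coe_filter, Finset.mem_filter, Finset.mem_univ, true_and,
      Set.mem_ofPred_eq, Fz, ConjClasses.mk_eq_mk_iff_isConj]
    exact and_congr_right fun _ => ⟨IsConj.symm, IsConj.symm⟩
  have h1 : n (ConjClasses.mk 1) = 1 := by
    rw [hnF, Set.ncard_eq_one]
    refine ⟨1, Set.ext fun y => ⟨fun h => isConj_one_right.1 h.2, ?_⟩⟩
    rintro rfl
    exact mem_Fz_self (one_mem _)
  set t' := t.erase (ConjClasses.mk 1) with ht'
  have mt' : ∀ x ∈ (P : Subgroup G), x ≠ 1 → ConjClasses.mk x ∈ t' := fun x hx x1 =>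
    Finset.mem_erase.2 ⟨fun e => x1 (isConj_one_left.1
      (ConjClasses.mk_eq_mk_iff_isConj.1 e)), hst x hx⟩
  have h2 : ∀ c ∈ t', 2 ≤ n c := by
    intro c hc
    obtain ⟨c1, hc⟩ := Finset.mem_erase.1 hc
    obtain ⟨x, hx, e⟩ := TC.exists_rep ⟨c, (Finset.mem_filter.1 hc).2⟩
    obtain ⟨y, hy, hxy⟩ := exists_conj_mem P hx
    have e' : ConjClasses.mk y = c := (ConjClasses.mk_eq_mk_iff_isConj.2 hxy.symm).trans e
    obtain ⟨w, hw, hwy, hc⟩ := two y hy (fun h => c1 (by rw [← e', h]))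
    rw [← e', hnF]
    exact (Set.one_lt_ncard_iff (Set.toFinite _)).2 ⟨w, y, ⟨hw, hc⟩, mem_Fz_self hy, hwy⟩
  have hsum' : 1 + ∑ c ∈ t', n c = Nat.card (P : Subgroup G) := by
    rw [← hsc, hsum, ← Finset.add_sum_erase t n (hst 1 (one_mem _)), h1]
  have htc' : t'.card + 1 = Nat.card (TC G) := by
    rw [← htc, Finset.card_erase_add_one (hst 1 (one_mem _))]
  have hex : ∑ c ∈ t', n c = ∑ c ∈ t', (n c - 2) + 2 * t'.card := by
    rw [mul_comm, ← smul_eq_mul, ← Finset.sum_const, ← Finset.sum_add_distrib]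
    exact Finset.sum_congr rfl fun c hc => by have := h2 c hc; omega
  have heven : 2 ∣ Nat.card (P : Subgroup G) := by
    have : Nontrivial (P : Subgroup G) := (Subgroup.nontrivial_iff_ne_bot _).2 hP
    obtain ⟨k, hk, hcard⟩ := P.isPGroup'.nontrivial_iff_card.1 this
    exact hcard ▸ dvd_pow_self 2 hk.ne'
  have hle : ∑ c ∈ t', (n c - 2) ≤ 1 := by omega
  refine ⟨⟨two, fun x hx x1 => ?_, fun x hx y hy x1 y1 h3 h4 => ?_⟩, by omega⟩
  · have := Finset.single_le_sum (f := fun c => n c - 2) (fun _ _ => Nat.zero_le _) (mt' x hx x1)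
    rw [← hnF]
    omega
  · by_contra hne
    have hne' : ConjClasses.mk x ≠ ConjClasses.mk y := fun e =>
      hne (ConjClasses.mk_eq_mk_iff_isConj.1 e)
    have := Finset.sum_le_sum_of_subset (f := fun c => n c - 2)
      (s := {ConjClasses.mk x, ConjClasses.mk y}) (t := t') (by
        intro c hc
        rcases Finset.mem_insert.1 hc with rfl | hc
        · exact mt' x hx x1
        · rw [Finset.mem_singleton.1 hc]; exact mt' y hy y1)
    rw [Finset.sum_pair hne'] at this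
    rw [← hnF] at h3 h4
    omega

theorem isPGroup_center (hO : pPrimeCore 2 G = ⊥) : IsPGroup 2 (Subgroup.center G) := by
  have h1 := Trans.center_le_pCore_of_isSubnormal hO (M := ⊤) Subgroup.IsSubnormal.top
  refine (pCore_isPGroup 2 G).to_le fun x hx => h1 ⟨trivial, ?_⟩
  exact Subgroup.mem_centralizer_iff.2 fun y _ => Subgroup.mem_center_iff.1 hx y

theorem lift_two (hO : pPrimeCore 2 G = ⊥) (x : G)
    (h : ∃ k, (x : G ⧸ Subgroup.center G) ^ 2 ^ k = 1) : ∃ k, x ^ 2 ^ k = 1 := by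
  obtain ⟨k, hk⟩ := h
  rw [← QuotientGroup.mk_pow, QuotientGroup.eq_one_iff] at hk
  obtain ⟨j, hj⟩ := isPGroup_center hO ⟨_, hk⟩
  refine ⟨k + j, ?_⟩
  rw [pow_add, pow_mul]
  exact congrArg Subtype.val hj

/-- Comparison of the numbers of classes of 2-elements of `G` and of `G / Z(G)`. -/
theorem card_TC_le (hO : pPrimeCore 2 G = ⊥) :
    Nat.card (TC G) ≤ Nat.card (TC (G ⧸ Subgroup.center G)) * Nat.card (Subgroup.center G) ∧
    (Nat.card (TC (G ⧸ Subgroup.center G)) * Nat.card (Subgroup.center G) ≤ Nat.card (TC G) →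
      Subgroup.center (G ⧸ Subgroup.center G) = ⊥) := by
  set Z := Subgroup.center G with hZ
  have hZp : IsPGroup 2 Z := isPGroup_center hO
  have hO' := Block.Princ.pPrimeCore_quotient_central Z hZp le_rfl hO
  have rep : ∀ c : TC (G ⧸ Z), ∃ x : G, (∃ k, (x : G ⧸ Z) ^ 2 ^ k = 1) ∧
      ConjClasses.mk (x : G ⧸ Z) = c.1 := by
    intro c
    obtain ⟨x, hx⟩ := c.exists_rep
    obtain ⟨x, rfl⟩ := QuotientGroup.mk_surjective x
    exact ⟨x, hx⟩
  choose s hs1 hs2 using rep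
  have lift : ∀ x : G, (∃ k, (x : G ⧸ Z) ^ 2 ^ k = 1) → ∃ k, x ^ 2 ^ k = 1 := lift_two hO
  have mkw : ∀ (x : G) (w : Z), ((x * w : G) : G ⧸ Z) = x := fun x w =>
    QuotientGroup.mk_mul_of_mem x w.2
  let Φ : TC (G ⧸ Z) × Z → TC G := fun a =>
    ⟨ConjClasses.mk (s a.1 * a.2), two_class (lift _ (by rw [mkw]; exact hs1 a.1))⟩
  have hsurj : Function.Surjective Φ := by
    intro c
    obtain ⟨y, ⟨k, hk⟩, e⟩ := c.exists_rep
    let d : TC (G ⧸ Z) := ⟨ConjClasses.mk (y : G ⧸ Z),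
      two_class ⟨k, by rw [← QuotientGroup.mk_pow, hk]; rfl⟩⟩
    obtain ⟨g, hg⟩ := isConj_iff.1 (ConjClasses.mk_eq_mk_iff_isConj.1 (hs2 d)).symm
    obtain ⟨g, rfl⟩ := QuotientGroup.mk_surjective g
    have hw : (s d)⁻¹ * (g * y * g⁻¹) ∈ Z := QuotientGroup.eq.1 hg.symm
    refine ⟨(d, ⟨_, hw⟩), Subtype.ext ?_⟩
    change ConjClasses.mk (s d * ((s d)⁻¹ * (g * y * g⁻¹))) = c.1
    rw [mul_inv_cancel_left, ← e, ConjClasses.mk_eq_mk_iff_isConj]
    exact (isConj_iff.2 ⟨g, rfl⟩ : IsConj y _).symm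
  refine ⟨Nat.card_prod _ Z ▸ Nat.card_le_card_of_surjective Φ hsurj, fun h => ?_⟩
  have hinj := (hsurj.bijective_of_nat_card_le (by rwa [Nat.card_prod])).1
  rw [eq_bot_iff]
  intro u hu
  obtain ⟨k, hk⟩ := isPGroup_center hO' ⟨u, hu⟩
  let d : TC (G ⧸ Z) := ⟨ConjClasses.mk u, two_class ⟨k, congrArg Subtype.val hk⟩⟩
  have e : (s d : G ⧸ Z) = u := by
    obtain ⟨g, hg⟩ := isConj_iff.1 (ConjClasses.mk_eq_mk_iff_isConj.1 (hs2 d)).symm
    rw [← hg, Subgroup.mem_center_iff.1 hu g, mul_inv_cancel_right]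
  rw [Subgroup.mem_bot, ← e, QuotientGroup.eq_one_iff, Subgroup.mem_center_iff]
  intro g
  have hw : (s d)⁻¹ * (g * s d * g⁻¹) ∈ Z := by
    apply QuotientGroup.eq.1
    rw [QuotientGroup.mk_mul, QuotientGroup.mk_mul, QuotientGroup.mk_inv, e,
      Subgroup.mem_center_iff.1 hu g, mul_inv_cancel_right]
  have := hinj (a₁ := (d, ⟨_, hw⟩)) (a₂ := (d, 1)) (Subtype.ext (by
    change ConjClasses.mk (s d * ((s d)⁻¹ * (g * s d * g⁻¹))) = ConjClasses.mk (s d * 1)
    rw [mul_inv_cancel_left, mul_one, ConjClasses.mk_eq_mk_iff_isConj]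
    exact (isConj_iff.2 ⟨g, rfl⟩ : IsConj (s d) _).symm))
  have h1 : (s d)⁻¹ * (g * s d * g⁻¹) = 1 := congrArg Subtype.val (congrArg Prod.snd this)
  calc g * s d = s d * ((s d)⁻¹ * (g * s d * g⁻¹)) * g := by group
    _ = s d * g := by rw [h1, mul_one]

theorem card_map_sylow (P : Sylow 2 G) (hO : pPrimeCore 2 G = ⊥) :
    Nat.card (P.mapSurjective (QuotientGroup.mk'_surjective (Subgroup.center G)) :
      Subgroup (G ⧸ Subgroup.center G)) * Nat.card (Subgroup.center G) =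
      Nat.card (P : Subgroup G) := by
  have hle : Subgroup.center G ≤ P := (le_pCore inferInstance (isPGroup_center hO)).trans
    (pCore_le_sylow P)
  have h1 := (P : Subgroup G).index_map_eq (QuotientGroup.mk'_surjective (Subgroup.center G))
    (by rwa [QuotientGroup.ker_mk'])
  have h2 := ((P : Subgroup G).map (QuotientGroup.mk' (Subgroup.center G))).card_mul_index
  have h3 := (P : Subgroup G).card_mul_index
  have h4 := Subgroup.card_eq_card_quotient_mul_card_subgroup (Subgroup.center G)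
  rw [Sylow.coe_mapSurjective]
  apply Nat.eq_of_mul_eq_mul_right (Nat.pos_of_ne_zero (P : Subgroup G).index_ne_zero_of_finite)
  rw [h3, h4, ← h2, h1]
  ring

theorem isPGroup_or_eq (G : Type u) [Group G] [Finite G] : ∀ P : Sylow 2 G,
    pPrimeCore 2 G = ⊥ → Nat.card (P : Subgroup G) ≤ 2 * Nat.card (TC G) →
    IsPGroup 2 G ∨ 2 * Nat.card (TC G) = Nat.card (P : Subgroup G) := by
  refine card_induction (P := fun G _ _ => ∀ P : Sylow 2 G,
    pPrimeCore 2 G = ⊥ → Nat.card (P : Subgroup G) ≤ 2 * Nat.card (TC G) →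
    IsPGroup 2 G ∨ 2 * Nat.card (TC G) = Nat.card (P : Subgroup G)) ?_ G
  intro G _ _ ih P hO hk
  by_cases hZ : Subgroup.center G = ⊥
  · by_cases hP : (P : Subgroup G) = ⊥
    · left
      have h := (isSylowIn_top P).eq_bot_iff.1 hP
      have := pPrimeCore_eq_bot_iff.1 hO ⊤ inferInstance
        ((Nat.Prime.coprime_iff_not_dvd Nat.prime_two).2 h).symm
      intro g
      refine ⟨0, ?_⟩
      rw [pow_zero, pow_one, ← Subgroup.mem_bot, ← this]
      trivial
    · exact Or.inr (hyp_of_card P hP hO hZ hk).2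
  · have hZp := isPGroup_center hO
    have h1 := (card_TC_le hO).1
    have h2 := card_map_sylow P hO
    have hpos : 0 < Nat.card (Subgroup.center G) := Nat.card_pos
    rcases ih (G ⧸ Subgroup.center G) (card_quotient_lt hZ) _
      (Block.Princ.pPrimeCore_quotient_central _ hZp le_rfl hO)
      (Nat.le_of_mul_le_mul_right (by rw [h2]; nlinarith) hpos) with h | h
    · exact Or.inl fun g => lift_two hO g (h g)
    · right
      rw [← h] at h2
      nlinarith

theorem not_half_of_isPGroup (h : IsPGroup 2 G) :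
    2 * Nat.card (ConjClasses G) ≠ Nat.card G := by
  classical
  intro hk
  have := Fintype.ofFinite G
  have : Fact (Nat.Prime 3) := ⟨Nat.prime_three⟩
  let f : Function.End {p : G × G // Commute p.1 p.2} := fun a =>
    ⟨(a.1.2, (a.1.1 * a.1.2)⁻¹), (a.2.symm.mul_right (Commute.refl _)).inv_right⟩
  have hf : f ^ 3 ^ 1 = 1 := by
    funext a
    change f (f (f a)) = a
    apply Subtype.ext
    simp only [f]
    ext
    · simp only; group
    · simp only; group
  have h1 := Equiv.Perm.card_fixedPoints_modEq hf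
  have h2 : Fintype.card f.fixedPoints = 1 := by
    rw [Fintype.card_eq_one_iff]
    refine ⟨⟨⟨(1, 1), Commute.refl _⟩, Subtype.ext (by simp [f])⟩, ?_⟩
    rintro ⟨⟨⟨a, b⟩, hab⟩, hfix⟩
    have e := congrArg Subtype.val hfix
    simp only [f, Prod.mk.injEq] at e
    obtain ⟨rfl, e⟩ := e
    have e3 : b ^ 3 = 1 := by
      rw [pow_three']
      exact mul_eq_one_iff_inv_eq.2 e
    obtain ⟨k, hk⟩ := h b
    have : b = 1 := by
      have := Nat.dvd_gcd (orderOf_dvd_of_pow_eq_one e3) (orderOf_dvd_of_pow_eq_one hk)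
      rw [Nat.Coprime.gcd_eq_one (Nat.Coprime.pow_right k (by norm_num)), Nat.dvd_one] at this
      exact orderOf_eq_one_iff.1 this
    subst this
    rfl
  rw [h2, ← Nat.card_eq_fintype_card, card_comm_eq_card_conjClasses_mul_card, ← hk] at h1
  set k := Nat.card (ConjClasses G)
  unfold Nat.ModEq at h1
  have : k % 3 = 0 ∨ k % 3 = 1 ∨ k % 3 = 2 := by omega
  rcases this with e | e | e <;> simp [Nat.mul_mod, e] at h1

theorem main (P : Sylow 2 G) (hO : pPrimeCore 2 G = ⊥)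
    (hk : 2 * Nat.card (TC G) = Nat.card (P : Subgroup G)) :
    Nonempty (G ⧸ Subgroup.center G ≃* alternatingGroup (Fin 4)) ∨
    Nonempty (G ⧸ Subgroup.center G ≃* Equiv.Perm (Fin 4)) ∨
    ∃ S : Subgroup (G ⧸ Subgroup.center G), S.Normal ∧ IsSimpleGroup S ∧ ¬ IsMulCommutative S ∧
      Subgroup.centralizer (S : Set (G ⧸ Subgroup.center G)) = ⊥ ∧
      ∃ (F : Type) (_ : Field F) (_ : Fintype F), 3 < Fintype.card F ∧
        (Fintype.card F % 8 = 3 ∨ Fintype.card F % 8 = 5) ∧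
        Nonempty (S ≃* Matrix.ProjectiveSpecialLinearGroup (Fin 2) F) := by
  have hG : ¬ IsPGroup 2 G := by
    intro h
    apply not_half_of_isPGroup h
    have e1 : (P : Subgroup G) = ⊤ := (P.is_maximal' (h.to_subgroup ⊤) le_top).symm
    rw [e1, Subgroup.card_top] at hk
    rw [← hk, Nat.card_congr (Equiv.subtypeUnivEquiv (p := fun c : ConjClasses G =>
      ∀ x ∈ c.carrier, ∃ k : ℕ, orderOf x = 2 ^ k) fun c x _ =>
        exists_orderOf_eq_prime_pow_iff.2 (h x))]
  have hO' := Block.Princ.pPrimeCore_quotient_central _ (isPGroup_center hO) le_rfl hO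
  obtain ⟨h1, h3⟩ := card_TC_le hO
  have h2 := card_map_sylow P hO
  have hpos : 0 < Nat.card (Subgroup.center G) := Nat.card_pos
  set Q := P.mapSurjective (QuotientGroup.mk'_surjective (Subgroup.center G))
  have hle : Nat.card (Q : Subgroup (G ⧸ Subgroup.center G)) ≤
      2 * Nat.card (TC (G ⧸ Subgroup.center G)) :=
    Nat.le_of_mul_le_mul_right (by rw [h2]; nlinarith) hpos
  have heq := (isPGroup_or_eq _ Q hO' hle).resolve_left fun h =>
    hG fun g => lift_two hO g (h g)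
  have hZ := h3 (by rw [← heq] at h2; nlinarith)
  have hQ : (Q : Subgroup (G ⧸ Subgroup.center G)) ≠ ⊥ := fun e => by
    rw [e, Subgroup.card_bot] at heq
    omega
  exact (hyp_of_card Q hQ hO' hZ hle).1.structure hQ hO' hZ

end Cfsg.Lib.HalfCl
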