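import Cfsg.Agent.Block.Reynolds
import Cfsg.Agent.Block.CoverDefect
import Cfsg.Agent.Char.Extension

/-!
Blocks with a normal defect group `P`: the `p`-part of the degrees is read off from `Irr(P)`.
-/

set_option autoImplicit false

open MonoidAlgebra Subgroup
open scoped ComplexConjugate
open Cfsg Cfsg.Lib.Char

namespace Cfsg.Lib.Block
open Pair

universe u

variable {G : Type u} [Group G] {p : ℕ} {M : Ideal AlgInt} {P : Subgroup G}
  {B : Set (IrrCharacter G)}

theorem subgroupOf_sup_centralizer_eq_top (P : Subgroup G) :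
    P.subgroupOf (P ⊔ centralizer (P : Set G)) ⊔
      centralizer (P.subgroupOf (P ⊔ centralizer (P : Set G)) :
        Set ↥(P ⊔ centralizer (P : Set G))) = ⊤ := by
  set N := P ⊔ centralizer (P : Set G) with hN
  have h1 : (centralizer (P : Set G)).subgroupOf N ≤ centralizer (P.subgroupOf N : Set N) :=
    fun x hx => mem_centralizer_iff.2 fun y hy =>
      Subtype.ext (mem_centralizer_iff.1 (mem_subgroupOf.1 hx) y hy)
  refine eq_top_iff.2 (le_trans ?_ (sup_le_sup_left h1 _))
  rw [← subgroupOf_sup le_sup_left le_sup_right, subgroupOf_self]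

variable [Finite G] [Fact p.Prime]

/-- A block of `Q C_G(Q)` (`Q` a normal `p`-subgroup) induces every block covering it. -/
theorem Covers.isInducedBlock_sup_centralizer (hM : IsPModular p M) [P.Normal] (hP : IsPGroup p P)
    {b : Set (IrrCharacter ↥(P ⊔ centralizer (P : Set G)))} (hB : IsPBlock M B)
    (hb : IsPBlock M b) (h : Covers (P ⊔ centralizer (P : Set G)) B b) :
    IsInducedBlock M (P ⊔ centralizer (P : Set G)) b B := by
  have hN : P ⊔ centralizer (P : Set G) ≤ normalizer (P : Set G) := by
    rw [normalizer_eq_top]; exact le_top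
  rw [isInducedBlock_iff_br_mul hM hP le_sup_left le_sup_right hN hb hB, br_eq_trunc,
    trunc_centralizer_eB hM hB inferInstance hP]
  exact (covers_iff_mul_hat_ne_zero hM hB hb).1 h

theorem Covers.not_dvd_relIndex_stabB (hM : IsPModular p M) [P.Normal]
    {b : Set (IrrCharacter ↥(P ⊔ centralizer (P : Set G)))} (hB : IsPBlock M B)
    (hb : IsPBlock M b) (hBP : IsDefectGroup p M B P)
    (h : Covers (P ⊔ centralizer (P : Set G)) B b) :
    ¬ p ∣ (P ⊔ centralizer (P : Set G)).relIndex (stabB b) := by
  haveI := charP_kM hM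
  have hP := defect_isPGroup hBP
  have hind := h.isInducedBlock_sup_centralizer hM hP hB hb
  set H := P ⊔ centralizer (P : Set G)
  have hPN : ∀ K : Subgroup G, K ≤ normalizer (P : Set G) := fun K => by
    rw [normalizer_eq_top]; exact le_top
  have hHN : ∀ K : Subgroup G, K ≤ normalizer (H : Set G) := fun K => by
    rw [normalizer_eq_top]; exact le_top
  have he := isPrim_hat hM hb
  have hsupp := hat_suppOn_centralizer hM hP le_sup_left (hPN H) hb
  have hmul := (isInducedBlock_iff_br_mul_eq hM hP le_sup_left le_sup_right (hPN H) hb hB).1 hind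
  have hBp := isPrim_eB hM hB
  rw [isDefectGroup_iff_isDefect hM hB] at hBP
  rw [stabB_eq_stab hM hb]
  obtain ⟨D, hD⟩ := (he.of_le_stab he.le_stab le_rfl).exists_isDefect p he.le_stab (hHN _)
  have hPD : P ≤ D := hD.le_of_normal (le_sup_left.trans he.le_stab) hP (hPN _) hsupp
  have h1 : br D (br P (eB M B)) ≠ 0 :=
    br_ne_zero_of_mul_eq hD.isPGroup
      ((le_inf (le_top.trans hBp.le_stab) (hPN _)).trans (stab_inf_normalizer_le_stab_br P _))
      hD.le hmul hD.br_ne_zero
  rw [br_br_of_le hPD] at h1
  have h2 : D = P := hBP.eq_of_le le_top hD.isPGroup h1 hPD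
  have h3 := hD.not_dvd_relIndex he.le_stab (hHN _) he le_rfl
  rwa [h2, sup_eq_left.2 (show P ≤ H from le_sup_left)] at h3

/-- If no prime `p` divides the index of `N` in the inertia group, then `p`-parts of degrees are
determined by Clifford theory. -/
theorem factorization_degree_of_not_dvd_inertia {N : Subgroup G} [N.Normal] {χ : IrrCharacter G}
    {θ : IrrCharacter N} (ho : Over N (χ : G → ℂ) (θ : N → ℂ))
    (h : ¬ p ∣ N.relIndex (inertia N (θ : N → ℂ))) :
    (charDegree (χ : G → ℂ)).factorization p =
      (charDegree (θ : N → ℂ)).factorization p + N.index.factorization p := by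
  have := Fintype.ofFinite G
  have := Fintype.ofFinite N
  obtain ⟨e, he0, he, hcd⟩ := degree_dvd_of_lies_over χ.2 θ.2 (over_iff.1 ho)
    (irr_charDegree_cast χ).symm (irr_charDegree_cast θ).symm
  have h1 := ramification_dvd_relIndex χ.2 θ.2 he0.ne' he
  have h2 := relIndex_mul_index (le_inertia (N := N) θ.2.isClassFunction)
  have h3 : (inertia N (θ : N → ℂ)).index ≠ 0 := index_ne_zero_of_finite
  have h4 : N.relIndex (inertia N (θ : N → ℂ)) ≠ 0 := index_ne_zero_of_finite
  rw [hcd, ← h2, Nat.factorization_mul (mul_ne_zero he0.ne' h3) (irr_charDegree_ne_zero θ),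
    Nat.factorization_mul he0.ne' h3, Nat.factorization_mul h4 h3]
  simp only [Finsupp.add_apply]
  rw [Nat.factorization_eq_zero_of_not_dvd (fun h' => h (h'.trans h1)),
    Nat.factorization_eq_zero_of_not_dvd h]
  omega

omit [Finite G] [Fact p.Prime] in
theorem inertia_le_stabB [Finite G] (hM : IsPModular p M) {N : Subgroup G} [N.Normal]
    {b : Set (IrrCharacter N)} (hb : IsPBlock M b) {θ : IrrCharacter N} (hθ : θ ∈ b) :
    inertia N (θ : N → ℂ) ≤ stabB b := by
  intro g hg
  have h1 : cjI g θ = θ := Subtype.ext (by rw [coe_cjI]; exact hg)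
  refine mem_stabB.2 (block_eq_of_mem hM (isPBlock_cjB.2 hb) hb ?_ hθ)
  rw [← h1]
  exact cjI_mem_cjB.2 hθ

/-- Reynolds: for a normal defect group `P`, `ν(χ(1)) = ν(ζ(1)) + ν|G : P|` for `ζ` under `χ`. -/
theorem factorization_degree_of_normal_defect (hM : IsPModular p M) [P.Normal] (hB : IsPBlock M B)
    (hBP : IsDefectGroup p M B P) {χ : IrrCharacter G} (hχ : χ ∈ B) {ζ : IrrCharacter P}
    (ho : Over P (χ : G → ℂ) (ζ : P → ℂ)) :
    (charDegree (χ : G → ℂ)).factorization p =
      (charDegree (ζ : P → ℂ)).factorization p + P.index.factorization p := by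
  have hP := defect_isPGroup hBP
  have hPN : P ≤ P ⊔ centralizer (P : Set G) := le_sup_left
  obtain ⟨ψ, h1, h2⟩ := Over.exists_between hPN χ.2.isClassFunction ho
  have hb := isPBlock_blockOf (M := M) ψ
  have hψ := mem_blockOf_self hM ψ
  have hc : Covers _ B _ := ⟨χ, hχ, ψ, hψ, h1⟩
  have hind := hc.isInducedBlock_sup_centralizer hM hP hB hb
  have hbP := defect_subgroupOf_of_isInducedBlock hM hPN
    (by rw [normalizer_eq_top]; exact le_top) hBP hind
  have h3 := factorization_degree_of_over hM (subgroupOf_sup_centralizer_eq_top P) hb hbP hψ h2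
  have h4 := factorization_degree_of_not_dvd_inertia (p := p) h1 fun h =>
    hc.not_dvd_relIndex_stabB hM hB hb hBP (h.trans (Dvd.intro _ (relIndex_mul_relIndex _ _ _
      (le_inertia ψ.2.isClassFunction) (inertia_le_stabB hM hb hψ))))
  have h5 := relIndex_mul_index hPN
  have h6 : charDegree (subI hPN ζ).1 = charDegree (ζ : P → ℂ) := by
    rw [← Nat.cast_inj (R := ℂ), irr_charDegree_cast, irr_charDegree_cast, subI_apply]
    rfl
  rw [h4, h3, h6, ← h5, relIndex,
    Nat.factorization_mul index_ne_zero_of_finite index_ne_zero_of_finite,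
    Finsupp.add_apply, add_assoc]

/-- Reynolds: heights in a block with normal defect group `P` are the `ν(ζ(1))`. -/
theorem blockHeight_of_normal_defect (hM : IsPModular p M) [P.Normal] (hB : IsPBlock M B)
    (hBP : IsDefectGroup p M B P) {χ : IrrCharacter G} (hχ : χ ∈ B) {ζ : IrrCharacter P}
    (ho : Over P (χ : G → ℂ) (ζ : P → ℂ)) :
    blockHeight p B (χ : G → ℂ) = (charDegree (ζ : P → ℂ)).factorization p := by
  have h1 := factorization_degree_of_normal_defect hM hB hBP hχ ho
  have h2 := Ht.factorization_charDegree_eq (p := p) hχ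
  have h3 := Ht.blockDefect_add_minVal p (block_nonempty hM hB)
  have h4 := blockDefect_eq_factorization hM hB hBP
  rw [← P.card_mul_index, Nat.factorization_mul Nat.card_pos.ne' index_ne_zero_of_finite,
    Finsupp.add_apply] at h3
  omega

end Cfsg.Lib.Block
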