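import Cfsg.Agent.Block.EqDeg
import Cfsg.Agent.Block.StarLin
import Cfsg.Agent.Block.NilpIndex
import Cfsg.Agent.Block.Quot
import Cfsg.Agent.Block.Reynolds2
import Cfsg.Agent.Char.DegThompson
import Cfsg.Agent.Solv.CoprimeFixed
import Cfsg.Agent.Solv.FrattiniP

/-!
Blocks with a normal defect group: nilpotency is detected on the inertial group, and by the
degrees of the characters of height zero.
-/

set_option autoImplicit false

open MonoidAlgebra Cfsg Cfsg.Lib.Char Subgroup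
open scoped MonoidAlgebra

namespace Cfsg.Lib.Block.Pair

variable {G : Type*} [Group G] [Finite G] {p : ℕ} [hp : Fact p.Prime]

omit [Finite G] hp in
theorem pow_conj_eq_of_mul {Q : Subgroup G} {c x : G} (hc : c ∈ centralizer (Q : Set G))
    (hx : x ∈ normalizer (Q : Set G)) (n : ℕ) :
    ∀ q ∈ Q, (c * x) ^ n * q * ((c * x) ^ n)⁻¹ = x ^ n * q * (x ^ n)⁻¹ := by
  induction n with
  | zero => simp
  | succ n ih =>
    intro q hq
    have h1 : x ^ (n + 1) * q * (x ^ (n + 1))⁻¹ ∈ Q :=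
      (mem_normalizer_iff.1 (Subgroup.pow_mem _ hx (n + 1)) q).1 hq
    calc (c * x) ^ (n + 1) * q * ((c * x) ^ (n + 1))⁻¹
        = c * (x * ((c * x) ^ n * q * ((c * x) ^ n)⁻¹) * x⁻¹) * c⁻¹ := by
          rw [pow_succ']; simp only [mul_inv_rev, mul_assoc]
      _ = c * (x ^ (n + 1) * q * (x ^ (n + 1))⁻¹) * c⁻¹ := by rw [ih q hq]; group
      _ = _ := conj_eq_of_mem_centralizer hc h1

/-- With a normal defect group all fusion comes from the inertial group. -/
theorem IsMax.exists_mul_mem_stab {k : Type*} [Field k] [CharP k p] {b e f : k[G]}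
    {D Q : Subgroup G} [hN : D.Normal] (h : IsMax p ⊤ ⊤ b D e) (hle : Le p ⊤ Q f D e) {x : G}
    (hx : x ∈ normalizer (Q : Set G)) (hf : x ∈ stab f) :
    ∃ c ∈ centralizer (Q : Set G), c * x ∈ stab e := by
  have he := isBlk_top_iff.1 h.blk
  have hCC : centralizer (D : Set G) ≤ centralizer (Q : Set G) := centralizer_le hle.le
  have hn : ∀ L : Subgroup G, L ≤ normalizer ((centralizer (D : Set G) : Subgroup G) : Set G) :=
    fun L => by rw [normalizer_eq_top]; exact le_top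
  have hc := he.isPrim_orbSum le_rfl hCC (hn _) (hn _)
  have hce := he.orbSum_mul_of_mem le_rfl (hn _) (hn _) (mem_orb_self (centralizer (Q : Set G)) e)
  generalize hcdef : orbSum (centralizer (Q : Set G)) e = c at hc hce
  have hcf : c * f = f := by
    have := (hle.br_mul_iff hc.idem (suppOn_top _) (le_stab_of_suppOn_centralizer hc.suppOn)
      (inf_le_right.trans hc.le_stab)).2 (by rw [br_eq_self hc.suppOn, hce])
    rwa [br_eq_self (hc.suppOn.mono hCC)] at this
  have hc' := hc.cj_of_mem (hn ⊤ (mem_top x)) (normalizer_le_normalizer_centralizer Q hx)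
  have h1 : cj x c * f = f := by
    conv_lhs => rw [← mem_stab.1 hf]
    rw [← map_mul, hcf, mem_stab.1 hf]
  have h2 : c = cj x c := hc.eq_of_mul_ne_zero hCC hc' fun h0 => by
    have := (hle.isBlk h.blk).ne_zero
    rw [← hcf, ← h1, ← mul_assoc, h0, zero_mul] at this
    exact this rfl
  have he' := he.cj_of_mem (hn ⊤ (mem_top x)) (hn ⊤ (mem_top x))
  obtain ⟨y, hy, hye⟩ := he.mem_orb_of_orbSum_mul_ne_zero le_rfl (hn _) (hn _) he'
    (L := centralizer (Q : Set G)) (by
      rw [hcdef, h2, ← map_mul, hce]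
      exact he'.ne_zero)
  refine ⟨y⁻¹, inv_mem hy, ?_⟩
  rw [mem_stab, ← cj_cj, ← hye, cj_inv_cj]

theorem IsMax.nilp_of_normal {k : Type*} [Field k] [CharP k p] {b e : k[G]}
    {D : Subgroup G} [hN : D.Normal] (h : IsMax p ⊤ ⊤ b D e)
    (hT : ∀ x ∈ stab e, ¬ p ∣ orderOf x → x ∈ centralizer (D : Set G)) : Nilp p ⊤ b := by
  refine h.nilp_of_le fun Q f hle x _ hx hf hreg => ?_
  obtain ⟨c, hc, hcx⟩ := h.exists_mul_mem_stab hle hx hf
  obtain ⟨n, hn⟩ := exists_not_dvd_orderOf_pow p (c * x)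
  have h1 := centralizer_le hle.le (hT _ (Subgroup.pow_mem _ hcx _) hn)
  refine mem_of_pow_mem (n := n) hreg (mem_centralizer_of_conj_eq fun q hq => ?_)
  rw [← pow_conj_eq_of_mul hc hx _ q hq, conj_eq_of_mem_centralizer h1 hq]

variable {H : Type*} [Group H] [Finite H] {M : Ideal AlgInt} {f : G →* H}

omit hp in
theorem IsPrim.not_dvd_orderOf_of_coeff (hM : IsPModular p M) {K : Subgroup G} {c : (kM M)[G]}
    (hc : IsPrim K K c) {g : G} (hg : c.coeff g ≠ 0) : ¬ p ∣ orderOf g := by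
  obtain ⟨b, hb, rfl⟩ := hc.exists_eq_hat hM
  have := coeff_eB_support_regular hM hb (g := ⟨g, hc.suppOn.mem hg⟩)
    (by rwa [← coeff_emb K.subtype_injective])
  rwa [← Subgroup.orderOf_coe] at this

omit [Finite H] in
/-- Lifting of elements supported on images of `p`-regular elements of `C`. -/
theorem exists_emb_eq_of_regular {R : Type*} [CommRing R] (hP : IsPGroup p f.ker)
    {C L : Subgroup G} (hC : C ≤ centralizer (f.ker : Set G)) (hL : L ≤ normalizer (C : Set G))
    {z : R[H]} (hz : L.map f ≤ stab z)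
    (hs : ∀ h, z.coeff h ≠ 0 → ∃ y ∈ C, ¬ p ∣ orderOf y ∧ f y = h) :
    ∃ w ∈ fix R C L, emb f w = z := by
  classical
  obtain ⟨w, hw⟩ : ∃ w : R[G], ∀ g, w.coeff g =
      if g ∈ C ∧ ¬ p ∣ orderOf g then z.coeff (f g) else 0 := ⟨ofFun _, fun g => coeff_ofFun _ g⟩
  have hws : ∀ g, w.coeff g ≠ 0 → g ∈ C ∧ ¬ p ∣ orderOf g := fun g hg => by
    by_contra h
    rw [hw, if_neg h] at hg
    exact hg rfl
  have hsupp : SuppOn C w := fun g hg => by
    by_contra h0
    exact hg (hws g h0).1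
  refine ⟨w, ⟨hsupp, fun x hx => (cj_eq_iff' _ _).2 fun g => ?_⟩, galg_ext fun h => ?_⟩
  · rw [hw, hw, orderOf_conj, map_mul f, map_mul f, map_inv f,
      (cj_eq_iff' _ _).1 (hz ⟨x, hx, rfl⟩), ← mem_normalizer_iff.1 (hL hx) g]
  · by_cases hh : ∃ y ∈ C, ¬ p ∣ orderOf y ∧ f y = h
    · obtain ⟨y, hy, hy', rfl⟩ := hh
      rw [coeff_emb_of_regular f hP (hsupp.mono hC) (fun g hg => (hws g hg).2) hy', hw,
        if_pos ⟨hy, hy'⟩]
    · rw [not_not.1 (mt (hs h) hh)]
      by_contra h0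
      obtain ⟨g, hg, rfl⟩ := exists_of_coeff_emb_ne_zero f h0
      exact hh ⟨g, (hws g hg).1, (hws g hg).2, rfl⟩

/-- Nilpotency lifts from a quotient by a `p`-group in the Frattini sense. -/
theorem nilp_of_quot (hM : IsPModular p M) (hf : Function.Surjective f) {D : Subgroup G}
    [hN : D.Normal] (hfD : f.ker ≤ D)
    (hC' : ∀ y : G, ¬ p ∣ orderOf y → f y ∈ centralizer ((D.map f : Subgroup H) : Set H) →
      y ∈ centralizer (D : Set G)) {b e : (kM M)[G]} (h : IsMax p ⊤ ⊤ b D e)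
    (hn : Nilp p ⊤ (emb f b)) : Nilp p ⊤ b := by
  have := charP_kM hM
  have hP := h.isPGroup.to_le hfD
  have hN' : (D.map f).Normal := Subgroup.Normal.map hN f hf
  refine h.nilp_of_normal fun x hx hreg => hC' x hreg ?_
  have he := isBlk_top_iff.1 h.blk
  obtain ⟨L, hL⟩ : ∃ L, L = (centralizer ((D.map f : Subgroup H) : Set H)).comap f := ⟨_, rfl⟩
  have hLN : L.Normal := by rw [hL]; infer_instance
  have hLm : L.map f = centralizer ((D.map f : Subgroup H) : Set H) := by
    rw [hL, map_comap_eq_self_of_surjective hf]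
  have hCL : centralizer (D : Set G) ≤ L := fun y hy => by
    rw [hL, mem_comap, mem_centralizer_iff]
    rintro _ ⟨d, hd, rfl⟩
    rw [← map_mul, ← map_mul, mem_centralizer_iff.1 hy d hd]
  have hno : ∀ K : Subgroup G, K ≤ normalizer ((centralizer (D : Set G) : Subgroup G) : Set G) :=
    fun K => by rw [normalizer_eq_top]; exact le_top
  have hc := he.isPrim_orbSum le_rfl hCL (hno _) (hno _)
  have hce := he.orbSum_mul_of_mem le_rfl (hno _) (hno _) (mem_orb_self L e)
  have hbc : br D b * orbSum L e = orbSum L e := mul_orbSum_eq_self (fun y _ =>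
    stab_inf_normalizer_le_stab_br D b ⟨h.prim.le_stab (mem_top y), by
      rw [normalizer_eq_top]; trivial⟩) h.br_mul
  have hcreg : ∀ g, (orbSum L e).coeff g ≠ 0 → ¬ p ∣ orderOf g := fun g hg => by
    obtain ⟨e', he', hg'⟩ := exists_mem_orb_coeff_ne_zero hg
    exact (he.of_mem_orb (hno _) (hno _) he').not_dvd_orderOf_of_coeff hM hg'
  generalize orbSum L e = c at hc hce hbc hcreg
  have hxc : cj x c = c := by
    refine (hc.eq_of_mul_ne_zero hCL (hc.cj_of_mem (hno ⊤ (mem_top x))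
      (by rw [normalizer_eq_top]; trivial)) fun h0 => ?_).symm
    have h1 : cj x c * e = e := by
      conv_lhs => rw [← mem_stab.1 hx]
      rw [← map_mul, hce, mem_stab.1 hx]
    have := he.ne_zero
    rw [← hce, ← h1, ← mul_assoc, h0, zero_mul] at this
    exact this rfl
  have hCk : centralizer (D : Set G) ≤ centralizer (f.ker : Set G) := centralizer_le hfD
  have hc0 := emb_ne_zero_of_regular f hP (hc.suppOn.mono hCk) hcreg hc.ne_zero
  have hcm : emb f c ∈ fix (kM M) (L.map f) (L.map f) :=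
    fix_mono (map_mono hCL) le_rfl (emb_mem_fix f hc.mem)
  obtain ⟨g, hg, hcg⟩ := exists_isPrim_mul_eq le_rfl hcm (hc.idem.map _) hc0
  obtain ⟨w, hw, hwg⟩ := exists_emb_eq_of_regular hP hCk (hno L) hg.le_stab fun q hq => by
    obtain ⟨y, hy, rfl⟩ := exists_regular_lift f hM.1 hf (hg.not_dvd_orderOf_of_coeff hM hq)
    exact ⟨y, hC' y hy (hLm ▸ hg.suppOn.mem hq), hy, rfl⟩
  have hgc : g * emb f c = g := by
    rw [(commute_of_mem_fix le_rfl hg.mem hcm).eq, hcg]
  have hgeq : g = emb f c := by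
    rcases hc.isNilpotent_or hCL hw with h1 | ⟨w', -, h1⟩
    · have h2 := h1.map (emb f)
      rw [map_mul, hwg, hgc] at h2
      exact absurd (h2.eq_zero_of_isIdempotentElem hg.idem) hg.ne_zero
    · rw [← hgc, ← h1, map_mul, hwg, ← mul_assoc, hg.idem.eq]
  rw [hgeq, hLm] at hg
  refine hn _ _ le_top (h.isPGroup.map f) (isBlk_top_iff.2 hg) ?_ _ (mem_top _)
    (by rw [normalizer_eq_top]; trivial) (by rw [mem_stab, cj_emb, hxc])
    fun h0 => hreg (h0.trans (orderOf_map_dvd f x))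
  rw [br_map_emb f h.isPGroup (le_top.trans h.prim.le_stab), ← map_mul, hbc]

omit [Finite H] in
theorem mem_centralizer_of_quot_commutator {D : Subgroup G} [hN : D.Normal] (hD : IsPGroup p D)
    (hk : f.ker ≤ ⁅D, D⁆) {y : G} (hy : ¬ p ∣ orderOf y)
    (h : f y ∈ centralizer ((D.map f : Subgroup H) : Set H)) : y ∈ centralizer (D : Set G) := by
  refine Cfsg.Lib.Solv.Coprime.le_centralizer_of_commutator_le_frattini (A := zpowers y)
    (by rw [normalizer_eq_top]; exact le_top) ?_ ?_ (mem_zpowers y)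
  · obtain ⟨n, hn⟩ := IsPGroup.iff_card.1 (hD.to_subgroup (frattini D))
    rw [hn, Nat.card_zpowers]
    exact (((Nat.Prime.coprime_iff_not_dvd hp.out).2 hy).symm).pow_right n
  · refine le_trans (commutator_le.2 fun d hd a ha => hk ?_)
      (Cfsg.Lib.Solv.commutator_le_map_frattini hD)
    have h1 : f a ∈ centralizer ((D.map f : Subgroup H) : Set H) := by
      obtain ⟨n, rfl⟩ := ha
      rw [map_zpow]
      exact zpow_mem h n
    rw [MonoidHom.mem_ker, map_commutatorElement, commutatorElement_eq_one_iff_mul_comm]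
    exact mem_centralizer_iff.1 h1 _ ⟨d, hd, rfl⟩

variable {B : Set (IrrCharacter G)} {D : Subgroup G}

theorem blockHeight_eq_zero_of_commutator_le (hM : IsPModular p M) (hB : IsPBlock M B) [D.Normal]
    (hD : IsDefectGroup p M B D) {χ : IrrCharacter G} (hχ : χ ∈ B)
    (h : ⁅D, D⁆ ≤ charKer (χ : G → ℂ)) : blockHeight p B (χ : G → ℂ) = 0 := by
  have := Fintype.ofFinite D
  obtain ⟨ζ, hζ⟩ := exists_over_under D χ
  have h1 := Deg.le_charKer_of_lies_over χ.2.isCharacter ζ.2 (over_iff.1 hζ) h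
  rw [blockHeight_of_normal_defect hM hB hD hχ hζ, (Deg.commutator_le_charKer_iff ζ.2).1
    (le_trans (fun x hx => ?_) h1), Nat.factorization_one, Finsupp.zero_apply]
  rw [mem_subgroupOf, ← D.map_subtype_commutator]
  exact ⟨x, hx, rfl⟩

theorem isNilpotentBlock_of_normal_of_eq_deg (hM : IsPModular p M) (hB : IsPBlock M B)
    [hN : D.Normal] (hD : IsDefectGroup p M B D) {n : ℕ}
    (hn : ∀ χ ∈ B, blockHeight p B (χ : G → ℂ) = 0 → charDegree (χ : G → ℂ) = n) :
    IsNilpotentBlock p M B := by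
  have hDp := defect_isPGroup hD
  have hf := QuotientGroup.mk'_surjective ⁅D, D⁆
  have hk := QuotientGroup.ker_mk' ⁅D, D⁆
  have hfD : (QuotientGroup.mk' ⁅D, D⁆).ker ≤ D := hk.le.trans (commutator_le_left D D)
  have hC' := fun y => mem_centralizer_of_quot_commutator (y := y) hDp hk.le
  have hB' := isPBlock_preimage_of_isPGroup hM hf hDp hfD hC' hB
  have hD' := (isDefectGroup_preimage_iff hM hf (hDp.to_le hfD) hB hB').2 ⟨D, hD, rfl⟩
  have hnil := SymLoc.isNilpotentBlock_of_eq_deg hM hB' (n := n) (fun χ hχ => by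
    rw [← charDegree_infI hf]
    exact hn _ hχ (blockHeight_eq_zero_of_commutator_le hM hB hD hχ
      (hk.ge.trans (ker_le_charKer_infI hf χ)))) hD' (by
    rintro _ ⟨x, hx, rfl⟩
    rw [mem_centralizer_iff]
    rintro _ ⟨y, hy, rfl⟩
    rw [← commutatorElement_eq_one_iff_mul_comm, ← map_commutatorElement, ← MonoidHom.mem_ker, hk]
    exact commutator_mem_commutator hy hx)
  obtain ⟨e, he⟩ := exists_isMax_eB hM hB hD
  refine (isNilpotentBlock_iff hM).2 ⟨hB, nilp_of_quot hM hf hfD hC' he ?_⟩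
  rw [emb_eB hf (mem_OG_iff_isIntEl.1 (fB_mem_OG hM hB))]
  exact ((isNilpotentBlock_iff hM).1 hnil).2

theorem exists_eq_deg_of_isNilpotentBlock (hM : IsPModular p M) (h : IsNilpotentBlock p M B) :
    ∃ n, ∀ χ ∈ B, blockHeight p B (χ : G → ℂ) = 0 → charDegree (χ : G → ℂ) = n := by
  have := Fintype.ofFinite G
  obtain ⟨hB, hn⟩ := (isNilpotentBlock_iff hM).1 h
  obtain ⟨P, hP⟩ := exists_isDefectGroup (p := p) hM hB
  obtain ⟨e, he⟩ := exists_isMax_eB hM hB hP
  obtain ⟨χ, hχ, h0⟩ := Ht.exists_blockHeight_eq_zero p (block_nonempty hM hB)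
  obtain ⟨Φ, hΦ⟩ := Star.exists_equiv_star hM he hB (Star.isConj_of_nilp hM he hn) hχ h0
  refine ⟨charDegree (χ : G → ℂ), fun ψ hψ h1 => ?_⟩
  obtain ⟨l, hl⟩ := Φ.surjective ⟨ψ, hψ⟩
  have h2 := hΦ l
  rw [hl] at h2
  have h3 := Star.blockHeight_star hM he hB hχ l.2.isCharacter h2
  rw [h1, h0, add_zero] at h3
  obtain ⟨m, hm⟩ := IsPGroup.iff_card.1 he.isPGroup
  obtain ⟨j, -, hj⟩ := (Nat.dvd_prime_pow hp.out).1 (hm ▸ Ht.charDegree_dvd_card l.2)
  rw [hj, Nat.Prime.factorization_pow hp.out, Finsupp.single_eq_same] at h3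
  have h4 := congrFun h2 1
  rw [Star.star_apply_one hM he hB _ (inSpan_irr hχ), ← charDegree_cast l.2.isCharacter, hj, ← h3]
    at h4
  unfold charDegree
  rw [h4]
  simp

end Cfsg.Lib.Block.Pair
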