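import Cfsg.Agent.Block.FixAvg
import Cfsg.Agent.Solv.MinNormal
import Cfsg.Agent.Solv.Fitting
import Cfsg.Agent.Char.GoingDown
import Cfsg.Agent.Char.Primitive
import Cfsg.Agent.Char.DegChief
import Cfsg.Agent.Char.DegBasic

/-!
# Degrees of quasi-primitive characters of solvable groups and class sizes
-/

open Cfsg Cfsg.Lib.Char Cfsg.Lib.Solv
open scoped IsMulCommutative

namespace Cfsg.Lib.Block.FixAvg

section Action

variable {A : Type*} [CommGroup A] {H : Type*} [Group H]

/-- Automorphisms of an abelian group as linear maps. -/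
def toEnd (A : Type*) [CommGroup A] : MulAut A →* Module.End ℤ (Additive A) where
  toFun e := (MonoidHom.toAdditive e.toMonoidHom).toIntLinearMap
  map_one' := rfl
  map_mul' _ _ := rfl

theorem toEnd_apply (e : MulAut A) (a : Additive A) :
    toEnd A e a = Additive.ofMul (e a.toMul) := rfl

theorem fixc_toEnd (e : MulAut A) : fixc (toEnd A e) = Nat.card {a : A // e a = a} := by
  refine Nat.card_congr ⟨fun x => ⟨x.1.toMul, ?_⟩, fun x => ⟨Additive.ofMul x.1, ?_⟩,
    fun _ => rfl, fun _ => rfl⟩
  · have := sub_eq_zero.1 (LinearMap.mem_ker.1 x.2)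
    exact congrArg Additive.toMul this
  · rw [LinearMap.mem_ker]
    exact sub_eq_zero.2 (congrArg Additive.ofMul x.2)

/-- The fixed points of a subgroup acting through `φ`. -/
def fixGrp (φ : H →* MulAut A) (M : Subgroup H) : Subgroup A where
  carrier := {a | ∀ m ∈ M, φ m a = a}
  mul_mem' ha hb m hm := by rw [map_mul, ha m hm, hb m hm]
  one_mem' m _ := map_one _
  inv_mem' ha m hm := by rw [map_inv, ha m hm]

theorem fixGrp_inv (φ : H →* MulAut A) (M : Subgroup H) [hM : M.Normal] (h : H) :
    ∀ a ∈ fixGrp φ M, φ h a ∈ fixGrp φ M := by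
  intro a ha m hm
  have := ha _ (hM.conj_mem' m hm h)
  rw [← MulAut.mul_apply, ← map_mul]
  conv_rhs => rw [← this, ← MulAut.mul_apply, ← map_mul]
  congr 2; group

theorem fixGrp_ne_bot [Finite A] [Nontrivial A] {p : ℕ} [hp : Fact p.Prime] (hA : IsPGroup p A)
    (φ : H →* MulAut A) (M : Subgroup H) (hM : IsPGroup p (M.map φ)) : fixGrp φ M ≠ ⊥ := by
  intro h0
  have h1 := hM.card_modEq_card_fixedPoints A
  have h2 : MulAction.fixedPoints (M.map φ) A = {1} := by
    ext a
    simp only [MulAction.mem_fixedPoints, Set.mem_singleton_iff]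
    constructor
    · intro ha
      have : a ∈ fixGrp φ M := fun m hm => ha ⟨φ m, m, hm, rfl⟩
      rwa [h0, Subgroup.mem_bot] at this
    · rintro rfl m
      exact map_one (m.1 : MulAut A)
  rw [h2, Nat.card_unique (α := ({1} : Set A))] at h1
  obtain ⟨k, hk0, hk⟩ := hA.nontrivial_iff_card.1 inferInstance
  have h3 : p ∣ Nat.card A := hk ▸ dvd_pow_self p hk0.ne'
  have h4 : p ∣ 1 := (Nat.modEq_zero_iff_dvd.1 (h1.symm.trans (Nat.modEq_zero_iff_dvd.2 h3)))
  exact hp.out.one_lt.ne' (Nat.dvd_one.1 h4)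

theorem eq_one_of_isPGroup [Finite A] [Nontrivial A] {p : ℕ} [Fact p.Prime] (hA : IsPGroup p A)
    (φ : H →* MulAut A)
    (hirr : ∀ B : Subgroup A, (∀ h, ∀ a ∈ B, φ h a ∈ B) → B = ⊥ ∨ B = ⊤) (M : Subgroup H)
    [M.Normal] (hM : IsPGroup p (M.map φ)) : ∀ m ∈ M, φ m = 1 := by
  have h := (hirr _ (fixGrp_inv φ M)).resolve_left (fixGrp_ne_bot hA φ M hM)
  intro m hm
  ext a
  exact (h ▸ Subgroup.mem_top a : a ∈ fixGrp φ M) m hm

theorem prod_card_fixed_sq_le [Finite A] [Fintype H] [Group.IsSolvable H] {p : ℕ}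
    [Fact p.Prime] (hA : IsPGroup p A) (φ : H →* MulAut A)
    (hirr : ∀ B : Subgroup A, (∀ h, ∀ a ∈ B, φ h a ∈ B) → B = ⊥ ∨ B = ⊤) (hφ : ∃ h, φ h ≠ 1) :
    ∏ h, Nat.card {a : A // φ h a = a} ^ 2 ≤ Nat.card A ^ Nat.card H := by
  classical
  obtain ⟨h₀, hh₀⟩ := hφ
  have hA1 : Nontrivial A := by
    by_contra h
    rw [not_nontrivial_iff_subsingleton] at h
    exact hh₀ (by ext a; exact Subsingleton.elim _ _)
  have hfin : Finite (MulAut A) := Finite.of_injective _ DFunLike.coe_injective
  let Y := φ.range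
  have hY : Nontrivial Y := ⟨⟨⟨φ h₀, h₀, rfl⟩, 1, fun h => hh₀ (congrArg Subtype.val h)⟩⟩
  have hYs : Group.IsSolvable Y := Group.isSolvable_of_surjective φ.rangeRestrict_surjective
  obtain ⟨r, N, hr, hN, hNc, -, hNr⟩ := exists_isMinNormal_elementary Y
  have := hN.normal
  have hr' : Fact r.Prime := ⟨hr⟩
  have hirr' : ∀ B : Subgroup A, (∀ y, ∀ a ∈ B, Y.subtype y a ∈ B) → B = ⊥ ∨ B = ⊤ :=
    fun B hB => hirr B fun h => hB ⟨φ h, h, rfl⟩
  have hne : ¬ ∀ m ∈ N, Y.subtype m = 1 := fun h => hN.ne_bot (by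
    rw [eq_bot_iff]; intro m hm; exact Subtype.ext (h m hm))
  have hrp : r ≠ p := by
    rintro rfl
    exact hne (eq_one_of_isPGroup hA Y.subtype hirr' N (hNr.map _))
  have hfix : fixGrp Y.subtype N = ⊥ := by
    refine (hirr' _ (fixGrp_inv _ N)).resolve_right fun h => hne fun m hm => ?_
    ext a
    exact (h ▸ Subgroup.mem_top a : a ∈ fixGrp Y.subtype N) m hm
  have hcop : (Nat.card N).Coprime (Nat.card (Additive A)) := by
    have h := IsPGroup.coprime_card_of_ne r p hrp N ⊤ hNr (hA.to_subgroup ⊤)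
    rw [Subgroup.card_top] at h
    exact h
  let _ : Fintype N := Fintype.ofFinite N
  let σ : N →* Module.End ℤ (Additive A) := (toEnd A).comp (Y.subtype.comp N.subtype)
  have key : ∀ y : Y, ∏ m : N, fixc (toEnd A ((m : Y) * y : Y)) ^ 2 ≤
      Nat.card A ^ Nat.card N := by
    intro y
    have := prod_fixc_sq_le (MulAut.conjNormal y : MulAut N) _ (Additive A) σ (toEnd A y) rfl
      (fun a b => by rw [← map_mul, mul_comm, map_mul])
      (fun v => by
        have : (∑ m, σ m v).toMul ∈ fixGrp Y.subtype N := by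
          intro n hn
          change (σ ⟨n, hn⟩ (∑ m, σ m v)).toMul = _
          rw [map_sum]
          congr 1
          exact Fintype.sum_equiv (Equiv.mulLeft ⟨n, hn⟩) _ _ fun m => by
            rw [← Module.End.mul_apply, ← map_mul]; rfl
        rw [hfix, Subgroup.mem_bot] at this
        exact this)
      hcop (fun a b hab => Additive.toMul.injective ((y : MulAut A).injective hab))
      (fun m => by
        change toEnd A y * toEnd A _ = toEnd A _ * toEnd A y
        rw [← map_mul, ← map_mul]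
        congr 1
        simp)
    exact this
  have h1 : ∀ m : N, ∏ h, fixc (toEnd A ((m : Y) * φ.rangeRestrict h : Y)) ^ 2 =
      ∏ h, Nat.card {a : A // φ h a = a} ^ 2 := by
    intro m
    obtain ⟨x, hx⟩ := φ.rangeRestrict_surjective m
    refine Fintype.prod_equiv (Equiv.mulLeft x) _ _ fun h => ?_
    rw [← hx, ← map_mul, fixc_toEnd]; rfl
  have h2 : (∏ h, Nat.card {a : A // φ h a = a} ^ 2) ^ Nat.card N ≤
      (Nat.card A ^ Nat.card H) ^ Nat.card N := by
    calc _ = ∏ m : N, ∏ h, fixc (toEnd A ((m : Y) * φ.rangeRestrict h : Y)) ^ 2 := by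
          rw [Finset.prod_congr rfl fun m _ => h1 m]; simp
      _ = ∏ h, ∏ m : N, fixc (toEnd A ((m : Y) * φ.rangeRestrict h : Y)) ^ 2 := Finset.prod_comm
      _ ≤ ∏ _h : H, Nat.card A ^ Nat.card N := Finset.prod_le_prod' fun h _ => key _
      _ = _ := by simp [← pow_mul, mul_comm]
  exact (Nat.pow_le_pow_iff_left Nat.card_pos.ne').1 h2

end Action

section Chief

variable {H : Type*} [Group H] {A : Subgroup H}

theorem card_fixed_conjNormal [A.Normal] (h : H) :
    Nat.card {a : A // (MulAut.conjNormal h : MulAut A) a = a} =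
      Nat.card ↥(A ⊓ Subgroup.centralizer {h}) := by
  refine Nat.card_congr ⟨fun x => ⟨x.1.1, x.1.2, ?_⟩, fun x => ⟨⟨x.1, x.2.1⟩, ?_⟩,
    fun _ => rfl, fun _ => rfl⟩
  · have := congrArg Subtype.val x.2
    rw [MulAut.conjNormal_apply, mul_inv_eq_iff_eq_mul] at this
    exact Subgroup.mem_centralizer_singleton_iff.2 this.symm
  · apply Subtype.ext
    rw [MulAut.conjNormal_apply, mul_inv_eq_iff_eq_mul]
    exact (Subgroup.mem_centralizer_singleton_iff.1 x.2.2).symm

theorem irr_conjNormal [A.Normal] (hA : IsMinNormal A) (B : Subgroup A)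
    (hB : ∀ h : H, ∀ a ∈ B, (MulAut.conjNormal h : MulAut A) a ∈ B) : B = ⊥ ∨ B = ⊤ := by
  have hn : (B.map A.subtype).Normal := ⟨by
    rintro _ ⟨a, ha, rfl⟩ h
    exact ⟨_, hB h a ha, rfl⟩⟩
  rcases hA.min _ hn (Subgroup.map_subtype_le B) with h | h
  · left; exact (Subgroup.map_eq_bot_iff_of_injective _ A.subtype_injective).1 h
  · right
    rw [eq_top_iff]
    intro a _
    obtain ⟨b, hb, hba⟩ := (h.symm ▸ a.2 : (a : H) ∈ B.map A.subtype)
    rwa [← (Subtype.ext hba : b = a)]

/-- On a noncentral minimal normal subgroup of a solvable group the fixed point spaces have on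
average at most half the dimension. -/
theorem two_mul_sum_le [Fintype H] [Group.IsSolvable H] (hA : IsMinNormal A) {p : ℕ}
    [hp : Fact p.Prime] (hAp : IsPGroup p A) (hnc : ¬ A ≤ Subgroup.center H) {G : Type*} [Group G]
    [Fintype G] [Group.IsSolvable G] (π : G →* H) (hπ : Function.Surjective π) :
    2 * ∑ g, (Nat.card ↥(A ⊓ Subgroup.centralizer {π g})).factorization p ≤
      Nat.card G * (Nat.card A).factorization p := by
  have := hA.normal
  have := hA.isMulCommutative
  have h := prod_card_fixed_sq_le hAp ((MulAut.conjNormal (H := A)).comp π)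
    (fun B hB => irr_conjNormal hA B fun h => by obtain ⟨g, rfl⟩ := hπ h; exact hB g) (by
      by_contra! h0
      refine hnc fun a ha => Subgroup.mem_center_iff.2 fun h => ?_
      obtain ⟨g, rfl⟩ := hπ h
      have := congrArg Subtype.val (DFunLike.congr_fun (h0 g) ⟨a, ha⟩)
      rw [MonoidHom.comp_apply, MulAut.conjNormal_apply, mul_inv_eq_iff_eq_mul] at this
      exact this)
  simp only [MonoidHom.comp_apply, card_fixed_conjNormal] at h
  have hpow : ∀ B : Subgroup H, B ≤ A → Nat.card B = p ^ (Nat.card B).factorization p := by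
    intro B hB
    obtain ⟨k, hk⟩ := IsPGroup.iff_card.1 (hAp.to_le hB)
    rw [hk, Nat.Prime.factorization_pow hp.out]; simp
  rw [Finset.prod_congr rfl fun g _ => by rw [hpow _ inf_le_left, ← pow_mul], hpow A le_rfl,
    Finset.prod_pow_eq_pow_sum, ← pow_mul, Nat.pow_le_pow_iff_right hp.out.one_lt,
    ← Finset.sum_mul] at h
  linarith

theorem card_prime_of_le_center [Finite H] (hA : IsMinNormal A) (hc : A ≤ Subgroup.center H) :
    (Nat.card A).Prime := by
  have h1 : Nontrivial A := (Subgroup.nontrivial_iff_ne_bot A).2 hA.ne_bot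
  obtain ⟨r, hr, hrA⟩ := Nat.exists_prime_and_dvd (Finite.one_lt_card (α := A)).ne'
  have : Fact r.Prime := ⟨hr⟩
  obtain ⟨a, ha⟩ := exists_prime_orderOf_dvd_card' r hrA
  have hle : Subgroup.zpowers (a : H) ≤ A := by simp
  have hn : (Subgroup.zpowers (a : H)).Normal := ⟨fun n hn g => by
    rwa [Subgroup.mem_center_iff.1 (hc (hle hn)) g, mul_inv_cancel_right]⟩
  have hcard : Nat.card (Subgroup.zpowers (a : H)) = r := by
    rw [Nat.card_zpowers, Subgroup.orderOf_coe, ha]
  rcases hA.min _ hn hle with h | h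
  · rw [h, Subgroup.card_bot] at hcard
    exact absurd hcard.symm hr.one_lt.ne'
  · rw [← h, hcard]; exact hr

theorem card_eq_mul_map [Finite H] {L K : Subgroup H} [L.Normal] :
    Nat.card K = Nat.card ↥(L ⊓ K) * Nat.card (K.map (QuotientGroup.mk' L)) := by
  rw [← relIndex_mul_card_inf L K, mul_comm, ← Subgroup.relIndex_ker,
    QuotientGroup.ker_mk']

theorem card_inf_centralizer_dvd [Finite H] {L K : Subgroup H} [L.Normal] (hLK : L ≤ K) (g : H) :
    Nat.card ↥(K ⊓ Subgroup.centralizer {g}) ∣ Nat.card ↥(L ⊓ Subgroup.centralizer {g}) *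
      Nat.card ↥(K.map (QuotientGroup.mk' L) ⊓ Subgroup.centralizer {QuotientGroup.mk' L g}) := by
  rw [card_eq_mul_map (L := L), ← inf_assoc, inf_eq_left.2 hLK]
  refine Nat.mul_dvd_mul_left _ (Subgroup.card_dvd_of_le ?_)
  rintro _ ⟨x, ⟨hxK, hxg⟩, rfl⟩
  refine ⟨⟨x, hxK, rfl⟩, Subgroup.mem_centralizer_singleton_iff.2 ?_⟩
  rw [← map_mul, ← map_mul, Subgroup.mem_centralizer_singleton_iff.1 hxg]

end Chief

section Weight

variable {G : Type*} [Group G] [Fintype G] [Group.IsSolvable G] {χ : G → ℂ}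

theorem exists_weight (hχ : IsIrrCharacter G χ) (hq : IsRelQuasiPrimitive ⊥ χ) (p : ℕ)
    [hp : Fact p.Prime] (M : Subgroup G)
    (hM : ∀ (L : Subgroup G) [L.Normal] (A : Subgroup (G ⧸ L)), IsMinNormal A → IsPGroup p A →
      ∀ m ∈ M, ∀ a ∈ A, a * QuotientGroup.mk' L m = QuotientGroup.mk' L m * a) (n : ℕ) :
    ∀ (K : Subgroup G) [K.Normal] (θ : K → ℂ) (e : ℕ), Nat.card K = n → IsIrrCharacter K θ →
      (fun k : K => χ k) = (e : ℂ) • θ → ∃ w : G → ℕ,
        (∀ g, w g + (Nat.card ↥(K ⊓ Subgroup.centralizer {g})).factorization p ≤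
          (Nat.card K).factorization p) ∧
        Nat.card G * (charDegree θ).factorization p ≤ ∑ g, w g ∧
        ∀ g, ∀ m ∈ M, w (g * m) = w g := by
  classical
  induction n using Nat.strong_induction_on with
  | _ n ih =>
  intro K _ θ e hn hθ he
  by_cases hK : K = ⊥
  · subst hK
    refine ⟨fun _ => 0, fun g => by simp, ?_, fun _ _ _ => rfl⟩
    rw [Deg.deg_eq_one_of_comm hθ fun a b => Subsingleton.elim _ _]
    simp
  obtain ⟨L, hL, -, hLK, hchief⟩ := Deg.exists_chief_below (bot_lt_iff_ne_bot.2 hK)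
  obtain ⟨r, hr, hab, -, hAr, -⟩ := Deg.chief_elementary hLK hchief inferInstance
  have hA := Deg.isMinNormal_map_of_chief hLK hchief
  set A := K.map (QuotientGroup.mk' L) with hAdef
  obtain ⟨φ, e', hφ, he'⟩ := hq L hL bot_le
  obtain ⟨w, hw1, hw2, hw3⟩ := ih _ (hn ▸ card_lt_of_lt hLK) L φ e' rfl hφ he'
  have hχ1 : χ 1 ≠ 0 := hχ.apply_one_ne_zero
  have he0 : (e : ℂ) ≠ 0 := fun h => hχ1 (by simpa [h] using congrFun he 1)
  have he0' : (e' : ℂ) ≠ 0 := fun h => hχ1 (by simpa [h] using congrFun he' 1)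
  have hcardK : Nat.card K = Nat.card L * Nat.card A := by
    rw [card_eq_mul_map (L := L), inf_eq_left.2 hLK.le]
  have hvK : (Nat.card K).factorization p =
      (Nat.card L).factorization p + (Nat.card A).factorization p := by
    rw [hcardK, Nat.factorization_mul Nat.card_pos.ne' Nat.card_pos.ne']; rfl
  let c : G → ℕ := fun g =>
    (Nat.card ↥(A ⊓ Subgroup.centralizer {QuotientGroup.mk' L g})).factorization p
  have hc : ∀ g, c g ≤ (Nat.card A).factorization p := fun g =>
    (Nat.factorization_le_iff_dvd Nat.card_pos.ne' Nat.card_pos.ne').2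
      (Subgroup.card_dvd_of_le inf_le_left) p
  have hv0 : r ≠ p → (Nat.card A).factorization p = 0 := by
    intro hrp
    have : Fact r.Prime := ⟨hr⟩
    obtain ⟨k, hk⟩ := IsPGroup.iff_card.1 hAr
    rw [hk, hr.factorization_pow, Finsupp.single_eq_of_ne hrp.symm]
  refine ⟨fun g => w g + ((Nat.card A).factorization p - c g), fun g => ?_, ?_, fun g m hm => ?_⟩
  · have h1 := (Nat.factorization_le_iff_dvd Nat.card_pos.ne'
      (mul_ne_zero Nat.card_pos.ne' Nat.card_pos.ne')).2 (card_inf_centralizer_dvd hLK.le g) p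
    rw [Nat.factorization_mul Nat.card_pos.ne' Nat.card_pos.ne', Finsupp.add_apply] at h1
    have h2 := hw1 g
    have h3 := hc g
    change _ ≤ _ + c g at h1
    change w g + ((Nat.card A).factorization p - c g) + _ ≤ _
    omega
  · let _ : Fintype L := Fintype.ofFinite L
    have hres : (fun l : L => θ ⟨l, hLK.le l.2⟩) = ((e' : ℂ) / e) • φ := by
      funext l
      have h1 := congrFun he ⟨l, hLK.le l.2⟩
      have h2 := congrFun he' l
      simp only [Pi.smul_apply, smul_eq_mul] at h1 h2 ⊢
      field_simp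
      rw [mul_comm, ← h1, h2, mul_comm]
    have hinner : classInner (fun l : L => θ ⟨l, hLK.le l.2⟩) φ ≠ 0 := by
      rw [hres, classInner_smul_left, hφ.classInner_self, mul_one]
      exact div_ne_zero he0' he0
    rw [Finset.sum_add_distrib]
    rcases going_down hLK.le hchief hab hθ
      (invariant_of_res_eq_smul hχ.isCharacter.isClassFunction he0 he) hφ hinner with h | h | h
    · have : charDegree θ = charDegree φ := Deg.deg_congr (congrFun h 1)
      rw [this]
      exact hw2.trans (Nat.le_add_right _ _)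
    · obtain ⟨f, hf, hf2⟩ := h
      have hdeg : charDegree θ = f * charDegree φ := by
        refine Deg.deg_eq ?_
        have := congrFun hf 1
        rw [Nat.cast_mul, Deg.cast_deg_irr hφ]
        exact this
      have hf2' : f ^ 2 = Nat.card A := by
        rw [hf2, hAdef, ← Subgroup.relIndex_ker, QuotientGroup.ker_mk']
      have hf0 : f ≠ 0 := by
        rintro rfl
        exact (Nat.card_pos (α := A)).ne' (by simpa using hf2'.symm)
      have hvf : 2 * f.factorization p = (Nat.card A).factorization p := by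
        rw [← hf2', Nat.factorization_pow]; rfl
      rw [hdeg, Nat.factorization_mul hf0 (Deg.deg_pos hφ).ne', Finsupp.add_apply, mul_add,
        add_comm]
      refine Nat.add_le_add hw2 ?_
      by_cases hrp : r = p
      · subst hrp
        have hnc : ¬ A ≤ Subgroup.center (G ⧸ L) := fun h => by
          have := card_prime_of_le_center hA h
          rw [← hf2'] at this
          exact absurd (Nat.Prime.eq_one_of_pow this) (by norm_num)
        let _ : Fintype (G ⧸ L) := Fintype.ofFinite _
        have h1 := two_mul_sum_le hA hAr hnc (QuotientGroup.mk' L) (QuotientGroup.mk'_surjective L)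
        have h2 : ∑ g, ((Nat.card A).factorization r - c g) + ∑ g, c g =
            Nat.card G * (Nat.card A).factorization r := by
          rw [← Finset.sum_add_distrib, Finset.sum_congr rfl fun g _ => Nat.sub_add_cancel (hc g)]
          simp
        change 2 * ∑ g, c g ≤ _ at h1
        have h3 : Nat.card G * (Nat.card A).factorization r =
            2 * (Nat.card G * f.factorization r) := by rw [← hvf]; ring
        omega
      · have := hv0 hrp
        have : f.factorization p = 0 := by omega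
        simp [this]
    · have hI : inertia L φ = ⊤ := by
        rw [eq_top_iff]
        intro g _
        exact mem_inertia'.2 fun n =>
          invariant_of_res_eq_smul hχ.isCharacter.isClassFunction he0' he' g n
      rw [hI, inf_top_eq] at h
      exact absurd h.symm hLK.ne
  · simp only [hw3 g m hm]
    by_cases hrp : r = p
    · subst hrp
      have : A ⊓ Subgroup.centralizer {QuotientGroup.mk' L (g * m)} =
          A ⊓ Subgroup.centralizer {QuotientGroup.mk' L g} := by
        ext a
        simp only [Subgroup.mem_inf, Subgroup.mem_centralizer_singleton_iff, and_congr_right_iff]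
        intro ha
        rw [map_mul, mul_assoc, ← hM L A hA hAr m hm a ha, ← mul_assoc, ← mul_assoc, mul_left_inj]
      simp only [c, this]
    · rw [hv0 hrp, Nat.zero_sub, Nat.zero_sub]

/-- For a quasi-primitive character of a solvable group, the `p`-part of the degree divides a
class size; the element can be moved by any subgroup centralising the `p`-chief factors. -/
theorem exists_class (hχ : IsIrrCharacter G χ) (hq : IsRelQuasiPrimitive ⊥ χ) (p : ℕ)
    [hp : Fact p.Prime] (M : Subgroup G)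
    (hM : ∀ (L : Subgroup G) [L.Normal] (A : Subgroup (G ⧸ L)), IsMinNormal A → IsPGroup p A →
      ∀ m ∈ M, ∀ a ∈ A, a * QuotientGroup.mk' L m = QuotientGroup.mk' L m * a) :
    ∃ g : G, ∀ m ∈ M, (charDegree χ).factorization p ≤
      (Subgroup.centralizer {g * m}).index.factorization p := by
  obtain ⟨θ, e, hθ, he⟩ := hq ⊤ inferInstance bot_le
  obtain ⟨w, hw1, hw2, hw3⟩ := exists_weight hχ hq p M hM _ ⊤ θ e rfl hθ he
  have hχT : IsIrrCharacter (⊤ : Subgroup G) (fun k : (⊤ : Subgroup G) => χ k) :=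
    hχ.comp_equiv Subgroup.topEquiv
  have hdeg : charDegree θ = charDegree χ := by
    let _ : Fintype (⊤ : Subgroup G) := Fintype.ofFinite _
    have h1 : (fun k : (⊤ : Subgroup G) => χ k) = θ := by
      refine hχT.eq_of_classInner_ne_zero hθ ?_
      rw [he, classInner_smul_left, hθ.classInner_self, mul_one]
      intro h
      exact hχ.apply_one_ne_zero (by simpa [h] using congrFun he 1)
    rw [← h1, Deg.deg_res]
  rw [hdeg] at hw2
  obtain ⟨g, -, hg⟩ : ∃ g ∈ Finset.univ, (charDegree χ).factorization p ≤ w g := by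
    refine Finset.exists_le_of_sum_le Finset.univ_nonempty ?_
    simpa using hw2
  refine ⟨g, fun m hm => hg.trans ?_⟩
  have h1 := hw1 (g * m)
  rw [hw3 g m hm, top_inf_eq, Subgroup.card_top,
    ← (Subgroup.centralizer {g * m}).card_mul_index,
    Nat.factorization_mul Nat.card_pos.ne' Subgroup.index_ne_zero_of_finite,
    Finsupp.add_apply] at h1
  omega

omit [Group.IsSolvable G] in
theorem quasiPrimitive_of_not_induced (hχ : IsIrrCharacter G χ)
    (hprim : ¬ ∃ H : Subgroup G, H ≠ ⊤ ∧ ∃ θ : H → ℂ, IsCharacter H θ ∧ indFun H θ = χ) :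
    IsRelQuasiPrimitive ⊥ χ := by
  refine IsRelPrimitive.isRelQuasiPrimitive (fun T ζ _ hζ h => ?_) hχ
  by_contra hT
  exact hprim ⟨T, hT, ζ, hζ.isCharacter, h⟩

end Weight

end Cfsg.Lib.Block.FixAvg
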