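import Cfsg.Agent.Block.S9ModH

/-!
# The group `S₆ × S₃`: permutation models and finite facts
-/

set_option autoImplicit false
set_option maxRecDepth 100000
set_option linter.unusedSimpArgs false
set_option linter.unusedVariables false
set_option maxHeartbeats 1000000

namespace Cfsg.Lib.S9L

open Subgroup Cfsg.Lib.Spor Cfsg.Lib.Spor.Bulk Cfsg.Lib.Spor.PK Cfsg.Lib.Spor.WF Cfsg.Lib.L3
open Cfsg.Lib.A9L

variable {G : Type*} [Group G] {x y z s c f q g t a b d w v k X Y A B T W X' Y' A' B' T' W' : G}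

/-- The letters. -/
def h6 (X Y A B T W X' Y' A' B' T' W' : G) : ℕ → G := lf [1, X, Y, A, B, T, W, X', Y', A', B', T', W']

theorem h6_0 : h6 X Y A B T W X' Y' A' B' T' W' 0 = 1 := rfl
theorem h6_1 : h6 X Y A B T W X' Y' A' B' T' W' 1 = X := rfl
theorem h6_2 : h6 X Y A B T W X' Y' A' B' T' W' 2 = Y := rfl
theorem h6_3 : h6 X Y A B T W X' Y' A' B' T' W' 3 = A := rfl
theorem h6_4 : h6 X Y A B T W X' Y' A' B' T' W' 4 = B := rfl
theorem h6_5 : h6 X Y A B T W X' Y' A' B' T' W' 5 = T := rfl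
theorem h6_6 : h6 X Y A B T W X' Y' A' B' T' W' 6 = W := rfl
theorem h6_7 : h6 X Y A B T W X' Y' A' B' T' W' 7 = X' := rfl
theorem h6_8 : h6 X Y A B T W X' Y' A' B' T' W' 8 = Y' := rfl
theorem h6_9 : h6 X Y A B T W X' Y' A' B' T' W' 9 = A' := rfl
theorem h6_10 : h6 X Y A B T W X' Y' A' B' T' W' 10 = B' := rfl
theorem h6_11 : h6 X Y A B T W X' Y' A' B' T' W' 11 = T' := rfl
theorem h6_12 : h6 X Y A B T W X' Y' A' B' T' W' 12 = W' := rfl

/-- The symmetric group of degree six. -/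
@[reducible] def N6 : PM where
  w := 7
  n := 6
  cs := [1210151306112,
    1210151077639,
    731008697216,
    1210151192320,
    971512185728,
    482915962389,
    1210107265941,
    731008468743,
    967783220999,
    244276728213,
    482915962389,
    971512185728,
    971468031765]
  SW := [([[1],[2],[3],[4],[5],[6]],
    [⟨0, [128, 196, 64, 324, 260], [[4, 5, 0, 0, 5, 0], [0, 5, 0, 0, 1]]⟩,
     ⟨3, [128, 65, 320, 256], [[1, 0, 0, 1, 0], [0, 0, 0]]⟩,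
     ⟨1, [320, 257, 128], [[0, 1, 0, 0, 0], [1, 0]]⟩,
     ⟨4, [128, 321], [[0, 1]]⟩,
     ⟨2, [320], []⟩]),
   ([[7],[8],[9],[10],[11],[12]],
    [⟨0, [128, 194, 64, 258, 323], [[0, 5, 0], [0, 0, 1]]⟩,
     ⟨3, [321, 256, 128, 64], [[0], [1, 0, 0, 1, 0, 0, 0, 1]]⟩,
     ⟨1, [320, 256, 129], [[0, 1, 0], [1, 1, 0]]⟩,
     ⟨4, [128, 321], [[1]]⟩,
     ⟨2, [320], []⟩]),
   ([[1],[2]],
    [⟨0, [128, 64], [[1]]⟩,
     ⟨3, [320, 256], []⟩]),
   ([[1],[2],[3],[4],[5]],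
    [⟨0, [128, 196, 64, 324, 260], [[1, 3], [2, 3]]⟩,
     ⟨3, [256, 321], [[1], [0, 1, 0, 1, 0]]⟩,
     ⟨1, [128], [[1]]⟩,
     ⟨4, [320], []⟩])]

instance : NeZero N6.n := ⟨by decide⟩

theorem N6_ok : N6.ok = true := by decide +kernel

theorem N6_subs : N6.subsOK = true := by decide +kernel

theorem N6_s0 : sub (h6 X Y A B T W X' Y' A' B' T' W') (N6.W 0) = gen [X, Y, A, B, T, W] := by
  change gen (List.map (wv _) [[1],[2],[3],[4],[5],[6]]) = _
  simp only [List.map_cons, List.map_nil, wv_cons, wv_nil, one_mul, gen_one, h6_1, h6_2, h6_3, h6_4, h6_5,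
    h6_6, h6_7, h6_8, h6_9, h6_10, h6_11, h6_12]

theorem N6_s1 : sub (h6 X Y A B T W X' Y' A' B' T' W') (N6.W 1) = gen [X', Y', A', B', T', W'] := by
  change gen (List.map (wv _) [[7],[8],[9],[10],[11],[12]]) = _
  simp only [List.map_cons, List.map_nil, wv_cons, wv_nil, one_mul, gen_one, h6_1, h6_2, h6_3, h6_4, h6_5,
    h6_6, h6_7, h6_8, h6_9, h6_10, h6_11, h6_12]

theorem N6_s2 : sub (h6 X Y A B T W X' Y' A' B' T' W') (N6.W 2) = gen [X, Y] := by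
  change gen (List.map (wv _) [[1],[2]]) = _
  simp only [List.map_cons, List.map_nil, wv_cons, wv_nil, one_mul, gen_one, h6_1, h6_2, h6_3, h6_4, h6_5,
    h6_6, h6_7, h6_8, h6_9, h6_10, h6_11, h6_12]

theorem N6_s3 : sub (h6 X Y A B T W X' Y' A' B' T' W') (N6.W 3) = gen [X, Y, A, B, T] := by
  change gen (List.map (wv _) [[1],[2],[3],[4],[5]]) = _
  simp only [List.map_cons, List.map_nil, wv_cons, wv_nil, one_mul, gen_one, h6_1, h6_2, h6_3, h6_4, h6_5,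
    h6_6, h6_7, h6_8, h6_9, h6_10, h6_11, h6_12]

theorem F6.card (h : Emb N6.m (h6 X Y A B T W X' Y' A' B' T' W')) : Nat.card (gen [X, Y, A, B, T, W]) = 720 := by
  have := PM.card_of_emb N6_ok N6_subs h 0
  rwa [N6_s0, show certOrder (N6.K 0) = 720 by decide +kernel] at this

theorem F6.card2 (h : Emb N6.m (h6 X Y A B T W X' Y' A' B' T' W')) : Nat.card (gen [X', Y', A', B', T', W']) = 720 := by
  have := PM.card_of_emb N6_ok N6_subs h 1
  rwa [N6_s1, show certOrder (N6.K 1) = 720 by decide +kernel] at this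

theorem F6.cardP (h : Emb N6.m (h6 X Y A B T W X' Y' A' B' T' W')) : Nat.card (gen [X, Y]) = 9 := by
  have := PM.card_of_emb N6_ok N6_subs h 2
  rwa [N6_s2, show certOrder (N6.K 2) = 9 by decide +kernel] at this

theorem F6.norm (h : Emb N6.m (h6 X Y A B T W X' Y' A' B' T' W')) :
    ∀ g ∈ gen [X, Y, A, B, T, W], (∃ e ∈ gen [X, Y], g * X = e * g) → (∃ e ∈ gen [X, Y], g * Y = e *
    g) → g ∈ gen [X, Y, A, B, T] := by
  have := PM.holds N6_ok N6_subs h (p := (.all 0 40 (.imp (.ex 2 41 (.eq [1,40] [40,41])) (.imp (.ex 2 41 (.eq [2,40] [40,41])) (.ex 3 39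
      (.eq [40] [39])))))) (by decide +kernel)
  simp only [Fm.sem, wv_cons, wv_nil, one_mul, upd_apply, Nat.reduceEqDiff, ↓reduceIte, exists_eq_right',
    h6_1, h6_2, N6_s0, N6_s2, N6_s3] at this
  exact this

theorem F6.std (h : Emb N6.m (h6 X Y A B T W X' Y' A' B' T' W')) :
    ∀ u ∈ gen [X, Y], ∀ v ∈ gen [X, Y], ∀ a ∈ gen [X, Y, A, B, T], a * u = u * u * a → a * v = v * a
    → a * a = 1 → ¬ a * u = u * a → (∀ t ∈ gen [X, Y, A, B, T], t * u = v * t → t * v = u * t → t *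
    t = 1 → t * a * t * a * t * a * t * a = 1 → (∃ g ∈ gen [X, Y, A, B, T], (g * u = X * g ∧ g * v =
    Y * g ∧ g * a = A * g ∧ g * t = T * g) ∨ (g * u = X' * g ∧ g * v = Y' * g ∧ g * a = A' * g ∧ g *
    t = T' * g))) := by
  have := PM.holds N6_ok N6_subs h (p := (.all 2 40 (.all 2 41 (.all 3 42 (.imp (.eq [40,42] [42,40,40]) (.imp (.eq [41,42] [42,41])
      (.imp (.eq [42,42] []) (.imp (.not (.eq [40,42] [42,40])) (.all 3 43 (.imp (.eq [40,43] [43,41])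
      (.imp (.eq [41,43] [43,40]) (.imp (.eq [43,43] []) (.imp (.eq [42,43,42,43,42,43,42,43] []) (.ex
      3 44 (.or (.and (.eq [40,44] [44,1]) (.and (.eq [41,44] [44,2]) (.and (.eq [42,44] [44,3]) (.eq
      [43,44] [44,5])))) (.and (.eq [40,44] [44,7]) (.and (.eq [41,44] [44,8]) (.and (.eq [42,44]
      [44,9]) (.eq [43,44] [44,11]))))))))))))))))))) (by decide +kernel)
  simp only [Fm.sem, wv_cons, wv_nil, one_mul, upd_apply, Nat.reduceEqDiff, ↓reduceIte, exists_eq_right',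
    h6_1, h6_2, h6_3, h6_5, h6_7, h6_8, h6_9, h6_11, N6_s2, N6_s3] at this
  exact this

theorem F6.w1 (h : Emb N6.m (h6 X Y A B T W X' Y' A' B' T' W')) :
    (W * W = 1 ∧ W * A * W * A = 1 ∧ W * B * W * B = 1 ∧ W * T * W * T = 1 ∧ W * (X * A * X * X) * W
    * (X * A * X * X) * W * (X * A * X * X) = 1) ∧ T * A * T = B ∧ (((X * Y) * W * (X * Y) * (X *
    Y)) * ((X * Y) * (X * Y) * W * (X * Y)) * ((X * Y) * W * (X * Y) * (X * Y)) * ((X * Y) * (X * Y)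
    * W * (X * Y)) = 1 ∧ (T * W) * (((X * Y) * W * (X * Y) * (X * Y)) * ((X * Y) * (X * Y) * W * (X
    * Y))) = 1) ∧ (∀ k ∈ gen [X, Y, A, B, T, W], k * k = 1 → k * A * k * A = 1 → k * B * k * B = 1 →
    k * T * k * T = 1 → k * (X * A * X * X) * k * (X * A * X * X) * k * (X * A * X * X) = 1 → k = W) := by
  have := PM.holds N6_ok N6_subs h (p := (.and (.and (.eq [6,6] []) (.and (.eq [3,6,3,6] []) (.and (.eq [4,6,4,6] []) (.and (.eq
      [5,6,5,6] []) (.bind 40 [1,1,3,1] (.eq [40,6,40,6,40,6] [])))))) (.and (.eq [5,3,5] [4]) (.and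
      (.bind 41 [2,1] (.bind 42 [41,41,6,41] (.bind 43 [41,6,41,41] (.and (.eq [43,42,43,42] [])
      (.bind 40 [6,5] (.bind 44 [43,42] (.eq [44,40] []))))))) (.all 0 43 (.imp (.eq [43,43] []) (.imp
      (.eq [3,43,3,43] []) (.imp (.eq [4,43,4,43] []) (.imp (.eq [5,43,5,43] []) (.imp (.bind 40
      [1,1,3,1] (.eq [40,43,40,43,40,43] [])) (.eq [43] [6]))))))))))) (by decide +kernel)
  simp only [Fm.sem, wv_cons, wv_nil, one_mul, upd_apply, Nat.reduceEqDiff, ↓reduceIte, exists_eq_right',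
    h6_1, h6_2, h6_3, h6_4, h6_5, h6_6, N6_s0] at this
  exact this

theorem F6.w2 (h : Emb N6.m (h6 X Y A B T W X' Y' A' B' T' W')) :
    (W' * W' = 1 ∧ W' * A' * W' * A' = 1 ∧ W' * B' * W' * B' = 1 ∧ W' * T' * W' * T' = 1 ∧ W' * (X'
    * A' * X' * X') * W' * (X' * A' * X' * X') * W' * (X' * A' * X' * X') = 1) ∧ T' * A' * T' = B' ∧
    (((X' * Y') * W' * (X' * Y') * (X' * Y')) * ((X' * Y') * (X' * Y') * W' * (X' * Y')) * ((X' *
    Y') * W' * (X' * Y') * (X' * Y')) * ((X' * Y') * (X' * Y') * W' * (X' * Y')) = 1 ∧ (T' * W') *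
    (((X' * Y') * W' * (X' * Y') * (X' * Y')) * ((X' * Y') * (X' * Y') * W' * (X' * Y'))) = 1) ∧ (∀
    k ∈ gen [X, Y, A, B, T, W], k * k = 1 → k * A' * k * A' = 1 → k * B' * k * B' = 1 → k * T' * k *
    T' = 1 → k * (X' * A' * X' * X') * k * (X' * A' * X' * X') * k * (X' * A' * X' * X') = 1 → k =
    W') := by
  have := PM.holds N6_ok N6_subs h (p := (.and (.and (.eq [12,12] []) (.and (.eq [9,12,9,12] []) (.and (.eq [10,12,10,12] []) (.and (.eq
      [11,12,11,12] []) (.bind 40 [7,7,9,7] (.eq [40,12,40,12,40,12] [])))))) (.and (.eq [11,9,11]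
      [10]) (.and (.bind 41 [8,7] (.bind 42 [41,41,12,41] (.bind 43 [41,12,41,41] (.and (.eq
      [43,42,43,42] []) (.bind 40 [12,11] (.bind 44 [43,42] (.eq [44,40] []))))))) (.all 0 43 (.imp
      (.eq [43,43] []) (.imp (.eq [9,43,9,43] []) (.imp (.eq [10,43,10,43] []) (.imp (.eq
      [11,43,11,43] []) (.imp (.bind 40 [7,7,9,7] (.eq [40,43,40,43,40,43] [])) (.eq [43]
      [12]))))))))))) (by decide +kernel)
  simp only [Fm.sem, wv_cons, wv_nil, one_mul, upd_apply, Nat.reduceEqDiff, ↓reduceIte, exists_eq_right',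
    h6_7, h6_8, h6_9, h6_10, h6_11, h6_12, N6_s0] at this
  exact this

theorem emb6' : Emb N6.m (h6 (Equiv.swap 0 1 * Equiv.swap 1 2) (Equiv.swap 3 4 * Equiv.swap 4 5) (Equiv.swap 1 2) (Equiv.swap
    4 5) (Equiv.swap 0 3 * Equiv.swap 1 4 * Equiv.swap 2 5) (Equiv.swap 0 3) (Equiv.swap 0 1 *
    Equiv.swap 1 2 * Equiv.swap 3 4 * Equiv.swap 4 5) (Equiv.swap 0 1 * Equiv.swap 1 2 * Equiv.swap
    3 5 * Equiv.swap 5 4) (Equiv.swap 0 3 * Equiv.swap 1 5 * Equiv.swap 2 4) (Equiv.swap 0 3 *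
    Equiv.swap 1 4 * Equiv.swap 2 5) (Equiv.swap 4 5) (Equiv.swap 0 3 * Equiv.swap 1 2 * Equiv.swap
    4 5) : ℕ → Equiv.Perm (Fin 6)) :=
  emb_of_inj N6_ok (MonoidHom.id _) Function.injective_id (al := [1, _, _, _, _, _, _, _, _, _, _, _, _])
    (by decide +kernel) (MonoidHom.id _) Function.injective_id

/-- The normalizer of a three-cycle in `S₉`. -/
@[reducible] def MN : PM where
  w := 7
  n := 9
  cs := [4062995741946381184,
    4062995741946152711,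
    4062995741946265614,
    4062995262803772288,
    4062995499578524544,
    3058160861414916992,
    3554713506658091904,
    4062995741946381184,
    4062995741946381184,
    3058160382272079623,
    3554713264290119694,
    4062995262803543815,
    4062995499578408974,
    4062995499578296071,
    4062995262803656718,
    3554713027515254535,
    3058160619046944782,
    4062995014711037461,
    4062995741946267392,
    4062995503307260800,
    3562533233354834816,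
    4062995741902341013]
  SW := [([[1],[2],[3],[4],[5],[6],[9],[10],[11],[12],[13],[14],[15],[16],[17],[18],[19],[20],[21]],
    [⟨0, [128, 65, 206, 334, 270], [[1, 18, 0, 17], [5, 2], [3, 0, 18, 1]]⟩,
     ⟨3, [128, 321, 258, 66], [[1, 2, 0, 2], [2, 0, 1]]⟩,
     ⟨6, [512, 449], [[1, 0, 1], [0, 1, 0]]⟩,
     ⟨1, [256, 129, 321], [[0, 1, 1, 0, 1, 0], [1]]⟩,
     ⟨4, [128, 321], [[0, 1, 1], [1, 0]]⟩,
     ⟨7, [513], [[0]]⟩,
     ⟨2, [320], []⟩])]

instance : NeZero MN.n := ⟨by decide⟩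

theorem MN_ok : MN.ok = true := by decide +kernel

theorem MN_subs : MN.subsOK = true := by decide +kernel

theorem MN_sat : MN.satB 22 i9 n9 = true := by decide +kernel

/-- The letters. -/
def gN (x y z f t a b d w v k : G) : ℕ → G :=
  lf [1, x, x⁻¹, y, y⁻¹, z, z⁻¹, f, f⁻¹, t, a, b, d, w, v, k]

theorem gN_0 : gN x y z f t a b d w v k 0 = 1 := rfl
theorem gN_1 : gN x y z f t a b d w v k 1 = x := rfl
theorem gN_2 : gN x y z f t a b d w v k 2 = x⁻¹ := rfl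
theorem gN_3 : gN x y z f t a b d w v k 3 = y := rfl
theorem gN_4 : gN x y z f t a b d w v k 4 = y⁻¹ := rfl
theorem gN_5 : gN x y z f t a b d w v k 5 = z := rfl
theorem gN_6 : gN x y z f t a b d w v k 6 = z⁻¹ := rfl
theorem gN_7 : gN x y z f t a b d w v k 7 = f := rfl
theorem gN_8 : gN x y z f t a b d w v k 8 = f⁻¹ := rfl
theorem gN_9 : gN x y z f t a b d w v k 9 = t := rfl
theorem gN_10 : gN x y z f t a b d w v k 10 = a := rfl
theorem gN_11 : gN x y z f t a b d w v k 11 = b := rfl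
theorem gN_12 : gN x y z f t a b d w v k 12 = d := rfl
theorem gN_13 : gN x y z f t a b d w v k 13 = w := rfl
theorem gN_14 : gN x y z f t a b d w v k 14 = v := rfl
theorem gN_15 : gN x y z f t a b d w v k 15 = k := rfl

set_option hygiene false in
/-- A subgroup of the configuration. -/
scoped notation "𝗡" => Cfsg.Lib.Spor.PK.gen [x, y, z, t, a, b, d, w]

set_option hygiene false in
/-- A subgroup of the configuration. -/
scoped notation "𝗫" => Cfsg.Lib.Spor.PK.gen [x, y, z, t, a, b, w]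

set_option hygiene false in
/-- A subgroup of the configuration. -/
scoped notation "𝗢" => Cfsg.Lib.Spor.PK.gen [w * v, w * k]

set_option hygiene false in
/-- A subgroup of the configuration. -/
scoped notation "𝗩" => Cfsg.Lib.Spor.PK.gen [w, v, k, a * b, d]

set_option hygiene false in
/-- A subgroup of the configuration. -/
scoped notation "𝗬" => Cfsg.Lib.Spor.PK.gen [w, v, k, f, a * b, z, d]

/-- The normalizer of a three-cycle in `S₉`, with further letters. -/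
@[reducible] def MN2 : PM where
  w := 7
  n := 9
  cs := [4062995741946381184,
    4062995741946152711,
    4062995741946265614,
    4062995262803772288,
    4062995499578524544,
    3058160861414916992,
    3554713506658091904,
    4062995262803543815,
    4062995499578408974,
    4062995014711037461,
    4062995741946267392,
    4062995503307260800,
    3562533233354834816,
    4062995741902341013,
    4062995736309239296,
    4062995020392219520]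
  SW := [([[1],[3],[5],[9],[10],[11],[12],[13]],
    [⟨0, [128, 195, 64, 323, 259], [[6, 0, 7, 0, 0, 1], [3, 7, 0, 0, 7, 0, 2]]⟩,
     ⟨3, [64, 129, 320, 257], [[1, 1, 1, 0, 0, 1, 1, 1, 1], [0, 1, 0, 0, 0, 1, 1, 0, 1, 1]]⟩,
     ⟨6, [512, 448], [[0, 0, 0], [0, 1]]⟩,
     ⟨1, [321, 128, 257], [[1, 0, 1, 1], [1, 0, 1, 0, 1]]⟩,
     ⟨4, [128, 320], [[1], [0, 0, 0]]⟩,
     ⟨7, [512], [[0, 1]]⟩,
     ⟨2, [320], []⟩]),
   ([[1],[3],[5],[9],[10],[11],[13]],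
    [⟨0, [128, 195, 64, 323, 259], [[2, 0, 6, 0, 0], [1, 0, 0, 6, 0]]⟩,
     ⟨3, [64, 321, 257, 129], [[0, 1, 0], [1, 1, 1, 0, 1]]⟩,
     ⟨6, [448, 513], [[0, 1], [0, 0, 0]]⟩,
     ⟨1, [129, 320, 257], [[0], [1, 0, 0, 1, 1]]⟩,
     ⟨4, [128, 321], [[1, 0]]⟩,
     ⟨2, [320], []⟩]),
   ([[14,13],[15,13]],
    [⟨0, [192], [[0, 1]]⟩,
     ⟨1, [256], []⟩]),
   ([[13],[14],[15],[11,10],[12]],
    [⟨0, [192], [[1, 1, 2], [2, 3, 2], [2, 3, 4]]⟩,
     ⟨1, [321, 130, 257], [[2, 0, 1], [1, 2]]⟩,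
     ⟨2, [321], [[0]]⟩,
     ⟨7, [512], []⟩]),
   ([[13],[14],[15],[7],[11,10],[5],[12]],
    [⟨0, [192, 131, 323, 67, 259], [[6, 5], [4, 6], [4, 1]]⟩,
     ⟨1, [129, 258, 321], [[0], [2, 1]]⟩,
     ⟨2, [321], [[0], [1, 0, 1]]⟩,
     ⟨6, [512, 449], [[0, 1, 0]]⟩,
     ⟨7, [512], []⟩]),
   ([[5],[7],[9]],
    [⟨6, [512, 448], [[2], [1]]⟩,
     ⟨0, [192, 129, 321, 65, 257], []⟩]),
   ([[1],[3],[9],[10],[11],[13],[12]],
    [⟨0, [128, 194, 64, 322, 258], [[3, 2, 5], [6, 3], [0, 5, 0, 0, 0, 0, 5, 0]]⟩,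
     ⟨3, [66, 320, 129, 256], [[0, 2, 0, 2, 0, 2, 1], [2, 0, 2, 0, 2, 1, 2, 0, 0, 2]]⟩,
     ⟨1, [128, 256, 321], [[0, 1, 0], [0, 0, 1, 0, 1]]⟩,
     ⟨4, [129, 320], [[0], [1, 1, 1]]⟩,
     ⟨7, [512], [[0, 1]]⟩,
     ⟨2, [320], []⟩]),
   ([[13],[14],[15],[5],[12]],
    [⟨0, [192], [[2, 1], [1, 3], [1, 4]]⟩,
     ⟨1, [256], [[0, 1], [0, 2]]⟩,
     ⟨2, [320], [[0, 0], [1, 0]]⟩,
     ⟨6, [448, 513], [[1, 0]]⟩,
     ⟨7, [512], []⟩]),
   ([[5],[12]],
    [⟨6, [512, 448], [[1]]⟩,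
     ⟨7, [512], []⟩]),
   ([[5]],
    [⟨6, [512, 448], []⟩])]

instance : NeZero MN2.n := ⟨by decide⟩

theorem MN2_ok : MN2.ok = true := by decide +kernel

theorem MN2_subs : MN2.subsOK = true := by decide +kernel

theorem MN2_s0 : sub (gN x y z f t a b d w v k) (MN2.W 0) = 𝗡 := by
  change gen (List.map (wv _) [[1],[3],[5],[9],[10],[11],[12],[13]]) = _
  simp only [List.map_cons, List.map_nil, wv_cons, wv_nil, one_mul, gen_one, gN_1, gN_2, gN_3, gN_4, gN_5,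
    gN_6, gN_7, gN_8, gN_9, gN_10, gN_11, gN_12, gN_13, gN_14, gN_15]

theorem MN2_s1 : sub (gN x y z f t a b d w v k) (MN2.W 1) = 𝗫 := by
  change gen (List.map (wv _) [[1],[3],[5],[9],[10],[11],[13]]) = _
  simp only [List.map_cons, List.map_nil, wv_cons, wv_nil, one_mul, gen_one, gN_1, gN_2, gN_3, gN_4, gN_5,
    gN_6, gN_7, gN_8, gN_9, gN_10, gN_11, gN_12, gN_13, gN_14, gN_15]

theorem MN2_s2 : sub (gN x y z f t a b d w v k) (MN2.W 2) = 𝗢 := by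
  change gen (List.map (wv _) [[14,13],[15,13]]) = _
  simp only [List.map_cons, List.map_nil, wv_cons, wv_nil, one_mul, gen_one, gN_1, gN_2, gN_3, gN_4, gN_5,
    gN_6, gN_7, gN_8, gN_9, gN_10, gN_11, gN_12, gN_13, gN_14, gN_15]

theorem MN2_s3 : sub (gN x y z f t a b d w v k) (MN2.W 3) = 𝗩 := by
  change gen (List.map (wv _) [[13],[14],[15],[11,10],[12]]) = _
  simp only [List.map_cons, List.map_nil, wv_cons, wv_nil, one_mul, gen_one, gN_1, gN_2, gN_3, gN_4, gN_5,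
    gN_6, gN_7, gN_8, gN_9, gN_10, gN_11, gN_12, gN_13, gN_14, gN_15]

theorem MN2_s4 : sub (gN x y z f t a b d w v k) (MN2.W 4) = 𝗬 := by
  change gen (List.map (wv _) [[13],[14],[15],[7],[11,10],[5],[12]]) = _
  simp only [List.map_cons, List.map_nil, wv_cons, wv_nil, one_mul, gen_one, gN_1, gN_2, gN_3, gN_4, gN_5,
    gN_6, gN_7, gN_8, gN_9, gN_10, gN_11, gN_12, gN_13, gN_14, gN_15]

theorem MN2_s5 : sub (gN x y z f t a b d w v k) (MN2.W 5) = 𝗣 := by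
  change gen (List.map (wv _) [[5],[7],[9]]) = _
  simp only [List.map_cons, List.map_nil, wv_cons, wv_nil, one_mul, gen_one, gN_1, gN_2, gN_3, gN_4, gN_5,
    gN_6, gN_7, gN_8, gN_9, gN_10, gN_11, gN_12, gN_13, gN_14, gN_15]

theorem MN2_s6 : sub (gN x y z f t a b d w v k) (MN2.W 6) = gen [x, y, t, a, b, w, d] := by
  change gen (List.map (wv _) [[1],[3],[9],[10],[11],[13],[12]]) = _
  simp only [List.map_cons, List.map_nil, wv_cons, wv_nil, one_mul, gen_one, gN_1, gN_2, gN_3, gN_4, gN_5,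
    gN_6, gN_7, gN_8, gN_9, gN_10, gN_11, gN_12, gN_13, gN_14, gN_15]

theorem MN2_s7 : sub (gN x y z f t a b d w v k) (MN2.W 7) = gen [w, v, k, z, d] := by
  change gen (List.map (wv _) [[13],[14],[15],[5],[12]]) = _
  simp only [List.map_cons, List.map_nil, wv_cons, wv_nil, one_mul, gen_one, gN_1, gN_2, gN_3, gN_4, gN_5,
    gN_6, gN_7, gN_8, gN_9, gN_10, gN_11, gN_12, gN_13, gN_14, gN_15]

theorem MN2_s8 : sub (gN x y z f t a b d w v k) (MN2.W 8) = gen [z, d] := by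
  change gen (List.map (wv _) [[5],[12]]) = _
  simp only [List.map_cons, List.map_nil, wv_cons, wv_nil, one_mul, gen_one, gN_1, gN_2, gN_3, gN_4, gN_5,
    gN_6, gN_7, gN_8, gN_9, gN_10, gN_11, gN_12, gN_13, gN_14, gN_15]

theorem MN2_s9 : sub (gN x y z f t a b d w v k) (MN2.W 9) = zpowers z := by
  change gen (List.map (wv _) [[5]]) = _
  simp only [List.map_cons, List.map_nil, wv_cons, wv_nil, one_mul, gen_one, gN_1, gN_2, gN_3, gN_4, gN_5,
    gN_6, gN_7, gN_8, gN_9, gN_10, gN_11, gN_12, gN_13, gN_14, gN_15]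

/-- Standard generators of `S₆ × S₃`. -/
structure EN (x y z f t a b d w v k : G) : Prop where
  emb : Emb MN2.m (gN x y z f t a b d w v k)

theorem EN.of (h : Emb MN.m (g9 x y z 1 c f q g t a b d w)) :
    EN x y z f t a b d w (f * w * f⁻¹) (f⁻¹ * w * f) := by
  have := emb_sg MN_ok MN2_ok h [[], [1], [2], [3], [4], [5], [6], [11], [12], [17], [18], [19], [20], [21], [12, 21, 11], [11,
    21, 12]] (by decide +kernel)
  simp only [List.map_cons, List.map_nil, wv_cons, wv_nil, one_mul, g9_1, g9_2, g9_3, g9_4, g9_5, g9_6, g9_7, g9_8, g9_9, g9_10, g9_11, g9_12, g9_13, g9_14, g9_15,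
    g9_16, g9_17, g9_18, g9_19, g9_20, g9_21] at this
  exact ⟨this⟩

theorem EN.cardO (h : EN x y z f t a b d w v k) : Nat.card 𝗢 = 4 := by
  have := PM.card_of_emb MN2_ok MN2_subs h.emb 2
  rwa [MN2_s2, show certOrder (MN2.K 2) = 4 by decide +kernel] at this

theorem EN.cardU (h : EN x y z f t a b d w v k) : Nat.card 𝗩 = 32 := by
  have := PM.card_of_emb MN2_ok MN2_subs h.emb 3
  rwa [MN2_s3, show certOrder (MN2.K 3) = 32 by decide +kernel] at this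

theorem EN.cardY (h : EN x y z f t a b d w v k) : Nat.card 𝗬 = 288 := by
  have := PM.card_of_emb MN2_ok MN2_subs h.emb 4
  rwa [MN2_s4, show certOrder (MN2.K 4) = 288 by decide +kernel] at this

theorem EN.cardL (h : EN x y z f t a b d w v k) : Nat.card (gen [x, y, t, a, b, w, d]) = 1440 := by
  have := PM.card_of_emb MN2_ok MN2_subs h.emb 6
  rwa [MN2_s6, show certOrder (MN2.K 6) = 1440 by decide +kernel] at this

theorem EN.eqs (h : EN x y z f t a b d w v k) :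
    w * w = 1 ∧ v = f * w * f⁻¹ ∧ k = f⁻¹ * w * f ∧ w * z = z * w ∧ w * d = d * w ∧ w * a = a * w ∧
    w * b = b * w ∧ w * t = t * w ∧ w * v * k = t ∧ ¬ w * x = x * w ∧ ¬ w = a ∧ ¬ w = b ∧ ¬ w = d ∧
    ¬ w = 1 ∧ (x * w * y * w * x * x) * (v * k) = (a * b) * (x * w * y * w * x * x) ∧ (x * w * x) *
    (w * d) = (a * d) * (x * w * x) ∧ (y * w * y * x * x) * (w * a * b) = t * (y * w * y * x * x) ∧
    (x * w * y * w * x * x) * (v * k * d) = (a * b * d) * (x * w * y * w * x * x) ∧ (y * w * y * x *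
    x) * (w * a * b * d) = (t * d) * (y * w * y * x * x) ∧ (x * w * x) * w = a * (x * w * x) ∧ (a *
    b * v) * (a * b * v) = (v * k) ∧ ¬ v * k = 1 ∧ t * (v * k) = w ∧ (v * k) * (v * k) = 1 ∧ t * a *
    t * a = (a * b) ∧ (∀ u ∈ 𝗢, u * z = z * u ∧ u * t = t * u) ∧ (∀ u ∈ 𝗩, u * d = d * u ∧ u * w = w
    * u ∧ u * t = t * u ∧ u * u * u * u = 1) ∧ (∀ u ∈ gen [x, y, t, a, b, w, d], u * d = d * u) ∧ t
    ∈ 𝗩 := by
  have := PM.holds MN2_ok MN2_subs h.emb (p := (.and (.eq [13,13] []) (.and (.eq [14] [8,13,7]) (.and (.eq [15] [7,13,8]) (.and (.eq [5,13]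
      [13,5]) (.and (.eq [12,13] [13,12]) (.and (.eq [10,13] [13,10]) (.and (.eq [11,13] [13,11])
      (.and (.eq [9,13] [13,9]) (.and (.eq [15,14,13] [9]) (.and (.not (.eq [1,13] [13,1])) (.and
      (.not (.eq [13] [10])) (.and (.not (.eq [13] [11])) (.and (.not (.eq [13] [12])) (.and (.not
      (.eq [13] [])) (.and (.bind 40 [15,14] (.bind 41 [11,10] (.bind 42 [1,1,13,3,13,1] (.eq [40,42]
      [42,41])))) (.and (.bind 40 [12,13] (.bind 41 [12,10] (.bind 42 [1,13,1] (.eq [40,42]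
      [42,41])))) (.and (.bind 40 [11,10,13] (.bind 41 [9] (.bind 42 [1,1,3,13,3] (.eq [40,42]
      [42,41])))) (.and (.bind 40 [12,15,14] (.bind 41 [12,11,10] (.bind 42 [1,1,13,3,13,1] (.eq
      [40,42] [42,41])))) (.and (.bind 40 [12,11,10,13] (.bind 41 [12,9] (.bind 42 [1,1,3,13,3] (.eq
      [40,42] [42,41])))) (.and (.bind 40 [13] (.bind 41 [10] (.bind 42 [1,13,1] (.eq [40,42]
      [42,41])))) (.and (.bind 40 [14,11,10] (.bind 43 [11,10] (.bind 44 [12,9] (.bind 45 [12,11,10]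
      (.bind 46 [15,14] (.eq [40,40] [46])))))) (.and (.not (.eq [15,14] [])) (.and (.bind 43 [11,10]
      (.bind 44 [12,9] (.bind 45 [12,11,10] (.bind 46 [15,14] (.eq [46,9] [13]))))) (.and (.bind 43
      [11,10] (.bind 44 [12,9] (.bind 45 [12,11,10] (.bind 46 [15,14] (.eq [46,46] []))))) (.and
      (.bind 43 [11,10] (.bind 44 [12,9] (.bind 45 [12,11,10] (.bind 46 [15,14] (.eq [10,9,10,9]
      [43]))))) (.and (.all 2 40 (.and (.eq [5,40] [40,5]) (.eq [9,40] [40,9]))) (.and (.all 3 40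
      (.and (.eq [12,40] [40,12]) (.and (.eq [13,40] [40,13]) (.and (.eq [9,40] [40,9]) (.eq
      [40,40,40,40] []))))) (.and (.all 6 40 (.eq [12,40] [40,12])) (.ex 3 39 (.eq [9]
      [39]))))))))))))))))))))))))))))))) (by decide +kernel)
  simp only [Fm.sem, wv_cons, wv_nil, one_mul, upd_apply, Nat.reduceEqDiff, ↓reduceIte, exists_eq_right',
    gN_1, gN_3, gN_5, gN_7, gN_8, gN_9, gN_10, gN_11, gN_12, gN_13, gN_14, gN_15, MN2_s2, MN2_s3,
    MN2_s6] at this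
  exact this

theorem EN.w2 (h : EN x y z f t a b d w v k) :
    w * w = 1 := h.eqs.1

theorem EN.ev (h : EN x y z f t a b d w v k) :
    v = f * w * f⁻¹ := h.eqs.2.1

theorem EN.ek (h : EN x y z f t a b d w v k) :
    k = f⁻¹ * w * f := h.eqs.2.2.1

theorem EN.wz (h : EN x y z f t a b d w v k) :
    w * z = z * w := h.eqs.2.2.2.1

theorem EN.wd (h : EN x y z f t a b d w v k) :
    w * d = d * w := h.eqs.2.2.2.2.1

theorem EN.wa (h : EN x y z f t a b d w v k) :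
    w * a = a * w := h.eqs.2.2.2.2.2.1

theorem EN.wb (h : EN x y z f t a b d w v k) :
    w * b = b * w := h.eqs.2.2.2.2.2.2.1

theorem EN.wt (h : EN x y z f t a b d w v k) :
    w * t = t * w := h.eqs.2.2.2.2.2.2.2.1

theorem EN.wvk (h : EN x y z f t a b d w v k) :
    w * v * k = t := h.eqs.2.2.2.2.2.2.2.2.1

theorem EN.wx (h : EN x y z f t a b d w v k) :
    ¬ w * x = x * w := h.eqs.2.2.2.2.2.2.2.2.2.1

theorem EN.wna (h : EN x y z f t a b d w v k) :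
    ¬ w = a := h.eqs.2.2.2.2.2.2.2.2.2.2.1

theorem EN.wnb (h : EN x y z f t a b d w v k) :
    ¬ w = b := h.eqs.2.2.2.2.2.2.2.2.2.2.2.1

theorem EN.wnd (h : EN x y z f t a b d w v k) :
    ¬ w = d := h.eqs.2.2.2.2.2.2.2.2.2.2.2.2.1

theorem EN.w1 (h : EN x y z f t a b d w v k) :
    ¬ w = 1 := h.eqs.2.2.2.2.2.2.2.2.2.2.2.2.2.1

theorem EN.c1 (h : EN x y z f t a b d w v k) :
    (x * w * y * w * x * x) * (v * k) = (a * b) * (x * w * y * w * x * x) := h.eqs.2.2.2.2.2.2.2.2.2.2.2.2.2.2.1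

theorem EN.c2 (h : EN x y z f t a b d w v k) :
    (x * w * x) * (w * d) = (a * d) * (x * w * x) := h.eqs.2.2.2.2.2.2.2.2.2.2.2.2.2.2.2.1

theorem EN.c3 (h : EN x y z f t a b d w v k) :
    (y * w * y * x * x) * (w * a * b) = t * (y * w * y * x * x) := h.eqs.2.2.2.2.2.2.2.2.2.2.2.2.2.2.2.2.1

theorem EN.c4 (h : EN x y z f t a b d w v k) :
    (x * w * y * w * x * x) * (v * k * d) = (a * b * d) * (x * w * y * w * x * x) := h.eqs.2.2.2.2.2.2.2.2.2.2.2.2.2.2.2.2.2.1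

theorem EN.c5 (h : EN x y z f t a b d w v k) :
    (y * w * y * x * x) * (w * a * b * d) = (t * d) * (y * w * y * x * x) := h.eqs.2.2.2.2.2.2.2.2.2.2.2.2.2.2.2.2.2.2.1

theorem EN.c6 (h : EN x y z f t a b d w v k) :
    (x * w * x) * w = a * (x * w * x) := h.eqs.2.2.2.2.2.2.2.2.2.2.2.2.2.2.2.2.2.2.2.1

theorem EN.sqv (h : EN x y z f t a b d w v k) :
    (a * b * v) * (a * b * v) = (v * k) := h.eqs.2.2.2.2.2.2.2.2.2.2.2.2.2.2.2.2.2.2.2.2.1

theorem EN.vk1 (h : EN x y z f t a b d w v k) :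
    ¬ v * k = 1 := h.eqs.2.2.2.2.2.2.2.2.2.2.2.2.2.2.2.2.2.2.2.2.2.1

theorem EN.tvk (h : EN x y z f t a b d w v k) :
    t * (v * k) = w := h.eqs.2.2.2.2.2.2.2.2.2.2.2.2.2.2.2.2.2.2.2.2.2.2.1

theorem EN.vk2 (h : EN x y z f t a b d w v k) :
    (v * k) * (v * k) = 1 := h.eqs.2.2.2.2.2.2.2.2.2.2.2.2.2.2.2.2.2.2.2.2.2.2.2.1

theorem EN.sqab (h : EN x y z f t a b d w v k) :
    t * a * t * a = (a * b) := h.eqs.2.2.2.2.2.2.2.2.2.2.2.2.2.2.2.2.2.2.2.2.2.2.2.2.1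

theorem EN.oz (h : EN x y z f t a b d w v k) :
    ∀ u ∈ 𝗢, u * z = z * u ∧ u * t = t * u := h.eqs.2.2.2.2.2.2.2.2.2.2.2.2.2.2.2.2.2.2.2.2.2.2.2.2.2.1

theorem EN.ud (h : EN x y z f t a b d w v k) :
    ∀ u ∈ 𝗩, u * d = d * u ∧ u * w = w * u ∧ u * t = t * u ∧ u * u * u * u = 1 := h.eqs.2.2.2.2.2.2.2.2.2.2.2.2.2.2.2.2.2.2.2.2.2.2.2.2.2.2.1

theorem EN.ld (h : EN x y z f t a b d w v k) :
    ∀ u ∈ gen [x, y, t, a, b, w, d], u * d = d * u := h.eqs.2.2.2.2.2.2.2.2.2.2.2.2.2.2.2.2.2.2.2.2.2.2.2.2.2.2.2.1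

theorem EN.tU (h : EN x y z f t a b d w v k) :
    t ∈ 𝗩 := h.eqs.2.2.2.2.2.2.2.2.2.2.2.2.2.2.2.2.2.2.2.2.2.2.2.2.2.2.2.2

theorem EN.cox (h : EN x y z f t a b d w v k) :
    a * (x * a) * a * (x * a) * a * (x * a) = 1 ∧ a * w = w * a ∧ a * (y⁻¹ * b) = (y⁻¹ * b) * a ∧ a
    * b = b * a ∧ a * (z * d) = (z * d) * a ∧ a * d = d * a ∧ (x * a) * w * (x * a) * w * (x * a) *
    w = 1 ∧ (x * a) * (y⁻¹ * b) = (y⁻¹ * b) * (x * a) ∧ (x * a) * b = b * (x * a) ∧ (x * a) * (z *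
    d) = (z * d) * (x * a) ∧ (x * a) * d = d * (x * a) ∧ w * (y⁻¹ * b) * w * (y⁻¹ * b) * w * (y⁻¹ *
    b) = 1 ∧ w * b = b * w ∧ w * (z * d) = (z * d) * w ∧ w * d = d * w ∧ (y⁻¹ * b) * b * (y⁻¹ * b) *
    b * (y⁻¹ * b) * b = 1 ∧ (y⁻¹ * b) * (z * d) = (z * d) * (y⁻¹ * b) ∧ (y⁻¹ * b) * d = d * (y⁻¹ *
    b) ∧ b * (z * d) = (z * d) * b ∧ b * d = d * b ∧ (z * d) * d * (z * d) * d * (z * d) * d = 1 ∧
    (x * a) * (x * a) = 1 ∧ (y⁻¹ * b) * (y⁻¹ * b) = 1 ∧ (z * d) * (z * d) = 1 ∧ (x * w * x⁻¹) * (x *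
    w * x⁻¹) = 1 ∧ a * (x * w * x⁻¹) * a * (x * w * x⁻¹) * a * (x * w * x⁻¹) = 1 ∧ (x⁻¹ * a) * (x *
    w * x⁻¹) = (x * w * x⁻¹) * (x⁻¹ * a) ∧ (x * w * x⁻¹) * (y * b) * (x * w * x⁻¹) * (y * b) * (x *
    w * x⁻¹) * (y * b) = 1 ∧ (x * w * x⁻¹) * b = b * (x * w * x⁻¹) ∧ d * (x * w * x⁻¹) = (x * w *
    x⁻¹) * d ∧ (z * d) * (x * w * x⁻¹) = (x * w * x⁻¹) * (z * d) ∧ w * (y * w * y⁻¹) * w = y * b ∧
    (x * a) * w * (x * a) = (x * w * x⁻¹) ∧ (x * a) * a = x ∧ b * (y⁻¹ * b) = y ∧ (z * d) * d = z := by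
  have := PM.holds MN2_ok MN2_subs h.emb (p := (.and (.bind 40 [10] (.bind 41 [10,1] (.eq [41,40,41,40,41,40] []))) (.and (.bind 40 [10] (.bind
      42 [13] (.eq [42,40] [40,42]))) (.and (.bind 40 [10] (.bind 43 [11,4] (.eq [43,40] [40,43])))
      (.and (.bind 40 [10] (.bind 44 [11] (.eq [44,40] [40,44]))) (.and (.bind 40 [10] (.bind 45
      [12,5] (.eq [45,40] [40,45]))) (.and (.bind 40 [10] (.bind 46 [12] (.eq [46,40] [40,46]))) (.and
      (.bind 41 [10,1] (.bind 42 [13] (.eq [42,41,42,41,42,41] []))) (.and (.bind 41 [10,1] (.bind 43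
      [11,4] (.eq [43,41] [41,43]))) (.and (.bind 41 [10,1] (.bind 44 [11] (.eq [44,41] [41,44])))
      (.and (.bind 41 [10,1] (.bind 45 [12,5] (.eq [45,41] [41,45]))) (.and (.bind 41 [10,1] (.bind 46
      [12] (.eq [46,41] [41,46]))) (.and (.bind 42 [13] (.bind 43 [11,4] (.eq [43,42,43,42,43,42]
      []))) (.and (.bind 42 [13] (.bind 44 [11] (.eq [44,42] [42,44]))) (.and (.bind 42 [13] (.bind 45
      [12,5] (.eq [45,42] [42,45]))) (.and (.bind 42 [13] (.bind 46 [12] (.eq [46,42] [42,46]))) (.and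
      (.bind 43 [11,4] (.bind 44 [11] (.eq [44,43,44,43,44,43] []))) (.and (.bind 43 [11,4] (.bind 45
      [12,5] (.eq [45,43] [43,45]))) (.and (.bind 43 [11,4] (.bind 46 [12] (.eq [46,43] [43,46])))
      (.and (.bind 44 [11] (.bind 45 [12,5] (.eq [45,44] [44,45]))) (.and (.bind 44 [11] (.bind 46
      [12] (.eq [46,44] [44,46]))) (.and (.bind 45 [12,5] (.bind 46 [12] (.eq [46,45,46,45,46,45]
      []))) (.and (.bind 41 [10,1] (.eq [41,41] [])) (.and (.bind 43 [11,4] (.eq [43,43] [])) (.and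
      (.bind 45 [12,5] (.eq [45,45] [])) (.and (.bind 47 [2,13,1] (.eq [47,47] [])) (.and (.bind 47
      [2,13,1] (.eq [47,10,47,10,47,10] [])) (.and (.bind 47 [2,13,1] (.bind 48 [10,2] (.eq [47,48]
      [48,47]))) (.and (.bind 47 [2,13,1] (.bind 48 [11,3] (.eq [48,47,48,47,48,47] []))) (.and (.bind
      47 [2,13,1] (.eq [11,47] [47,11])) (.and (.bind 47 [2,13,1] (.eq [47,12] [12,47])) (.and (.bind
      47 [2,13,1] (.bind 48 [12,5] (.eq [47,48] [48,47]))) (.and (.bind 48 [4,13,3] (.eq [13,48,13]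
      [11,3])) (.and (.bind 47 [2,13,1] (.bind 48 [10,1] (.eq [48,13,48] [47]))) (.and (.bind 40 [10]
      (.bind 41 [10,1] (.eq [40,41] [1]))) (.and (.bind 43 [11,4] (.bind 44 [11] (.eq [43,44] [3])))
      (.bind 45 [12,5] (.bind 46 [12] (.eq [46,45] [5]))))))))))))))))))))))))))))))))))))))) (by decide +kernel)
  simp only [Fm.sem, wv_cons, wv_nil, one_mul, upd_apply, Nat.reduceEqDiff, ↓reduceIte, exists_eq_right',
    gN_1, gN_2, gN_3, gN_4, gN_5, gN_10, gN_11, gN_12, gN_13] at this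
  exact this

theorem EN.b12 (h : EN x y z f t a b d w v k) :
    a * (x * a) * a * (x * a) * a * (x * a) = 1 := h.cox.1

theorem EN.m13 (h : EN x y z f t a b d w v k) :
    a * w = w * a := h.cox.2.1

theorem EN.m14 (h : EN x y z f t a b d w v k) :
    a * (y⁻¹ * b) = (y⁻¹ * b) * a := h.cox.2.2.1

theorem EN.m15 (h : EN x y z f t a b d w v k) :
    a * b = b * a := h.cox.2.2.2.1

theorem EN.m17 (h : EN x y z f t a b d w v k) :
    a * (z * d) = (z * d) * a := h.cox.2.2.2.2.1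

theorem EN.m18 (h : EN x y z f t a b d w v k) :
    a * d = d * a := h.cox.2.2.2.2.2.1

theorem EN.b23 (h : EN x y z f t a b d w v k) :
    (x * a) * w * (x * a) * w * (x * a) * w = 1 := h.cox.2.2.2.2.2.2.1

theorem EN.m24 (h : EN x y z f t a b d w v k) :
    (x * a) * (y⁻¹ * b) = (y⁻¹ * b) * (x * a) := h.cox.2.2.2.2.2.2.2.1

theorem EN.m25 (h : EN x y z f t a b d w v k) :
    (x * a) * b = b * (x * a) := h.cox.2.2.2.2.2.2.2.2.1

theorem EN.m27 (h : EN x y z f t a b d w v k) :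
    (x * a) * (z * d) = (z * d) * (x * a) := h.cox.2.2.2.2.2.2.2.2.2.1

theorem EN.m28 (h : EN x y z f t a b d w v k) :
    (x * a) * d = d * (x * a) := h.cox.2.2.2.2.2.2.2.2.2.2.1

theorem EN.b34 (h : EN x y z f t a b d w v k) :
    w * (y⁻¹ * b) * w * (y⁻¹ * b) * w * (y⁻¹ * b) = 1 := h.cox.2.2.2.2.2.2.2.2.2.2.2.1

theorem EN.m35 (h : EN x y z f t a b d w v k) :
    w * b = b * w := h.cox.2.2.2.2.2.2.2.2.2.2.2.2.1

theorem EN.m37 (h : EN x y z f t a b d w v k) :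
    w * (z * d) = (z * d) * w := h.cox.2.2.2.2.2.2.2.2.2.2.2.2.2.1

theorem EN.m38 (h : EN x y z f t a b d w v k) :
    w * d = d * w := h.cox.2.2.2.2.2.2.2.2.2.2.2.2.2.2.1

theorem EN.b45 (h : EN x y z f t a b d w v k) :
    (y⁻¹ * b) * b * (y⁻¹ * b) * b * (y⁻¹ * b) * b = 1 := h.cox.2.2.2.2.2.2.2.2.2.2.2.2.2.2.2.1

theorem EN.m47 (h : EN x y z f t a b d w v k) :
    (y⁻¹ * b) * (z * d) = (z * d) * (y⁻¹ * b) := h.cox.2.2.2.2.2.2.2.2.2.2.2.2.2.2.2.2.1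

theorem EN.m48 (h : EN x y z f t a b d w v k) :
    (y⁻¹ * b) * d = d * (y⁻¹ * b) := h.cox.2.2.2.2.2.2.2.2.2.2.2.2.2.2.2.2.2.1

theorem EN.m57 (h : EN x y z f t a b d w v k) :
    b * (z * d) = (z * d) * b := h.cox.2.2.2.2.2.2.2.2.2.2.2.2.2.2.2.2.2.2.1

theorem EN.m58 (h : EN x y z f t a b d w v k) :
    b * d = d * b := h.cox.2.2.2.2.2.2.2.2.2.2.2.2.2.2.2.2.2.2.2.1

theorem EN.b78 (h : EN x y z f t a b d w v k) :
    (z * d) * d * (z * d) * d * (z * d) * d = 1 := h.cox.2.2.2.2.2.2.2.2.2.2.2.2.2.2.2.2.2.2.2.2.1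

theorem EN.i2 (h : EN x y z f t a b d w v k) :
    (x * a) * (x * a) = 1 := h.cox.2.2.2.2.2.2.2.2.2.2.2.2.2.2.2.2.2.2.2.2.2.1

theorem EN.i4 (h : EN x y z f t a b d w v k) :
    (y⁻¹ * b) * (y⁻¹ * b) = 1 := h.cox.2.2.2.2.2.2.2.2.2.2.2.2.2.2.2.2.2.2.2.2.2.2.1

theorem EN.i7 (h : EN x y z f t a b d w v k) :
    (z * d) * (z * d) = 1 := h.cox.2.2.2.2.2.2.2.2.2.2.2.2.2.2.2.2.2.2.2.2.2.2.2.1

theorem EN.u2 (h : EN x y z f t a b d w v k) :
    (x * w * x⁻¹) * (x * w * x⁻¹) = 1 := h.cox.2.2.2.2.2.2.2.2.2.2.2.2.2.2.2.2.2.2.2.2.2.2.2.2.1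

theorem EN.ua (h : EN x y z f t a b d w v k) :
    a * (x * w * x⁻¹) * a * (x * w * x⁻¹) * a * (x * w * x⁻¹) = 1 := h.cox.2.2.2.2.2.2.2.2.2.2.2.2.2.2.2.2.2.2.2.2.2.2.2.2.2.1

theorem EN.u4 (h : EN x y z f t a b d w v k) :
    (x⁻¹ * a) * (x * w * x⁻¹) = (x * w * x⁻¹) * (x⁻¹ * a) := h.cox.2.2.2.2.2.2.2.2.2.2.2.2.2.2.2.2.2.2.2.2.2.2.2.2.2.2.1

theorem EN.u7 (h : EN x y z f t a b d w v k) :
    (x * w * x⁻¹) * (y * b) * (x * w * x⁻¹) * (y * b) * (x * w * x⁻¹) * (y * b) = 1 := h.cox.2.2.2.2.2.2.2.2.2.2.2.2.2.2.2.2.2.2.2.2.2.2.2.2.2.2.2.1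

theorem EN.u8 (h : EN x y z f t a b d w v k) :
    (x * w * x⁻¹) * b = b * (x * w * x⁻¹) := h.cox.2.2.2.2.2.2.2.2.2.2.2.2.2.2.2.2.2.2.2.2.2.2.2.2.2.2.2.2.1

theorem EN.u1 (h : EN x y z f t a b d w v k) :
    d * (x * w * x⁻¹) = (x * w * x⁻¹) * d := h.cox.2.2.2.2.2.2.2.2.2.2.2.2.2.2.2.2.2.2.2.2.2.2.2.2.2.2.2.2.2.1

theorem EN.u2z (h : EN x y z f t a b d w v k) :
    (z * d) * (x * w * x⁻¹) = (x * w * x⁻¹) * (z * d) := h.cox.2.2.2.2.2.2.2.2.2.2.2.2.2.2.2.2.2.2.2.2.2.2.2.2.2.2.2.2.2.2.1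

theorem EN.sp1 (h : EN x y z f t a b d w v k) :
    w * (y * w * y⁻¹) * w = y * b := h.cox.2.2.2.2.2.2.2.2.2.2.2.2.2.2.2.2.2.2.2.2.2.2.2.2.2.2.2.2.2.2.2.1

theorem EN.sp2 (h : EN x y z f t a b d w v k) :
    (x * a) * w * (x * a) = (x * w * x⁻¹) := h.cox.2.2.2.2.2.2.2.2.2.2.2.2.2.2.2.2.2.2.2.2.2.2.2.2.2.2.2.2.2.2.2.2.1

theorem EN.gx (h : EN x y z f t a b d w v k) :
    (x * a) * a = x := h.cox.2.2.2.2.2.2.2.2.2.2.2.2.2.2.2.2.2.2.2.2.2.2.2.2.2.2.2.2.2.2.2.2.2.1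

theorem EN.gy (h : EN x y z f t a b d w v k) :
    b * (y⁻¹ * b) = y := h.cox.2.2.2.2.2.2.2.2.2.2.2.2.2.2.2.2.2.2.2.2.2.2.2.2.2.2.2.2.2.2.2.2.2.2.1

theorem EN.gz (h : EN x y z f t a b d w v k) :
    (z * d) * d = z := h.cox.2.2.2.2.2.2.2.2.2.2.2.2.2.2.2.2.2.2.2.2.2.2.2.2.2.2.2.2.2.2.2.2.2.2.2

theorem EN.cY (h : EN x y z f t a b d w v k) :
    ∀ n ∈ 𝗡, n * t = t * n → n ∈ 𝗬 := by
  have := PM.holds MN2_ok MN2_subs h.emb (p := (.all 0 40 (.imp (.eq [9,40] [40,9]) (.ex 4 39 (.eq [40] [39]))))) (by decide +kernel)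
  simp only [Fm.sem, wv_cons, wv_nil, one_mul, upd_apply, Nat.reduceEqDiff, ↓reduceIte, exists_eq_right',
    gN_9, MN2_s0, MN2_s4] at this
  exact this

theorem EN.memY (h : EN x y z f t a b d w v k) :
    ∀ n ∈ 𝗬, ¬ n * n = t ∧ (n * z = z * n → ((∃ e ∈ 𝗢, n * (w * v) = e * n) ∧ (∃ e ∈ 𝗢, n * (w * k)
    = e * n) ∧ (∃ u ∈ 𝗢, (∃ e ∈ 𝗣, (u * n) * z = e * (u * n)) ∧ (∃ e ∈ 𝗣, (u * n) * f = e * (u *
    n))))) := by
  have := PM.holds MN2_ok MN2_subs h.emb (p := (.all 4 40 (.and (.not (.eq [40,40] [9])) (.imp (.eq [5,40] [40,5]) (.and (.ex 2 41 (.bind 42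
      [14,13] (.eq [42,40] [40,41]))) (.and (.ex 2 41 (.bind 42 [15,13] (.eq [42,40] [40,41]))) (.ex 2
      43 (.bind 42 [40,43] (.and (.ex 5 41 (.eq [5,42] [42,41])) (.ex 5 41 (.eq [7,42]
      [42,41]))))))))))) (by decide +kernel)
  simp only [Fm.sem, wv_cons, wv_nil, one_mul, upd_apply, Nat.reduceEqDiff, ↓reduceIte, exists_eq_right',
    gN_5, gN_7, gN_9, gN_13, gN_14, gN_15, MN2_s2, MN2_s4, MN2_s5] at this
  exact this

theorem EN.zU (h : EN x y z f t a b d w v k) :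
    ∀ u ∈ 𝗩, (u * u = 1 ∨ u * u = (v * k)) ∧ (u * w = w * u → u * v = v * u → u * k = k * u → u * (a
    * b) = (a * b) * u → (u = 1 ∨ u = w ∨ u = d ∨ u = (v * k) ∨ u = w * d ∨ u = t * d ∨ u = t ∨ u =
    (v * k) * d)) := by
  have := PM.holds MN2_ok MN2_subs h.emb (p := (.bind 40 [11,10] (.bind 41 [12,9] (.bind 42 [12,11,10] (.bind 43 [15,14] (.all 3 44 (.and (.or
      (.eq [44,44] []) (.eq [44,44] [43])) (.imp (.eq [13,44] [44,13]) (.imp (.eq [14,44] [44,14])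
      (.imp (.eq [15,44] [44,15]) (.imp (.eq [40,44] [44,40]) (.or (.eq [44] []) (.or (.eq [44] [13])
      (.or (.eq [44] [12]) (.or (.eq [44] [43]) (.or (.eq [44] [12,13]) (.or (.eq [44] [12,9]) (.or
      (.eq [44] [9]) (.eq [44] [12,43]))))))))))))))))))) (by decide +kernel)
  simp only [Fm.sem, wv_cons, wv_nil, one_mul, upd_apply, Nat.reduceEqDiff, ↓reduceIte, exists_eq_right',
    gN_9, gN_10, gN_11, gN_12, gN_13, gN_14, gN_15, MN2_s3] at this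
  exact this

/-- The six transpositions centralizing `t`. -/
def D6 (z d w v k u : G) : Prop := u = w ∨ u = v ∨ u = k ∨ u = d ∨ u = z * d ∨ u = z⁻¹ * d

theorem EN.clsY (h : EN x y z f t a b d w v k) :
    ∀ u ∈ 𝗬, u * u = 1 → (u = 1 ∨ D6 z d w v k u ∨ (∃ n ∈ 𝗬, n * (v * k) = u * n ∨ n * (w * d) = u *
    n ∨ n * (w * a * b) = u * n ∨ n * (v * k * d) = u * n ∨ n * (w * a * b * d) = u * n ∨ n * (a *
    b) = u * n ∨ n * t = u * n ∨ n * (a * b * d) = u * n ∨ n * (t * d) = u * n)) := by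
  have := PM.holds MN2_ok MN2_subs h.emb (p := (.all 4 40 (.imp (.eq [40,40] []) (.or (.eq [40] []) (.or (.or (.eq [40] [13]) (.or (.eq [40]
      [14]) (.or (.eq [40] [15]) (.or (.eq [40] [12]) (.or (.eq [40] [12,5]) (.eq [40] [12,6]))))))
      (.bind 41 [15,14] (.bind 42 [12,13] (.bind 43 [11,10,13] (.bind 44 [12,15,14] (.bind 45
      [12,11,10,13] (.bind 46 [11,10] (.bind 47 [9] (.bind 48 [12,11,10] (.bind 49 [12,9] (.ex 4 50
      (.or (.eq [41,50] [50,40]) (.or (.eq [42,50] [50,40]) (.or (.eq [43,50] [50,40]) (.or (.eq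
      [44,50] [50,40]) (.or (.eq [45,50] [50,40]) (.or (.eq [46,50] [50,40]) (.or (.eq [47,50]
      [50,40]) (.or (.eq [48,50] [50,40]) (.eq [49,50] [50,40])))))))))))))))))))))))) (by decide +kernel)
  simp only [Fm.sem, wv_cons, wv_nil, one_mul, upd_apply, Nat.reduceEqDiff, ↓reduceIte, exists_eq_right',
    gN_5, gN_6, gN_9, gN_10, gN_11, gN_12, gN_13, gN_14, gN_15, MN2_s4] at this
  exact this

theorem EN.six (h : EN x y z f t a b d w v k) :
    ∀ p ∈ gen [w, v, k, z, d], D6 z d w v k p → (∀ q ∈ gen [w, v, k, z, d], D6 z d w v k q → (∀ r ∈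
    gen [w, v, k, z, d], D6 z d w v k r → p * q * r = t → (∀ u ∈ gen [w, v, k, z, d], D6 z d w v k u
    → u * p = p * u → u * q = q * u → u * r = r * u → ¬ u = p → ¬ u = q → ¬ u = r → u ∈ gen [z,
    d]))) := by
  have := PM.holds MN2_ok MN2_subs h.emb (p := (.all 7 40 (.imp (.or (.eq [40] [13]) (.or (.eq [40] [14]) (.or (.eq [40] [15]) (.or (.eq [40]
      [12]) (.or (.eq [40] [12,5]) (.eq [40] [12,6])))))) (.all 7 41 (.imp (.or (.eq [41] [13]) (.or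
      (.eq [41] [14]) (.or (.eq [41] [15]) (.or (.eq [41] [12]) (.or (.eq [41] [12,5]) (.eq [41]
      [12,6])))))) (.all 7 42 (.imp (.or (.eq [42] [13]) (.or (.eq [42] [14]) (.or (.eq [42] [15])
      (.or (.eq [42] [12]) (.or (.eq [42] [12,5]) (.eq [42] [12,6])))))) (.imp (.eq [42,41,40] [9])
      (.all 7 43 (.imp (.or (.eq [43] [13]) (.or (.eq [43] [14]) (.or (.eq [43] [15]) (.or (.eq [43]
      [12]) (.or (.eq [43] [12,5]) (.eq [43] [12,6])))))) (.imp (.eq [40,43] [43,40]) (.imp (.eq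
      [41,43] [43,41]) (.imp (.eq [42,43] [43,42]) (.imp (.not (.eq [43] [40])) (.imp (.not (.eq [43]
      [41])) (.imp (.not (.eq [43] [42])) (.ex 8 39 (.eq [43] [39])))))))))))))))))) (by decide +kernel)
  simp only [Fm.sem, wv_cons, wv_nil, one_mul, upd_apply, Nat.reduceEqDiff, ↓reduceIte, exists_eq_right',
    gN_5, gN_6, gN_9, gN_12, gN_13, gN_14, gN_15, MN2_s7, MN2_s8] at this
  exact this

theorem EN.tri (h : EN x y z f t a b d w v k) :
    ∀ p ∈ gen [z, d], p * p = 1 → ¬ p = 1 → (∀ q ∈ gen [z, d], q * q = 1 → ¬ q = 1 → ¬ p = q → (∀ r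
    ∈ gen [z, d], r * r = 1 → ¬ r = 1 → ¬ r = p → ¬ r = q → p * q * p = r)) := by
  have := PM.holds MN2_ok MN2_subs h.emb (p := (.all 8 40 (.imp (.eq [40,40] []) (.imp (.not (.eq [40] [])) (.all 8 41 (.imp (.eq [41,41] [])
      (.imp (.not (.eq [41] [])) (.imp (.not (.eq [40] [41])) (.all 8 42 (.imp (.eq [42,42] []) (.imp
      (.not (.eq [42] [])) (.imp (.not (.eq [42] [40])) (.imp (.not (.eq [42] [41])) (.eq [40,41,40]
      [42])))))))))))))) (by decide +kernel)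
  simp only [Fm.sem, wv_cons, wv_nil, one_mul, upd_apply, Nat.reduceEqDiff, ↓reduceIte, exists_eq_right',
    MN2_s8] at this
  exact this

theorem EN.cX (h : EN x y z f t a b d w v k) :
    ∀ n ∈ 𝗫, n * (a * b) = (a * b) * n → n * n * n * n ∈ zpowers z := by
  have := PM.holds MN2_ok MN2_subs h.emb (p := (.bind 40 [11,10] (.bind 41 [12,9] (.bind 42 [12,11,10] (.bind 43 [15,14] (.all 1 44 (.imp (.eq
      [40,44] [44,40]) (.ex 9 39 (.eq [44,44,44,44] [39]))))))))) (by decide +kernel)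
  simp only [Fm.sem, wv_cons, wv_nil, one_mul, upd_apply, Nat.reduceEqDiff, ↓reduceIte, exists_eq_right',
    gN_9, gN_10, gN_11, gN_12, gN_14, gN_15, MN2_s1, MN2_s9] at this
  exact this

end Cfsg.Lib.S9L
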