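import Cfsg.Agent.Block.S9Mod

/-!
# Subgroups of `S₃ ≀ S₃`: permutation models and finite facts
-/

set_option autoImplicit false
set_option maxRecDepth 100000
set_option linter.unusedSimpArgs false
set_option linter.unusedVariables false
set_option maxHeartbeats 1000000

namespace Cfsg.Lib.S9L

open Subgroup Cfsg.Lib.Spor Cfsg.Lib.Spor.Bulk Cfsg.Lib.Spor.PK Cfsg.Lib.Spor.WF Cfsg.Lib.L3
open Cfsg.Lib.A9L

variable {G : Type*} [Group G] {x y z s c f q g t a b d w : G}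

/-- Words. -/
def wC : List (List ℕ) := [[], [7], [17], [7,7], [17,7], [7,17]]

/-- Words. -/
def wP : List (List ℕ) := [[], [7], [17], [18], [7,7], [17,7], [18,7], [7,17], [18,17], [18,7,7], [18,17,7], [18,7,17]]

/-- Words. -/
def wE : List (List ℕ) := [[], [7], [17], [18], [19], [7,7], [17,7], [18,7], [19,7], [7,17], [18,17], [19,17], [19,18],
    [7,19], [17,19], [18,7,7], [19,7,7], [18,17,7], [19,17,7], [7,19,7], [17,19,7], [18,7,17],
    [19,7,17], [7,19,17]]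

/-- Words. -/
def wF : List (List ℕ) := [[], [7], [17], [18], [19], [20], [7,7], [17,7], [18,7], [19,7], [20,7], [7,17], [18,17],
    [19,17], [20,17], [19,18], [20,18], [20,19], [18,7,7], [19,7,7], [20,7,7], [18,17,7], [19,17,7],
    [20,17,7], [19,18,7], [20,18,7], [20,19,7], [18,7,17], [19,7,17], [20,7,17], [19,18,17],
    [20,18,17], [20,19,17], [20,19,18], [19,18,7,7], [20,18,7,7], [20,19,7,7], [19,18,17,7],
    [20,18,17,7], [20,19,17,7], [20,19,18,7], [19,18,7,17], [20,18,7,17], [20,19,7,17],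
    [20,19,18,17], [20,19,18,7,7], [20,19,18,17,7], [20,19,18,7,17]]

/-- The group `3³:(S₃ × 2)`. -/
@[reducible] def MP : PM where
  w := 7
  n := 9
  cs := [4062995741946381184,
    4062995741946152711,
    4062995741946265614,
    4062995262803772288,
    4062995499578524544,
    3058160861414916992,
    3554713506658091904,
    1012748903592283669,
    2537871231916316842,
    3058160382272079623,
    3554713264290119694,
    4062995262803543815,
    4062995499578408974,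
    4062995499578296071,
    4062995262803656718,
    3554713027515254535,
    3058160619046944782,
    4062995014711037461,
    3562532994715600640,
    4062995741946381184,
    4062995741946381184,
    4062995741946381184]
  SW := [([[1],[3],[5],[7],[17],[18]],
    [⟨0, [128, 387, 196, 64, 515, 324, 451, 260], [[1, 4, 5, 3, 5], [4, 3, 4, 5, 3, 4, 2, 3]]⟩,
     ⟨3, [512, 385, 320, 448, 256], [[0, 1], [0, 0, 0, 0, 1, 1]]⟩,
     ⟨6, [513, 448], [[0]]⟩,
     ⟨1, [128], []⟩]),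
   ([[1],[3],[5]],
    [⟨0, [128, 64], [[2], [1]]⟩,
     ⟨3, [321, 257], [[0]]⟩,
     ⟨6, [512, 448], []⟩]),
   ([[1],[3],[5],[7]],
    [⟨0, [128, 387, 64, 515, 195, 451, 323, 259], [[2], [1]]⟩,
     ⟨3, [321, 257], [[0]]⟩,
     ⟨6, [512, 448], []⟩]),
   ([[5],[11]],
    [⟨6, [512, 448], [[1]]⟩,
     ⟨0, [128, 64], []⟩]),
   ([[5],[11],[17]],
    [⟨6, [512, 448], [[2], [1]]⟩,
     ⟨0, [192, 129, 321, 65, 257], []⟩]),
   ([[5]],
    [⟨6, [512, 448], []⟩]),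
   ([[11]],
    [⟨0, [128, 64], []⟩]),
   ([[13]],
    [⟨0, [128, 64], []⟩])]

instance : NeZero MP.n := ⟨by decide⟩

theorem MP_ok : MP.ok = true := by decide +kernel

theorem MP_subs : MP.subsOK = true := by decide +kernel

theorem MP_s0 : sub (g9 x y z s c f q g t a 1 1 1) (MP.W 0) = 𝗔 := by
  change gen (List.map (wv _) [[1],[3],[5],[7],[17],[18]]) = _
  simp only [List.map_cons, List.map_nil, wv_cons, wv_nil, one_mul, gen_one, g9_1, g9_2, g9_3, g9_4, g9_5,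
    g9_6, g9_7, g9_8, g9_9, g9_10, g9_11, g9_12, g9_13, g9_14, g9_15, g9_16, g9_17, g9_18, g9_19,
    g9_20, g9_21]

theorem MP_s1 : sub (g9 x y z s c f q g t a 1 1 1) (MP.W 1) = 𝐉 := by
  change gen (List.map (wv _) [[1],[3],[5]]) = _
  simp only [List.map_cons, List.map_nil, wv_cons, wv_nil, one_mul, gen_one, g9_1, g9_2, g9_3, g9_4, g9_5,
    g9_6, g9_7, g9_8, g9_9, g9_10, g9_11, g9_12, g9_13, g9_14, g9_15, g9_16, g9_17, g9_18, g9_19,
    g9_20, g9_21]

theorem MP_s2 : sub (g9 x y z s c f q g t a 1 1 1) (MP.W 2) = 𝐒 := by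
  change gen (List.map (wv _) [[1],[3],[5],[7]]) = _
  simp only [List.map_cons, List.map_nil, wv_cons, wv_nil, one_mul, gen_one, g9_1, g9_2, g9_3, g9_4, g9_5,
    g9_6, g9_7, g9_8, g9_9, g9_10, g9_11, g9_12, g9_13, g9_14, g9_15, g9_16, g9_17, g9_18, g9_19,
    g9_20, g9_21]

theorem MP_s3 : sub (g9 x y z s c f q g t a 1 1 1) (MP.W 3) = 𝗪 := by
  change gen (List.map (wv _) [[5],[11]]) = _
  simp only [List.map_cons, List.map_nil, wv_cons, wv_nil, one_mul, gen_one, g9_1, g9_2, g9_3, g9_4, g9_5,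
    g9_6, g9_7, g9_8, g9_9, g9_10, g9_11, g9_12, g9_13, g9_14, g9_15, g9_16, g9_17, g9_18, g9_19,
    g9_20, g9_21]

theorem MP_s4 : sub (g9 x y z s c f q g t a 1 1 1) (MP.W 4) = 𝗣 := by
  change gen (List.map (wv _) [[5],[11],[17]]) = _
  simp only [List.map_cons, List.map_nil, wv_cons, wv_nil, one_mul, gen_one, g9_1, g9_2, g9_3, g9_4, g9_5,
    g9_6, g9_7, g9_8, g9_9, g9_10, g9_11, g9_12, g9_13, g9_14, g9_15, g9_16, g9_17, g9_18, g9_19,
    g9_20, g9_21]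

theorem MP_s5 : sub (g9 x y z s c f q g t a 1 1 1) (MP.W 5) = zpowers z := by
  change gen (List.map (wv _) [[5]]) = _
  simp only [List.map_cons, List.map_nil, wv_cons, wv_nil, one_mul, gen_one, g9_1, g9_2, g9_3, g9_4, g9_5,
    g9_6, g9_7, g9_8, g9_9, g9_10, g9_11, g9_12, g9_13, g9_14, g9_15, g9_16, g9_17, g9_18, g9_19,
    g9_20, g9_21]

theorem MP_s6 : sub (g9 x y z s c f q g t a 1 1 1) (MP.W 6) = zpowers f := by
  change gen (List.map (wv _) [[11]]) = _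
  simp only [List.map_cons, List.map_nil, wv_cons, wv_nil, one_mul, gen_one, g9_1, g9_2, g9_3, g9_4, g9_5,
    g9_6, g9_7, g9_8, g9_9, g9_10, g9_11, g9_12, g9_13, g9_14, g9_15, g9_16, g9_17, g9_18, g9_19,
    g9_20, g9_21]

theorem MP_s7 : sub (g9 x y z s c f q g t a 1 1 1) (MP.W 7) = zpowers q := by
  change gen (List.map (wv _) [[13]]) = _
  simp only [List.map_cons, List.map_nil, wv_cons, wv_nil, one_mul, gen_one, g9_1, g9_2, g9_3, g9_4, g9_5,
    g9_6, g9_7, g9_8, g9_9, g9_10, g9_11, g9_12, g9_13, g9_14, g9_15, g9_16, g9_17, g9_18, g9_19,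
    g9_20, g9_21]

/-- Standard generators of `3³:(S₃ × 2)`. -/
structure EP (x y z s c f q g t a : G) : Prop where
  emb : Emb MP.m (g9 x y z s c f q g t a 1 1 1)

theorem EP.eqs (h : EP x y z s c f q g t a) :
    a * a = 1 ∧ t * a = a * t ∧ q * (a * t) = (a * t) * q ∧ (a * t) * (a * t) = 1 ∧ ¬ a * t = 1 ∧ ¬
    (a * t) * c = c * (a * t) ∧ t * (a * t) = (a * t) * t := by
  have := PM.holds MP_ok MP_subs h.emb (p := (.and (.eq [18,18] []) (.and (.eq [18,17] [17,18]) (.and (.bind 40 [17,18] (.eq [40,13]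
      [13,40])) (.and (.bind 40 [17,18] (.eq [40,40] [])) (.and (.not (.eq [17,18] [])) (.and (.bind
      40 [17,18] (.not (.eq [9,40] [40,9]))) (.bind 40 [17,18] (.eq [40,17] [17,40]))))))))) (by decide +kernel)
  simp only [Fm.sem, wv_cons, wv_nil, one_mul, upd_apply, Nat.reduceEqDiff, ↓reduceIte, exists_eq_right',
    g9_9, g9_13, g9_17, g9_18] at this
  exact this

theorem EP.a2 (h : EP x y z s c f q g t a) :
    a * a = 1 := h.eqs.1

theorem EP.ta (h : EP x y z s c f q g t a) :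
    t * a = a * t := h.eqs.2.1

theorem EP.σq (h : EP x y z s c f q g t a) :
    q * (a * t) = (a * t) * q := h.eqs.2.2.1

theorem EP.σ2 (h : EP x y z s c f q g t a) :
    (a * t) * (a * t) = 1 := h.eqs.2.2.2.1

theorem EP.σ1 (h : EP x y z s c f q g t a) :
    ¬ a * t = 1 := h.eqs.2.2.2.2.1

theorem EP.σc (h : EP x y z s c f q g t a) :
    ¬ (a * t) * c = c * (a * t) := h.eqs.2.2.2.2.2.1

theorem EP.tσ (h : EP x y z s c f q g t a) :
    t * (a * t) = (a * t) * t := h.eqs.2.2.2.2.2.2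

theorem EP.invT (h : EP x y z s c f q g t a) :
    ∀ u ∈ 𝗔, u * t = t * u → u * u = 1 → (u = 1 ∨ u = t ∨ (∃ n ∈ 𝗔, n * a = u * n) ∨ (∃ n ∈ 𝗔, n *
    (a * t) = u * n)) := by
  have := PM.holds MP_ok MP_subs h.emb (p := (.all 0 40 (.imp (.eq [17,40] [40,17]) (.imp (.eq [40,40] []) (.or (.eq [40] []) (.or (.eq [40]
      [17]) (.or (.ex 0 41 (.eq [18,41] [41,40])) (.bind 42 [17,18] (.ex 0 41 (.eq [42,41]
      [41,40])))))))))) (by decide +kernel)
  simp only [Fm.sem, wv_cons, wv_nil, one_mul, upd_apply, Nat.reduceEqDiff, ↓reduceIte, exists_eq_right',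
    g9_17, g9_18, MP_s0] at this
  exact this

theorem EP.cσ (h : EP x y z s c f q g t a) :
    ∀ k ∈ 𝗔, k * (a * t) = (a * t) * k → (k * k ∈ zpowers q ∧ (k * t = t * k → (k = 1 ∨ k = t ∨ k =
    a ∨ k = (a * t)))) := by
  have := PM.holds MP_ok MP_subs h.emb (p := (.bind 40 [17,18] (.all 0 41 (.imp (.eq [40,41] [41,40]) (.and (.ex 7 39 (.eq [41,41] [39]))
      (.imp (.eq [17,41] [41,17]) (.or (.eq [41] []) (.or (.eq [41] [17]) (.or (.eq [41] [18]) (.eq
      [41] [40])))))))))) (by decide +kernel)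
  simp only [Fm.sem, wv_cons, wv_nil, one_mul, upd_apply, Nat.reduceEqDiff, ↓reduceIte, exists_eq_right',
    g9_17, g9_18, MP_s0, MP_s7] at this
  exact this

theorem EP.dF (h : EP x y z s c f q g t a) :
    ∀ k ∈ 𝗔, k * f = f * k → ((∃ e ∈ zpowers z, k * z = e * k) ∧ (∃ e ∈ zpowers q, k * q = e * k) ∧
    k * k * k * k ∈ 𝐉) := by
  have := PM.holds MP_ok MP_subs h.emb (p := (.all 0 40 (.imp (.eq [11,40] [40,11]) (.and (.ex 5 41 (.eq [5,40] [40,41])) (.and (.ex 7 41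
      (.eq [13,40] [40,41])) (.ex 1 39 (.eq [40,40,40,40] [39]))))))) (by decide +kernel)
  simp only [Fm.sem, wv_cons, wv_nil, one_mul, upd_apply, Nat.reduceEqDiff, ↓reduceIte, exists_eq_right',
    g9_5, g9_11, g9_13, MP_s0, MP_s1, MP_s5, MP_s7] at this
  exact this

theorem EP.dQ (h : EP x y z s c f q g t a) :
    ∀ k ∈ 𝗔, k * q = q * k → ((∃ e ∈ zpowers z, k * z = e * k) ∧ (∃ e ∈ zpowers f, k * f = e * k) ∧
    k * k * k * k ∈ 𝐉) := by
  have := PM.holds MP_ok MP_subs h.emb (p := (.all 0 40 (.imp (.eq [13,40] [40,13]) (.and (.ex 5 41 (.eq [5,40] [40,41])) (.and (.ex 6 41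
      (.eq [11,40] [40,41])) (.ex 1 39 (.eq [40,40,40,40] [39]))))))) (by decide +kernel)
  simp only [Fm.sem, wv_cons, wv_nil, one_mul, upd_apply, Nat.reduceEqDiff, ↓reduceIte, exists_eq_right',
    g9_5, g9_11, g9_13, MP_s0, MP_s1, MP_s5, MP_s6] at this
  exact this

theorem EP.dT (h : EP x y z s c f q g t a) :
    ∀ k ∈ 𝗔, k * t = t * k → ((∃ e ∈ zpowers z, k * z = e * k) ∧ (∃ e ∈ zpowers f, k * f = e * k) ∧
    k * k ∈ 𝗪 ∧ (k * z = z * k → k * f = f * k → k ∈ 𝗣)) := by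
  have := PM.holds MP_ok MP_subs h.emb (p := (.all 0 40 (.imp (.eq [17,40] [40,17]) (.and (.ex 5 41 (.eq [5,40] [40,41])) (.and (.ex 6 41
      (.eq [11,40] [40,41])) (.and (.ex 3 39 (.eq [40,40] [39])) (.imp (.eq [5,40] [40,5]) (.imp (.eq
      [11,40] [40,11]) (.ex 4 39 (.eq [40] [39])))))))))) (by decide +kernel)
  simp only [Fm.sem, wv_cons, wv_nil, one_mul, upd_apply, Nat.reduceEqDiff, ↓reduceIte, exists_eq_right',
    g9_5, g9_11, g9_17, MP_s0, MP_s3, MP_s4, MP_s5, MP_s6] at this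
  exact this

theorem EP.dZ (h : EP x y z s c f q g t a) :
    ∀ k ∈ 𝗔, k * z = z * k → ((∃ e ∈ zpowers f, k * f = e * k) ∧ (∃ e ∈ zpowers q, k * q = e * k) ∧
    k * k * k * k ∈ 𝐉) := by
  have := PM.holds MP_ok MP_subs h.emb (p := (.all 0 40 (.imp (.eq [5,40] [40,5]) (.and (.ex 6 41 (.eq [11,40] [40,41])) (.and (.ex 7 41 (.eq
      [13,40] [40,41])) (.ex 1 39 (.eq [40,40,40,40] [39]))))))) (by decide +kernel)
  simp only [Fm.sem, wv_cons, wv_nil, one_mul, upd_apply, Nat.reduceEqDiff, ↓reduceIte, exists_eq_right',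
    g9_5, g9_11, g9_13, MP_s0, MP_s1, MP_s6, MP_s7] at this
  exact this

theorem EP.dG (h : EP x y z s c f q g t a) :
    ∀ k ∈ 𝗔, k * g = g * k → ((∃ e ∈ zpowers z, k * z = e * k) ∧ (∃ e ∈ zpowers q, k * q = e * k) ∧
    k * k * k * k ∈ 𝐉) := by
  have := PM.holds MP_ok MP_subs h.emb (p := (.all 0 40 (.imp (.eq [15,40] [40,15]) (.and (.ex 5 41 (.eq [5,40] [40,41])) (.and (.ex 7 41
      (.eq [13,40] [40,41])) (.ex 1 39 (.eq [40,40,40,40] [39]))))))) (by decide +kernel)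
  simp only [Fm.sem, wv_cons, wv_nil, one_mul, upd_apply, Nat.reduceEqDiff, ↓reduceIte, exists_eq_right',
    g9_5, g9_13, g9_15, MP_s0, MP_s1, MP_s5, MP_s7] at this
  exact this

/-- The group `3³:S₄`. -/
@[reducible] def ME : PM where
  w := 7
  n := 9
  cs := [4062995741946381184,
    4062995741946152711,
    4062995741946265614,
    4062995262803772288,
    4062995499578524544,
    3058160861414916992,
    3554713506658091904,
    1012748903592283669,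
    2537871231916316842,
    3058160382272079623,
    3554713264290119694,
    4062995262803543815,
    4062995499578408974,
    4062995499578296071,
    4062995262803656718,
    3554713027515254535,
    3058160619046944782,
    4062995014711037461,
    4062995503307147008,
    3562533233354721024,
    4062995741946381184,
    4062995741946381184]
  SW := [([[1],[3],[5],[7],[17],[18],[19]],
    [⟨0, [128, 387, 196, 64, 515, 324, 451, 260], [[4, 5, 3], [4, 2, 3]]⟩,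
     ⟨3, [384, 321, 448, 513, 256], [[0, 1, 1, 1, 1, 1], [0, 1, 0, 0, 1, 1]]⟩,
     ⟨6, [448, 513], [[1, 0], [0, 0, 0]]⟩,
     ⟨1, [129], [[0]]⟩,
     ⟨4, [320], []⟩]),
   ([[1],[3],[5]],
    [⟨0, [128, 64], [[1], [2]]⟩,
     ⟨3, [320, 256], [[1]]⟩,
     ⟨6, [512, 448], []⟩]),
   ([[1],[3],[5],[7]],
    [⟨0, [128, 387, 64, 515, 195, 451, 323, 259], [[1], [2]]⟩,
     ⟨3, [320, 256], [[1]]⟩,
     ⟨6, [512, 448], []⟩]),
   ([[5],[11]],
    [⟨6, [512, 448], [[1]]⟩,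
     ⟨0, [128, 64], []⟩]),
   ([[5],[11],[17]],
    [⟨6, [512, 448], [[1], [2]]⟩,
     ⟨0, [128, 193, 64, 321, 257], []⟩]),
   ([[5]],
    [⟨6, [512, 448], []⟩]),
   ([[11]],
    [⟨0, [128, 64], []⟩]),
   ([[13]],
    [⟨0, [128, 64], []⟩]),
   ([[1],[3],[5],[7],[18],[19]],
    [⟨0, [128, 387, 64, 515, 195, 451, 323, 259], [[1, 5], [2, 3, 3, 5, 3]]⟩,
     ⟨3, [320, 256], [[1], [0, 0, 0]]⟩,
     ⟨6, [448, 513], [[0, 1, 0, 1, 0], [1]]⟩,
     ⟨1, [129], [[0]]⟩,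
     ⟨4, [320], []⟩]),
   ([[1],[3],[5],[18],[19]],
    [⟨0, [128, 64], [[2, 1, 3], [2, 1, 4]]⟩,
     ⟨3, [256, 321], [[0, 1], [1, 1, 0]]⟩,
     ⟨6, [512, 449], [[0, 1, 1], [1, 0]]⟩,
     ⟨1, [129], [[0]]⟩,
     ⟨4, [320], []⟩])]

instance : NeZero ME.n := ⟨by decide⟩

theorem ME_ok : ME.ok = true := by decide +kernel

theorem ME_subs : ME.subsOK = true := by decide +kernel

theorem ME_s0 : sub (g9 x y z s c f q g t a b 1 1) (ME.W 0) = 𝗕 := by
  change gen (List.map (wv _) [[1],[3],[5],[7],[17],[18],[19]]) = _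
  simp only [List.map_cons, List.map_nil, wv_cons, wv_nil, one_mul, gen_one, g9_1, g9_2, g9_3, g9_4, g9_5,
    g9_6, g9_7, g9_8, g9_9, g9_10, g9_11, g9_12, g9_13, g9_14, g9_15, g9_16, g9_17, g9_18, g9_19,
    g9_20, g9_21]

theorem ME_s1 : sub (g9 x y z s c f q g t a b 1 1) (ME.W 1) = 𝐉 := by
  change gen (List.map (wv _) [[1],[3],[5]]) = _
  simp only [List.map_cons, List.map_nil, wv_cons, wv_nil, one_mul, gen_one, g9_1, g9_2, g9_3, g9_4, g9_5,
    g9_6, g9_7, g9_8, g9_9, g9_10, g9_11, g9_12, g9_13, g9_14, g9_15, g9_16, g9_17, g9_18, g9_19,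
    g9_20, g9_21]

theorem ME_s2 : sub (g9 x y z s c f q g t a b 1 1) (ME.W 2) = 𝐒 := by
  change gen (List.map (wv _) [[1],[3],[5],[7]]) = _
  simp only [List.map_cons, List.map_nil, wv_cons, wv_nil, one_mul, gen_one, g9_1, g9_2, g9_3, g9_4, g9_5,
    g9_6, g9_7, g9_8, g9_9, g9_10, g9_11, g9_12, g9_13, g9_14, g9_15, g9_16, g9_17, g9_18, g9_19,
    g9_20, g9_21]

theorem ME_s3 : sub (g9 x y z s c f q g t a b 1 1) (ME.W 3) = 𝗪 := by
  change gen (List.map (wv _) [[5],[11]]) = _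
  simp only [List.map_cons, List.map_nil, wv_cons, wv_nil, one_mul, gen_one, g9_1, g9_2, g9_3, g9_4, g9_5,
    g9_6, g9_7, g9_8, g9_9, g9_10, g9_11, g9_12, g9_13, g9_14, g9_15, g9_16, g9_17, g9_18, g9_19,
    g9_20, g9_21]

theorem ME_s4 : sub (g9 x y z s c f q g t a b 1 1) (ME.W 4) = 𝗣 := by
  change gen (List.map (wv _) [[5],[11],[17]]) = _
  simp only [List.map_cons, List.map_nil, wv_cons, wv_nil, one_mul, gen_one, g9_1, g9_2, g9_3, g9_4, g9_5,
    g9_6, g9_7, g9_8, g9_9, g9_10, g9_11, g9_12, g9_13, g9_14, g9_15, g9_16, g9_17, g9_18, g9_19,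
    g9_20, g9_21]

theorem ME_s5 : sub (g9 x y z s c f q g t a b 1 1) (ME.W 5) = zpowers z := by
  change gen (List.map (wv _) [[5]]) = _
  simp only [List.map_cons, List.map_nil, wv_cons, wv_nil, one_mul, gen_one, g9_1, g9_2, g9_3, g9_4, g9_5,
    g9_6, g9_7, g9_8, g9_9, g9_10, g9_11, g9_12, g9_13, g9_14, g9_15, g9_16, g9_17, g9_18, g9_19,
    g9_20, g9_21]

theorem ME_s6 : sub (g9 x y z s c f q g t a b 1 1) (ME.W 6) = zpowers f := by
  change gen (List.map (wv _) [[11]]) = _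
  simp only [List.map_cons, List.map_nil, wv_cons, wv_nil, one_mul, gen_one, g9_1, g9_2, g9_3, g9_4, g9_5,
    g9_6, g9_7, g9_8, g9_9, g9_10, g9_11, g9_12, g9_13, g9_14, g9_15, g9_16, g9_17, g9_18, g9_19,
    g9_20, g9_21]

theorem ME_s7 : sub (g9 x y z s c f q g t a b 1 1) (ME.W 7) = zpowers q := by
  change gen (List.map (wv _) [[13]]) = _
  simp only [List.map_cons, List.map_nil, wv_cons, wv_nil, one_mul, gen_one, g9_1, g9_2, g9_3, g9_4, g9_5,
    g9_6, g9_7, g9_8, g9_9, g9_10, g9_11, g9_12, g9_13, g9_14, g9_15, g9_16, g9_17, g9_18, g9_19,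
    g9_20, g9_21]

theorem ME_s8 : sub (g9 x y z s c f q g t a b 1 1) (ME.W 8) = gen [x, y, z, s, a, b] := by
  change gen (List.map (wv _) [[1],[3],[5],[7],[18],[19]]) = _
  simp only [List.map_cons, List.map_nil, wv_cons, wv_nil, one_mul, gen_one, g9_1, g9_2, g9_3, g9_4, g9_5,
    g9_6, g9_7, g9_8, g9_9, g9_10, g9_11, g9_12, g9_13, g9_14, g9_15, g9_16, g9_17, g9_18, g9_19,
    g9_20, g9_21]

theorem ME_s9 : sub (g9 x y z s c f q g t a b 1 1) (ME.W 9) = gen [x, y, z, a, b] := by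
  change gen (List.map (wv _) [[1],[3],[5],[18],[19]]) = _
  simp only [List.map_cons, List.map_nil, wv_cons, wv_nil, one_mul, gen_one, g9_1, g9_2, g9_3, g9_4, g9_5,
    g9_6, g9_7, g9_8, g9_9, g9_10, g9_11, g9_12, g9_13, g9_14, g9_15, g9_16, g9_17, g9_18, g9_19,
    g9_20, g9_21]

/-- Standard generators of `3³:S₄`. -/
structure EE (x y z s c f q g t a b : G) : Prop where
  emb : Emb ME.m (g9 x y z s c f q g t a b 1 1)

theorem EE.cardB (h : EE x y z s c f q g t a b) : Nat.card 𝗕 = 648 := by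
  have := PM.card_of_emb ME_ok ME_subs h.emb 0
  rwa [ME_s0, show certOrder (ME.K 0) = 648 by decide +kernel] at this

theorem EE.cardR (h : EE x y z s c f q g t a b) : Nat.card (gen [x, y, z, s, a, b]) = 324 := by
  have := PM.card_of_emb ME_ok ME_subs h.emb 8
  rwa [ME_s8, show certOrder (ME.K 8) = 324 by decide +kernel] at this

theorem EE.cardH (h : EE x y z s c f q g t a b) : Nat.card (gen [x, y, z, a, b]) = 108 := by
  have := PM.card_of_emb ME_ok ME_subs h.emb 9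
  rwa [ME_s9, show certOrder (ME.K 9) = 108 by decide +kernel] at this

theorem EE.eqs (h : EE x y z s c f q g t a b) :
    a * a = 1 ∧ b * b = 1 ∧ a * x * a * x⁻¹ = x ∧ a * y * a * y⁻¹ = y ∧ b * z * b * z⁻¹ = z ∧ s * a
    * s⁻¹ * a = b ∧ s⁻¹ * b * s * b = a := by
  have := PM.holds ME_ok ME_subs h.emb (p := (.and (.eq [18,18] []) (.and (.eq [19,19] []) (.and (.eq [2,18,1,18] [1]) (.and (.eq [4,18,3,18]
      [3]) (.and (.eq [6,19,5,19] [5]) (.and (.eq [18,8,18,7] [19]) (.eq [19,7,19,8] [18])))))))) (by decide +kernel)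
  simp only [Fm.sem, wv_cons, wv_nil, one_mul, upd_apply, Nat.reduceEqDiff, ↓reduceIte, exists_eq_right',
    g9_1, g9_2, g9_3, g9_4, g9_5, g9_6, g9_7, g9_8, g9_18, g9_19] at this
  exact this

theorem EE.a2 (h : EE x y z s c f q g t a b) :
    a * a = 1 := h.eqs.1

theorem EE.b2 (h : EE x y z s c f q g t a b) :
    b * b = 1 := h.eqs.2.1

theorem EE.ax (h : EE x y z s c f q g t a b) :
    a * x * a * x⁻¹ = x := h.eqs.2.2.1

theorem EE.ay (h : EE x y z s c f q g t a b) :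
    a * y * a * y⁻¹ = y := h.eqs.2.2.2.1

theorem EE.bz (h : EE x y z s c f q g t a b) :
    b * z * b * z⁻¹ = z := h.eqs.2.2.2.2.1

theorem EE.sa (h : EE x y z s c f q g t a b) :
    s * a * s⁻¹ * a = b := h.eqs.2.2.2.2.2.1

theorem EE.sb (h : EE x y z s c f q g t a b) :
    s⁻¹ * b * s * b = a := h.eqs.2.2.2.2.2.2

theorem EE.nsq (h : EE x y z s c f q g t a b) :
    ∀ k ∈ 𝗕, ¬ k * k = t ∧ ¬ k * c = c⁻¹ * k := by
  have := PM.holds ME_ok ME_subs h.emb (p := (.all 0 40 (.and (.not (.eq [40,40] [17])) (.not (.eq [9,40] [40,10]))))) (by decide +kernel)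
  simp only [Fm.sem, wv_cons, wv_nil, one_mul, upd_apply, Nat.reduceEqDiff, ↓reduceIte, exists_eq_right',
    g9_9, g9_10, g9_17, ME_s0] at this
  exact this

theorem EE.clsB (h : EE x y z s c f q g t a b) :
    ∀ u ∈ 𝗕, u * u = 1 → ((∃ k ∈ 𝗕, k * k = u) ∨ (∃ n ∈ 𝗕, n * t = u * n)) := by
  have := PM.holds ME_ok ME_subs h.emb (p := (.all 0 40 (.imp (.eq [40,40] []) (.or (.ex 0 41 (.eq [41,41] [40])) (.ex 0 42 (.eq [17,42]
      [42,40])))))) (by decide +kernel)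
  simp only [Fm.sem, wv_cons, wv_nil, one_mul, upd_apply, Nat.reduceEqDiff, ↓reduceIte, exists_eq_right',
    g9_17, ME_s0] at this
  exact this

theorem EE.sqR (h : EE x y z s c f q g t a b) :
    ∀ u ∈ gen [x, y, z, s, a, b], u * u = 1 → (∃ k ∈ 𝗕, k * k = u) := by
  have := PM.holds ME_ok ME_subs h.emb (p := (.all 8 40 (.imp (.eq [40,40] []) (.ex 0 41 (.eq [41,41] [40]))))) (by decide +kernel)
  simp only [Fm.sem, wv_cons, wv_nil, one_mul, upd_apply, Nat.reduceEqDiff, ↓reduceIte, exists_eq_right',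
    ME_s0, ME_s8] at this
  exact this

theorem EE.dF (h : EE x y z s c f q g t a b) :
    ∀ k ∈ 𝗕, k * f = f * k → ((∃ e ∈ zpowers z, k * z = e * k) ∧ (∃ e ∈ zpowers q, k * q = e * k) ∧
    k * k * k * k ∈ 𝐉) := by
  have := PM.holds ME_ok ME_subs h.emb (p := (.all 0 40 (.imp (.eq [11,40] [40,11]) (.and (.ex 5 41 (.eq [5,40] [40,41])) (.and (.ex 7 41
      (.eq [13,40] [40,41])) (.ex 1 39 (.eq [40,40,40,40] [39]))))))) (by decide +kernel)
  simp only [Fm.sem, wv_cons, wv_nil, one_mul, upd_apply, Nat.reduceEqDiff, ↓reduceIte, exists_eq_right',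
    g9_5, g9_11, g9_13, ME_s0, ME_s1, ME_s5, ME_s7] at this
  exact this

theorem EE.dQ (h : EE x y z s c f q g t a b) :
    ∀ k ∈ 𝗕, k * q = q * k → ((∃ e ∈ zpowers z, k * z = e * k) ∧ (∃ e ∈ zpowers f, k * f = e * k) ∧
    k * k * k * k ∈ 𝐉) := by
  have := PM.holds ME_ok ME_subs h.emb (p := (.all 0 40 (.imp (.eq [13,40] [40,13]) (.and (.ex 5 41 (.eq [5,40] [40,41])) (.and (.ex 6 41
      (.eq [11,40] [40,41])) (.ex 1 39 (.eq [40,40,40,40] [39]))))))) (by decide +kernel)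
  simp only [Fm.sem, wv_cons, wv_nil, one_mul, upd_apply, Nat.reduceEqDiff, ↓reduceIte, exists_eq_right',
    g9_5, g9_11, g9_13, ME_s0, ME_s1, ME_s5, ME_s6] at this
  exact this

theorem EE.dT (h : EE x y z s c f q g t a b) :
    ∀ k ∈ 𝗕, k * t = t * k → ((∃ e ∈ zpowers z, k * z = e * k) ∧ (∃ e ∈ zpowers f, k * f = e * k) ∧
    k * k ∈ 𝗪 ∧ (k * z = z * k → k * f = f * k → k ∈ 𝗣)) := by
  have := PM.holds ME_ok ME_subs h.emb (p := (.all 0 40 (.imp (.eq [17,40] [40,17]) (.and (.ex 5 41 (.eq [5,40] [40,41])) (.and (.ex 6 41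
      (.eq [11,40] [40,41])) (.and (.ex 3 39 (.eq [40,40] [39])) (.imp (.eq [5,40] [40,5]) (.imp (.eq
      [11,40] [40,11]) (.ex 4 39 (.eq [40] [39])))))))))) (by decide +kernel)
  simp only [Fm.sem, wv_cons, wv_nil, one_mul, upd_apply, Nat.reduceEqDiff, ↓reduceIte, exists_eq_right',
    g9_5, g9_11, g9_17, ME_s0, ME_s3, ME_s4, ME_s5, ME_s6] at this
  exact this

theorem EE.dZ (h : EE x y z s c f q g t a b) :
    ∀ k ∈ 𝗕, k * z = z * k → ((∃ e ∈ zpowers f, k * f = e * k) ∧ (∃ e ∈ zpowers q, k * q = e * k) ∧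
    k * k * k * k ∈ 𝐉) := by
  have := PM.holds ME_ok ME_subs h.emb (p := (.all 0 40 (.imp (.eq [5,40] [40,5]) (.and (.ex 6 41 (.eq [11,40] [40,41])) (.and (.ex 7 41 (.eq
      [13,40] [40,41])) (.ex 1 39 (.eq [40,40,40,40] [39]))))))) (by decide +kernel)
  simp only [Fm.sem, wv_cons, wv_nil, one_mul, upd_apply, Nat.reduceEqDiff, ↓reduceIte, exists_eq_right',
    g9_5, g9_11, g9_13, ME_s0, ME_s1, ME_s6, ME_s7] at this
  exact this

theorem EE.dG (h : EE x y z s c f q g t a b) :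
    ∃ n ∈ 𝗕, n * c = g * n ∨ n * c = g⁻¹ * n := by
  have := PM.holds ME_ok ME_subs h.emb (p := (.ex 0 40 (.or (.eq [9,40] [40,15]) (.eq [9,40] [40,16])))) (by decide +kernel)
  simp only [Fm.sem, wv_cons, wv_nil, one_mul, upd_apply, Nat.reduceEqDiff, ↓reduceIte, exists_eq_right',
    g9_9, g9_15, g9_16, ME_s0] at this
  exact this

set_option hygiene false in
/-- A subgroup of the configuration. -/
scoped notation "𝗨" => Cfsg.Lib.Spor.PK.gen [z, f, t, a * b, d]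

set_option hygiene false in
/-- A subgroup of the configuration. -/
scoped notation "𝗤" => Cfsg.Lib.Spor.PK.gen [x, y, z, s, b * d, a * s * t * s⁻¹ * b * d]

/-- The group `S₃ ≀ S₃`. -/
@[reducible] def MF : PM where
  w := 7
  n := 9
  cs := [4062995741946381184,
    4062995741946152711,
    4062995741946265614,
    4062995262803772288,
    4062995499578524544,
    3058160861414916992,
    3554713506658091904,
    1012748903592283669,
    2537871231916316842,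
    3058160382272079623,
    3554713264290119694,
    4062995262803543815,
    4062995499578408974,
    4062995499578296071,
    4062995262803656718,
    3554713027515254535,
    3058160619046944782,
    4062995014711037461,
    4062995741946267392,
    4062995503307260800,
    3562533233354834816,
    4062995741946381184]
  SW := [([[1],[3],[5],[7],[17],[18],[19],[20]],
    [⟨0, [128, 387, 196, 64, 515, 324, 451, 260], [[4, 3, 6], [4, 2, 3, 1], [4, 5, 3, 5]]⟩,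
     ⟨3, [384, 257, 448, 514, 320], [[0, 1, 2, 1], [0, 0], [0, 1, 1, 0, 0, 1]]⟩,
     ⟨6, [514, 448], [[0], [2, 2, 2], [1]]⟩,
     ⟨1, [128], [[1], [2]]⟩,
     ⟨4, [320], [[0, 1]]⟩,
     ⟨7, [512], []⟩]),
   ([[1],[3],[5]],
    [⟨0, [128, 64], [[2], [1]]⟩,
     ⟨3, [321, 257], [[0]]⟩,
     ⟨6, [512, 448], []⟩]),
   ([[1],[3],[5],[7]],
    [⟨0, [128, 387, 64, 515, 195, 451, 323, 259], [[1], [2]]⟩,
     ⟨3, [320, 256], [[1]]⟩,
     ⟨6, [512, 448], []⟩]),
   ([[5],[11]],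
    [⟨6, [512, 448], [[1]]⟩,
     ⟨0, [128, 64], []⟩]),
   ([[5],[11],[17]],
    [⟨6, [512, 448], [[2], [1]]⟩,
     ⟨0, [192, 129, 321, 65, 257], []⟩]),
   ([[5]],
    [⟨6, [512, 448], []⟩]),
   ([[11]],
    [⟨0, [128, 64], []⟩]),
   ([[13]],
    [⟨0, [128, 64], []⟩]),
   ([[5],[11],[17],[19,18],[20]],
    [⟨6, [512, 448], [[1, 3, 4], [3, 3, 4], [2, 4, 1]]⟩,
     ⟨0, [64, 322, 194, 256, 130], [[1], [2, 1, 2, 0]]⟩,
     ⟨1, [129], [[0]]⟩,
     ⟨7, [512], []⟩]),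
   ([[18],[19],[17],[20]],
    [⟨1, [128, 258, 322], [[3], [1]]⟩,
     ⟨4, [321], [[0]]⟩,
     ⟨7, [512], []⟩]),
   ([[1],[3],[5],[7],[20,19],[20,19,8,17,7,18]],
    [⟨0, [128, 387, 64, 515, 195, 451, 323, 261], [[0, 3, 5, 4, 3, 0, 0], [0, 3, 5, 2, 3, 0]]⟩,
     ⟨3, [384, 321, 448, 256, 512], [[0, 1, 1, 0, 0, 1], [0, 0]]⟩,
     ⟨6, [512, 448], [[1], [0, 0, 0]]⟩,
     ⟨4, [320], [[0, 1]]⟩,
     ⟨1, [128], []⟩]),
   ([[7],[17],[18],[19],[20]],
    [⟨0, [384, 193], [[1, 0], [1, 3, 0], [1, 4, 0]]⟩,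
     ⟨3, [384], [[0, 1], [2, 0], [0, 2]]⟩,
     ⟨1, [128], [[1], [2]]⟩,
     ⟨4, [321], [[0]]⟩,
     ⟨7, [512], []⟩]),
   ([[1],[3],[5],[17],[18],[19]],
    [⟨0, [128, 195, 64, 323, 259], [[1, 2, 4], [2, 1, 5]]⟩,
     ⟨3, [320, 257], [[0, 1, 0, 0], [0, 0, 0]]⟩,
     ⟨6, [512, 448], [[0, 0, 1, 0], [1]]⟩,
     ⟨1, [129], [[0]]⟩,
     ⟨4, [320], []⟩]),
   ([[1],[3]],
    [⟨0, [128, 64], [[1]]⟩,
     ⟨3, [320, 256], []⟩]),
   ([[18,17],[5]],
    [⟨0, [192], [[0, 1, 0], [0, 0]]⟩,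
     ⟨6, [512, 448], [[1]]⟩,
     ⟨1, [128], []⟩])]

instance : NeZero MF.n := ⟨by decide⟩

theorem MF_ok : MF.ok = true := by decide +kernel

theorem MF_subs : MF.subsOK = true := by decide +kernel

theorem MF_s0 : sub (g9 x y z s c f q g t a b d 1) (MF.W 0) = 𝗛 := by
  change gen (List.map (wv _) [[1],[3],[5],[7],[17],[18],[19],[20]]) = _
  simp only [List.map_cons, List.map_nil, wv_cons, wv_nil, one_mul, gen_one, g9_1, g9_2, g9_3, g9_4, g9_5,
    g9_6, g9_7, g9_8, g9_9, g9_10, g9_11, g9_12, g9_13, g9_14, g9_15, g9_16, g9_17, g9_18, g9_19,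
    g9_20, g9_21]

theorem MF_s1 : sub (g9 x y z s c f q g t a b d 1) (MF.W 1) = 𝐉 := by
  change gen (List.map (wv _) [[1],[3],[5]]) = _
  simp only [List.map_cons, List.map_nil, wv_cons, wv_nil, one_mul, gen_one, g9_1, g9_2, g9_3, g9_4, g9_5,
    g9_6, g9_7, g9_8, g9_9, g9_10, g9_11, g9_12, g9_13, g9_14, g9_15, g9_16, g9_17, g9_18, g9_19,
    g9_20, g9_21]

theorem MF_s2 : sub (g9 x y z s c f q g t a b d 1) (MF.W 2) = 𝐒 := by
  change gen (List.map (wv _) [[1],[3],[5],[7]]) = _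
  simp only [List.map_cons, List.map_nil, wv_cons, wv_nil, one_mul, gen_one, g9_1, g9_2, g9_3, g9_4, g9_5,
    g9_6, g9_7, g9_8, g9_9, g9_10, g9_11, g9_12, g9_13, g9_14, g9_15, g9_16, g9_17, g9_18, g9_19,
    g9_20, g9_21]

theorem MF_s3 : sub (g9 x y z s c f q g t a b d 1) (MF.W 3) = 𝗪 := by
  change gen (List.map (wv _) [[5],[11]]) = _
  simp only [List.map_cons, List.map_nil, wv_cons, wv_nil, one_mul, gen_one, g9_1, g9_2, g9_3, g9_4, g9_5,
    g9_6, g9_7, g9_8, g9_9, g9_10, g9_11, g9_12, g9_13, g9_14, g9_15, g9_16, g9_17, g9_18, g9_19,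
    g9_20, g9_21]

theorem MF_s4 : sub (g9 x y z s c f q g t a b d 1) (MF.W 4) = 𝗣 := by
  change gen (List.map (wv _) [[5],[11],[17]]) = _
  simp only [List.map_cons, List.map_nil, wv_cons, wv_nil, one_mul, gen_one, g9_1, g9_2, g9_3, g9_4, g9_5,
    g9_6, g9_7, g9_8, g9_9, g9_10, g9_11, g9_12, g9_13, g9_14, g9_15, g9_16, g9_17, g9_18, g9_19,
    g9_20, g9_21]

theorem MF_s5 : sub (g9 x y z s c f q g t a b d 1) (MF.W 5) = zpowers z := by
  change gen (List.map (wv _) [[5]]) = _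
  simp only [List.map_cons, List.map_nil, wv_cons, wv_nil, one_mul, gen_one, g9_1, g9_2, g9_3, g9_4, g9_5,
    g9_6, g9_7, g9_8, g9_9, g9_10, g9_11, g9_12, g9_13, g9_14, g9_15, g9_16, g9_17, g9_18, g9_19,
    g9_20, g9_21]

theorem MF_s6 : sub (g9 x y z s c f q g t a b d 1) (MF.W 6) = zpowers f := by
  change gen (List.map (wv _) [[11]]) = _
  simp only [List.map_cons, List.map_nil, wv_cons, wv_nil, one_mul, gen_one, g9_1, g9_2, g9_3, g9_4, g9_5,
    g9_6, g9_7, g9_8, g9_9, g9_10, g9_11, g9_12, g9_13, g9_14, g9_15, g9_16, g9_17, g9_18, g9_19,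
    g9_20, g9_21]

theorem MF_s7 : sub (g9 x y z s c f q g t a b d 1) (MF.W 7) = zpowers q := by
  change gen (List.map (wv _) [[13]]) = _
  simp only [List.map_cons, List.map_nil, wv_cons, wv_nil, one_mul, gen_one, g9_1, g9_2, g9_3, g9_4, g9_5,
    g9_6, g9_7, g9_8, g9_9, g9_10, g9_11, g9_12, g9_13, g9_14, g9_15, g9_16, g9_17, g9_18, g9_19,
    g9_20, g9_21]

theorem MF_s8 : sub (g9 x y z s c f q g t a b d 1) (MF.W 8) = 𝗨 := by
  change gen (List.map (wv _) [[5],[11],[17],[19,18],[20]]) = _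
  simp only [List.map_cons, List.map_nil, wv_cons, wv_nil, one_mul, gen_one, g9_1, g9_2, g9_3, g9_4, g9_5,
    g9_6, g9_7, g9_8, g9_9, g9_10, g9_11, g9_12, g9_13, g9_14, g9_15, g9_16, g9_17, g9_18, g9_19,
    g9_20, g9_21]

theorem MF_s9 : sub (g9 x y z s c f q g t a b d 1) (MF.W 9) = gen [a, b, t, d] := by
  change gen (List.map (wv _) [[18],[19],[17],[20]]) = _
  simp only [List.map_cons, List.map_nil, wv_cons, wv_nil, one_mul, gen_one, g9_1, g9_2, g9_3, g9_4, g9_5,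
    g9_6, g9_7, g9_8, g9_9, g9_10, g9_11, g9_12, g9_13, g9_14, g9_15, g9_16, g9_17, g9_18, g9_19,
    g9_20, g9_21]

theorem MF_s10 : sub (g9 x y z s c f q g t a b d 1) (MF.W 10) = 𝗤 := by
  change gen (List.map (wv _) [[1],[3],[5],[7],[20,19],[20,19,8,17,7,18]]) = _
  simp only [List.map_cons, List.map_nil, wv_cons, wv_nil, one_mul, gen_one, g9_1, g9_2, g9_3, g9_4, g9_5,
    g9_6, g9_7, g9_8, g9_9, g9_10, g9_11, g9_12, g9_13, g9_14, g9_15, g9_16, g9_17, g9_18, g9_19,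
    g9_20, g9_21]

theorem MF_s11 : sub (g9 x y z s c f q g t a b d 1) (MF.W 11) = gen [s, t, a, b, d] := by
  change gen (List.map (wv _) [[7],[17],[18],[19],[20]]) = _
  simp only [List.map_cons, List.map_nil, wv_cons, wv_nil, one_mul, gen_one, g9_1, g9_2, g9_3, g9_4, g9_5,
    g9_6, g9_7, g9_8, g9_9, g9_10, g9_11, g9_12, g9_13, g9_14, g9_15, g9_16, g9_17, g9_18, g9_19,
    g9_20, g9_21]

theorem MF_s12 : sub (g9 x y z s c f q g t a b d 1) (MF.W 12) = gen [x, y, z, t, a, b] := by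
  change gen (List.map (wv _) [[1],[3],[5],[17],[18],[19]]) = _
  simp only [List.map_cons, List.map_nil, wv_cons, wv_nil, one_mul, gen_one, g9_1, g9_2, g9_3, g9_4, g9_5,
    g9_6, g9_7, g9_8, g9_9, g9_10, g9_11, g9_12, g9_13, g9_14, g9_15, g9_16, g9_17, g9_18, g9_19,
    g9_20, g9_21]

theorem MF_s13 : sub (g9 x y z s c f q g t a b d 1) (MF.W 13) = gen [x, y] := by
  change gen (List.map (wv _) [[1],[3]]) = _
  simp only [List.map_cons, List.map_nil, wv_cons, wv_nil, one_mul, gen_one, g9_1, g9_2, g9_3, g9_4, g9_5,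
    g9_6, g9_7, g9_8, g9_9, g9_10, g9_11, g9_12, g9_13, g9_14, g9_15, g9_16, g9_17, g9_18, g9_19,
    g9_20, g9_21]

theorem MF_s14 : sub (g9 x y z s c f q g t a b d 1) (MF.W 14) = gen [t * a, z] := by
  change gen (List.map (wv _) [[18,17],[5]]) = _
  simp only [List.map_cons, List.map_nil, wv_cons, wv_nil, one_mul, gen_one, g9_1, g9_2, g9_3, g9_4, g9_5,
    g9_6, g9_7, g9_8, g9_9, g9_10, g9_11, g9_12, g9_13, g9_14, g9_15, g9_16, g9_17, g9_18, g9_19,
    g9_20, g9_21]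

/-- Standard generators of `S₃ ≀ S₃`. -/
structure EF (x y z s c f q g t a b d : G) : Prop where
  emb : Emb MF.m (g9 x y z s c f q g t a b d 1)

theorem EF.cardH (h : EF x y z s c f q g t a b d) : Nat.card 𝗛 = 1296 := by
  have := PM.card_of_emb MF_ok MF_subs h.emb 0
  rwa [MF_s0, show certOrder (MF.K 0) = 1296 by decide +kernel] at this

theorem EF.cardU (h : EF x y z s c f q g t a b d) : Nat.card 𝗨 = 72 := by
  have := PM.card_of_emb MF_ok MF_subs h.emb 8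
  rwa [MF_s8, show certOrder (MF.K 8) = 72 by decide +kernel] at this

theorem EF.cardT (h : EF x y z s c f q g t a b d) : Nat.card (gen [a, b, t, d]) = 16 := by
  have := PM.card_of_emb MF_ok MF_subs h.emb 9
  rwa [MF_s9, show certOrder (MF.K 9) = 16 by decide +kernel] at this

theorem EF.cardR (h : EF x y z s c f q g t a b d) : Nat.card 𝗤 = 648 := by
  have := PM.card_of_emb MF_ok MF_subs h.emb 10
  rwa [MF_s10, show certOrder (MF.K 10) = 648 by decide +kernel] at this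

theorem EF.cardB (h : EF x y z s c f q g t a b d) : Nat.card (gen [x, y, z, t, a, b]) = 216 := by
  have := PM.card_of_emb MF_ok MF_subs h.emb 12
  rwa [MF_s12, show certOrder (MF.K 12) = 216 by decide +kernel] at this

theorem EF.cardD (h : EF x y z s c f q g t a b d) : Nat.card (gen [x, y]) = 9 := by
  have := PM.card_of_emb MF_ok MF_subs h.emb 13
  rwa [MF_s13, show certOrder (MF.K 13) = 9 by decide +kernel] at this

theorem EF.eqs (h : EF x y z s c f q g t a b d) :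
    a * a = 1 ∧ b * b = 1 ∧ d * d = 1 ∧ a * b = b * a ∧ a * d = d * a ∧ b * d = d * b ∧ t * a = b *
    t ∧ t * b = a * t ∧ t * d = d * t ∧ s * a = b * s ∧ s * b = d * s ∧ s * d = a * s ∧ a * z = z *
    a ∧ b * z = z * b ∧ d * z = z⁻¹ * d ∧ d * x = x * d ∧ d * y = y * d ∧ a * x = x⁻¹ * a ∧ a * y =
    y * a ∧ b * x = x * b ∧ b * y = y⁻¹ * b ∧ t * a * t * a * t * a * t * a = 1 ∧ t * a * t * a = a
    * b ∧ (a * b) * f = f⁻¹ * (a * b) ∧ z * (a * b) = (a * b) * z ∧ (a * b) * t = t * (a * b) ∧ f *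
    (t * d) = (t * d) * f ∧ s * (a * d) = (a * b) * s ∧ ¬ a * b ∈ zpowers z ∧ ¬ a ∈ gen [t * a, z] ∧
    ¬ d = 1 ∧ ¬ d ∈ 𝐉 := by
  have := PM.holds MF_ok MF_subs h.emb (p := (.and (.eq [18,18] []) (.and (.eq [19,19] []) (.and (.eq [20,20] []) (.and (.eq [19,18] [18,19])
      (.and (.eq [20,18] [18,20]) (.and (.eq [20,19] [19,20]) (.and (.eq [18,17] [17,19]) (.and (.eq
      [19,17] [17,18]) (.and (.eq [20,17] [17,20]) (.and (.eq [18,7] [7,19]) (.and (.eq [19,7] [7,20])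
      (.and (.eq [20,7] [7,18]) (.and (.eq [5,18] [18,5]) (.and (.eq [5,19] [19,5]) (.and (.eq [5,20]
      [20,6]) (.and (.eq [1,20] [20,1]) (.and (.eq [3,20] [20,3]) (.and (.eq [1,18] [18,2]) (.and (.eq
      [3,18] [18,3]) (.and (.eq [1,19] [19,1]) (.and (.eq [3,19] [19,4]) (.and (.eq
      [18,17,18,17,18,17,18,17] []) (.and (.eq [18,17,18,17] [19,18]) (.and (.bind 40 [19,18] (.bind
      41 [20,17] (.eq [11,40] [40,12]))) (.and (.bind 40 [19,18] (.bind 41 [20,17] (.eq [40,5]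
      [5,40]))) (.and (.bind 40 [19,18] (.bind 41 [20,17] (.eq [17,40] [40,17]))) (.and (.bind 40
      [19,18] (.bind 41 [20,17] (.eq [41,11] [11,41]))) (.and (.bind 40 [19,18] (.bind 41 [20,17]
      (.bind 42 [20,18] (.eq [42,7] [7,40])))) (.and (.not (.ex 5 39 (.eq [19,18] [39]))) (.and (.not
      (.ex 14 39 (.eq [18] [39]))) (.and (.not (.eq [20] [])) (.not (.ex 1 39 (.eq [20]
      [39]))))))))))))))))))))))))))))))))))) (by decide +kernel)
  simp only [Fm.sem, wv_cons, wv_nil, one_mul, upd_apply, Nat.reduceEqDiff, ↓reduceIte, exists_eq_right',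
    g9_1, g9_2, g9_3, g9_4, g9_5, g9_6, g9_7, g9_11, g9_12, g9_17, g9_18, g9_19, g9_20, MF_s1,
    MF_s5, MF_s14] at this
  exact this

theorem EF.a2 (h : EF x y z s c f q g t a b d) :
    a * a = 1 := h.eqs.1

theorem EF.b2 (h : EF x y z s c f q g t a b d) :
    b * b = 1 := h.eqs.2.1

theorem EF.d2 (h : EF x y z s c f q g t a b d) :
    d * d = 1 := h.eqs.2.2.1

theorem EF.ab (h : EF x y z s c f q g t a b d) :
    a * b = b * a := h.eqs.2.2.2.1

theorem EF.ad (h : EF x y z s c f q g t a b d) :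
    a * d = d * a := h.eqs.2.2.2.2.1

theorem EF.bd (h : EF x y z s c f q g t a b d) :
    b * d = d * b := h.eqs.2.2.2.2.2.1

theorem EF.ta (h : EF x y z s c f q g t a b d) :
    t * a = b * t := h.eqs.2.2.2.2.2.2.1

theorem EF.tb (h : EF x y z s c f q g t a b d) :
    t * b = a * t := h.eqs.2.2.2.2.2.2.2.1

theorem EF.td (h : EF x y z s c f q g t a b d) :
    t * d = d * t := h.eqs.2.2.2.2.2.2.2.2.1

theorem EF.sa (h : EF x y z s c f q g t a b d) :
    s * a = b * s := h.eqs.2.2.2.2.2.2.2.2.2.1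

theorem EF.sb (h : EF x y z s c f q g t a b d) :
    s * b = d * s := h.eqs.2.2.2.2.2.2.2.2.2.2.1

theorem EF.sd (h : EF x y z s c f q g t a b d) :
    s * d = a * s := h.eqs.2.2.2.2.2.2.2.2.2.2.2.1

theorem EF.az (h : EF x y z s c f q g t a b d) :
    a * z = z * a := h.eqs.2.2.2.2.2.2.2.2.2.2.2.2.1

theorem EF.bz (h : EF x y z s c f q g t a b d) :
    b * z = z * b := h.eqs.2.2.2.2.2.2.2.2.2.2.2.2.2.1

theorem EF.dz (h : EF x y z s c f q g t a b d) :
    d * z = z⁻¹ * d := h.eqs.2.2.2.2.2.2.2.2.2.2.2.2.2.2.1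

theorem EF.dx (h : EF x y z s c f q g t a b d) :
    d * x = x * d := h.eqs.2.2.2.2.2.2.2.2.2.2.2.2.2.2.2.1

theorem EF.dy (h : EF x y z s c f q g t a b d) :
    d * y = y * d := h.eqs.2.2.2.2.2.2.2.2.2.2.2.2.2.2.2.2.1

theorem EF.ax (h : EF x y z s c f q g t a b d) :
    a * x = x⁻¹ * a := h.eqs.2.2.2.2.2.2.2.2.2.2.2.2.2.2.2.2.2.1

theorem EF.ay (h : EF x y z s c f q g t a b d) :
    a * y = y * a := h.eqs.2.2.2.2.2.2.2.2.2.2.2.2.2.2.2.2.2.2.1

theorem EF.bx (h : EF x y z s c f q g t a b d) :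
    b * x = x * b := h.eqs.2.2.2.2.2.2.2.2.2.2.2.2.2.2.2.2.2.2.2.1

theorem EF.by (h : EF x y z s c f q g t a b d) :
    b * y = y⁻¹ * b := h.eqs.2.2.2.2.2.2.2.2.2.2.2.2.2.2.2.2.2.2.2.2.1

theorem EF.ta4 (h : EF x y z s c f q g t a b d) :
    t * a * t * a * t * a * t * a = 1 := h.eqs.2.2.2.2.2.2.2.2.2.2.2.2.2.2.2.2.2.2.2.2.2.1

theorem EF.tata (h : EF x y z s c f q g t a b d) :
    t * a * t * a = a * b := h.eqs.2.2.2.2.2.2.2.2.2.2.2.2.2.2.2.2.2.2.2.2.2.2.1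

theorem EF.abf (h : EF x y z s c f q g t a b d) :
    (a * b) * f = f⁻¹ * (a * b) := h.eqs.2.2.2.2.2.2.2.2.2.2.2.2.2.2.2.2.2.2.2.2.2.2.2.1

theorem EF.abz (h : EF x y z s c f q g t a b d) :
    z * (a * b) = (a * b) * z := h.eqs.2.2.2.2.2.2.2.2.2.2.2.2.2.2.2.2.2.2.2.2.2.2.2.2.1

theorem EF.abt (h : EF x y z s c f q g t a b d) :
    (a * b) * t = t * (a * b) := h.eqs.2.2.2.2.2.2.2.2.2.2.2.2.2.2.2.2.2.2.2.2.2.2.2.2.2.1

theorem EF.tdf (h : EF x y z s c f q g t a b d) :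
    f * (t * d) = (t * d) * f := h.eqs.2.2.2.2.2.2.2.2.2.2.2.2.2.2.2.2.2.2.2.2.2.2.2.2.2.2.1

theorem EF.sad (h : EF x y z s c f q g t a b d) :
    s * (a * d) = (a * b) * s := h.eqs.2.2.2.2.2.2.2.2.2.2.2.2.2.2.2.2.2.2.2.2.2.2.2.2.2.2.2.1

theorem EF.abZ (h : EF x y z s c f q g t a b d) :
    ¬ a * b ∈ zpowers z := h.eqs.2.2.2.2.2.2.2.2.2.2.2.2.2.2.2.2.2.2.2.2.2.2.2.2.2.2.2.2.1

theorem EF.aI (h : EF x y z s c f q g t a b d) :
    ¬ a ∈ gen [t * a, z] := h.eqs.2.2.2.2.2.2.2.2.2.2.2.2.2.2.2.2.2.2.2.2.2.2.2.2.2.2.2.2.2.1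

theorem EF.d1 (h : EF x y z s c f q g t a b d) :
    ¬ d = 1 := h.eqs.2.2.2.2.2.2.2.2.2.2.2.2.2.2.2.2.2.2.2.2.2.2.2.2.2.2.2.2.2.2.1

theorem EF.dJ (h : EF x y z s c f q g t a b d) :
    ¬ d ∈ 𝐉 := h.eqs.2.2.2.2.2.2.2.2.2.2.2.2.2.2.2.2.2.2.2.2.2.2.2.2.2.2.2.2.2.2.2

theorem EF.memK (h : EF x y z s c f q g t a b d) :
    ∀ k ∈ gen [s, t, a, b, d], (k ∈ 𝐉 → k = 1) ∧ (k * x = x * k → k * y = y * k → k * z = z * k → k
    = 1) := by
  have := PM.holds MF_ok MF_subs h.emb (p := (.all 11 40 (.and (.imp (.ex 1 39 (.eq [40] [39])) (.eq [40] [])) (.imp (.eq [1,40] [40,1])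
      (.imp (.eq [3,40] [40,3]) (.imp (.eq [5,40] [40,5]) (.eq [40] []))))))) (by decide +kernel)
  simp only [Fm.sem, wv_cons, wv_nil, one_mul, upd_apply, Nat.reduceEqDiff, ↓reduceIte, exists_eq_right',
    g9_1, g9_3, g9_5, MF_s1, MF_s11] at this
  exact this

theorem EF.memT (h : EF x y z s c f q g t a b d) :
    ∀ k ∈ gen [a, b, t, d], k * d = d * k ∧ k * (a * b) = (a * b) * k := by
  have := PM.holds MF_ok MF_subs h.emb (p := (.bind 40 [19,18] (.bind 41 [20,17] (.all 9 42 (.and (.eq [20,42] [42,20]) (.eq [40,42]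
      [42,40])))))) (by decide +kernel)
  simp only [Fm.sem, wv_cons, wv_nil, one_mul, upd_apply, Nat.reduceEqDiff, ↓reduceIte, exists_eq_right',
    g9_17, g9_18, g9_19, g9_20, MF_s9] at this
  exact this

theorem EF.cT (h : EF x y z s c f q g t a b d) :
    ∀ k ∈ 𝗛, k * t = t * k → k ∈ 𝗨 := by
  have := PM.holds MF_ok MF_subs h.emb (p := (.all 0 40 (.imp (.eq [17,40] [40,17]) (.ex 8 39 (.eq [40] [39]))))) (by decide +kernel)
  simp only [Fm.sem, wv_cons, wv_nil, one_mul, upd_apply, Nat.reduceEqDiff, ↓reduceIte, exists_eq_right',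
    g9_17, MF_s0, MF_s8] at this
  exact this

theorem EF.clsH (h : EF x y z s c f q g t a b d) :
    ∀ u ∈ 𝗛, u * u = 1 → (u = 1 ∨ (∃ n ∈ 𝗛, n * t = u * n ∨ n * (t * d) = u * n ∨ n * d = u * n ∨ n
    * (a * b) = u * n ∨ n * (a * b * d) = u * n)) := by
  have := PM.holds MF_ok MF_subs h.emb (p := (.bind 40 [19,18] (.bind 41 [20,17] (.bind 42 [20,19,18] (.all 0 43 (.imp (.eq [43,43] []) (.or
      (.eq [43] []) (.ex 0 44 (.or (.eq [17,44] [44,43]) (.or (.eq [41,44] [44,43]) (.or (.eq [20,44]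
      [44,43]) (.or (.eq [40,44] [44,43]) (.eq [42,44] [44,43]))))))))))))) (by decide +kernel)
  simp only [Fm.sem, wv_cons, wv_nil, one_mul, upd_apply, Nat.reduceEqDiff, ↓reduceIte, exists_eq_right',
    g9_17, g9_18, g9_19, g9_20, MF_s0] at this
  exact this

theorem EF.clsR (h : EF x y z s c f q g t a b d) :
    ∀ u ∈ 𝗤, u * u = 1 → (u = 1 ∨ (∃ n ∈ 𝗛, n * (t * d) = u * n ∨ n * (a * b) = u * n)) := by
  have := PM.holds MF_ok MF_subs h.emb (p := (.bind 40 [19,18] (.bind 41 [20,17] (.all 10 42 (.imp (.eq [42,42] []) (.or (.eq [42] []) (.ex 0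
      43 (.or (.eq [41,43] [43,42]) (.eq [40,43] [43,42]))))))))) (by decide +kernel)
  simp only [Fm.sem, wv_cons, wv_nil, one_mul, upd_apply, Nat.reduceEqDiff, ↓reduceIte, exists_eq_right',
    g9_17, g9_18, g9_19, g9_20, MF_s0, MF_s10] at this
  exact this

theorem EF.cZ (h : EF x y z s c f q g t a b d) :
    ∀ k ∈ 𝗛, k * z = z * k → (k ∈ gen [x, y, z, t, a, b] ∧ k * k * k * k ∈ 𝐉 ∧ (k * (a * b) = (a *
    b) * k → k * k * k * k ∈ zpowers z) ∧ ((∃ e ∈ zpowers z, k * x = e * x * k) → (∃ e ∈ zpowers z,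
    k * y = e * y * k) → k ∈ 𝐉)) := by
  have := PM.holds MF_ok MF_subs h.emb (p := (.bind 40 [19,18] (.bind 41 [20,17] (.all 0 42 (.imp (.eq [5,42] [42,5]) (.and (.ex 12 39 (.eq
      [42] [39])) (.and (.ex 1 39 (.eq [42,42,42,42] [39])) (.and (.imp (.eq [40,42] [42,40]) (.ex 5
      39 (.eq [42,42,42,42] [39]))) (.imp (.ex 5 43 (.eq [1,42] [42,1,43])) (.imp (.ex 5 43 (.eq
      [3,42] [42,3,43])) (.ex 1 39 (.eq [42] [39])))))))))))) (by decide +kernel)
  simp only [Fm.sem, wv_cons, wv_nil, one_mul, upd_apply, Nat.reduceEqDiff, ↓reduceIte, exists_eq_right',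
    g9_1, g9_3, g9_5, g9_17, g9_18, g9_19, g9_20, MF_s0, MF_s1, MF_s5, MF_s12] at this
  exact this

theorem EF.cF (h : EF x y z s c f q g t a b d) :
    ∀ k ∈ 𝗛, k * f = f * k → k * (t * d) = (t * d) * k → k * k ∈ zpowers f := by
  have := PM.holds MF_ok MF_subs h.emb (p := (.bind 40 [19,18] (.bind 41 [20,17] (.all 0 42 (.imp (.eq [11,42] [42,11]) (.imp (.eq [41,42]
      [42,41]) (.ex 6 39 (.eq [42,42] [39])))))))) (by decide +kernel)
  simp only [Fm.sem, wv_cons, wv_nil, one_mul, upd_apply, Nat.reduceEqDiff, ↓reduceIte, exists_eq_right',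
    g9_11, g9_17, g9_18, g9_19, g9_20, MF_s0, MF_s6] at this
  exact this

theorem EF.dF (h : EF x y z s c f q g t a b d) :
    ∀ k ∈ 𝗛, k * f = f * k → ((∃ e ∈ zpowers z, k * z = e * k) ∧ (∃ e ∈ zpowers q, k * q = e * k) ∧
    k * k * k * k ∈ 𝐉) := by
  have := PM.holds MF_ok MF_subs h.emb (p := (.all 0 40 (.imp (.eq [11,40] [40,11]) (.and (.ex 5 41 (.eq [5,40] [40,41])) (.and (.ex 7 41
      (.eq [13,40] [40,41])) (.ex 1 39 (.eq [40,40,40,40] [39]))))))) (by decide +kernel)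
  simp only [Fm.sem, wv_cons, wv_nil, one_mul, upd_apply, Nat.reduceEqDiff, ↓reduceIte, exists_eq_right',
    g9_5, g9_11, g9_13, MF_s0, MF_s1, MF_s5, MF_s7] at this
  exact this

theorem EF.dQ (h : EF x y z s c f q g t a b d) :
    ∀ k ∈ 𝗛, k * q = q * k → ((∃ e ∈ zpowers z, k * z = e * k) ∧ (∃ e ∈ zpowers f, k * f = e * k) ∧
    k * k * k * k ∈ 𝐉) := by
  have := PM.holds MF_ok MF_subs h.emb (p := (.all 0 40 (.imp (.eq [13,40] [40,13]) (.and (.ex 5 41 (.eq [5,40] [40,41])) (.and (.ex 6 41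
      (.eq [11,40] [40,41])) (.ex 1 39 (.eq [40,40,40,40] [39]))))))) (by decide +kernel)
  simp only [Fm.sem, wv_cons, wv_nil, one_mul, upd_apply, Nat.reduceEqDiff, ↓reduceIte, exists_eq_right',
    g9_5, g9_11, g9_13, MF_s0, MF_s1, MF_s5, MF_s6] at this
  exact this

theorem EF.dT (h : EF x y z s c f q g t a b d) :
    ∀ k ∈ 𝗛, k * t = t * k → ((∃ e ∈ zpowers z, k * z = e * k) ∧ (∃ e ∈ zpowers f, k * f = e * k) ∧
    k * k ∈ 𝗪 ∧ (k * z = z * k → k * f = f * k → k ∈ 𝗣)) := by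
  have := PM.holds MF_ok MF_subs h.emb (p := (.all 0 40 (.imp (.eq [17,40] [40,17]) (.and (.ex 5 41 (.eq [5,40] [40,41])) (.and (.ex 6 41
      (.eq [11,40] [40,41])) (.and (.ex 3 39 (.eq [40,40] [39])) (.imp (.eq [5,40] [40,5]) (.imp (.eq
      [11,40] [40,11]) (.ex 4 39 (.eq [40] [39])))))))))) (by decide +kernel)
  simp only [Fm.sem, wv_cons, wv_nil, one_mul, upd_apply, Nat.reduceEqDiff, ↓reduceIte, exists_eq_right',
    g9_5, g9_11, g9_17, MF_s0, MF_s3, MF_s4, MF_s5, MF_s6] at this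
  exact this

theorem EF.dG (h : EF x y z s c f q g t a b d) :
    ∃ n ∈ 𝗛, n * c = g * n ∨ n * c = g⁻¹ * n := by
  have := PM.holds MF_ok MF_subs h.emb (p := (.ex 0 40 (.or (.eq [9,40] [40,15]) (.eq [9,40] [40,16])))) (by decide +kernel)
  simp only [Fm.sem, wv_cons, wv_nil, one_mul, upd_apply, Nat.reduceEqDiff, ↓reduceIte, exists_eq_right',
    g9_9, g9_15, g9_16, MF_s0] at this
  exact this

end Cfsg.Lib.S9L
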