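import Cfsg.Agent.Block.S9Mat

/-!
# The group `3 ≀ S₃`: permutation model and finite facts
-/

set_option autoImplicit false
set_option maxRecDepth 100000
set_option linter.unusedSimpArgs false
set_option linter.unusedVariables false
set_option maxHeartbeats 1000000

namespace Cfsg.Lib.S9L

open Subgroup Cfsg.Lib.Spor Cfsg.Lib.Spor.Bulk Cfsg.Lib.Spor.PK Cfsg.Lib.Spor.WF Cfsg.Lib.L3
open Cfsg.Lib.A9L

/-- Inverse letters. -/
def i9 (l : ℕ) : ℕ := [0,2,1,4,3,6,5,8,7,10,9,12,11,14,13,16,15,17,18,19,20,21].getD l l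
/-- Relators of `(S₃ ≀ 2) × S₃`. -/
def r9 : List (List ℕ) := [[1,1,1], [3,3,3], [5,5,5], [4,2,3,1], [6,2,5,1], [6,4,5,3], [2,4,6,9], [2,4,11], [2,3,13],
    [2,4,5,15], [4,17,1,17], [6,17,5,17], [1,18,1,18], [4,18,3,18], [6,18,5,18], [2,19,1,19],
    [3,19,3,19], [6,19,5,19], [2,20,1,20], [4,20,3,20], [5,20,5,20], [19,18,19,18], [20,18,20,18],
    [20,19,20,19], [19,17,18,17], [20,17,20,17]]
/-- Relators with the letter `w`. -/
def k9 : List (List ℕ) := [[6,21,5,21], [20,21,20,21], [18,21,18,21], [19,21,19,21], [17,21,17,21],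
    [2,18,1,21,2,18,1,21,2,18,1,21], [11,21,12,12,21,11,21,17]]
/-- Relators of `S₆ × S₃`. -/
def n9 : List (List ℕ) := r9 ++ k9

noncomputable def uJ_C : SeqCert := ⟨nat_lit 5, nat_lit 9, nat_lit 22, nat_lit 0x151514141313121211110f10100f0d0e0e0d0b0c0c0b090a0a09070808070506060503040403010202010000, (NT.leaf (nat_lit 0) (nat_lit 0x3768131a019680ada06ce812f9036e40ab9018e411d8018600a9806be011b7029dc05f7035581296029581ab6049d40d35028d41154028501a74044cc09f3033481212068c811f1032c410d0067c010af01338094e066b8092d012b4048c02430116c023ac046b02328192a022a40888043a00867062981064020881b4c05cb01b0b05bac1ac805aa01a870599c1a44058901a030578c19c20568811820358819410548411010338418c0052801080031800840010800000)), (NT.node (nat_lit 7) (NT.node (nat_lit 3) (NT.node (nat_lit 1) (NT.leaf (nat_lit 1) (nat_lit 0x20202)) (NT.node (nat_lit 2) (NT.leaf (nat_lit 5) (nat_lit 0x40404)) (NT.leaf (nat_lit 9) (nat_lit 0x60606)))) (NT.node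 (nat_lit 5) (NT.node (nat_lit 4) (NT.leaf (nat_lit 13) (nat_lit 0x2040103)) (NT.leaf (nat_lit 16396) (nat_lit 0x2030104))) (NT.node (nat_lit 6) (NT.leaf (nat_lit 17) (nat_lit 0x2060105)) (NT.leaf (nat_lit 16400) (nat_lit 0x2050106))))) (NT.node (nat_lit 11) (NT.node (nat_lit 9) (NT.node (nat_lit 8) (NT.leaf (nat_lit 49164) (nat_lit 0x1040203)) (NT.leaf (nat_lit 32781) (nat_lit 0x1030204))) (NT.node (nat_lit 10) (NT.leaf (nat_lit 49168) (nat_lit 0x1060205)) (NT.leaf (nat_lit 32785) (nat_lit 0x1050206)))) (NT.node (nat_lit 13) (NT.node (nat_lit 12) (NT.leaf (nat_lit 21) (nat_lit 0x4060305)) (NT.leaf (nat_lit 16404) (nat_lit 0x4050306))) (NT.node (nat_lit 14) (NT.leaf (nat_lit 49172) (nat_lit 0x3060405)) (NT.leaf (nat_lit 32789) (nat_lit 0x3050406))))))⟩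
noncomputable def uJ_U : List (List ℕ) := []
noncomputable def uJ_HL : List ℕ := []
theorem uJ_head : uJ_C.head 22 i9 n9 uJ_U uJ_HL 27 5 0 = true := by decide +kernel
noncomputable def uJ_s0 : List ℕ := [nat_lit 0xd0301d01838684d1880c183428894060a1a13c5a03030d06602010c89a2f0182c64180d80c1a32278ac0605191444603048c02c1d0183060491080c1430258a40606180bc0402170583603058b89627018145c490f80c122c08054060e160fc5203060b0822501818582b01008543f1380c162a0804c060d151044603028a01c1501830503d1080c0c281380804260704c060b130f43e0302890100d0183848391080c18241180804221c87c060b110201603068800c0d01830401f010083c060580c161c02034060a0e0dc2a03030703602010686e130181434040580c12180202406080c0dc2203020602e02008586e0f0180c2c040380c0e140103406060a04c040209008160302840040901810200f010041c020380c060c058080408038080204018080037]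
theorem uJ_ok0 : uJ_C.StepsOK 27 82 := (SeqCert.StepsOK.refl _ 27).step (L := uJ_s0) (by decide +kernel)
theorem uJ_ok : uJ_C.StepsOK (27 + 0) 82 := uJ_ok0
noncomputable def uJ_r0 : List ℕ := [nat_lit 0xc3028a082018604100820, nat_lit 0x1450492104038e0300dc41, nat_lit 0x1c7069a186059636081402, nat_lit 0x208079e0700e484958f4e3, nat_lit 0x24908a2381824051610504, nat_lit 0xb00ecc638975e53690d25, nat_lit 0x3a283406b918605b711d46, nat_lit 0x28a09a60f08fd03c192d67, nat_lit 0x2cb0aaa3e3844240213d88, nat_lit 0x130915479a9be6422955a9, nat_lit 0x444854283b1d68463165ca, nat_lit 0x30c0bae17113584a39206b, nat_lit 0x34d0cb24c586444e41408c, nat_lit 0x1b115dc97ca26e544948ad, nat_lit 0x5668744a3d2470585168ce, nat_lit 0x1f197e05c2996285b9b66f, nat_lit 0x5e788466031a648fc1ce90, nat_lit 0x23219e4647988a93c9deb1, nat_lit 0x66889486881a8c9fd1fed2, nat_lit 0x2739c686e49eea6c7a1ef3, nat_lit 0x7098a4e745206c72823714, nat_lit 0x2b41f6c7a99e12768a5735,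 nat_lit 0x7ca8b5080a20947e927756, nat_lit 0x2f5a2f0886a672869a11f7, nat_lit 0x8ab8c5690728748ca23a18, nat_lit 0x33626f498ba59a94aa4a39, nat_lit 0x9ac8d58a0c289c9cb27a5a]
theorem uJ_final : uJ_C.final 22 82 (nat_lit 0x7ffffff) 27 [1,2,3,4,5,6] (uJ_r0) = true := by decide +kernel
theorem uJ {G : Type*} [Group G] {g : ℕ → G} {H : Subgroup G} (hg : Sat g 22 i9 n9)
    (hU : ∀ u ∈ uJ_U, wv g u ∈ H) (hL : ∀ l ∈ uJ_HL, g l ∈ H) :
    IdxLe H (Subgroup.closure {x | ∃ l ∈ ([1,2,3,4,5,6] : List ℕ), g l = x}) 27 :=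
  SeqCert.idxLe_of_final hg hU hL uJ_head uJ_ok uJ_final
noncomputable def uB_C : SeqCert := ⟨nat_lit 4, nat_lit 9, nat_lit 22, nat_lit 0x151514141313121211110f10100f0d0e0e0d0b0c0c0b090a0a09070808070506060503040403010202010000, (NT.leaf (nat_lit 0) (nat_lit 0x10ff0aff0eff0cff11ef13cf12df05ff03ff01ff10ee0aee0eee0cee139e12ae05ee03ee01ee10dd0add0edd0cdd119d137d05dd03dd01dd10cc0acc0ecc0ccc11ac127c05cc03cc01cc10bb0abb0ebb0cbb118b126b05bb03bb01bb10aa0aaa0eaa0caa134a05aa03aa01aa10990a990e990c99124905990399019910880a880e880c88123805880388018810770a770e770c77114705770377017710660a660e660c66112605660366016610550a550e550c55113505550355015510440a440e440c4405440344014410330a330e330c3305330333013310220a220e220c2205220322012210110a110e110c1105110411011110000a000e000c0005000300010014fb14e814d614c513b514a31492138214711361125114401330122011100000)), (NT.node (nat_lit 11) (NT.node (nat_lit 5) (NT.node (nat_lit 2) (NT.node (nat_lit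 1) (NT.leaf (nat_lit 29) (nat_lit 0xc0301)) (NT.leaf (nat_lit 33) (nat_lit 0xe0401))) (NT.node (nat_lit 3) (NT.leaf (nat_lit 25) (nat_lit 0xa050301)) (NT.node (nat_lit 4) (NT.leaf (nat_lit 37) (nat_lit 0x10060301)) (NT.leaf (nat_lit 32808) (nat_lit 0x1110411))))) (NT.node (nat_lit 8) (NT.node (nat_lit 6) (NT.leaf (nat_lit 40) (nat_lit 0x4110111)) (NT.node (nat_lit 7) (NT.leaf (nat_lit 32812) (nat_lit 0x5110611)) (NT.leaf (nat_lit 48) (nat_lit 0x1120112)))) (NT.node (nat_lit 9) (NT.leaf (nat_lit 32820) (nat_lit 0x3120412)) (NT.node (nat_lit 10) (NT.leaf (nat_lit 32824) (nat_lit 0x5120612)) (NT.leaf (nat_lit 32828) (nat_lit 0x1130213)))))) (NT.node (nat_lit 16) (NT.node (nat_lit 13) (NT.node (nat_lit 12) (NT.leaf (nat_lit 64) (nat_lit 0x3130313)) (NT.leaf (nat_lit 32836) (nat_lit 0x5130613))) (NT.node (nat_lit 14) (NT.leaf (nat_lit 32840) (nat_lit 0x1140214)) (NT.node (nat_lit 15) (NT.leaf (nat_lit 32844) (nat_lit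 0x3140414)) (NT.leaf (nat_lit 80) (nat_lit 0x5140514))))) (NT.node (nat_lit 19) (NT.node (nat_lit 17) (NT.leaf (nat_lit 49248) (nat_lit 0x11131112)) (NT.node (nat_lit 18) (NT.leaf (nat_lit 16480) (nat_lit 0x11121113)) (NT.leaf (nat_lit 16484) (nat_lit 0x11141114)))) (NT.node (nat_lit 20) (NT.leaf (nat_lit 16468) (nat_lit 0x12131213)) (NT.node (nat_lit 21) (NT.leaf (nat_lit 16472) (nat_lit 0x12141214)) (NT.leaf (nat_lit 16476) (nat_lit 0x13141314)))))))⟩
noncomputable def uB_U : List (List ℕ) := []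
noncomputable def uB_HL : List ℕ := [1,2,3,4,5,6]
theorem uB_head : uB_C.head 22 i9 n9 uB_U uB_HL 16 4 3 = true := by decide +kernel
noncomputable def uB_s0 : List ℕ := [nat_lit 0x43a21130180e1d108900c050e88808030e88008001e6787406120f05832030a8799a1b018503cca0f80c1e1e6487c060e0f31c3e0306bf1fd010180df8fe8000c04fc7f80802fc7f008001c0804c06150e2742a030a071341d0183c38990e80c1c1c4b874060d753b1de0301ba9d8ee01809d4ed01005d4ec01000347d0980c241a0603c06150d1e8360307868f21b0183834770d80c1ad86d37406036c369b80301361b60200b61b40200060da1501848300a0780c281835064060f0c1a4320307060ce19018358cc86580c06c66432806026332404016332004000b1b5380308858140d0184c2c6b0b80c18163405c060b0b19c2e03052d970bb0180d6cb85d00c04b65c80802b65c00800140302406150a1382a03078509a1501838284b0a80c1aa6542ac0603532a1540301299520200a9950020004808090185024400980c1e121f84c060e090f4260306a59309b0180d2c984d00c04964c80802964c00800100201c0613081042203060407c11018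2c203d0880c14864422c060343221140301219120200a191002000380409018481c320780c1e0e1803c060e070bc1e03069d8f07b0180cec783d00c04763c80802763c008000c010140611060cc1a0306030620d0182c182f0680c1466341ac0603331a0d40301198d20200998d0020002804070184014330580c120a1802c0608050b8160303960b45d0180cb05a2e00c04582d80802582d008000812024060f0408c120307020420901834944c2780c064a261380602251340401251300400030940e030601844070182c0c210380c143c1f10406031e0f88003010f07e02008f07c02000104a050182408230280c1004100140607170c46603018b86232018085c30010045c310100004250180c0c021000c06050108c06030208044250180c40221200c042011808022011008007e]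
theorem uB_ok0 : uB_C.StepsOK 19 145 := (SeqCert.StepsOK.refl _ 19).step (L := uB_s0) (by decide +kernel)
theorem uB_ok : uB_C.StepsOK (16 + 3) 145 := uB_ok0
noncomputable def uB_r0 : List ℕ := [nat_lit 0x10806302100845802d01400a404c02701500ac04a024011808804202000, nat_lit 0x1ce0c605280c07423b11b08dc46823511c08e446623211808c445e22e11, nat_lit 0x2521080281f58904492221114884443223111c88244021f90f887a43c22, nat_lit 0x2940704ec1b54ac657329194cca065132a1954c9e64e3269930c9664a33, nat_lit 0x120bda56ca35cc886543021850bc85f431218d0ba85c42da1690b285844, nat_lit 0x31816b0589b0ce8a7553829c54dca6f53929cd4d6a6a534a9a14cea6655, nat_lit 0x35a0d166d9f0908c8564032058fcc7f641320d8f6c7a63cb1e18eec7666, nat_lit 0x1e2f1d6fe231128e957483a45d1ce8f7493a4dd16e8a744ba21d0ee8677, nat_lit 0x39c1124e1b3ed490a5850428613d09f851428e13709a84cc26212f09688, nat_lit 0x26505e5623cf5692b59584ac655d2af9594ace5572aa954caa254f2a699, nat_lit 0x2a6bc481f3871894c5a60530697d4bfa61530e9774baa5cd2e296f4b6aa,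 nat_lit 0x3de17566333a1ad6d7b695b4eda16d1b6a5b56d976cab64db22d8f6c6bb, nat_lit 0x32b17f6f3b829d18e9c7263971c58e3c73639f1bb8dcc6de36b1b38d8cc, nat_lit 0x36cf078afbca5f5afbd7b6bdf5e9af5d7c6be75dfaeed76ebb35d7aeadd, nat_lit 0x3b1049815467e19d0de847427a0dd07e85742fa03d00e7ff3fb9fbcfcee, nat_lit 0x3f716c8a6c63a41f21f8e7c77e35f1bf8f7c7fe27f12f88fc43e1ff0eff]
theorem uB_final : uB_C.final 22 145 (nat_lit 0xffff) 16 [1,2,3,4,5,6,9,10,11,12,13,14,15,16,17,18,19,20] (uB_r0) = true := by decide +kernel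
theorem uB {G : Type*} [Group G] {g : ℕ → G} {H : Subgroup G} (hg : Sat g 22 i9 n9)
    (hU : ∀ u ∈ uB_U, wv g u ∈ H) (hL : ∀ l ∈ uB_HL, g l ∈ H) :
    IdxLe H (Subgroup.closure {x | ∃ l ∈ ([1,2,3,4,5,6,9,10,11,12,13,14,15,16,17,18,19,20] : List ℕ), g l = x}) 16 :=
  SeqCert.idxLe_of_final hg hU hL uB_head uB_ok uB_final
noncomputable def uN_C : SeqCert := ⟨nat_lit 4, nat_lit 9, nat_lit 22, nat_lit 0x151514141313121211110f10100f0d0e0e0d0b0c0c0b090a0a09070808070506060503040403010202010000, (NT.leaf (nat_lit 0) (nat_lit 0x159a0b43102a0a2a0e9a0c2a0f5a095a0e740b5a14aa13a712a611a90f43094306aa02a401a604a7043a0f3909390b390f7609760d721499139612970f9409940699039604920b94029702590c6715761071147711770d530b1705770337015700870588028503380d36146611660f61066603620d650b610246155514551345125511350f25092505550b250445154414441244112406440d2415221533143313331223053302231422132206221111131112111411051114001300120011000f000d000b0009000500030001000ea10d910c810a710961045103410231012115100000)),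 (NT.node (nat_lit 26) (NT.node (nat_lit 13) (NT.node (nat_lit 6) (NT.node (nat_lit 3) (NT.node (nat_lit 1) (NT.leaf (nat_lit 32872) (nat_lit 0x5150615)) (NT.node (nat_lit 2) (NT.leaf (nat_lit 108) (nat_lit 0x14151415)) (NT.leaf (nat_lit 112) (nat_lit 0x12151215)))) (NT.node (nat_lit 4) (NT.leaf (nat_lit 116) (nat_lit 0x13151315)) (NT.node (nat_lit 5) (NT.leaf (nat_lit 120) (nat_lit 0x11151115)) (NT.leaf (nat_lit 16) (nat_lit 0x6020501))))) (NT.node (nat_lit 9) (NT.node (nat_lit 7) (NT.leaf (nat_lit 49212) (nat_lit 0x13021301)) (NT.node (nat_lit 8) (NT.leaf (nat_lit 49224) (nat_lit 0x14021401)) (NT.leaf (nat_lit 1) (nat_lit 0x20202)))) (NT.node (nat_lit 11) (NT.node (nat_lit 10) (NT.leaf (nat_lit 32784) (nat_lit 0x5010602)) (NT.leaf (nat_lit 49) (nat_lit 0x12021202))) (NT.node (nat_lit 12) (NT.leaf (nat_lit 16444) (nat_lit 0x13011302)) (NT.leaf (nat_lit 16456) (nat_lit 0x14011402)))))) (NT.node (nat_lit 19)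 (NT.node (nat_lit 16) (NT.node (nat_lit 14) (NT.leaf (nat_lit 49276) (nat_lit 0x150212011502120115021201)) (NT.node (nat_lit 15) (NT.leaf (nat_lit 16496) (nat_lit 0x15121512)) (NT.leaf (nat_lit 32800) (nat_lit 0xd0203)))) (NT.node (nat_lit 17) (NT.leaf (nat_lit 20) (nat_lit 0x6040503)) (NT.node (nat_lit 18) (NT.leaf (nat_lit 41) (nat_lit 0x11021103)) (NT.leaf (nat_lit 49204) (nat_lit 0x12041203))))) (NT.node (nat_lit 22) (NT.node (nat_lit 20) (NT.leaf (nat_lit 49228) (nat_lit 0x14041403)) (NT.node (nat_lit 21) (NT.leaf (nat_lit 16504) (nat_lit 0x15111511)) (NT.leaf (nat_lit 5) (nat_lit 0x40404)))) (NT.node (nat_lit 24) (NT.node (nat_lit 23) (NT.leaf (nat_lit 32796) (nat_lit 0xb0204)) (NT.leaf (nat_lit 32788) (nat_lit 0x5030604))) (NT.node (nat_lit 25) (NT.leaf (nat_lit 49176) (nat_lit 0x9020406)) (NT.leaf (nat_lit 49188) (nat_lit 0xf020405))))))) (NT.node (nat_lit 39) (NT.node (nat_lit 32) (NT.node (nat_lit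 29) (NT.node (nat_lit 27) (NT.leaf (nat_lit 16424) (nat_lit 0x11011104)) (NT.node (nat_lit 28) (NT.leaf (nat_lit 16436) (nat_lit 0x12031204)) (NT.leaf (nat_lit 65) (nat_lit 0x13041304)))) (NT.node (nat_lit 30) (NT.leaf (nat_lit 16460) (nat_lit 0x14031404)) (NT.node (nat_lit 31) (NT.leaf (nat_lit 24) (nat_lit 0x2040609)) (NT.leaf (nat_lit 49165) (nat_lit 0x3020401))))) (NT.node (nat_lit 35) (NT.node (nat_lit 33) (NT.leaf (nat_lit 16413) (nat_lit 0x3010c)) (NT.node (nat_lit 34) (NT.leaf (nat_lit 16396) (nat_lit 0x2030104)) (NT.leaf (nat_lit 16409) (nat_lit 0x503010a)))) (NT.node (nat_lit 37) (NT.node (nat_lit 36) (NT.leaf (nat_lit 6) (nat_lit 0x102)) (NT.leaf (nat_lit 14) (nat_lit 0x304))) (NT.node (nat_lit 38) (NT.leaf (nat_lit 22) (nat_lit 0x506)) (NT.leaf (nat_lit 46) (nat_lit 0xb0c)))))) (NT.node (nat_lit 45) (NT.node (nat_lit 42) (NT.node (nat_lit 40) (NT.leaf (nat_lit 32809) (nat_lit 0x11031102)) (NT.node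 (nat_lit 41) (NT.leaf (nat_lit 37) (nat_lit 0x10060301)) (NT.leaf (nat_lit 98432) (nat_lit 0x15110b150c0c150b)))) (NT.node (nat_lit 43) (NT.leaf (nat_lit 49280) (nat_lit 0xc150b15110b150c)) (NT.node (nat_lit 44) (NT.leaf (nat_lit 32) (nat_lit 0x2030d)) (NT.leaf (nat_lit 12) (nat_lit 0x4020301))))) (NT.node (nat_lit 48) (NT.node (nat_lit 46) (NT.leaf (nat_lit 16417) (nat_lit 0x4010e)) (NT.node (nat_lit 47) (NT.leaf (nat_lit 49164) (nat_lit 0x1040203)) (NT.leaf (nat_lit 13) (nat_lit 0x2040103)))) (NT.node (nat_lit 50) (NT.node (nat_lit 49) (NT.leaf (nat_lit 49192) (nat_lit 0x11041101)) (NT.leaf (nat_lit 33) (nat_lit 0xe0401))) (NT.node (nat_lit 51) (NT.leaf (nat_lit 29) (nat_lit 0xc0301)) (NT.leaf (nat_lit 25) (nat_lit 0xa050301))))))))⟩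
noncomputable def uN_U : List (List ℕ) := []
noncomputable def uN_HL : List ℕ := [1,2,3,4,5,6,9,10,11,12,13,14,15,16,17,18,19,20]
theorem uN_head : uN_C.head 22 i9 n9 uN_U uN_HL 11 4 11 = true := by decide +kernel
noncomputable def uN_s0 : List ℕ := [nat_lit 0x1b2486c344d0d06401c52ba600082cbe380d806285f1c06e0319af9420218af8e0021930d78850186584bc4280c30c15e00862bc428082cbb222e806134390974030e1c080ba0184932615d00c603e5d30006191fae980030c2ec7cba0184010075d00c5e701e2e8062e43ae804150a01c042d51a7878030ca893c3c018613c3c01058e6a14d00c327250a6806184fa68040f4c9993003039acc898018190a624c00c144d2b26006192615930030c264b49801814d6564c00c3e0405a60062c2b260041642a6004080902c042b458083c2401a292807151b0041f0f80d148e038a40e864480c508533210060c429850c0313a190a0207a0c20021320d028201895067d01091067e0108c1c073e20008223e8fcf8030b8280e7c01884200701080e03c0103cd6523500c0e70271a8061116024d4030c9ac9a6a0181408093500c3e57350081e09350082c0c16824061e30918c0030a0285c0b0187414320480c380a1802c061b050d00e030d168140501864b60a0280c300a1682c0617050140416050240415279209c030a0205c090184c10300480c24081a0140611040b01203080200a02079008c41018387a40030082c260b80c0e411e02c1a061701c060c030c80e03058186005018280c2d0380c1206028081004170140607020c80a030301058050181404240180c08021400c060301098060301008540301804041b0180c005c]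
theorem uN_ok0 : uN_C.StepsOK 22 114 := (SeqCert.StepsOK.refl _ 22).step (L := uN_s0) (by decide +kernel)
theorem uN_ok : uN_C.StepsOK (11 + 11) 114 := uN_ok0
noncomputable def uN_r0 : List ℕ := [nat_lit 0x84540280130090046022010808003e01e00e807003601a00c806002e01600, nat_lit 0xc05c23211808d0524e7460a504a516e6c607383185a22c105282100c60421, nat_lit 0x120874438220993d0beadfa25a2b9cb2ad9a2eab7686c43724f49c180a23d32, nat_lit 0x118c8864232011855732c643db23156b2e045bcb1107e63e343baee87840713, nat_lit 0x1510a4865528213898e6a696939289c269c9629a9249884d404895d58146b64, nat_lit 0x1a14cca644312980daf45e24699b99a345826ad1708b6a5a52b202c50ae9995, nat_lit 0x251cf0caa96551d98ea2b2737a9e8cda2977068ac1ce4c7363892824d48bea6, nat_lit 0x255920ecca544a39d66c93157934d12cc8a158b03c512e8875e5218d3528457, nat_lit 0x38e9592ab654bb2294e8b83098b6e93a8b4352a2d8d452a3950b27c930a9b79, nat_lit 0x38a59d4cd765b3265bc4d656d48545b04d056e13515854c3a5d1af5d7ecc14a]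
theorem uN_final : uN_C.final 22 114 (nat_lit 0x6ff) 10 [1,2,3,4,5,6,9,10,11,12,13,14,15,16,17,18,19,20,21] (uN_r0) = true := by decide +kernel
theorem uN {G : Type*} [Group G] {g : ℕ → G} {H : Subgroup G} (hg : Sat g 22 i9 n9)
    (hU : ∀ u ∈ uN_U, wv g u ∈ H) (hL : ∀ l ∈ uN_HL, g l ∈ H) :
    IdxLe H (Subgroup.closure {x | ∃ l ∈ ([1,2,3,4,5,6,9,10,11,12,13,14,15,16,17,18,19,20,21] : List ℕ), g l = x}) 10 :=
  SeqCert.idxLe_of_final hg hU hL uN_head uN_ok uN_final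

theorem cardN9 {G : Type*} [Group G] {g : ℕ → G} (hg : Sat g 22 i9 n9) :
    Finite (closure {x | ∃ l ∈ [1,2,3,4,5,6,9,10,11,12,13,14,15,16,17,18,19,20,21], g l = x}) ∧
      Nat.card (closure {x | ∃ l ∈ [1,2,3,4,5,6,9,10,11,12,13,14,15,16,17,18,19,20,21], g l = x}) ≤ 4320 :=
  (uN hg (by simp [uN_U]) fun _ hl => letter_mem g hl).card_le
    ((uB hg (by simp [uB_U]) fun _ hl => letter_mem g hl).card_le
      ((uJ hg (H := ⊥) (by simp [uJ_U]) (by simp [uJ_HL])).card_le card_bot_le))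

variable {G : Type*} [Group G] {x y z s c f q g t a b d w : G}

/-- The letters. -/
def g9 (x y z s c f q g t a b d w : G) : ℕ → G :=
  lf [1, x, x⁻¹, y, y⁻¹, z, z⁻¹, s, s⁻¹, c, c⁻¹, f, f⁻¹, q, q⁻¹, g, g⁻¹, t, a, b, d, w]

theorem g9_0 : g9 x y z s c f q g t a b d w 0 = 1 := rfl
theorem g9_1 : g9 x y z s c f q g t a b d w 1 = x := rfl
theorem g9_2 : g9 x y z s c f q g t a b d w 2 = x⁻¹ := rfl
theorem g9_3 : g9 x y z s c f q g t a b d w 3 = y := rfl
theorem g9_4 : g9 x y z s c f q g t a b d w 4 = y⁻¹ := rfl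
theorem g9_5 : g9 x y z s c f q g t a b d w 5 = z := rfl
theorem g9_6 : g9 x y z s c f q g t a b d w 6 = z⁻¹ := rfl
theorem g9_7 : g9 x y z s c f q g t a b d w 7 = s := rfl
theorem g9_8 : g9 x y z s c f q g t a b d w 8 = s⁻¹ := rfl
theorem g9_9 : g9 x y z s c f q g t a b d w 9 = c := rfl
theorem g9_10 : g9 x y z s c f q g t a b d w 10 = c⁻¹ := rfl
theorem g9_11 : g9 x y z s c f q g t a b d w 11 = f := rfl
theorem g9_12 : g9 x y z s c f q g t a b d w 12 = f⁻¹ := rfl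
theorem g9_13 : g9 x y z s c f q g t a b d w 13 = q := rfl
theorem g9_14 : g9 x y z s c f q g t a b d w 14 = q⁻¹ := rfl
theorem g9_15 : g9 x y z s c f q g t a b d w 15 = g := rfl
theorem g9_16 : g9 x y z s c f q g t a b d w 16 = g⁻¹ := rfl
theorem g9_17 : g9 x y z s c f q g t a b d w 17 = t := rfl
theorem g9_18 : g9 x y z s c f q g t a b d w 18 = a := rfl
theorem g9_19 : g9 x y z s c f q g t a b d w 19 = b := rfl
theorem g9_20 : g9 x y z s c f q g t a b d w 20 = d := rfl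
theorem g9_21 : g9 x y z s c f q g t a b d w 21 = w := rfl

set_option hygiene false in
/-- A subgroup of the configuration. -/
scoped notation "𝗖" => Cfsg.Lib.Spor.PK.gen [x, y, z, s, t]

set_option hygiene false in
/-- A subgroup of the configuration. -/
scoped notation "𝗪" => Cfsg.Lib.Spor.PK.gen [z, f]

set_option hygiene false in
/-- A subgroup of the configuration. -/
scoped notation "𝗣" => Cfsg.Lib.Spor.PK.gen [z, f, t]

set_option hygiene false in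
/-- A subgroup of the configuration. -/
scoped notation "𝗔" => Cfsg.Lib.Spor.PK.gen [x, y, z, s, t, a]

set_option hygiene false in
/-- A subgroup of the configuration. -/
scoped notation "𝗕" => Cfsg.Lib.Spor.PK.gen [x, y, z, s, t, a, b]

set_option hygiene false in
/-- A subgroup of the configuration. -/
scoped notation "𝗛" => Cfsg.Lib.Spor.PK.gen [x, y, z, s, t, a, b, d]

/-- The centralizer of a product of three disjoint three-cycles in `S₉`. -/
@[reducible] def MC : PM where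
  w := 7
  n := 9
  cs := [4062995741946381184,
    4062995741946152711,
    4062995741946265614,
    4062995262803772288,
    4062995499578524544,
    3058160861414916992,
    3554713506658091904,
    1012748903592283669,
    2537871231916316842,
    3058160382272079623,
    3554713264290119694,
    4062995262803543815,
    4062995499578408974,
    4062995499578296071,
    4062995262803656718,
    3554713027515254535,
    3058160619046944782,
    4062995014711037461,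
    4062995741946381184,
    4062995741946381184,
    4062995741946381184,
    4062995741946381184]
  SW := [([[1],[3],[5],[7],[17]],
    [⟨0, [128, 387, 196, 64, 515, 324, 451, 260], [[2], [4, 3]]⟩,
     ⟨3, [385, 512, 448, 321, 257], [[0]]⟩,
     ⟨6, [512, 448], []⟩]),
   ([[1],[3],[5]],
    [⟨0, [128, 64], [[1], [2]]⟩,
     ⟨3, [320, 256], [[1]]⟩,
     ⟨6, [512, 448], []⟩]),
   ([[1],[3],[5],[7]],
    [⟨0, [128, 387, 64, 515, 195, 451, 323, 259], [[2], [1]]⟩,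
     ⟨3, [321, 257], [[0]]⟩,
     ⟨6, [512, 448], []⟩]),
   ([[5],[11]],
    [⟨6, [512, 448], [[1]]⟩,
     ⟨0, [128, 64], []⟩]),
   ([[5],[11],[17]],
    [⟨6, [512, 448], [[2], [1]]⟩,
     ⟨0, [192, 129, 321, 65, 257], []⟩]),
   ([[5]],
    [⟨6, [512, 448], []⟩]),
   ([[11]],
    [⟨0, [128, 64], []⟩]),
   ([[13]],
    [⟨0, [128, 64], []⟩]),
   ([[7],[9]],
    [⟨0, [384, 129, 192, 513, 65, 321, 449, 257], []⟩]),
   ([[15]],
    [⟨0, [128, 64], []⟩]),
   ([[9]],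
    [⟨0, [128, 64], []⟩]),
   ([[17]],
    [⟨0, [192], []⟩]),
   ([[7]],
    [⟨0, [384, 192], []⟩])]

instance : NeZero MC.n := ⟨by decide⟩

theorem MC_ok : MC.ok = true := by decide +kernel

theorem MC_subs : MC.subsOK = true := by decide +kernel

theorem MC_s0 : sub (g9 x y z s c f q g t 1 1 1 1) (MC.W 0) = 𝗖 := by
  change gen (List.map (wv _) [[1],[3],[5],[7],[17]]) = _
  simp only [List.map_cons, List.map_nil, wv_cons, wv_nil, one_mul, gen_one, g9_1, g9_2, g9_3, g9_4, g9_5,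
    g9_6, g9_7, g9_8, g9_9, g9_10, g9_11, g9_12, g9_13, g9_14, g9_15, g9_16, g9_17, g9_18, g9_19,
    g9_20, g9_21]

theorem MC_s1 : sub (g9 x y z s c f q g t 1 1 1 1) (MC.W 1) = 𝐉 := by
  change gen (List.map (wv _) [[1],[3],[5]]) = _
  simp only [List.map_cons, List.map_nil, wv_cons, wv_nil, one_mul, gen_one, g9_1, g9_2, g9_3, g9_4, g9_5,
    g9_6, g9_7, g9_8, g9_9, g9_10, g9_11, g9_12, g9_13, g9_14, g9_15, g9_16, g9_17, g9_18, g9_19,
    g9_20, g9_21]

theorem MC_s2 : sub (g9 x y z s c f q g t 1 1 1 1) (MC.W 2) = 𝐒 := by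
  change gen (List.map (wv _) [[1],[3],[5],[7]]) = _
  simp only [List.map_cons, List.map_nil, wv_cons, wv_nil, one_mul, gen_one, g9_1, g9_2, g9_3, g9_4, g9_5,
    g9_6, g9_7, g9_8, g9_9, g9_10, g9_11, g9_12, g9_13, g9_14, g9_15, g9_16, g9_17, g9_18, g9_19,
    g9_20, g9_21]

theorem MC_s3 : sub (g9 x y z s c f q g t 1 1 1 1) (MC.W 3) = 𝗪 := by
  change gen (List.map (wv _) [[5],[11]]) = _
  simp only [List.map_cons, List.map_nil, wv_cons, wv_nil, one_mul, gen_one, g9_1, g9_2, g9_3, g9_4, g9_5,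
    g9_6, g9_7, g9_8, g9_9, g9_10, g9_11, g9_12, g9_13, g9_14, g9_15, g9_16, g9_17, g9_18, g9_19,
    g9_20, g9_21]

theorem MC_s4 : sub (g9 x y z s c f q g t 1 1 1 1) (MC.W 4) = 𝗣 := by
  change gen (List.map (wv _) [[5],[11],[17]]) = _
  simp only [List.map_cons, List.map_nil, wv_cons, wv_nil, one_mul, gen_one, g9_1, g9_2, g9_3, g9_4, g9_5,
    g9_6, g9_7, g9_8, g9_9, g9_10, g9_11, g9_12, g9_13, g9_14, g9_15, g9_16, g9_17, g9_18, g9_19,
    g9_20, g9_21]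

theorem MC_s5 : sub (g9 x y z s c f q g t 1 1 1 1) (MC.W 5) = zpowers z := by
  change gen (List.map (wv _) [[5]]) = _
  simp only [List.map_cons, List.map_nil, wv_cons, wv_nil, one_mul, gen_one, g9_1, g9_2, g9_3, g9_4, g9_5,
    g9_6, g9_7, g9_8, g9_9, g9_10, g9_11, g9_12, g9_13, g9_14, g9_15, g9_16, g9_17, g9_18, g9_19,
    g9_20, g9_21]

theorem MC_s6 : sub (g9 x y z s c f q g t 1 1 1 1) (MC.W 6) = zpowers f := by
  change gen (List.map (wv _) [[11]]) = _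
  simp only [List.map_cons, List.map_nil, wv_cons, wv_nil, one_mul, gen_one, g9_1, g9_2, g9_3, g9_4, g9_5,
    g9_6, g9_7, g9_8, g9_9, g9_10, g9_11, g9_12, g9_13, g9_14, g9_15, g9_16, g9_17, g9_18, g9_19,
    g9_20, g9_21]

theorem MC_s7 : sub (g9 x y z s c f q g t 1 1 1 1) (MC.W 7) = zpowers q := by
  change gen (List.map (wv _) [[13]]) = _
  simp only [List.map_cons, List.map_nil, wv_cons, wv_nil, one_mul, gen_one, g9_1, g9_2, g9_3, g9_4, g9_5,
    g9_6, g9_7, g9_8, g9_9, g9_10, g9_11, g9_12, g9_13, g9_14, g9_15, g9_16, g9_17, g9_18, g9_19,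
    g9_20, g9_21]

theorem MC_s8 : sub (g9 x y z s c f q g t 1 1 1 1) (MC.W 8) = 𝐄 := by
  change gen (List.map (wv _) [[7],[9]]) = _
  simp only [List.map_cons, List.map_nil, wv_cons, wv_nil, one_mul, gen_one, g9_1, g9_2, g9_3, g9_4, g9_5,
    g9_6, g9_7, g9_8, g9_9, g9_10, g9_11, g9_12, g9_13, g9_14, g9_15, g9_16, g9_17, g9_18, g9_19,
    g9_20, g9_21]

theorem MC_s9 : sub (g9 x y z s c f q g t 1 1 1 1) (MC.W 9) = zpowers g := by
  change gen (List.map (wv _) [[15]]) = _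
  simp only [List.map_cons, List.map_nil, wv_cons, wv_nil, one_mul, gen_one, g9_1, g9_2, g9_3, g9_4, g9_5,
    g9_6, g9_7, g9_8, g9_9, g9_10, g9_11, g9_12, g9_13, g9_14, g9_15, g9_16, g9_17, g9_18, g9_19,
    g9_20, g9_21]

theorem MC_s10 : sub (g9 x y z s c f q g t 1 1 1 1) (MC.W 10) = zpowers c := by
  change gen (List.map (wv _) [[9]]) = _
  simp only [List.map_cons, List.map_nil, wv_cons, wv_nil, one_mul, gen_one, g9_1, g9_2, g9_3, g9_4, g9_5,
    g9_6, g9_7, g9_8, g9_9, g9_10, g9_11, g9_12, g9_13, g9_14, g9_15, g9_16, g9_17, g9_18, g9_19,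
    g9_20, g9_21]

theorem MC_s11 : sub (g9 x y z s c f q g t 1 1 1 1) (MC.W 11) = zpowers t := by
  change gen (List.map (wv _) [[17]]) = _
  simp only [List.map_cons, List.map_nil, wv_cons, wv_nil, one_mul, gen_one, g9_1, g9_2, g9_3, g9_4, g9_5,
    g9_6, g9_7, g9_8, g9_9, g9_10, g9_11, g9_12, g9_13, g9_14, g9_15, g9_16, g9_17, g9_18, g9_19,
    g9_20, g9_21]

theorem MC_s12 : sub (g9 x y z s c f q g t 1 1 1 1) (MC.W 12) = zpowers s := by
  change gen (List.map (wv _) [[7]]) = _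
  simp only [List.map_cons, List.map_nil, wv_cons, wv_nil, one_mul, gen_one, g9_1, g9_2, g9_3, g9_4, g9_5,
    g9_6, g9_7, g9_8, g9_9, g9_10, g9_11, g9_12, g9_13, g9_14, g9_15, g9_16, g9_17, g9_18, g9_19,
    g9_20, g9_21]

/-- Standard generators of `3 ≀ S₃`. -/
structure EC (x y z s c f q g t : G) : Prop where
  emb : Emb MC.m (g9 x y z s c f q g t 1 1 1 1)

theorem EC.cardC (h : EC x y z s c f q g t) : Nat.card 𝗖 = 162 := by
  have := PM.card_of_emb MC_ok MC_subs h.emb 0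
  rwa [MC_s0, show certOrder (MC.K 0) = 162 by decide +kernel] at this

theorem EC.cardJ (h : EC x y z s c f q g t) : Nat.card 𝐉 = 27 := by
  have := PM.card_of_emb MC_ok MC_subs h.emb 1
  rwa [MC_s1, show certOrder (MC.K 1) = 27 by decide +kernel] at this

theorem EC.cardS (h : EC x y z s c f q g t) : Nat.card 𝐒 = 81 := by
  have := PM.card_of_emb MC_ok MC_subs h.emb 2
  rwa [MC_s2, show certOrder (MC.K 2) = 81 by decide +kernel] at this

theorem EC.cardE (h : EC x y z s c f q g t) : Nat.card 𝐄 = 9 := by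
  have := PM.card_of_emb MC_ok MC_subs h.emb 8
  rwa [MC_s8, show certOrder (MC.K 8) = 9 by decide +kernel] at this

theorem EC.cardW (h : EC x y z s c f q g t) : Nat.card 𝗪 = 9 := by
  have := PM.card_of_emb MC_ok MC_subs h.emb 3
  rwa [MC_s3, show certOrder (MC.K 3) = 9 by decide +kernel] at this

theorem EC.cardP (h : EC x y z s c f q g t) : Nat.card 𝗣 = 18 := by
  have := PM.card_of_emb MC_ok MC_subs h.emb 4
  rwa [MC_s4, show certOrder (MC.K 4) = 18 by decide +kernel] at this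

theorem EC.eqs (h : EC x y z s c f q g t) :
    x * x * x = 1 ∧ y * y * y = 1 ∧ z * z * z = 1 ∧ s * s * s = 1 ∧ c * c * c = 1 ∧ f * f * f = 1 ∧
    q * q * q = 1 ∧ g * g * g = 1 ∧ t * t = 1 ∧ c = x * y * z ∧ f = x * y ∧ q = x * y⁻¹ ∧ g = x * y
    * z⁻¹ ∧ x * y = y * x ∧ x * z = z * x ∧ y * z = z * y ∧ s * x = y * s ∧ s * y = z * s ∧ s * z =
    x * s ∧ t * x = y * t ∧ t * y = x * t ∧ t * z = z * t ∧ t * f = f * t ∧ t * c = c * t ∧ s * c =
    c * s ∧ t * s = s⁻¹ * t ∧ t * q = q⁻¹ * t ∧ z * f = f * z := by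
  have := PM.holds MC_ok MC_subs h.emb (p := (.and (.eq [1,1,1] []) (.and (.eq [3,3,3] []) (.and (.eq [5,5,5] []) (.and (.eq [7,7,7] [])
      (.and (.eq [9,9,9] []) (.and (.eq [11,11,11] []) (.and (.eq [13,13,13] []) (.and (.eq [15,15,15]
      []) (.and (.eq [17,17] []) (.and (.eq [9] [5,3,1]) (.and (.eq [11] [3,1]) (.and (.eq [13] [4,1])
      (.and (.eq [15] [6,3,1]) (.and (.eq [3,1] [1,3]) (.and (.eq [5,1] [1,5]) (.and (.eq [5,3] [3,5])
      (.and (.eq [1,7] [7,3]) (.and (.eq [3,7] [7,5]) (.and (.eq [5,7] [7,1]) (.and (.eq [1,17]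
      [17,3]) (.and (.eq [3,17] [17,1]) (.and (.eq [5,17] [17,5]) (.and (.eq [11,17] [17,11]) (.and
      (.eq [9,17] [17,9]) (.and (.eq [9,7] [7,9]) (.and (.eq [7,17] [17,8]) (.and (.eq [13,17]
      [17,14]) (.eq [11,5] [5,11]))))))))))))))))))))))))))))) (by decide +kernel)
  simp only [Fm.sem, wv_cons, wv_nil, one_mul, upd_apply, Nat.reduceEqDiff, ↓reduceIte, exists_eq_right',
    g9_1, g9_3, g9_4, g9_5, g9_6, g9_7, g9_8, g9_9, g9_11, g9_13, g9_14, g9_15, g9_17] at this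
  exact this

theorem EC.x3 (h : EC x y z s c f q g t) :
    x * x * x = 1 := h.eqs.1

theorem EC.y3 (h : EC x y z s c f q g t) :
    y * y * y = 1 := h.eqs.2.1

theorem EC.z3 (h : EC x y z s c f q g t) :
    z * z * z = 1 := h.eqs.2.2.1

theorem EC.s3 (h : EC x y z s c f q g t) :
    s * s * s = 1 := h.eqs.2.2.2.1

theorem EC.c3 (h : EC x y z s c f q g t) :
    c * c * c = 1 := h.eqs.2.2.2.2.1

theorem EC.f3 (h : EC x y z s c f q g t) :
    f * f * f = 1 := h.eqs.2.2.2.2.2.1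

theorem EC.q3 (h : EC x y z s c f q g t) :
    q * q * q = 1 := h.eqs.2.2.2.2.2.2.1

theorem EC.g3 (h : EC x y z s c f q g t) :
    g * g * g = 1 := h.eqs.2.2.2.2.2.2.2.1

theorem EC.t2 (h : EC x y z s c f q g t) :
    t * t = 1 := h.eqs.2.2.2.2.2.2.2.2.1

theorem EC.ec (h : EC x y z s c f q g t) :
    c = x * y * z := h.eqs.2.2.2.2.2.2.2.2.2.1

theorem EC.ef (h : EC x y z s c f q g t) :
    f = x * y := h.eqs.2.2.2.2.2.2.2.2.2.2.1

theorem EC.eq (h : EC x y z s c f q g t) :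
    q = x * y⁻¹ := h.eqs.2.2.2.2.2.2.2.2.2.2.2.1

theorem EC.eg (h : EC x y z s c f q g t) :
    g = x * y * z⁻¹ := h.eqs.2.2.2.2.2.2.2.2.2.2.2.2.1

theorem EC.xy (h : EC x y z s c f q g t) :
    x * y = y * x := h.eqs.2.2.2.2.2.2.2.2.2.2.2.2.2.1

theorem EC.xz (h : EC x y z s c f q g t) :
    x * z = z * x := h.eqs.2.2.2.2.2.2.2.2.2.2.2.2.2.2.1

theorem EC.yz (h : EC x y z s c f q g t) :
    y * z = z * y := h.eqs.2.2.2.2.2.2.2.2.2.2.2.2.2.2.2.1

theorem EC.sx (h : EC x y z s c f q g t) :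
    s * x = y * s := h.eqs.2.2.2.2.2.2.2.2.2.2.2.2.2.2.2.2.1

theorem EC.sy (h : EC x y z s c f q g t) :
    s * y = z * s := h.eqs.2.2.2.2.2.2.2.2.2.2.2.2.2.2.2.2.2.1

theorem EC.sz (h : EC x y z s c f q g t) :
    s * z = x * s := h.eqs.2.2.2.2.2.2.2.2.2.2.2.2.2.2.2.2.2.2.1

theorem EC.tx (h : EC x y z s c f q g t) :
    t * x = y * t := h.eqs.2.2.2.2.2.2.2.2.2.2.2.2.2.2.2.2.2.2.2.1

theorem EC.ty (h : EC x y z s c f q g t) :
    t * y = x * t := h.eqs.2.2.2.2.2.2.2.2.2.2.2.2.2.2.2.2.2.2.2.2.1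

theorem EC.tz (h : EC x y z s c f q g t) :
    t * z = z * t := h.eqs.2.2.2.2.2.2.2.2.2.2.2.2.2.2.2.2.2.2.2.2.2.1

theorem EC.tf (h : EC x y z s c f q g t) :
    t * f = f * t := h.eqs.2.2.2.2.2.2.2.2.2.2.2.2.2.2.2.2.2.2.2.2.2.2.1

theorem EC.tc (h : EC x y z s c f q g t) :
    t * c = c * t := h.eqs.2.2.2.2.2.2.2.2.2.2.2.2.2.2.2.2.2.2.2.2.2.2.2.1

theorem EC.sc (h : EC x y z s c f q g t) :
    s * c = c * s := h.eqs.2.2.2.2.2.2.2.2.2.2.2.2.2.2.2.2.2.2.2.2.2.2.2.2.1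

theorem EC.ts (h : EC x y z s c f q g t) :
    t * s = s⁻¹ * t := h.eqs.2.2.2.2.2.2.2.2.2.2.2.2.2.2.2.2.2.2.2.2.2.2.2.2.2.1

theorem EC.tq (h : EC x y z s c f q g t) :
    t * q = q⁻¹ * t := h.eqs.2.2.2.2.2.2.2.2.2.2.2.2.2.2.2.2.2.2.2.2.2.2.2.2.2.2.1

theorem EC.zf (h : EC x y z s c f q g t) :
    z * f = f * z := h.eqs.2.2.2.2.2.2.2.2.2.2.2.2.2.2.2.2.2.2.2.2.2.2.2.2.2.2.2

theorem EC.nes (h : EC x y z s c f q g t) :
    ¬ x = 1 ∧ ¬ z = 1 ∧ ¬ c = 1 ∧ ¬ f = 1 ∧ ¬ q = 1 ∧ ¬ g = 1 ∧ ¬ t = 1 ∧ ¬ s = 1 ∧ ¬ s ∈ 𝐉 ∧ ¬ t *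
    x = x * t ∧ c ∈ 𝐉 ∧ f ∈ 𝐉 ∧ q ∈ 𝐉 ∧ g ∈ 𝐉 ∧ ¬ z ∈ zpowers t ∧ (∀ u ∈ zpowers z, ∀ e ∈ zpowers t,
    ¬ f = e * u) ∧ ¬ x ∈ zpowers z ∧ (∀ k ∈ zpowers s, k ∈ 𝐉 → k = 1) := by
  have := PM.holds MC_ok MC_subs h.emb (p := (.and (.not (.eq [1] [])) (.and (.not (.eq [5] [])) (.and (.not (.eq [9] [])) (.and (.not (.eq
      [11] [])) (.and (.not (.eq [13] [])) (.and (.not (.eq [15] [])) (.and (.not (.eq [17] [])) (.and
      (.not (.eq [7] [])) (.and (.not (.ex 1 39 (.eq [7] [39]))) (.and (.not (.eq [1,17] [17,1]))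
      (.and (.ex 1 39 (.eq [9] [39])) (.and (.ex 1 39 (.eq [11] [39])) (.and (.ex 1 39 (.eq [13]
      [39])) (.and (.ex 1 39 (.eq [15] [39])) (.and (.not (.ex 11 39 (.eq [5] [39]))) (.and (.all 5 40
      (.all 11 41 (.not (.eq [11] [40,41])))) (.and (.not (.ex 5 39 (.eq [1] [39]))) (.all 12 42 (.imp
      (.ex 1 39 (.eq [42] [39])) (.eq [42] []))))))))))))))))))))) (by decide +kernel)
  simp only [Fm.sem, wv_cons, wv_nil, one_mul, upd_apply, Nat.reduceEqDiff, ↓reduceIte, exists_eq_right',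
    g9_1, g9_5, g9_7, g9_9, g9_11, g9_13, g9_15, g9_17, MC_s1, MC_s5, MC_s11, MC_s12] at this
  exact this

theorem EC.x1 (h : EC x y z s c f q g t) :
    ¬ x = 1 := h.nes.1

theorem EC.z1 (h : EC x y z s c f q g t) :
    ¬ z = 1 := h.nes.2.1

theorem EC.c1 (h : EC x y z s c f q g t) :
    ¬ c = 1 := h.nes.2.2.1

theorem EC.f1 (h : EC x y z s c f q g t) :
    ¬ f = 1 := h.nes.2.2.2.1

theorem EC.q1 (h : EC x y z s c f q g t) :
    ¬ q = 1 := h.nes.2.2.2.2.1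

theorem EC.g1 (h : EC x y z s c f q g t) :
    ¬ g = 1 := h.nes.2.2.2.2.2.1

theorem EC.t1 (h : EC x y z s c f q g t) :
    ¬ t = 1 := h.nes.2.2.2.2.2.2.1

theorem EC.s1 (h : EC x y z s c f q g t) :
    ¬ s = 1 := h.nes.2.2.2.2.2.2.2.1

theorem EC.sJ (h : EC x y z s c f q g t) :
    ¬ s ∈ 𝐉 := h.nes.2.2.2.2.2.2.2.2.1

theorem EC.txc (h : EC x y z s c f q g t) :
    ¬ t * x = x * t := h.nes.2.2.2.2.2.2.2.2.2.1

theorem EC.cJ (h : EC x y z s c f q g t) :
    c ∈ 𝐉 := h.nes.2.2.2.2.2.2.2.2.2.2.1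

theorem EC.fJ (h : EC x y z s c f q g t) :
    f ∈ 𝐉 := h.nes.2.2.2.2.2.2.2.2.2.2.2.1

theorem EC.qJ (h : EC x y z s c f q g t) :
    q ∈ 𝐉 := h.nes.2.2.2.2.2.2.2.2.2.2.2.2.1

theorem EC.gJ (h : EC x y z s c f q g t) :
    g ∈ 𝐉 := h.nes.2.2.2.2.2.2.2.2.2.2.2.2.2.1

theorem EC.zT (h : EC x y z s c f q g t) :
    ¬ z ∈ zpowers t := h.nes.2.2.2.2.2.2.2.2.2.2.2.2.2.2.1

theorem EC.nbT (h : EC x y z s c f q g t) :
    ∀ u ∈ zpowers z, ∀ e ∈ zpowers t, ¬ f = e * u := h.nes.2.2.2.2.2.2.2.2.2.2.2.2.2.2.2.1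

theorem EC.xZ (h : EC x y z s c f q g t) :
    ¬ x ∈ zpowers z := h.nes.2.2.2.2.2.2.2.2.2.2.2.2.2.2.2.2.1

theorem EC.sX (h : EC x y z s c f q g t) :
    ∀ k ∈ zpowers s, k ∈ 𝐉 → k = 1 := h.nes.2.2.2.2.2.2.2.2.2.2.2.2.2.2.2.2.2

theorem EC.memJ (h : EC x y z s c f q g t) :
    ∀ j ∈ 𝐉, j * j * j = 1 ∧ (∀ k ∈ 𝐉, j * k = k * j) := by
  have := PM.holds MC_ok MC_subs h.emb (p := (.all 1 40 (.and (.eq [40,40,40] []) (.all 1 41 (.eq [41,40] [40,41]))))) (by decide +kernel)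
  simp only [Fm.sem, wv_cons, wv_nil, one_mul, upd_apply, Nat.reduceEqDiff, ↓reduceIte, exists_eq_right',
    MC_s1] at this
  exact this

theorem EC.clsJ (h : EC x y z s c f q g t) :
    ∀ j ∈ 𝐉, j = 1 ∨ (∃ n ∈ 𝗖, (n * c = j * n ∨ n * c⁻¹ = j * n) ∨ (n * z = j * n ∨ n * z⁻¹ = j * n)
    ∨ (n * f = j * n ∨ n * f⁻¹ = j * n) ∨ (n * g = j * n ∨ n * g⁻¹ = j * n) ∨ (n * q = j * n ∨ n *
    q⁻¹ = j * n)) := by
  have := PM.holds MC_ok MC_subs h.emb (p := (.all 1 40 (.or (.eq [40] []) (.ex 0 41 (.or (.or (.eq [9,41] [41,40]) (.eq [10,41] [41,40]))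
      (.or (.or (.eq [5,41] [41,40]) (.eq [6,41] [41,40])) (.or (.or (.eq [11,41] [41,40]) (.eq
      [12,41] [41,40])) (.or (.or (.eq [15,41] [41,40]) (.eq [16,41] [41,40])) (.or (.eq [13,41]
      [41,40]) (.eq [14,41] [41,40])))))))))) (by decide +kernel)
  simp only [Fm.sem, wv_cons, wv_nil, one_mul, upd_apply, Nat.reduceEqDiff, ↓reduceIte, exists_eq_right',
    g9_5, g9_6, g9_9, g9_10, g9_11, g9_12, g9_13, g9_14, g9_15, g9_16, MC_s0, MC_s1] at this
  exact this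

theorem EC.memC (h : EC x y z s c f q g t) :
    ∀ k ∈ 𝗖, k * k ∈ 𝐒 ∧ (k * k * k = 1 → k ∈ 𝐒) ∧ (k * s = s * k → k ∈ 𝐄) ∧ (k * x = x * k → k * y
    = y * k → k * z = z * k → k ∈ 𝐉) ∧ (k * x = x * k ∨ k * x = y * k ∨ k * x = z * k) ∧ (k * k = 1
    → k * t = t * k → (k = 1 ∨ k = t)) ∧ (k ∈ 𝐒 ∨ k * t ∈ 𝐒) ∧ k * c = c * k := by
  have := PM.holds MC_ok MC_subs h.emb (p := (.all 0 40 (.and (.ex 2 39 (.eq [40,40] [39])) (.and (.imp (.eq [40,40,40] []) (.ex 2 39 (.eq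
      [40] [39]))) (.and (.imp (.eq [7,40] [40,7]) (.ex 8 39 (.eq [40] [39]))) (.and (.imp (.eq [1,40]
      [40,1]) (.imp (.eq [3,40] [40,3]) (.imp (.eq [5,40] [40,5]) (.ex 1 39 (.eq [40] [39]))))) (.and
      (.or (.eq [1,40] [40,1]) (.or (.eq [1,40] [40,3]) (.eq [1,40] [40,5]))) (.and (.imp (.eq [40,40]
      []) (.imp (.eq [17,40] [40,17]) (.or (.eq [40] []) (.eq [40] [17])))) (.and (.or (.ex 2 39 (.eq
      [40] [39])) (.ex 2 39 (.eq [17,40] [39]))) (.eq [9,40] [40,9])))))))))) (by decide +kernel)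
  simp only [Fm.sem, wv_cons, wv_nil, one_mul, upd_apply, Nat.reduceEqDiff, ↓reduceIte, exists_eq_right',
    g9_1, g9_3, g9_5, g9_7, g9_9, g9_17, MC_s0, MC_s1, MC_s2, MC_s8] at this
  exact this

theorem EC.memS (h : EC x y z s c f q g t) :
    ∀ k ∈ 𝐒, k * k * k * k * k * k * k * k * k = 1 ∧ (k * s = s * k → k * x = x * k → k ∈ zpowers c)
    ∧ (k ∈ 𝐉 ∨ (∀ j ∈ 𝐉, k * j = j * k → j ∈ zpowers c)) ∧ (k ∈ 𝐉 ∨ (∃ j ∈ 𝐉, ∃ e ∈ 𝐒, j * k = e * j
    ∧ ¬ e * k = k * e)) ∧ ¬ k * s = s⁻¹ * k ∧ (∃ j ∈ 𝐉, ∃ e ∈ zpowers s, k = j * e) ∧ (∀ u ∈ zpowers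
    s, ∃ j ∈ 𝐉, u * k = k * j * u) := by
  have := PM.holds MC_ok MC_subs h.emb (p := (.all 2 40 (.and (.eq [40,40,40,40,40,40,40,40,40] []) (.and (.imp (.eq [7,40] [40,7]) (.imp
      (.eq [1,40] [40,1]) (.ex 10 39 (.eq [40] [39])))) (.and (.or (.ex 1 39 (.eq [40] [39])) (.all 1
      41 (.imp (.eq [41,40] [40,41]) (.ex 10 39 (.eq [41] [39]))))) (.and (.or (.ex 1 39 (.eq [40]
      [39])) (.ex 1 41 (.ex 2 42 (.and (.eq [40,41] [41,42]) (.not (.eq [40,42] [42,40])))))) (.and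
      (.not (.eq [7,40] [40,8])) (.and (.ex 1 41 (.ex 12 42 (.eq [40] [42,41]))) (.all 12 43 (.ex 1 41
      (.eq [40,43] [43,41,40]))))))))))) (by decide +kernel)
  simp only [Fm.sem, wv_cons, wv_nil, one_mul, upd_apply, Nat.reduceEqDiff, ↓reduceIte, exists_eq_right',
    g9_1, g9_7, g9_8, MC_s1, MC_s2, MC_s10, MC_s12] at this
  exact this

theorem EC.toC (h : EC x y z s c f q g t) :
    ∀ j ∈ 𝐉, j = 1 ∨ j = c ∨ j = c⁻¹ ∨ (∃ e ∈ 𝐉, s * j = e * j * s ∧ (e = c ∨ e = c⁻¹ ∨ s * e = c *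
    e * s ∨ s * e = c⁻¹ * e * s)) := by
  have := PM.holds MC_ok MC_subs h.emb (p := (.all 1 40 (.or (.eq [40] []) (.or (.eq [40] [9]) (.or (.eq [40] [10]) (.ex 1 41 (.and (.eq
      [40,7] [7,40,41]) (.or (.eq [41] [9]) (.or (.eq [41] [10]) (.or (.eq [41,7] [7,41,9]) (.eq
      [41,7] [7,41,10]))))))))))) (by decide +kernel)
  simp only [Fm.sem, wv_cons, wv_nil, one_mul, upd_apply, Nat.reduceEqDiff, ↓reduceIte, exists_eq_right',
    g9_7, g9_9, g9_10, MC_s1] at this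
  exact this

theorem EC.clsS (h : EC x y z s c f q g t) :
    ∀ v ∈ 𝐒, v ∈ 𝐉 ∨ (∃ n ∈ 𝐒, n * s = v * n) ∨ (∃ n ∈ 𝐒, n * s⁻¹ = v * n) ∨ (¬ v * v * v = 1 ∧ (v *
    v * v = c ∨ v * v * v = c⁻¹)) := by
  have := PM.holds MC_ok MC_subs h.emb (p := (.all 2 40 (.or (.ex 1 39 (.eq [40] [39])) (.or (.ex 2 41 (.eq [7,41] [41,40])) (.or (.ex 2 41
      (.eq [8,41] [41,40])) (.and (.not (.eq [40,40,40] [])) (.or (.eq [40,40,40] [9]) (.eq [40,40,40]
      [10])))))))) (by decide +kernel)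
  simp only [Fm.sem, wv_cons, wv_nil, one_mul, upd_apply, Nat.reduceEqDiff, ↓reduceIte, exists_eq_right',
    g9_7, g9_8, g9_9, g9_10, MC_s1, MC_s2] at this
  exact this

theorem EC.memE (h : EC x y z s c f q g t) :
    ∀ e ∈ 𝐄, e * e * e = 1 ∧ e * s = s * e ∧ (e ∈ zpowers c ∨ (∃ n ∈ 𝐒, n * s = e * n) ∨ (∃ n ∈ 𝐒, n
    * s⁻¹ = e * n)) := by
  have := PM.holds MC_ok MC_subs h.emb (p := (.all 8 40 (.and (.eq [40,40,40] []) (.and (.eq [7,40] [40,7]) (.or (.ex 10 39 (.eq [40] [39]))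
      (.or (.ex 2 41 (.eq [7,41] [41,40])) (.ex 2 41 (.eq [8,41] [41,40])))))))) (by decide +kernel)
  simp only [Fm.sem, wv_cons, wv_nil, one_mul, upd_apply, Nat.reduceEqDiff, ↓reduceIte, exists_eq_right',
    g9_7, g9_8, MC_s2, MC_s8, MC_s10] at this
  exact this

theorem EC.triF (h : EC x y z s c f q g t) :
    ¬ z ∈ zpowers f ∧ (∀ u ∈ zpowers z, ∀ e ∈ zpowers f, ¬ q = e * u) ∧ (∀ p ∈ 𝐉, ∃ u ∈ zpowers z, ∃
    v ∈ zpowers q, ∃ e ∈ zpowers f, p = e * u * v) := by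
  have := PM.holds MC_ok MC_subs h.emb (p := (.and (.not (.ex 6 39 (.eq [5] [39]))) (.and (.all 5 40 (.all 6 41 (.not (.eq [13] [40,41]))))
      (.all 1 42 (.ex 5 40 (.ex 7 43 (.ex 6 41 (.eq [42] [43,40,41])))))))) (by decide +kernel)
  simp only [Fm.sem, wv_cons, wv_nil, one_mul, upd_apply, Nat.reduceEqDiff, ↓reduceIte, exists_eq_right',
    g9_5, g9_13, MC_s1, MC_s5, MC_s6, MC_s7] at this
  exact this

theorem EC.triZ (h : EC x y z s c f q g t) :
    ¬ f ∈ zpowers z ∧ (∀ u ∈ zpowers f, ∀ e ∈ zpowers z, ¬ q = e * u) ∧ (∀ p ∈ 𝐉, ∃ u ∈ zpowers f, ∃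
    v ∈ zpowers q, ∃ e ∈ zpowers z, p = e * u * v) := by
  have := PM.holds MC_ok MC_subs h.emb (p := (.and (.not (.ex 5 39 (.eq [11] [39]))) (.and (.all 6 40 (.all 5 41 (.not (.eq [13] [40,41]))))
      (.all 1 42 (.ex 6 40 (.ex 7 43 (.ex 5 41 (.eq [42] [43,40,41])))))))) (by decide +kernel)
  simp only [Fm.sem, wv_cons, wv_nil, one_mul, upd_apply, Nat.reduceEqDiff, ↓reduceIte, exists_eq_right',
    g9_11, g9_13, MC_s1, MC_s5, MC_s6, MC_s7] at this
  exact this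

theorem EC.triG (h : EC x y z s c f q g t) :
    ¬ z ∈ zpowers g ∧ (∀ u ∈ zpowers z, ∀ e ∈ zpowers g, ¬ q = e * u) ∧ (∀ p ∈ 𝐉, ∃ u ∈ zpowers z, ∃
    v ∈ zpowers q, ∃ e ∈ zpowers g, p = e * u * v) := by
  have := PM.holds MC_ok MC_subs h.emb (p := (.and (.not (.ex 9 39 (.eq [5] [39]))) (.and (.all 5 40 (.all 9 41 (.not (.eq [13] [40,41]))))
      (.all 1 42 (.ex 5 40 (.ex 7 43 (.ex 9 41 (.eq [42] [43,40,41])))))))) (by decide +kernel)
  simp only [Fm.sem, wv_cons, wv_nil, one_mul, upd_apply, Nat.reduceEqDiff, ↓reduceIte, exists_eq_right',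
    g9_5, g9_13, MC_s1, MC_s5, MC_s7, MC_s9] at this
  exact this

theorem EC.triQ (h : EC x y z s c f q g t) :
    ¬ z ∈ zpowers q ∧ (∀ u ∈ zpowers z, ∀ e ∈ zpowers q, ¬ f = e * u) ∧ (∀ p ∈ 𝐉, ∃ u ∈ zpowers z, ∃
    v ∈ zpowers f, ∃ e ∈ zpowers q, p = e * u * v) := by
  have := PM.holds MC_ok MC_subs h.emb (p := (.and (.not (.ex 7 39 (.eq [5] [39]))) (.and (.all 5 40 (.all 7 41 (.not (.eq [11] [40,41]))))
      (.all 1 42 (.ex 5 40 (.ex 6 43 (.ex 7 41 (.eq [42] [43,40,41])))))))) (by decide +kernel)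
  simp only [Fm.sem, wv_cons, wv_nil, one_mul, upd_apply, Nat.reduceEqDiff, ↓reduceIte, exists_eq_right',
    g9_5, g9_11, MC_s1, MC_s5, MC_s6, MC_s7] at this
  exact this

theorem EC.memP (h : EC x y z s c f q g t) :
    ∀ p ∈ 𝗣, (∃ u ∈ zpowers z, ∃ v ∈ zpowers f, ∃ e ∈ zpowers t, p = e * u * v) ∧ (p * p * p = 1 → p
    ∈ 𝗪) ∧ ((∃ u ∈ zpowers z, ∃ e ∈ zpowers t, p = e * u) ∨ p * p = f ∨ p * p = f⁻¹ ∨ p * p = c ∨ p
    * p = c⁻¹ ∨ p * p = g ∨ p * p = g⁻¹) := by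
  have := PM.holds MC_ok MC_subs h.emb (p := (.all 4 40 (.and (.ex 5 41 (.ex 6 42 (.ex 11 43 (.eq [40] [42,41,43])))) (.and (.imp (.eq
      [40,40,40] []) (.ex 3 39 (.eq [40] [39]))) (.or (.ex 5 41 (.ex 11 43 (.eq [40] [41,43]))) (.or
      (.eq [40,40] [11]) (.or (.eq [40,40] [12]) (.or (.eq [40,40] [9]) (.or (.eq [40,40] [10]) (.or
      (.eq [40,40] [15]) (.eq [40,40] [16]))))))))))) (by decide +kernel)
  simp only [Fm.sem, wv_cons, wv_nil, one_mul, upd_apply, Nat.reduceEqDiff, ↓reduceIte, exists_eq_right',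
    g9_9, g9_10, g9_11, g9_12, g9_15, g9_16, MC_s3, MC_s4, MC_s5, MC_s6, MC_s11] at this
  exact this

theorem EC.dF (h : EC x y z s c f q g t) :
    ∀ k ∈ 𝗖, k * f = f * k → ((∃ e ∈ zpowers z, k * z = e * k) ∧ (∃ e ∈ zpowers q, k * q = e * k) ∧
    k * k * k * k ∈ 𝐉) := by
  have := PM.holds MC_ok MC_subs h.emb (p := (.all 0 40 (.imp (.eq [11,40] [40,11]) (.and (.ex 5 41 (.eq [5,40] [40,41])) (.and (.ex 7 41
      (.eq [13,40] [40,41])) (.ex 1 39 (.eq [40,40,40,40] [39]))))))) (by decide +kernel)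
  simp only [Fm.sem, wv_cons, wv_nil, one_mul, upd_apply, Nat.reduceEqDiff, ↓reduceIte, exists_eq_right',
    g9_5, g9_11, g9_13, MC_s0, MC_s1, MC_s5, MC_s7] at this
  exact this

theorem EC.dQ (h : EC x y z s c f q g t) :
    ∀ k ∈ 𝗖, k * q = q * k → ((∃ e ∈ zpowers z, k * z = e * k) ∧ (∃ e ∈ zpowers f, k * f = e * k) ∧
    k * k * k * k ∈ 𝐉) := by
  have := PM.holds MC_ok MC_subs h.emb (p := (.all 0 40 (.imp (.eq [13,40] [40,13]) (.and (.ex 5 41 (.eq [5,40] [40,41])) (.and (.ex 6 41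
      (.eq [11,40] [40,41])) (.ex 1 39 (.eq [40,40,40,40] [39]))))))) (by decide +kernel)
  simp only [Fm.sem, wv_cons, wv_nil, one_mul, upd_apply, Nat.reduceEqDiff, ↓reduceIte, exists_eq_right',
    g9_5, g9_11, g9_13, MC_s0, MC_s1, MC_s5, MC_s6] at this
  exact this

theorem EC.dT (h : EC x y z s c f q g t) :
    ∀ k ∈ 𝗖, k * t = t * k → ((∃ e ∈ zpowers z, k * z = e * k) ∧ (∃ e ∈ zpowers f, k * f = e * k) ∧
    k * k ∈ 𝗪 ∧ (k * z = z * k → k * f = f * k → k ∈ 𝗣)) := by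
  have := PM.holds MC_ok MC_subs h.emb (p := (.all 0 40 (.imp (.eq [17,40] [40,17]) (.and (.ex 5 41 (.eq [5,40] [40,41])) (.and (.ex 6 41
      (.eq [11,40] [40,41])) (.and (.ex 3 39 (.eq [40,40] [39])) (.imp (.eq [5,40] [40,5]) (.imp (.eq
      [11,40] [40,11]) (.ex 4 39 (.eq [40] [39])))))))))) (by decide +kernel)
  simp only [Fm.sem, wv_cons, wv_nil, one_mul, upd_apply, Nat.reduceEqDiff, ↓reduceIte, exists_eq_right',
    g9_5, g9_11, g9_17, MC_s0, MC_s3, MC_s4, MC_s5, MC_s6] at this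
  exact this

theorem EC.dZ (h : EC x y z s c f q g t) :
    ∀ k ∈ 𝗖, k * z = z * k → ((∃ e ∈ zpowers f, k * f = e * k) ∧ (∃ e ∈ zpowers q, k * q = e * k) ∧
    k * k * k * k ∈ 𝐉) := by
  have := PM.holds MC_ok MC_subs h.emb (p := (.all 0 40 (.imp (.eq [5,40] [40,5]) (.and (.ex 6 41 (.eq [11,40] [40,41])) (.and (.ex 7 41 (.eq
      [13,40] [40,41])) (.ex 1 39 (.eq [40,40,40,40] [39]))))))) (by decide +kernel)
  simp only [Fm.sem, wv_cons, wv_nil, one_mul, upd_apply, Nat.reduceEqDiff, ↓reduceIte, exists_eq_right',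
    g9_5, g9_11, g9_13, MC_s0, MC_s1, MC_s6, MC_s7] at this
  exact this

theorem EC.dG (h : EC x y z s c f q g t) :
    ∀ k ∈ 𝗖, k * g = g * k → ((∃ e ∈ zpowers z, k * z = e * k) ∧ (∃ e ∈ zpowers q, k * q = e * k) ∧
    k * k * k * k ∈ 𝐉) := by
  have := PM.holds MC_ok MC_subs h.emb (p := (.all 0 40 (.imp (.eq [15,40] [40,15]) (.and (.ex 5 41 (.eq [5,40] [40,41])) (.and (.ex 7 41
      (.eq [13,40] [40,41])) (.ex 1 39 (.eq [40,40,40,40] [39]))))))) (by decide +kernel)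
  simp only [Fm.sem, wv_cons, wv_nil, one_mul, upd_apply, Nat.reduceEqDiff, ↓reduceIte, exists_eq_right',
    g9_5, g9_13, g9_15, MC_s0, MC_s1, MC_s5, MC_s7] at this
  exact this

end Cfsg.Lib.S9L
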