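import Cfsg.Agent.Block.SymBlock
import Cfsg.Prelude.Def_CaseTheorems
import Mathlib.Data.List.Sort

/-!
# The number of Brauer characters in a block of a symmetric group
-/

set_option autoImplicit false

open Equiv Finset Cfsg Cfsg.Lib.Char Cfsg.Lib.Block Subgroup

namespace Cfsg.Lib.SymChar

variable {ι : Type*} [Fintype ι] [DecidableEq ι] {Ω : Type*} [Fintype Ω] [DecidableEq Ω]
  {P : Ω → Prop} [DecidablePred P] {p w : ℕ} {M : Ideal AlgInt} {β β' : ι → ℕ}
  {ψ ψ' : IrrCharacter (Perm Ω)}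

theorem LW_perm {l l' : List (ℕ × ℕ)} (h : l.Perm l') : LW (ι := ι) p l = LW p l' := by
  induction h with
  | nil => rfl
  | cons t _ ih => ext1 a; rw [LW_cons, LW_cons, ih]
  | swap s t l => exact LW_swap _ _ _
  | trans _ _ ih ih' => exact ih.trans ih'

/-- The order on the letters. -/
def LeL (s t : ℕ × ℕ) : Prop := s.2 < t.2 ∨ s.2 = t.2 ∧ s.1 ≤ t.1

theorem isWord_cons {C : Finset ℕ} {t : ℕ × ℕ} {l : List (ℕ × ℕ)} :
    IsWord C (fun _ => 1) w (t :: l) ↔
      t.1 ∈ C ∧ 0 < t.2 ∧ t.2 ≤ w ∧ IsWord C (fun _ => 1) (w - t.2) l := by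
  simp only [IsWord, List.mem_cons, forall_eq_or_imp, one_mul, List.map_cons, List.sum_cons]
  constructor
  · rintro ⟨⟨⟨h1, h2⟩, h3⟩, h4⟩; exact ⟨h1, h2, by omega, h3, by omega⟩
  · rintro ⟨h1, h2, h3, h4, h5⟩; exact ⟨⟨⟨h1, h2⟩, h4⟩, by omega⟩

theorem isWord_nil {C : Finset ℕ} : IsWord C (fun _ => 1) w [] ↔ w = 0 := by
  simp [IsWord, eq_comm]

theorem exists_sorted_words (C : Finset ℕ) (w : ℕ) :
    ∃ W : Finset (List (ℕ × ℕ)), (∀ l, IsWord C (fun _ => 1) (w + 3) l → l.Pairwise LeL → l ∈ W) ∧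
      2 * #W ≤ (#C ^ 3 + 3 * #C ^ 2 + 2 * #C) * (#C + 1) ^ w := by
  induction w with
  | zero =>
    let A := (C ×ˢ C).filter fun t => t.1 ≤ t.2
    have hA : 2 * #A ≤ #C ^ 2 + #C := by
      let A' := (C ×ˢ C).filter fun t => t.2 ≤ t.1
      have h1 : #A = #A' := Finset.card_nbij' Prod.swap Prod.swap
        (fun t => by simp [A, A']; tauto) (fun t => by simp [A, A']; tauto) (fun _ _ => rfl)
        (fun _ _ => rfl)
      have h2 := Finset.card_union_add_card_inter A A'
      have h3 : #(A ∪ A') ≤ #C ^ 2 := by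
        rw [sq, ← Finset.card_product]
        exact card_le_card (union_subset (filter_subset _ _) (filter_subset _ _))
      have h4 : #(A ∩ A') ≤ #C := by
        rw [← Finset.diag_card C]
        refine card_le_card fun t ht => ?_
        simp only [A, A', mem_inter, mem_filter, mem_product, mem_diag] at ht ⊢
        exact ⟨ht.1.1.1, by omega⟩
      omega
    let W2 := C.image (fun j => [(j, 2)]) ∪ A.image fun t => [(t.1, 1), (t.2, 1)]
    have h2 : #W2 ≤ #C + #A := (card_union_le _ _).trans (add_le_add card_image_le card_image_le)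
    refine ⟨(C ×ˢ W2).image (fun t => (t.1, 1) :: t.2) ∪ C.image fun j => [(j, 3)], ?_, ?_⟩
    · intro l hl hs
      simp only [mem_union, mem_image, mem_product, W2, A, mem_filter, Prod.exists]
      rcases l with _ | ⟨⟨a, r⟩, _ | ⟨⟨b, s⟩, _ | ⟨⟨c, t⟩, _ | ⟨d, l⟩⟩⟩⟩
      · simp [isWord_nil] at hl
      · simp only [isWord_cons, isWord_nil] at hl
        obtain rfl : r = 3 := by omega
        exact Or.inr ⟨a, hl.1, rfl⟩
      · simp only [isWord_cons, isWord_nil] at hl
        simp only [List.pairwise_cons, List.mem_singleton, forall_eq, LeL] at hs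
        obtain rfl : r = 1 := by omega
        obtain rfl : s = 2 := by omega
        exact Or.inl ⟨a, _, ⟨hl.1, Or.inl ⟨b, hl.2.2.2.1, rfl⟩⟩, rfl⟩
      · simp only [isWord_cons, isWord_nil] at hl
        simp only [List.pairwise_cons, List.mem_singleton, forall_eq, LeL] at hs
        obtain rfl : r = 1 := by omega
        obtain rfl : s = 1 := by omega
        obtain rfl : t = 1 := by omega
        exact Or.inl ⟨a, _, ⟨hl.1, Or.inr ⟨b, c, ⟨⟨hl.2.2.2.1, hl.2.2.2.2.2.2.1⟩, by omega⟩, rfl⟩⟩,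
          rfl⟩
      · simp only [isWord_cons] at hl
        omega
    · have h3 := (card_union_le ((C ×ˢ W2).image fun t => (t.1, 1) :: t.2)
        (C.image fun j => [(j, 3)])).trans (add_le_add card_image_le card_image_le)
      rw [card_product] at h3
      have h4 := Nat.mul_le_mul_left (#C) h2
      have h5 := Nat.mul_le_mul_left (#C) hA
      nlinarith
  | succ w ih =>
    obtain ⟨W, h1, h2⟩ := ih
    refine ⟨(C ×ˢ W).image (fun t => (t.1, 1) :: t.2) ∪
      W.image fun l => (l.headI.1, l.headI.2 + 1) :: l.tail, ?_, ?_⟩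
    · rintro (_ | ⟨⟨a, r⟩, l⟩) hl hs
      · simp [isWord_nil] at hl
      simp only [mem_union, mem_image, mem_product, Prod.exists]
      rw [isWord_cons] at hl
      rw [List.pairwise_cons] at hs
      by_cases hr : r = 1
      · subst hr
        exact Or.inl ⟨a, l, ⟨hl.1, h1 l hl.2.2.2 hs.2⟩, rfl⟩
      · obtain ⟨r, rfl⟩ : ∃ s, r = s + 1 := ⟨r - 1, by have := hl.2.1; dsimp only at this; omega⟩
        refine Or.inr ⟨(a, r) :: l, h1 _ (isWord_cons.2 ⟨hl.1, by dsimp only; omega, by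
          have := hl.2.2.1; dsimp only at this ⊢; omega, ?_⟩)
          (List.pairwise_cons.2 ⟨fun t ht => ?_, hs.2⟩), rfl⟩
        · have := hl.2.2.2
          rwa [show w + 1 + 3 - (a, r + 1).2 = w + 3 - (a, r).2 by dsimp only; omega] at this
        · have := hs.1 t ht
          simp only [LeL] at this ⊢
          omega
    · have h3 := (card_union_le ((C ×ˢ W).image fun t => (t.1, 1) :: t.2)
        (W.image fun l => (l.headI.1, l.headI.2 + 1) :: l.tail)).trans
        (add_le_add card_image_le card_image_le)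
      rw [card_product] at h3
      have h4 := Nat.mul_le_mul_left (#C + 1) h2
      rw [pow_succ (#C + 1)]
      nlinarith

theorem exists_words_perm (C : Finset ℕ) (hw : 3 ≤ w) :
    ∃ W : Finset (List (ℕ × ℕ)), (∀ l, IsWord C (fun _ => 1) w l → ∃ l' ∈ W, l.Perm l') ∧
      2 * #W < (#C + 1) ^ w := by
  classical
  obtain ⟨w, rfl⟩ := Nat.exists_eq_add_of_le' hw
  obtain ⟨W, h1, h2⟩ := exists_sorted_words C w
  have : Std.Total LeL := ⟨fun s t => by simp only [LeL]; omega⟩
  have : IsTrans _ LeL := ⟨fun s t u => by simp only [LeL]; omega⟩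
  refine ⟨W, fun l hl => ⟨_, h1 _ ?_ (List.pairwise_insertionSort LeL l),
    (List.perm_insertionSort LeL l).symm⟩, h2.trans_lt ?_⟩
  · have := List.perm_insertionSort LeL l
    exact ⟨fun t ht => hl.1 t (this.subset ht), (this.map _).sum_eq.trans hl.2⟩
  · rw [pow_add, mul_comm]
    exact Nat.mul_lt_mul_of_pos_left (by nlinarith) (by positivity)

theorem Lab.le_cnt (h : Lab ψ β) (hN : (p + 1) * Fintype.card Ω ≤ Fintype.card ι) {j : ℕ}
    (hj : j < p) : Fintype.card Ω ≤ cnt p β j := by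
  obtain ⟨σ, hσ⟩ := Function.ne_iff.1 h.chi_ne_zero
  have h1 : ∀ k : Fin (Fintype.card Ω), ∃ i, β i = p * k + j := fun k =>
    exists_eq_of_F_ne_zero hσ (by
      rw [sum_parts]
      have : p * (k + 1) ≤ p * Fintype.card Ω := Nat.mul_le_mul_left _ k.2
      nlinarith)
  choose f hf using h1
  rw [← Fintype.card_fin (Fintype.card Ω), cnt]
  refine Finset.card_le_card_of_injOn f (fun k _ => ?_) fun k _ l _ e => ?_
  · simp [hf, Nat.mod_eq_of_lt hj]
  · have := (hf k).symm.trans (e ▸ hf l)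
    exact Fin.ext (Nat.eq_of_mul_eq_mul_left (by omega) (add_right_cancel this))

/-- The coefficients as a linear map. -/
noncomputable def cfL (ι : Type*) [Fintype ι] [DecidableEq ι] (Ω : Type*) [Fintype Ω]
    [DecidableEq Ω] : (Perm Ω → ℂ) →ₗ[ℂ] ((ι → ℕ) → ℂ) :=
  LinearMap.pi fun β => innerLin (chi Ω β)

theorem Lab.blockRank_le_words (hM : IsPModular p M)
    (hN : (p + 1) * Fintype.card Ω ≤ Fintype.card ι) (h : Lab ψ β) (W : Finset (List (ℕ × ℕ)))
    (hW : ∀ l, IsWord (range p \ {0}) (fun _ => 1) (wt p β) l → ∃ l' ∈ W, l.Perm l') :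
    blockRank p (blockOf M (ψ : Perm Ω → ℂ)) ≤ #W := by
  have hp := hM.1
  have hN' : Fintype.card Ω ≤ Fintype.card ι := by nlinarith
  have hc := isCore_core hp.pos h.injective
  refine finrank_le_of_separating _
    (fun l => LinearMap.proj (core p β) ∘ₗ LW p l ∘ₗ cfL ι Ω) W fun x hx h0 => ?_
  have hx' : IsClassFunction _ x ∧ (∀ g, p ∣ orderOf g → x g = 0) ∧
      ∀ γ, cf ι x γ ≠ 0 → Sup p (core p β) (range p) (fun _ => 1) (wt p β) γ := by
    clear h0
    induction hx using Submodule.span_induction with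
    | mem x hx =>
      obtain ⟨χ, hχ, rfl⟩ := hx
      refine ⟨Ht.isClassFunction_reg p χ.2.isClassFunction, fun g hg => Ht.reg_of_dvd _ hg,
        fun γ hγ => ?_⟩
      obtain ⟨χ', h'⟩ := exists_lab_of_ne_zero hN' (β := γ) fun e => hγ (by simp [cf, e])
      obtain ⟨e, -, he⟩ := h'.exists_eq
      have h1 : SameBlock M (χ : Perm Ω → ℂ) (χ' : Perm Ω → ℂ) := by
        by_contra h2
        exact hγ (by rw [cf, he, classInner_smul_right,
          classInner_pRegularPart_of_not_sameBlock hM h2, mul_zero])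
      have h2 := (h.sameBlock_iff hM hN' h').1 (sameBlock_trans hM hχ h1)
      have h3 : cnt p γ = cnt p (core p β) := by rw [cnt_core, h2]
      refine ⟨h3, fun j hj hj' => (hj' (mem_range.2 hj)).elim, ?_⟩
      rw [← wt_eq_of_cnt hp.pos h h' h2, wt_eq_sum_rwt hp.pos, ← Finset.sum_add_distrib]
      exact Finset.sum_congr rfl fun j hj => by
        rw [one_mul, one_mul, hc.rs_add hp.pos h'.injective h3 (mem_range.1 hj)]
    | zero => exact ⟨fun _ _ => rfl, fun _ _ => rfl, fun γ hγ => (hγ (by simp [cf])).elim⟩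
    | add x y _ _ hx hy =>
      refine ⟨hx.1.add hy.1, fun g hg => by simp [hx.2.1 g hg, hy.2.1 g hg], fun γ hγ => ?_⟩
      by_cases h1 : cf ι x γ = 0
      · refine hy.2.2 γ fun h2 => hγ ?_
        rw [cf, classInner_add_left, ← cf, ← cf, h1, h2, add_zero]
      · exact hx.2.2 γ h1
    | smul c x _ hx =>
      refine ⟨hx.1.smul c, fun g hg => by simp [hx.2.1 g hg], fun γ hγ => hx.2.2 γ fun h1 => hγ ?_⟩
      rw [cf, classInner_smul_left, ← cf, h1, mul_zero]
  refine eq_zero_of_cf hN' hx'.1 (congrFun (eq_zero_of_words hp.pos hc (J := range p)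
    (C := range p \ {0}) (fun j => mem_range.1) sdiff_subset (fun _ _ => one_pos)
    (X := fun a => ∀ r, 0 < r → L (p * r) a = 0) (fun a ha j _ r _ s hs => ?_)
    (fun a ha h1 j hj r hr => ?_) (wt p β) (fun j hj => ?_) (anti_cf x)
    (fun r hr => L_cf_eq_zero hN' (Nat.mul_pos hp.pos hr) fun σ hσ => hx'.2.1 σ
      ((dvd_orderOf_iff hp σ).2 ⟨_, hσ, dvd_mul_right _ _⟩)) hx'.2.2 fun l hl => ?_))
  · rw [L_eq_sum_LR hp.pos, Finset.sum_congr rfl fun k _ => LR_comm k s j r a, ← map_sum,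
      ← L_eq_sum_LR hp.pos, ha s hs, map_zero]
  · by_cases hj0 : j = 0
    · subst hj0
      have := ha r hr
      rwa [L_eq_sum_LR hp.pos, Finset.sum_eq_single_of_mem 0 hj fun k hk hk0 =>
        h1 k (by simpa using ⟨mem_range.1 hk, hk0⟩) r hr] at this
    · exact h1 j (by simpa using ⟨mem_range.1 hj, hj0⟩) r hr
  · rw [cnt_core]
    refine le_trans ?_ (h.le_cnt hN (mem_range.1 hj))
    have := h.mul_wt_le hp.pos
    nlinarith [hp.pos]
  · obtain ⟨l', hl', e⟩ := hW l hl
    rw [LW_perm e]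
    exact h0 l' hl'

theorem card_range_sdiff (hp : 0 < p) : #(range p \ {0}) + 1 = p := by
  rw [Finset.card_sdiff_of_subset (by simpa using hp), card_range, card_singleton]; omega

theorem Lab.blockRank_lt (hM : IsPModular p M) (hN : (p + 1) * Fintype.card Ω ≤ Fintype.card ι)
    (h : Lab ψ β) (hw : 0 < wt p β) : blockRank p (blockOf M (ψ : Perm Ω → ℂ)) < p ^ wt p β := by
  obtain ⟨W, h1, h2⟩ := exists_words_one (range p \ {0}) _ hw
  refine (h.blockRank_le_words hM hN W fun l hl => ⟨l, h1 l hl, List.Perm.refl _⟩).trans_lt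
    (h2.trans_lt ?_)
  have h3 := card_range_sdiff hM.1.pos
  obtain ⟨w, hw⟩ := Nat.exists_eq_succ_of_ne_zero hw.ne'
  rw [h3, hw, Nat.succ_sub_one, pow_succ']
  exact Nat.mul_lt_mul_of_pos_right (by omega) (pow_pos hM.1.pos _)

theorem Lab.two_mul_blockRank_lt (hM : IsPModular p M)
    (hN : (p + 1) * Fintype.card Ω ≤ Fintype.card ι) (h : Lab ψ β) (hw : 3 ≤ wt p β) :
    2 * blockRank p (blockOf M (ψ : Perm Ω → ℂ)) < p ^ wt p β := by
  obtain ⟨W, h1, h2⟩ := exists_words_perm (range p \ {0}) hw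
  rw [card_range_sdiff hM.1.pos] at h2
  exact (Nat.mul_le_mul_left 2 (h.blockRank_le_words hM hN W h1)).trans_lt h2

theorem card_le_of_sectionalPRankLE {D A : Type*} [Group D] [CommGroup A] {s : ℕ}
    (hs : SectionalPRankLE p s D) (φ : A →* D) (hφ : Function.Injective φ) (hA : ∀ a : A, a ^ p = 1) :
    Nat.card A ≤ p ^ s := by
  have h1 := hs φ.range ⊥ ⊤ ⟨⟨by
    rintro ⟨a, -⟩ ⟨b, -⟩
    obtain ⟨⟨_, a, rfl⟩, rfl⟩ := QuotientGroup.mk_surjective a
    obtain ⟨⟨_, b, rfl⟩, rfl⟩ := QuotientGroup.mk_surjective b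
    refine Subtype.ext (congrArg QuotientGroup.mk (Subtype.ext ?_))
    exact ((Commute.all a b).map φ).eq⟩⟩ (by
      intro a _
      obtain ⟨⟨_, a, rfl⟩, rfl⟩ := QuotientGroup.mk_surjective a
      rw [← QuotientGroup.mk_pow, ← QuotientGroup.mk_one]
      exact congrArg QuotientGroup.mk (Subtype.ext (by simp [← map_pow, hA])))
  rwa [Subgroup.card_top, Nat.card_congr QuotientGroup.quotientBot.toEquiv,
    ← Nat.card_congr (MonoidHom.ofInjective hφ).toEquiv] at h1

/-- The base group of a wreath product acting on the product. -/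
def baseHom (I V : Type*) [Group V] : (I → V) →* Perm (I × V) where
  toFun f := Equiv.prodCongrRight fun i => Equiv.mulLeft (f i)
  map_one' := by ext <;> simp
  map_mul' f g := by ext <;> simp

theorem baseHom_apply {I V : Type*} [Group V] (f : I → V) (x : I × V) :
    baseHom I V f x = (x.1, f x.1 * x.2) := rfl

theorem baseHom_injective (I V : Type*) [Group V] : Function.Injective (baseHom I V) := by
  intro f g h
  funext i
  simpa [baseHom_apply] using Equiv.congr_fun h (i, 1)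

/-- Every `p`-group of permutations of at most `p w` points embeds into the defect group. -/
theorem Lab.exists_embedding (hM : IsPModular p M) (hN : Fintype.card Ω ≤ Fintype.card ι)
    (h : Lab ψ β) {D : Subgroup (Perm Ω)} (hD : IsDefectGroup p M (blockOf M (ψ : Perm Ω → ℂ)) D)
    {X A : Type*} [Fintype X] [DecidableEq X] [Group A] (hX : Fintype.card X ≤ p * wt p β)
    (hA : IsPGroup p A) (φ : A →* Perm X) (hφ : Function.Injective φ) :
    ∃ f : A →* Perm Ω, Function.Injective f ∧ (∀ a, f a ∈ D) ∧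
      ∀ a, Perm.sign (f a) = Perm.sign (φ a) := by
  classical
  have hp := hM.1
  have := Fact.mk hp
  obtain ⟨S, _, hS⟩ := exists_pred_card (h.mul_wt_le hp.pos)
  obtain ⟨e⟩ : Nonempty (X ↪ {x // S x}) :=
    Function.Embedding.nonempty_of_card_le (by rwa [hS])
  let f : A →* Perm Ω := Perm.ofSubtype.comp ((Perm.viaEmbeddingHom e).comp φ)
  obtain ⟨x, hx⟩ := defect_exists_conj_le hM (isPBlock_blockOf ψ) hD (P := f.range)
    (hA.of_surjective _ f.rangeRestrict_surjective) (h.brC_ne_zero hM hN hS (by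
      rintro _ ⟨a, rfl⟩ x hx
      exact Perm.ofSubtype_apply_of_not_mem _ hx))
  refine ⟨(MulAut.conj x).toMonoidHom.comp f, (MulAut.conj x).injective.comp
    (Perm.ofSubtype_injective.comp ((Perm.viaEmbeddingHom_injective e).comp hφ)),
    fun a => hx ⟨_, ⟨a, rfl⟩, rfl⟩, fun a => ?_⟩
  simp [f, Perm.viaEmbeddingHom_apply, Perm.viaEmbedding, mul_right_comm]

theorem Lab.wt_pos (hM : IsPModular p M) (hN : Fintype.card Ω ≤ Fintype.card ι)
    (h : Lab ψ β) {D : Subgroup (Perm Ω)} (hD : IsDefectGroup p M (blockOf M (ψ : Perm Ω → ℂ)) D)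
    (hD1 : D ≠ ⊥) : 0 < wt p β := by
  have := Fact.mk hM.1
  by_contra h0
  refine hD1 ((blockDefect_eq_zero_iff hM (isPBlock_blockOf ψ) hD).1 ?_)
  rw [h.blockDefect_eq hM hN, Nat.eq_zero_of_not_pos h0]
  simp

theorem isPGroup_of_pow {A : Type*} [Group A] (h : ∀ a : A, a ^ p = 1) : IsPGroup p A :=
  fun a => ⟨1, by rw [pow_one, h]⟩

theorem pow_eq_one_pi (I : Type*) (p : ℕ) (a : I → Multiplicative (ZMod p)) : a ^ p = 1 := by
  funext i
  rw [Pi.pow_apply, ← ofAdd_toAdd (a i), ← ofAdd_nsmul, nsmul_eq_mul, ZMod.natCast_self, zero_mul]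
  rfl

/-- An elementary abelian subgroup of rank `w` of the defect group. -/
theorem Lab.exists_elementary (hM : IsPModular p M) (hN : Fintype.card Ω ≤ Fintype.card ι)
    (h : Lab ψ β) {D : Subgroup (Perm Ω)}
    (hD : IsDefectGroup p M (blockOf M (ψ : Perm Ω → ℂ)) D) :
    ∃ f : (Fin (wt p β) → Multiplicative (ZMod p)) →* Perm Ω, Function.Injective f ∧
      ∀ a, f a ∈ D := by
  have := Fact.mk hM.1
  obtain ⟨f, h1, h2, -⟩ := h.exists_embedding hM hN hD (by simp [mul_comm])
    (isPGroup_of_pow (pow_eq_one_pi (Fin (wt p β)) p)) _ (baseHom_injective _ _)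
  exact ⟨f, h1, h2⟩

end Cfsg.Lib.SymChar
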