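import Cfsg.Agent.Char.InvForm
import Cfsg.Agent.Class.AltBasis

/-! A character of symplectic type contains the principal character of any subgroup with even
multiplicity; an odd sum over the irreducible characters that is invariant under complex
conjugation has an odd real term. -/

set_option autoImplicit false

open scoped ComplexConjugate Matrix
open Cfsg Cfsg.Lib.Char

namespace Cfsg.Lib.Block.SympFix

variable {G H : Type*} [Group G] [Group H]

theorem even_of_fsInd [Fintype G] [Fintype H] (i : H →* G) {χ : G → ℂ} (hχ : IsIrrCharacter G χ)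
    (h : fsInd χ = -1) {m : ℕ} (hm : classInner (fun x => χ (i x)) (fun _ => 1) = m) : Even m := by
  have hr : ∀ g, (χ g).im = 0 := by
    rcases hχ.fsInd_cases with h' | h' | h'
    · rw [h'.2.1] at h; norm_num at h
    · exact h'.1
    · exact h'.1
  have hχ' := hχ
  obtain ⟨n, ρ, hρ, rfl⟩ := hχ
  obtain ⟨⟨M, hM0, hM⟩, hall⟩ := invariant_form ρ hχ' hr
  have hMt := hall M hM
  rw [h] at hMt
  let B : LinearMap.BilinForm ℂ (Fin n → ℂ) := Matrix.toBilin' M
  have hB : ∀ g v w, B (ρ g v) (ρ g w) = B v w := fun g v w => by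
    simp only [B, Matrix.toBilin'_apply']
    conv_rhs => rw [← hM g]
    rw [← LinearMap.toMatrix'_mulVec, ← LinearMap.toMatrix'_mulVec, Matrix.mul_assoc,
      ← Matrix.mulVec_mulVec, ← Matrix.mulVec_mulVec, Matrix.dotProduct_mulVec v,
      Matrix.vecMul_transpose]
  have hneg : ∀ v w, B v w = -B w v := fun v w => by
    simp only [B, Matrix.toBilin'_apply']
    rw [Matrix.dotProduct_mulVec, ← Matrix.mulVec_transpose, hMt, dotProduct_comm]
    simp [Matrix.neg_mulVec]
  have hsep : ∀ w, (∀ v, B w v = 0) → w = 0 := by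
    rcases ((isIrreducible_iff ρ).1 hρ).2 (LinearMap.ker B) (fun g w hw => by
      rw [LinearMap.mem_ker] at hw ⊢
      refine LinearMap.ext fun v => ?_
      have := hB g w (ρ g⁻¹ v)
      rw [← Module.End.mul_apply, ← map_mul, mul_inv_cancel, map_one, Module.End.one_apply,
        hw] at this
      exact this) with e | e
    · exact fun w hw => (Submodule.eq_bot_iff _).1 e w (LinearMap.ext hw)
    · exact absurd (Matrix.toBilin'.map_eq_zero_iff.1 (LinearMap.ker_eq_top.1 e)) hM0
  let σ : Representation ℂ H (Fin n → ℂ) := ρ.comp i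
  have hinv : Invertible (Nat.card H : ℂ) := invertibleOfNonzero (card_ne_zero H)
  have h2 := Representation.card_inv_mul_sum_char_eq_finrank σ
  rw [classInner_one_right] at hm
  have h3 : m = Module.finrank ℂ σ.invariants := by exact_mod_cast hm.symm.trans h2
  rw [h3]
  have halt : (B.restrict σ.invariants).IsAlt := fun v => by
    have := hneg v v
    change B v v = 0
    linear_combination this / 2
  refine Class.even_finrank_of_isAlt (B := B.restrict σ.invariants)
    ((halt.isRefl.nondegenerate_iff_separatingLeft).2 fun w hw => Subtype.ext (hsep w fun v => ?_))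
    halt
  have hmem : ∑ x : H, σ x v ∈ σ.invariants := fun y => by
    rw [map_sum]
    exact Fintype.sum_equiv (Equiv.mulLeft y) _ _ fun x => by
      rw [← Module.End.mul_apply, ← map_mul]; rfl
  have h4 : B w (∑ x : H, σ x v) = 0 := hw ⟨_, hmem⟩
  rw [map_sum, Finset.sum_congr rfl (g := fun _ => B w v) fun x _ => by
    conv_lhs => rw [← w.2 x]
    exact hB (i x) w v, Finset.sum_const, nsmul_eq_mul, Finset.card_univ,
    ← Nat.card_eq_fintype_card] at h4
  exact (mul_eq_zero.1 h4).resolve_left (card_ne_zero H)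

theorem exists_real_odd [Finite G] (f : IrrCharacter G → ℕ)
    (hf : ∀ χ : IrrCharacter G, f ⟨_, χ.2.conj⟩ = f χ) (h : Odd (∑ χ, f χ)) :
    ∃ χ : IrrCharacter G, (∀ g, ((χ : G → ℂ) g).im = 0) ∧ Odd (f χ) := by
  classical
  by_contra hc
  push Not at hc
  have : ∑ χ : IrrCharacter G, (f χ : ZMod 2) = 0 := by
    rw [← Finset.sum_filter_add_sum_filter_not Finset.univ
      (fun χ : IrrCharacter G => ∀ g, ((χ : G → ℂ) g).im = 0), Finset.sum_eq_zero fun χ hχ =>
        (ZMod.natCast_eq_zero_iff_even).2 (Nat.not_odd_iff_even.1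
          (hc χ (Finset.mem_filter.1 hχ).2)), zero_add]
    refine Finset.sum_involution (fun χ _ => ⟨_, χ.2.conj⟩) (fun χ _ => ?_) (fun χ hχ _ e => ?_)
      (fun χ hχ => ?_) (fun χ _ => Subtype.ext (by simp))
    · rw [hf, ← two_mul]
      exact mul_eq_zero_of_left rfl _
    · exact (Finset.mem_filter.1 hχ).2 fun g =>
        Complex.conj_eq_iff_im.1 (congrFun (congrArg Subtype.val e) g)
    · simpa using hχ
  rw [← Nat.cast_sum, ZMod.natCast_eq_zero_iff_even] at this
  exact Nat.not_odd_iff_even.2 this h

end Cfsg.Lib.Block.SympFix
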