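import Cfsg.Agent.Block.UniqMod

/-!
# Linear algebra for the conjugation action of a regular unipotent element
-/

set_option autoImplicit false

namespace Cfsg.Lib.Block.Nil

open Module LinearMap

variable {K : Type*} [Field K] {V : Type*} [AddCommGroup V] [Module K V] [FiniteDimensional K V]

omit [FiniteDimensional K V] in
theorem exists_partner' {u : End K V} {d : ℕ} (hd : finrank K V = d + 1) (hud : u ^ (d + 1) = 0)
    (hu : u ^ d ≠ 0) :
    ∃ Y : End K V, u * (u * Y - Y * u) - (u * Y - Y * u) * u = -(2 : K) • u ∧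
      6 * trace K V (Y * u) = d * (d + 1) * (d + 2) ∧
      30 * trace K V (Y * Y * u ^ 2) = (d - 1) * d * (d + 1) * (d + 2) * (d + 3) := by
  classical
  obtain ⟨v, hv⟩ : ∃ v, (u ^ d) v ≠ 0 := by
    by_contra h
    push Not at h
    exact hu (LinearMap.ext h)
  let b := basisOfLinearIndependentOfCardEqFinrank (linearIndependent_pow hud hv) (by simp [hd])
  have hb : ∀ i, b i = (u ^ (i : ℕ)) v := fun i => by simp [b]
  have hext : ∀ f g : End K V, (∀ i : ℕ, f ((u ^ i) v) = g ((u ^ i) v)) → f = g :=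
    fun f g h => b.ext fun i => by rw [hb, h]
  let Y : End K V := b.constr K fun i => ((i : K) * (d + 1 - i)) • (u ^ ((i : ℕ) - 1)) v
  have hY : ∀ i : ℕ, Y ((u ^ i) v) = ((i : K) * (d + 1 - i)) • (u ^ (i - 1)) v := by
    intro i
    rcases lt_trichotomy i (d + 1) with h | rfl | h
    · have := b.constr_basis K (fun i => ((i : K) * (d + 1 - i)) • (u ^ ((i : ℕ) - 1)) v) ⟨i, h⟩
      rwa [hb] at this
    · simp [hud]
    · rw [pow_eq_zero_of_le h.le hud, pow_eq_zero_of_le (by omega) hud]
      simp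
  have hs : ∀ i : ℕ, u ((u ^ i) v) = (u ^ (i + 1)) v := fun i => by
    rw [pow_succ', Module.End.mul_apply]
  have hH : ∀ i : ℕ, (u * Y - Y * u) ((u ^ i) v) = ((2 : K) * i - d) • (u ^ i) v := by
    intro i
    rw [LinearMap.sub_apply, Module.End.mul_apply, Module.End.mul_apply, hs, hY, hY, map_smul,
      Nat.add_sub_cancel]
    rcases i with _ | i
    · simp
    · rw [Nat.add_sub_cancel, hs, ← sub_smul]
      congr 1
      push_cast
      ring
  have ht : ∀ (f : End K V) (c : ℕ → K), (∀ i, f ((u ^ i) v) = c i • (u ^ i) v) →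
      trace K V f = ∑ i ∈ Finset.range (d + 1), c i := fun f c h => by
    rw [trace_eq_matrix_trace K b, Matrix.trace, ← Fin.sum_univ_eq_sum_range]
    refine Finset.sum_congr rfl fun i _ => ?_
    rw [Matrix.diag_apply, LinearMap.toMatrix_apply, hb, h, ← hb, map_smul, Basis.repr_self]
    simp
  refine ⟨Y, hext _ _ fun i => ?_, ?_, ?_⟩
  · rw [LinearMap.sub_apply, Module.End.mul_apply, Module.End.mul_apply, hH, hs, hH, map_smul, hs,
      ← sub_smul, LinearMap.smul_apply, hs]
    congr 1
    push_cast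
    ring
  · have h2 : ∀ n : ℕ, 6 * ∑ i ∈ Finset.range n, ((i : K) + 1) * (d - i) =
        n * (n + 1) * (3 * d + 2 - 2 * n) := fun n => by
      induction n with
      | zero => simp
      | succ n ih => rw [Finset.sum_range_succ, mul_add, ih]; push_cast; ring
    rw [ht _ (fun i => ((i : K) + 1) * (d - i)) fun i => by
      rw [Module.End.mul_apply, hs, hY, Nat.add_sub_cancel]; congr 1; push_cast; ring, h2]
    push_cast
    ring
  · have h2 : ∀ n : ℕ, 30 * ∑ i ∈ Finset.range n, ((i : K) + 1) * (i + 2) * (d - i) * (d - i - 1) =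
        n * (n + 1) * (n + 2) * (10 * (d + 3) * (d + 2) - 15 * (d + 3) * (n + 3) +
          6 * (n + 3) * (n + 4)) := fun n => by
      induction n with
      | zero => simp
      | succ n ih => rw [Finset.sum_range_succ, mul_add, ih]; push_cast; ring
    rw [ht _ (fun i => ((i : K) + 1) * (i + 2) * (d - i) * (d - i - 1)) fun i => by
      rw [pow_two, Module.End.mul_apply, Module.End.mul_apply, Module.End.mul_apply, hs, hs, hY,
        Nat.add_sub_cancel, map_smul, hY, Nat.add_sub_cancel, smul_smul]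
      congr 1; push_cast; ring, h2]
    push_cast
    ring

/-- The derivation `ad u`. -/
def ad (u : End K V) : End K (End K V) := mulLeft K u - mulRight K u

theorem ad_range {p : ℕ} [CharP K p] {u : End K V} {d : ℕ} (hd : finrank K V = d + 1)
    (hud : u ^ (d + 1) = 0) (hu : u ^ d ≠ 0) (h2 : 2 ≤ d) (hp : d + 3 < p) :
    (∀ h, u * h = h * u → u * h ∈ range (ad u)) ∧
    ∀ i, i = 1 ∨ i = 2 → ∀ h, u * h = h * u → u ^ i + u ^ (i + 1) * h ∉ range (ad u ^ 5) := by
  obtain ⟨Y, hDY, hY1, hY2⟩ := exists_partner' hd hud hu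
  have hne : ∀ m : ℕ, 0 < m → m < p → (m : K) ≠ 0 := fun m h1 h2 h =>
    absurd (Nat.le_of_dvd h1 ((CharP.cast_eq_zero_iff K p _).1 h)) (by omega)
  have e2 : (2 : K) ≠ 0 := by exact_mod_cast hne 2 (by omega) (by omega)
  have e3 : (3 : K) ≠ 0 := by exact_mod_cast hne 3 (by omega) (by omega)
  have e5 : (5 : K) ≠ 0 := by exact_mod_cast hne 5 (by omega) (by omega)
  set D := ad u
  have hD : ∀ f, D f = u * f - f * u := fun f => rfl
  have hDm : ∀ f g, D (f * g) = D f * g + f * D g := fun f g => by simp only [hD]; noncomm_ring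
  have hDc : ∀ f c, u * c = c * u → D (f * c) = D f * c := fun f c hc => by
    rw [hDm, hD c, hc, sub_self, mul_zero, add_zero]
  have hDa : ∀ f g, trace K V (f * D g) = -trace K V (D f * g) := fun f g => by
    rw [hD, hD, mul_sub, sub_mul, map_sub, map_sub, ← mul_assoc, ← mul_assoc,
      LinearMap.trace_mul_cycle K f g u, neg_sub]
  have hDu : D u = 0 := sub_self _
  replace hDY : D (D Y) = -(2 : K) • u := hDY
  have h5 : ∀ f, (D ^ 5) f = D (D (D (D (D f)))) := fun f => rfl
  refine ⟨fun h hh => ⟨-(2 : K)⁻¹ • (D Y * h), by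
    rw [map_smul, hDc _ _ hh, hDY, smul_mul_assoc, smul_smul, neg_mul_neg, inv_mul_cancel₀ e2,
      one_smul]⟩, ?_⟩
  have key : ∀ Z f, D (D (D (D (D Z)))) = 0 → trace K V (Z * (D ^ 5) f) = 0 := fun Z f h => by
    rw [h5, hDa, hDa, hDa, hDa, hDa, h]; simp
  have k1 := hne (d - 1) (by omega) (by omega)
  have k2 := hne d (by omega) (by omega)
  have k3 := hne (d + 1) (by omega) (by omega)
  have k4 := hne (d + 2) (by omega) (by omega)
  have k5 := hne (d + 3) (by omega) (by omega)
  rw [Nat.cast_sub (by omega)] at k1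
  push_cast at k1 k3 k4 k5
  rintro i (rfl | rfl) h hh ⟨f, hf⟩
  · have h1 : D (D (D (Y * D Y * h))) = (12 : K) • (u ^ 2 * h) := by
      rw [hDc _ _ hh, hDc _ _ hh, hDc _ _ hh, ← smul_mul_assoc]
      congr 1
      simp only [hDm, map_add, hDY, map_smul, hDu, mul_zero, add_zero, mul_smul_comm,
        smul_mul_assoc, pow_two, zero_mul, zero_add]
      module
    have h3 : trace K V (Y * D (D (D (Y * D Y * h)))) = 0 := by
      rw [hDa, hDa, hDa, hDY, map_smul, hDu]; simp
    rw [h1, mul_smul_comm, map_smul, smul_eq_zero] at h3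
    have h4 := key Y f (by simp [hDY, hDu])
    rw [hf, mul_add, map_add, pow_one, h3.resolve_left (by
      rw [show (12 : K) = 2 * 2 * 3 by norm_num]; exact mul_ne_zero (mul_ne_zero e2 e2) e3),
      add_zero] at h4
    rw [h4, mul_zero] at hY1
    exact mul_ne_zero (mul_ne_zero k2 k3) k4 hY1.symm
  · have h0 : D (D (D (D (D (Y * Y))))) = 0 := by
      simp only [hDm, map_add, hDY, map_smul, hDu, mul_zero, add_zero, mul_smul_comm,
        smul_mul_assoc, zero_mul, smul_zero, zero_add]
    have h1 : (D ^ 5) (Y * Y * D Y * h) = -(240 : K) • (u ^ 3 * h) := by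
      rw [h5, hDc _ _ hh, hDc _ _ hh, hDc _ _ hh, hDc _ _ hh, hDc _ _ hh, ← smul_mul_assoc]
      congr 1
      simp only [hDm, map_add, hDY, map_smul, hDu, mul_zero, add_zero, mul_smul_comm,
        smul_mul_assoc, pow_succ, pow_zero, one_mul, zero_mul, zero_add, add_mul]
      module
    have h3 := key _ (Y * Y * D Y * h) h0
    rw [h1, mul_smul_comm, map_smul, smul_eq_zero] at h3
    have h4 := key _ f h0
    rw [hf, mul_add, map_add, h3.resolve_left (by
      rw [show -(240 : K) = -(2 ^ 4 * 3 * 5) by norm_num, neg_eq_zero]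
      exact mul_ne_zero (mul_ne_zero (pow_ne_zero _ e2) e3) e5), add_zero] at h4
    rw [h4, mul_zero] at hY2
    exact mul_ne_zero (mul_ne_zero (mul_ne_zero (mul_ne_zero k1 k2) k3) k4) k5 hY2.symm

/-- A Fitting component consisting of a single Jordan block. -/
theorem exists_fitting {δ S : End K V} (hc : δ * S = S * δ) (hδ : IsNilpotent δ) {y : V} {c : K}
    (hS : ∀ a, δ a = 0 → S a ∈ Submodule.span K {y}) (hy : S y = c • y) (hc0 : c ≠ 0)
    (h1 : y ∈ range δ) {m : ℕ} (h2 : y ∉ range (δ ^ m)) :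
    ∃ n, finrank K (range (S ^ n)) ≤ m ∧ ∃ w ∈ range (S ^ n), δ w ≠ 0 := by
  obtain ⟨n, hn⟩ := Filter.eventually_atTop.1 S.eventually_isCompl_ker_pow_range_pow
  replace hn := hn (n + 1) n.le_succ
  set W := range (S ^ (n + 1))
  have hc' : ∀ k a, δ ((S ^ k) a) = (S ^ k) (δ a) := fun k a =>
    LinearMap.congr_fun ((show Commute δ S from hc).pow_right k).eq a
  have hy' : ∀ k, (S ^ k) y = c ^ k • y := fun k => by
    induction k with
    | zero => simp
    | succ k ih => rw [pow_succ, Module.End.mul_apply, hy, map_smul, ih, smul_smul, pow_succ']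
  have hW : ∀ w ∈ W, δ w ∈ W := by rintro _ ⟨a, rfl⟩; exact ⟨_, (hc' _ a).symm⟩
  have h3 : ∀ w ∈ W, δ w = 0 → ∃ t : K, t • y = w := by
    rintro _ ⟨a, rfl⟩ h
    obtain ⟨a₀, h₀, a₁, h₁, rfl⟩ := Submodule.mem_sup.1 (hn.sup_eq_top ▸ Submodule.mem_top (x := a))
    rw [map_add, mem_ker.1 h₀, zero_add] at h ⊢
    obtain ⟨t, ht⟩ := Submodule.mem_span_singleton.1 (hS a₁
      (Submodule.disjoint_def.1 hn.disjoint _ ((hc' _ _).symm.trans h) (hW _ h₁)))
    exact ⟨t * c ^ n, by rw [pow_succ S, Module.End.mul_apply, ← ht, map_smul, hy', smul_smul]⟩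
  refine ⟨n + 1, ?_, ?_⟩
  · have h4 : δ.restrict hW ^ m = 0 := LinearMap.ext fun w => Subtype.ext (by
      have hW' := fun k => Module.End.pow_apply_mem_of_forall_mem k hW
      rw [Module.End.pow_restrict, restrict_apply]
      obtain ⟨k, hk⟩ := hδ
      replace hk : (δ ^ (k + m)) w = 0 := by rw [pow_add, hk, zero_mul, LinearMap.zero_apply]
      induction k with
      | zero => simpa using hk
      | succ k ih =>
        obtain ⟨t, ht⟩ := h3 _ (hW' (k + m) w w.2) (by
          rwa [add_right_comm, pow_succ', Module.End.mul_apply] at hk)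
        by_cases h0 : t = 0
        · exact ih (by rw [← ht, h0, zero_smul])
        · exact absurd ⟨t⁻¹ • (δ ^ k) w, by
            rw [map_smul, ← Module.End.mul_apply, ← pow_add, add_comm, ← ht,
              inv_smul_smul₀ h0]⟩ h2)
    refine (TI.finrank_le_of_pow_eq_zero h4).trans (mul_le_of_le_one_right' ?_)
    rw [← Submodule.finrank_map_subtype_eq]
    refine (Submodule.finrank_mono (t := Submodule.span K {y}) ?_).trans
      ((finrank_span_le_card _).trans (by simp))
    rintro _ ⟨w, hw, rfl⟩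
    exact Submodule.mem_span_singleton.2 (h3 _ w.2 (congrArg Subtype.val hw))
  · obtain ⟨a, rfl⟩ := h1
    refine ⟨_, ⟨a, rfl⟩, ?_⟩
    rw [hc', hy']
    exact smul_ne_zero (pow_ne_zero _ hc0) fun h => h2 (h ▸ Submodule.zero_mem _)

end Cfsg.Lib.Block.Nil
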