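import Cfsg.Agent.Class.Zsigmondy

/-!
A linear group transitive on the nonzero vectors in which the elements with cyclic centralizer
form at most one conjugacy class.
-/

set_option autoImplicit false

open Subgroup Polynomial

namespace Cfsg.Lib.Block.TwoGood

open Cfsg.Lib.Class

section Numbers

theorem le_totient_sq (N : ℕ) : (Odd N → N ≤ N.totient ^ 2) ∧ N ≤ 2 * N.totient ^ 2 := by
  induction N using Nat.recOnPosPrimePosCoprime with
  | zero => simp
  | one => simp
  | prime_pow p k hp hk =>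
    obtain ⟨k, rfl⟩ : ∃ j, k = j + 1 := ⟨k - 1, by omega⟩
    rw [Nat.totient_prime_pow_succ hp]
    obtain ⟨a, rfl⟩ : ∃ a, p = a + 2 := ⟨p - 2, by have := hp.two_le; omega⟩
    have h1 : 0 < (a + 2) ^ k := by positivity
    rw [pow_succ (a + 2) k, show a + 2 - 1 = a + 1 from rfl]
    refine ⟨fun h => ?_, ?_⟩
    · have ha : 0 < a := by
        rcases Nat.eq_zero_or_pos a with rfl | ha
        · exact absurd (Nat.Odd.of_mul_right h) (by decide)
        · exact ha
      generalize (a + 2) ^ k = x at h1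
      have : x * (a + 2) ≤ x * (a + 1) ^ 2 := Nat.mul_le_mul_left _ (by nlinarith)
      have h2 : x * (a + 1) ^ 2 ≤ x * x * (a + 1) ^ 2 :=
        Nat.mul_le_mul_right _ (Nat.le_mul_self x)
      nlinarith
    · generalize (a + 2) ^ k = x at h1
      have : x * (a + 2) ≤ x * (2 * (a + 1) ^ 2) := Nat.mul_le_mul_left _ (by nlinarith)
      have h2 : x * (a + 1) ^ 2 ≤ x * x * (a + 1) ^ 2 :=
        Nat.mul_le_mul_right _ (Nat.le_mul_self x)
      nlinarith
  | coprime a b _ _ hab ha hb =>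
    rw [Nat.totient_mul hab, mul_pow]
    refine ⟨fun h => Nat.mul_le_mul (ha.1 (Nat.Odd.of_mul_left h)) (hb.1 (Nat.Odd.of_mul_right h)),
      ?_⟩
    rcases Nat.even_or_odd a with h | h
    · have h1 : Odd b := Nat.coprime_two_left.1 (Nat.Coprime.coprime_dvd_left h.two_dvd hab)
      rw [← mul_assoc]
      exact Nat.mul_le_mul ha.2 (hb.1 h1)
    · rw [mul_left_comm]
      exact Nat.mul_le_mul (ha.1 h) hb.2

theorem lt_eight_pow {t : ℕ} (ht : 2 ≤ t) : (4 * t ^ 2 + 1) * (t + 1) < 8 ^ t := by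
  induction t, ht using Nat.le_induction with
  | base => norm_num
  | succ t ht ih => rw [pow_succ 8]; nlinarith [Nat.zero_le (t ^ 3), Nat.zero_le (t ^ 2)]

theorem eq_of_unique_primitive {p n : ℕ} (hp : 3 ≤ p) (h4 : 4 ∣ n) (hn : 0 < n)
    (h1 : ∀ s : ℕ, s.Prime → orderOf (p : ZMod s) = n → s = n + 1)
    (h2 : ¬ (n + 1) ^ 2 ∣ p ^ n - 1) : n = 4 ∧ p = 3 := by
  obtain ⟨k, rfl⟩ := h4
  have hp1 : 1 ≤ p := by omega
  obtain ⟨s, hs, hsn, hs'⟩ : ∃ s : ℕ, s.Prime ∧ s ∣ 2 * k ∧
      ∀ l : ℕ, l.Prime → l ∣ cyc (4 * k) p → l ∣ 4 * k → l = s := by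
    by_cases h : ∃ s : ℕ, s.Prime ∧ s ∣ cyc (4 * k) p ∧ s ∣ 4 * k
    · obtain ⟨s, hs, hsc, hsn⟩ := h
      have key : ∀ l s : ℕ, l.Prime → s.Prime → l ∣ cyc (4 * k) p → l ∣ 4 * k → s ∣ 4 * k →
          s ≤ l := fun l s hl hs hlc hln hsn => by
        rcases prime_dvd_cyc hl hn hp1 hlc with h | ⟨j, m, -, h, -, h'⟩
        · have h3 := orderOf_dvd_prime_sub_one (a := p) hl (h ▸ hn)
          rw [h] at h3
          have := Nat.le_of_dvd (by have := hl.two_le; omega) h3
          have := Nat.le_of_dvd hn hln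
          omega
        · exact prime_le_of_dvd_pow_mul hl hs h' (h ▸ hsn)
      refine ⟨s, hs, ?_, fun l hl hlc hln =>
        le_antisymm (key s l hs hl hsc hsn hln) (key l s hl hs hlc hln hsn)⟩
      rw [show 4 * k = 2 * (2 * k) by ring] at hsn
      rcases (Nat.Prime.dvd_mul hs).1 hsn with h | h
      · exact h.mul_right k
      · exact h
    · exact ⟨2, Nat.prime_two, dvd_mul_right _ _, fun l hl hlc hln => absurd ⟨l, hl, hlc, hln⟩ h⟩
  have hor : ∀ l : ℕ, l.Prime → l ∣ cyc (4 * k) p → l = 4 * k + 1 ∨ l ∣ 4 * k := fun l hl hlc => by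
    rcases prime_dvd_cyc hl hn hp1 hlc with h | ⟨j, m, hj, h, -, -⟩
    · exact Or.inl (h1 l hl h)
    · exact Or.inr (h ▸ (dvd_pow_self l hj.ne').mul_right m)
  have hd : cyc (4 * k) p ∣ (4 * k + 1) * s := by
    refine dvd_of_forall_prime_of_not_sq_dvd (fun l hl h => ?_) fun l hl hlc => ?_
    · rcases hor l hl ((dvd_pow_self l two_ne_zero).trans h) with rfl | h'
      · exact h2 (h.trans (cyc_dvd_pow_sub_one _ hp1))
      · exact not_sq_dvd_cyc hl (by omega) h' (by omega) h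
    · rcases hor l hl hlc with rfl | h'
      · exact dvd_mul_right _ _
      · rw [hs' l hl hlc h']
        exact dvd_mul_left _ _
  have h3 := Nat.le_of_dvd (Nat.mul_pos (by omega) hs.pos) hd
  have h5 : 9 ≤ p ^ 2 := by nlinarith
  have h6 := sub_one_pow_totient_le_cyc (n := 2 * k) (a := p ^ 2) (by omega) (by omega)
  rw [← cyc_mul_prime_of_dvd Nat.prime_two (dvd_mul_right 2 k), show 2 * k * 2 = 4 * k by ring]
    at h6
  have h7 := sub_one_le_totient_of_prime_dvd hs (by omega) hsn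
  have h8 := (le_totient_sq (2 * k)).2
  have h9 : 0 < (2 * k).totient := Nat.totient_pos.2 (by omega)
  generalize (2 * k).totient = t at h6 h7 h8 h9
  have h10 : (4 * k + 1) * s ≤ (4 * t ^ 2 + 1) * (t + 1) := Nat.mul_le_mul (by omega) (by omega)
  by_cases ht : 2 ≤ t
  · have := lt_eight_pow ht
    have : 8 ^ t ≤ (p ^ 2 - 1) ^ t := Nat.pow_le_pow_left (by omega) t
    omega
  · obtain rfl : t = 1 := by omega
    refine ⟨by omega, ?_⟩
    rw [pow_one] at h6
    have : p ^ 2 < 4 ^ 2 := by omega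
    have := lt_of_pow_lt_pow_left₀ 2 (Nat.zero_le _) this
    omega

theorem sq_add_sq_ne (j : ℕ) : ∀ u x y : ℕ, u % 4 = 3 → x ^ 2 + y ^ 2 ≠ 2 ^ j * u := by
  have key : ∀ x : ℕ, ∃ a, x ^ 2 = 8 * a + 1 ∨ (x % 2 = 0 ∧ x ^ 2 = 4 * a) := fun x => by
    obtain ⟨a, rfl | rfl⟩ := Nat.even_or_odd' x
    · exact ⟨a ^ 2, Or.inr ⟨by omega, by ring⟩⟩
    · obtain ⟨b, rfl | rfl⟩ := Nat.even_or_odd' a
      · exact ⟨2 * b ^ 2 + b, Or.inl (by ring)⟩
      · exact ⟨2 * b ^ 2 + 3 * b + 1, Or.inl (by ring)⟩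
  induction j using Nat.strong_induction_on with
  | _ j ih =>
  intro u x y hu h
  obtain ⟨a, ha⟩ := key x
  obtain ⟨b, hb⟩ := key y
  match j, ih, h with
  | 0, _, h => omega
  | 1, _, h => omega
  | j + 2, ih, h =>
    have h1 : 2 ^ (j + 2) * u = 4 * (2 ^ j * u) := by ring
    obtain ⟨x', rfl⟩ : 2 ∣ x := by omega
    obtain ⟨y', rfl⟩ : 2 ∣ y := by omega
    refine ih j (by omega) u x' y' hu ?_
    have : (2 * x') ^ 2 + (2 * y') ^ 2 = 4 * (x' ^ 2 + y' ^ 2) := by ring
    omega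

theorem sq_add_sq_ne' {d j u x y : ℕ} (hd : d ≠ 0) (hu : u % 4 = 3) :
    x ^ 2 + y ^ 2 ≠ d ^ 2 * (2 ^ j * u) := by
  obtain ⟨a, e, he, rfl⟩ := Nat.exists_eq_two_pow_mul_odd hd
  obtain ⟨b, rfl⟩ := he
  have : (2 ^ a * (2 * b + 1)) ^ 2 * (2 ^ j * u) = 2 ^ (2 * a + j) * (4 * ((b ^ 2 + b) * u) + u) := by
    ring
  rw [this]
  exact sq_add_sq_ne _ _ _ _ (by omega)

theorem mod_four_ne_three {r x y : ℕ} (hr : r.Prime) (h1 : r ∣ x ^ 2 + y ^ 2)
    (h2 : ¬ r ^ 2 ∣ x ^ 2 + y ^ 2) : r % 4 ≠ 3 := fun h => by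
  have : Fact r.Prime := ⟨hr⟩
  have h0 : x ^ 2 + y ^ 2 ≠ 0 := fun h0 => h2 (h0 ▸ dvd_zero _)
  have h3 := Nat.eq_sq_add_sq_iff.1 ⟨x, y, rfl⟩ r (Nat.mem_primeFactors.2 ⟨hr, h1, h0⟩) h
  have h4 := one_le_padicValNat_of_dvd h0 h1
  exact h2 ((padicValNat_dvd_iff_le h0).2 (by obtain ⟨k, hk⟩ := h3; omega))

end Numbers

section Singer

theorem domain_aux {F D A : Type*} [Field F] [i : Ring D] [IsDomain D] [Finite D] [Algebra F D]
    [Group A] [Finite A] (f : A →* D) (hf : Function.Injective f) : IsCyclic A ∧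
      ∀ q : F[X], q ≠ 0 → ∀ S : Finset A, (∀ x ∈ S, aeval (f x) q = 0) → S.card ≤ q.natDegree := by
  classical
  have hF : IsField D := Finite.isDomain_to_isField D
  let _ : CommRing D := { i with mul_comm := hF.mul_comm }
  refine ⟨isCyclic_of_injective_ringHom f hf, fun q hq S hS => ?_⟩
  rw [← Finset.card_image_of_injective S hf, ← natDegree_map_eq_of_injective
    (algebraMap F D).injective q]
  refine card_le_degree_of_subset_roots fun y hy => ?_
  obtain ⟨x, hx, rfl⟩ := Finset.mem_image.1 hy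
  rw [mem_roots (Polynomial.map_ne_zero hq), IsRoot, eval_map_algebraMap]
  exact hS x hx

theorem singer_lin {F W E : Type*} [Field F] [Finite F] [AddCommGroup W] [Module F W] [Finite W]
    [Nontrivial W] [Group E] [Finite E] (ρ : E →* Module.End F W) (hinj : Function.Injective ρ)
    {g : E} (hg : ∀ U : Submodule F W, (∀ u ∈ U, ρ g u ∈ U) → U = ⊥ ∨ U = ⊤) :
    IsCyclic (centralizer ({g} : Set E)) ∧
      ∀ S : Finset E, (∀ x ∈ S, Commute x g ∧ IsConj g x) → S.card ≤ Module.finrank F W := by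
  classical
  let D := Subalgebra.centralizer F ({ρ g} : Set (Module.End F W))
  have : Finite (Module.End F W) := Module.finite_of_finite F
  have : NoZeroDivisors D := ⟨fun {x y} h => by
    rcases hg (LinearMap.ker x.1) (fun u hu => by
      rw [LinearMap.mem_ker] at hu ⊢
      rw [← Module.End.mul_apply, ← x.2 _ rfl, Module.End.mul_apply, hu, map_zero]) with h1 | h1
    · refine Or.inr (Subtype.ext (LinearMap.ext fun v => ?_))
      have h2 : y.1 v ∈ LinearMap.ker x.1 := LinearMap.congr_fun (congrArg Subtype.val h) v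
      rw [h1] at h2
      exact h2
    · exact Or.inl (Subtype.ext (LinearMap.ker_eq_top.1 h1))⟩
  have : IsDomain D := NoZeroDivisors.to_isDomain D
  let f : centralizer ({g} : Set E) →* D := (ρ.comp (Subgroup.subtype _)).codRestrict D fun x => by
    rintro _ rfl
    change ρ g * ρ x = ρ x * ρ g
    rw [← map_mul, ← map_mul, x.2 g rfl]
  obtain ⟨h1, h2⟩ := domain_aux (F := F) f fun a b h =>
    Subtype.ext (hinj (congrArg Subtype.val h))
  refine ⟨h1, fun S hS => ?_⟩
  have h3 := h2 _ (ρ g).charpoly_monic.ne_zero (S.subtype (· ∈ centralizer ({g} : Set E)))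
    fun x hx => by
      obtain ⟨c, hc⟩ := isConj_iff.1 (hS _ (Finset.mem_subtype.1 hx)).2
      have h4 : (ρ x).charpoly = (ρ g).charpoly := by
        rw [← hc, ← LinearEquiv.charpoly_conj (LinearEquiv.ofLinear (ρ c) (ρ c⁻¹)
          (by rw [← Module.End.mul_eq_comp, ← map_mul, mul_inv_cancel, map_one]; rfl)
          (by rw [← Module.End.mul_eq_comp, ← map_mul, inv_mul_cancel, map_one]; rfl)) (ρ g),
          map_mul, map_mul]
        rfl
      refine Subtype.ext ?_
      rw [← h4, Polynomial.aeval_subalgebra_coe]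
      exact LinearMap.aeval_self_charpoly _
  rwa [Finset.card_subtype, Finset.filter_true_of_mem fun x hx =>
    mem_centralizer_singleton_iff.2 (hS x hx).1, LinearMap.charpoly_natDegree] at h3

theorem singer_add {p n : ℕ} [hp : Fact p.Prime] {W E : Type*} [AddCommGroup W]
    [Module (ZMod p) W] [Finite W] [Nontrivial W] [Group E] [Finite E] (hn : Nat.card W = p ^ n)
    (σ : E → W →+ W) (h1 : ∀ w, σ 1 w = w) (h2 : ∀ a b w, σ (a * b) w = σ a (σ b w))
    (hinj : Function.Injective σ)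
    {g : E} (hg : ∀ U : AddSubgroup W, (∀ u ∈ U, σ g u ∈ U) → U = ⊥ ∨ U = ⊤) :
    IsCyclic (centralizer ({g} : Set E)) ∧
      ∀ S : Finset E, (∀ x ∈ S, Commute x g ∧ IsConj g x) → S.card ≤ n := by
  let ρ : E →* Module.End (ZMod p) W :=
    { toFun := fun a => AddMonoidHom.toZModLinearMap p (σ a)
      map_one' := LinearMap.ext h1
      map_mul' := fun a b => LinearMap.ext (h2 a b) }
  have hrk : Module.finrank (ZMod p) W = n := by
    have h := Module.natCard_eq_pow_finrank (K := ZMod p) (V := W)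
    rw [Nat.card_zmod] at h
    exact (Nat.pow_right_injective hp.out.two_le (hn.symm.trans h)).symm
  rw [← hrk]
  refine singer_lin ρ (fun a b h => hinj (AddMonoidHom.ext (LinearMap.congr_fun h))) fun U hU => ?_
  rcases hg U.toAddSubgroup hU with h | h
  · exact Or.inl (eq_bot_iff.2 fun x hx => (h.le : _ ≤ ⊥) hx)
  · exact Or.inr (eq_top_iff.2 fun x _ => (h.ge : ⊤ ≤ _) (AddSubgroup.mem_top x))

variable {p n : ℕ} [hp : Fact p.Prime] {V E : Type*} [CommGroup V] [Finite V] [Group E] [Finite E]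
  [MulDistribMulAction E V] [FaithfulSMul E V]

/-- `g` leaves no proper nontrivial subgroup invariant. -/
def Irr (V : Type*) {E : Type*} [CommGroup V] [Group E] [MulDistribMulAction E V] (g : E) : Prop :=
  ∀ U : Subgroup V, (∀ u ∈ U, g • u ∈ U) → U = ⊥ ∨ U = ⊤

theorem singer (hV : ∀ v : V, v ^ p = 1) (hn : Nat.card V = p ^ n) [Nontrivial V] {g : E}
    (hg : Irr V g) : IsCyclic (centralizer ({g} : Set E)) ∧
      ∀ S : Finset E, (∀ x ∈ S, Commute x g ∧ IsConj g x) → S.card ≤ n := by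
  have : Module (ZMod p) (Additive V) := AddCommGroup.zmodModule fun x => hV x.toMul
  refine singer_add (p := p) (W := Additive V) hn
    (fun a => MonoidHom.toAdditive (MulDistribMulAction.toMonoidHom V a))
    (fun w => congrArg Additive.ofMul (one_smul E w.toMul))
    (fun a b w => congrArg Additive.ofMul (mul_smul a b w.toMul))
    (fun a b h => eq_of_smul_eq_smul (α := V) fun v =>
      Additive.ofMul.injective (DFunLike.congr_fun h (Additive.ofMul v))) fun U hU => ?_
  rcases hg (AddSubgroup.toSubgroup' U) hU with h | h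
  · exact Or.inl (eq_bot_iff.2 fun x hx => (h.le : _ ≤ ⊥) hx)
  · exact Or.inr (eq_top_iff.2 fun x _ => (h.ge : ⊤ ≤ _) (mem_top x.toMul))

end Singer

section Orbits

open MulAction

theorem dvd_ncard_of_index {A α : Type*} [Group A] [MulAction A α] [Finite α] {X : Set α}
    (hX : ∀ a : A, ∀ x ∈ X, a • x ∈ X) {m : ℕ} (h : ∀ x ∈ X, m ∣ (stabilizer A x).index) :
    m ∣ X.ncard := by
  let S : SubMulAction A α := ⟨X, fun a x hx => hX a x hx⟩
  have := Fintype.ofFinite (orbitRel.Quotient A S)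
  have e := selfEquivSigmaOrbitsQuotientStabilizer A S
  have : ∀ ω : orbitRel.Quotient A S, Finite (A ⧸ stabilizer A ω.out) :=
    fun ω => Finite.of_injective (fun x => e.symm ⟨ω, x⟩)
      (e.symm.injective.comp sigma_mk_injective)
  change m ∣ Nat.card S
  rw [Nat.card_congr e, Nat.card_sigma]
  refine Finset.dvd_sum fun ω _ => ?_
  have h1 := h _ ω.out.2
  rwa [← SubMulAction.stabilizer_of_subMul] at h1

theorem orderOf_dvd_ncard {E α : Type*} [Group E] [Finite E] [MulAction E α] [Finite α]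
    {X : Set α} {a : E} (hX : ∀ x ∈ X, a • x ∈ X)
    (h : ∀ x ∈ X, ∀ b ∈ zpowers a, b • x = x → b = 1) : orderOf a ∣ X.ncard := by
  refine dvd_ncard_of_index (A := zpowers a) (fun b x hx => ?_) fun x hx => ?_
  · obtain ⟨b, hb⟩ := b
    obtain ⟨k, rfl⟩ := (mem_powers_iff_mem_zpowers.2 hb : b ∈ Submonoid.powers a)
    change a ^ k • x ∈ X
    clear hb
    induction k with
    | zero => rwa [pow_zero, one_smul]
    | succ k ih => rw [pow_succ', mul_smul]; exact hX _ ih
  · rw [(eq_bot_iff_forall (stabilizer (zpowers a) x)).2 fun b hb =>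
      Subtype.ext (h x hx b.1 b.2 hb), index_bot, Nat.card_zpowers]

variable {p n : ℕ} [hp : Fact p.Prime] {V E : Type*} [CommGroup V] [Finite V] [Group E] [Finite E]
  [MulDistribMulAction E V] [FaithfulSMul E V]

/-- The fixed points of `a`. -/
def fx (V : Type*) {E : Type*} [CommGroup V] [Group E] [MulDistribMulAction E V] (a : E) :
    Subgroup V := (MulDistribMulAction.toMonoidHom V a).eqLocus (MonoidHom.id V)

omit [Finite V] [Finite E] [FaithfulSMul E V] in
theorem mem_fx {a : E} {v : V} : v ∈ fx V a ↔ a • v = v := Iff.rfl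

omit [Finite V] [Finite E] in
theorem eq_one_of_fx_eq_top {a : E} (h : fx V a = ⊤) : a = 1 :=
  eq_of_smul_eq_smul (α := V) fun v => by rw [one_smul]; exact mem_fx.1 (h ▸ mem_top v)

omit [Finite V] [Finite E] [FaithfulSMul E V] in
theorem smul_eq_inv {a : E} (ha : a * a = 1) (h : fx V a = ⊥) (v : V) : a • v = v⁻¹ := by
  have h1 : a • v * v ∈ fx V a := by rw [mem_fx, smul_mul', ← mul_smul, ha, one_smul, mul_comm]
  rw [h, mem_bot] at h1
  exact eq_inv_of_mul_eq_one_left h1

theorem ncard_diff_one (U : Subgroup V) : ((U : Set V) \ {1}).ncard = Nat.card U - 1 :=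
  Set.ncard_diff_singleton_of_mem U.one_mem

omit [Finite E] [FaithfulSMul E V] [Finite V] in
theorem smul_mem_diff_one {U : Subgroup V} {a : E} (h : ∀ u ∈ U, a • u ∈ U) :
    ∀ x ∈ (U : Set V) \ {1}, a • x ∈ (U : Set V) \ {1} := fun x hx =>
  ⟨h x hx.1, fun h1 => hx.2 ((smul_eq_iff_eq_inv_smul a).1 h1 |>.trans (smul_one _))⟩

theorem eq_bot_or_top_of_dvd (hn : Nat.card V = p ^ n) {s : ℕ}
    (hs : ∀ k : ℕ, 0 < k → k < n → ¬ s ∣ p ^ k - 1) {U : Subgroup V} (h : s ∣ Nat.card U - 1) :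
    U = ⊥ ∨ U = ⊤ := by
  obtain ⟨k, hk, hU⟩ := (Nat.dvd_prime_pow hp.out).1 (hn ▸ card_subgroup_dvd_card U)
  rcases Nat.eq_zero_or_pos k with rfl | h0
  · exact Or.inl (eq_bot_of_card_eq U hU)
  · rcases hk.eq_or_lt with rfl | h1
    · exact Or.inr (eq_top_of_card_eq U (hU.trans hn.symm))
    · exact absurd (hU ▸ h) (hs k h0 h1)

theorem irr_of_primitive (hn : Nat.card V = p ^ n) {s : ℕ} (hs : s.Prime) (h1 : s ∣ p ^ n - 1)
    (h2 : ∀ k : ℕ, 0 < k → k < n → ¬ s ∣ p ^ k - 1) {a : E} (ha : orderOf a = s) : Irr V a := by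
  have key : ∀ x, x ∉ fx V a → ∀ b ∈ zpowers a, b • x = x → b = 1 := fun x hx b hb h => by
    by_contra h0
    have : Fact (Nat.card (zpowers a)).Prime := ⟨by rwa [Nat.card_zpowers, ha]⟩
    have h3 := mem_zpowers_of_prime_card (G := zpowers a) (g := ⟨b, hb⟩)
      (g' := ⟨a, mem_zpowers a⟩) rfl fun h => h0 (congrArg Subtype.val h)
    exact hx ((zpowers_le.2 h : zpowers (⟨b, hb⟩ : zpowers a) ≤ stabilizer _ x) h3)
  have h3 := orderOf_dvd_ncard (X := (fx V a : Set V)ᶜ) (a := a) (fun x hx h => hx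
    (MulAction.injective a h)) key
  have h4 : fx V a = ⊥ := by
    refine (eq_bot_or_top_of_dvd hn h2 ?_).resolve_right fun h => hs.ne_one ?_
    · have h5 := Set.ncard_add_ncard_compl (fx V a : Set V)
      have h6 : 0 < Nat.card (fx V a) := Nat.card_pos
      rw [hn] at h5
      rw [ha] at h3
      have h7 : p ^ n - 1 = Nat.card (fx V a) - 1 + (fx V a : Set V)ᶜ.ncard := by
        change Nat.card (fx V a) + _ = _ at h5
        omega
      exact (Nat.dvd_add_left h3).1 (h7 ▸ h1)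
    · rw [← ha, eq_one_of_fx_eq_top h, orderOf_one]
  refine fun U hU => eq_bot_or_top_of_dvd hn h2 ?_
  rw [← ncard_diff_one, ← ha]
  exact orderOf_dvd_ncard (smul_mem_diff_one hU) fun x hx => key x (by rw [h4]; exact hx.2)

omit [FaithfulSMul E V] [Finite E] in
theorem index_stabilizer_eq (htr : ∀ v w : V, v ≠ 1 → w ≠ 1 → ∃ a : E, a • v = w) {v : V}
    (hv : v ≠ 1) : (stabilizer E v).index = Nat.card V - 1 := by
  rw [index_stabilizer, ← card_top (G := V), ← ncard_diff_one]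
  congr 1
  ext w
  exact ⟨fun ⟨a, ha⟩ => ha ▸ smul_mem_diff_one (U := ⊤) (fun _ _ => trivial) v ⟨trivial, hv⟩,
    fun hw => htr v w hv hw.2⟩

theorem not_nine (hV : ∀ v : V, v ^ 3 = 1) (hn : Nat.card V = 3 ^ 2)
    (htr : ∀ v w : V, v ≠ 1 → w ≠ 1 → ∃ a : E, a • v = w) {d : ℕ}
    (h2 : Nat.card E = d ^ 2 * (Nat.card V - 1))
    (hc : ∀ a b : E, a ≠ 1 → b ≠ 1 → IsCyclic (centralizer ({a} : Set E)) →
      IsCyclic (centralizer ({b} : Set E)) → IsConj a b) : False := by
  have : Fact (Nat.Prime 3) := ⟨Nat.prime_three⟩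
  have : Nontrivial V := Finite.one_lt_card_iff_nontrivial.1 (by rw [hn]; norm_num)
  have hsub : ∀ U : Subgroup V, U = ⊥ ∨ U = ⊤ ∨ Nat.card U = 3 := fun U => by
    obtain ⟨k, hk, hU⟩ := (Nat.dvd_prime_pow Nat.prime_three).1 (hn ▸ card_subgroup_dvd_card U)
    interval_cases k
    · exact Or.inl (eq_bot_of_card_eq U hU)
    · exact Or.inr (Or.inr hU)
    · exact Or.inr (Or.inl (eq_top_of_card_eq U (hU.trans hn.symm)))
  have hst : ∀ v : V, v ≠ 1 → Nat.card (stabilizer E v) = d ^ 2 := fun v hv => by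
    have h := (stabilizer E v).card_mul_index
    rw [index_stabilizer_eq htr hv, h2, hn] at h
    omega
  have hd : d ^ 2 = 1 := by
    obtain ⟨v, hv⟩ := exists_ne (1 : V)
    have hz : Nat.card (zpowers v) = 3 := by rw [Nat.card_zpowers, orderOf_eq_prime (hV v) hv]
    have hfx : ∀ a : stabilizer E v, zpowers v ≤ fx V a.1 := fun a => zpowers_le.2 a.2
    have h3 := dvd_ncard_of_index (A := stabilizer E v) (X := (zpowers v : Set V)ᶜ)
      (m := d ^ 2) (fun a x hx h => hx (by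
        have h1 : a • x = x := MulAction.injective a (hfx a h)
        rwa [h1] at h)) fun x hx => by
      rw [(eq_bot_iff_forall (stabilizer (stabilizer E v) x)).2 fun b hb => Subtype.ext ?_,
        index_bot, hst v hv]
      rcases hsub (fx V b.1) with h | h | h
      · exact absurd (h ▸ hfx b (mem_zpowers v) : v ∈ (⊥ : Subgroup V)) hv
      · exact eq_one_of_fx_eq_top h
      · exact absurd ((eq_of_le_of_card_ge (hfx b) (by rw [h, hz])).ge hb) hx
    have h4 := Set.ncard_add_ncard_compl (zpowers v : Set V)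
    change Nat.card (zpowers v) + _ = _ at h4
    rw [hz, hn] at h4
    rw [show (zpowers v : Set V)ᶜ.ncard = 6 by omega] at h3
    have h5 := Nat.le_of_dvd (by norm_num) h3
    have h6 : d ≤ 2 := by nlinarith
    interval_cases d <;> simp_all
  have hfree : ∀ (a : E) (v : V), v ≠ 1 → a • v = v → a = 1 := fun a v hv h =>
    (eq_bot_of_card_eq _ ((hst v hv).trans hd)).le h
  have hirr : ∀ a : E, a * a ≠ 1 → Irr V a := fun a ha U hU => by
    rcases hsub U with h | h | h
    · exact Or.inl h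
    · exact Or.inr h
    · have h3 := orderOf_dvd_ncard (smul_mem_diff_one hU) fun x hx b _ => hfree b x hx.2
      rw [ncard_diff_one, h, orderOf_dvd_iff_pow_eq_one, pow_two] at h3
      exact absurd h3 ha
  have hinv : ∀ a : E, a * a = 1 → a ≠ 1 → ∀ v : V, a • v = v⁻¹ := fun a ha h1 =>
    smul_eq_inv ha ((eq_bot_iff_forall _).2 fun v hv => by_contra fun h => h1 (hfree a v h hv))
  have h3 : ({a : E | a * a = 1} \ {1}).ncard ≤ 1 := (Set.ncard_le_one_iff).2 fun ha hb =>
    eq_of_smul_eq_smul (α := V) fun v => by rw [hinv _ ha.1 ha.2, hinv _ hb.1 hb.2]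
  rw [Set.ncard_diff_singleton_of_mem (by simp)] at h3
  have h4 := Set.ncard_add_ncard_compl {a : E | a * a = 1}
  rw [hd, hn] at h2
  obtain ⟨g, hg⟩ : {a : E | a * a = 1}ᶜ.Nonempty := Set.nonempty_of_ncard_ne_zero (by omega)
  have hne : ∀ a : E, a * a ≠ 1 → a ≠ 1 := fun a ha h => ha (by rw [h, mul_one])
  have h5 : {a : E | a * a = 1}ᶜ.ncard ≤ (orbit (ConjAct E) g).ncard :=
    Set.ncard_le_ncard fun a ha => ConjAct.mem_orbit_conjAct.2 (hc _ _ (hne _ ha) (hne _ hg)
      (singer hV hn (hirr a ha)).1 (singer hV hn (hirr g hg)).1)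
  rw [← index_stabilizer] at h5
  have h6 := (stabilizer (ConjAct E) g).card_mul_index
  have : Finite (ConjAct E) := inferInstanceAs (Finite E)
  have h7 : 1 < Nat.card (stabilizer (ConjAct E) g) := Finite.one_lt_card_iff_nontrivial.2
    ⟨⟨ConjAct.toConjAct g, by simp [ConjAct.smul_def]⟩, 1, fun h => hne g hg
      (congrArg Subtype.val h)⟩
  change _ = Nat.card E at h6
  have h8 := Nat.mul_le_mul h7 (show 6 ≤ (stabilizer (ConjAct E) g).index by omega)
  omega

omit [FaithfulSMul E V] hp in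
theorem isCyclic_centralizer_of_pow {a : E} {k : ℕ} (h : IsCyclic (centralizer ({a ^ k} : Set E))) :
    IsCyclic (centralizer ({a} : Set E)) :=
  isCyclic_of_injective (inclusion fun x hx => mem_centralizer_singleton_iff.2
    (Commute.pow_right (mem_centralizer_singleton_iff.1 hx) k)) (inclusion_injective _)

theorem not_eighty_one (hn : Nat.card V = 3 ^ 4)
    (htr : ∀ v w : V, v ≠ 1 → w ≠ 1 → ∃ a : E, a • v = w)
    (h : ∀ a : E, 5 ∣ orderOf a → orderOf a = 5) : False := by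
  have : Fact (Nat.Prime 3) := ⟨Nat.prime_three⟩
  have : Fact (Nat.Prime 5) := ⟨Nat.prime_five⟩
  have : Nontrivial V := Finite.one_lt_card_iff_nontrivial.1 (by rw [hn]; norm_num)
  obtain ⟨S⟩ : Nonempty (Sylow 2 E) := inferInstance
  have h1 : ∀ v : V, v ≠ 1 → 16 ∣ (stabilizer (S : Subgroup E) v).index := fun v hv => by
    have h2 := relIndex_mul_index (inf_le_left : stabilizer E v ⊓ S ≤ stabilizer E v)
    have h3 := relIndex_mul_index (inf_le_right : stabilizer E v ⊓ S ≤ S)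
    rw [index_stabilizer_eq htr hv, hn, ← h3, inf_relIndex_right] at h2
    have h4 : Nat.Coprime (2 ^ 4) (S : Subgroup E).index :=
      ((Nat.Prime.coprime_iff_not_dvd Nat.prime_two).2 S.not_dvd_index).pow_left 4
    exact h4.dvd_of_dvd_mul_right (h2 ▸ Dvd.dvd.mul_left (by norm_num) _)
  obtain ⟨v, hv⟩ := exists_ne (1 : V)
  have hS : Nontrivial (S : Subgroup E) := Finite.one_lt_card_iff_nontrivial.1
    (lt_of_lt_of_le (by norm_num) (Nat.le_of_dvd Nat.card_pos
      ((h1 v hv).trans (index_dvd_card _))))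
  have hZ := S.isPGroup'.center_nontrivial
  obtain ⟨m, hm, hm'⟩ := (S.isPGroup'.to_subgroup (center S)).nontrivial_iff_card.1 hZ
  obtain ⟨t, ht⟩ := exists_prime_orderOf_dvd_card' (G := center S) 2
    (hm' ▸ dvd_pow_self 2 hm.ne')
  have ht' : orderOf (t.1.1 : E) = 2 := by rw [Subgroup.orderOf_coe, Subgroup.orderOf_coe, ht]
  have h2 := dvd_ncard_of_index (A := (S : Subgroup E)) (X := (fx V t.1.1 : Set V) \ {1}) (m := 16)
    (fun a => smul_mem_diff_one (a := a.1) fun u hu => by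
      have h0 : a.1 * t.1.1 = t.1.1 * a.1 := congrArg Subtype.val (mem_center_iff.1 t.2 a)
      rw [mem_fx, ← mul_smul, ← h0, mul_smul, mem_fx.1 hu]) fun x hx => h1 x hx.2
  rw [ncard_diff_one] at h2
  rcases eq_bot_or_top_of_dvd (p := 3) hn (fun k h0 h4 => by interval_cases k <;> decide) h2
    with h3 | h3
  · have h4 := smul_eq_inv (by rw [← pow_two]; exact orderOf_dvd_iff_pow_eq_one.1 ht'.dvd) h3
    obtain ⟨g, hg⟩ := exists_prime_orderOf_dvd_card' (G := E) 5 (by
      refine Dvd.dvd.trans ?_ (stabilizer E v).index_dvd_card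
      rw [index_stabilizer_eq htr hv, hn]
      norm_num)
    have h5 : Commute g t.1.1 := eq_of_smul_eq_smul (α := V) fun w => by
      rw [mul_smul, mul_smul, h4, h4, smul_inv']
    have h6 := h5.orderOf_mul_eq_mul_orderOf_of_coprime (by rw [hg, ht']; norm_num)
    rw [hg, ht'] at h6
    have := h _ (by rw [h6]; norm_num)
    omega
  · rw [eq_one_of_fx_eq_top h3, orderOf_one] at ht'
    omega

theorem card_le_three (hV : ∀ v : V, v ^ p = 1)
    (htr : ∀ v w : V, v ≠ 1 → w ≠ 1 → ∃ a : E, a • v = w) {x y d : ℕ}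
    (h1 : Nat.card E = x ^ 2 + y ^ 2) (h2 : Nat.card E = d ^ 2 * (Nat.card V - 1))
    (hc : ∀ a b : E, a ≠ 1 → b ≠ 1 → IsCyclic (centralizer ({a} : Set E)) →
      IsCyclic (centralizer ({b} : Set E)) → IsConj a b) : Nat.card V ≤ 3 := by
  classical
  by_contra h3
  obtain ⟨n, hn⟩ := IsPGroup.iff_card.1 (show IsPGroup p V from fun v => ⟨1, by rw [pow_one, hV]⟩)
  have : Nontrivial V := Finite.one_lt_card_iff_nontrivial.1 (by omega)
  have hE : 0 < Nat.card E := Nat.card_pos
  have hd : d ≠ 0 := by rintro rfl; simp [h2] at hE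
  have hp2 := hp.out.two_le
  have hn0 : n ≠ 0 := by rintro rfl; simp [hn] at h3
  have := Fintype.ofFinite E
  by_cases hn1 : n = 1
  · subst hn1
    have hirr : ∀ a : E, Irr V a := fun a U _ => eq_bot_or_top_of_dvd hn (s := 1) (by omega)
      (one_dvd _)
    have h4 : 3 ≤ Nat.card E := by
      rw [h2]
      exact le_trans (by omega) (Nat.le_mul_of_pos_left _ (by positivity))
    have : Nontrivial E := Finite.one_lt_card_iff_nontrivial.1 (by omega)
    obtain ⟨g, hg⟩ := exists_ne (1 : E)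
    have h5 := (singer hV hn (hirr 1)).1
    have h6 := (singer hV hn (hirr g)).2 (Finset.univ.erase 1) fun a ha => ⟨congrArg Subtype.val
      (h5.commGroup.mul_comm ⟨a, by simp [mem_centralizer_singleton_iff]⟩
        ⟨g, by simp [mem_centralizer_singleton_iff]⟩),
      hc _ _ hg (Finset.mem_erase.1 ha).1 (singer hV hn (hirr _)).1 (singer hV hn (hirr _)).1⟩
    rw [Finset.card_erase_of_mem (Finset.mem_univ _), Finset.card_univ,
      ← Nat.card_eq_fintype_card] at h6
    omega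
  have hn2 : 1 < n := by omega
  by_cases hp3 : p = 2
  · subst hp3
    obtain ⟨m, rfl⟩ : ∃ m, n = m + 2 := ⟨n - 2, by omega⟩
    refine sq_add_sq_ne' (j := 0) (u := 2 ^ (m + 2) - 1) hd ?_ (by rw [← h1, h2, hn]; simp)
    have : 0 < 2 ^ m := by positivity
    rw [pow_add]
    omega
  by_cases hm : n = 2 ∧ ∃ m : ℕ, p + 1 = 2 ^ m
  · obtain ⟨rfl, m, hm⟩ := hm
    by_cases hp4 : p = 3
    · subst hp4
      exact not_nine hV hn htr h2 hc
    · obtain ⟨j, rfl⟩ : ∃ j, m = j + 3 := ⟨m - 3, by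
        by_contra h
        have : m ≤ 2 := by omega
        interval_cases m <;> omega⟩
      have h4 : 0 < 2 ^ j := by positivity
      refine sq_add_sq_ne' (x := x) (y := y) (j := j + 4) (u := 4 * (2 ^ j - 1) + 3) hd (by omega) ?_
      rw [← h1, h2, hn]
      congr 1
      obtain ⟨z, hz⟩ : ∃ z, 2 ^ j = z + 1 := ⟨2 ^ j - 1, by omega⟩
      rw [pow_add, hz] at hm
      rw [pow_add, hz, show p = 8 * z + 7 by omega, Nat.add_sub_cancel, eq_comm,
        ← Nat.add_sub_cancel (n := (z + 1) * 2 ^ 4 * (4 * z + 3)) (m := 1)]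
      congr 1
      ring
  obtain ⟨r, hr, hro⟩ := zsigmondy (a := p) hp2 hn2 (fun h => hp3 h.1) hm
  have hel : ∀ s : ℕ, s.Prime → orderOf (p : ZMod s) = n → (∃ a : E, orderOf a = s) ∧
      ∀ a : E, orderOf a = s → Irr V a := fun s hs hso => by
    have : Fact s.Prime := ⟨hs⟩
    obtain ⟨h4, h5⟩ := (orderOf_eq_iff_primitive (by omega) (by omega)).1 hso
    exact ⟨exists_prime_orderOf_dvd_card' s (by rw [h2, hn]; exact h4.mul_left _),
      fun a ha => irr_of_primitive hn hs h4 h5 ha⟩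
  obtain ⟨⟨g, hg⟩, hirr⟩ := hel r hr hro
  have hne : ∀ (a : E) (s : ℕ), s.Prime → s ∣ orderOf a → a ≠ 1 := fun a s hs h h0 => by
    rw [h0, orderOf_one] at h
    exact hs.ne_one (Nat.dvd_one.1 h)
  have hcj : ∀ a : E, r ∣ orderOf a → IsConj g a := fun a ha =>
    hc _ _ (hne _ _ hr hg.symm.dvd) (hne _ _ hr ha) (singer hV hn (hirr g hg)).1
      (isCyclic_centralizer_of_pow (singer hV hn (hirr _
        (orderOf_pow_orderOf_div (orderOf_pos a).ne' ha))).1)
  have hord : ∀ a b : E, IsConj a b → orderOf a = orderOf b := fun a b h => by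
    obtain ⟨c, rfl⟩ := isConj_iff.1 h
    exact ((MulAut.conj c).orderOf_eq a).symm
  have hle : n ≤ r - 1 := Nat.le_of_dvd (by have := hr.two_le; omega)
    (hro ▸ orderOf_dvd_prime_sub_one hr (by omega))
  have : Fact r.Prime := ⟨hr⟩
  have hR : ∀ R : Subgroup E, IsPGroup r R → Nat.card R ≤ n + 1 := fun R hR => by
    rcases subsingleton_or_nontrivial R with h | h
    · rw [Nat.card_unique]
      omega
    obtain ⟨z, hz⟩ := @exists_ne _ hR.center_nontrivial 1
    have h4 : ∀ a : R, a ≠ 1 → IsConj g a := fun a ha => hcj _ (by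
      rw [Subgroup.orderOf_coe]
      exact hR.dvd_orderOf ha)
    have h5 := h4 z.1 fun h => hz (Subtype.ext h)
    have h6 := (singer hV hn (hirr _ ((hord _ _ h5).symm.trans hg))).2
      ((Finset.univ.erase (1 : R)).map (Function.Embedding.subtype _)) fun a ha => by
        obtain ⟨b, hb, rfl⟩ := Finset.mem_map.1 ha
        exact ⟨congrArg Subtype.val (mem_center_iff.1 z.2 b),
          h5.symm.trans (h4 b (Finset.mem_erase.1 hb).1)⟩
    rw [Finset.card_map, Finset.card_erase_of_mem (Finset.mem_univ _), Finset.card_univ,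
      ← Nat.card_eq_fintype_card] at h6
    omega
  have hr1 : r = n + 1 := by
    have := hR (zpowers g) (IsPGroup.of_card (n := 1) (by rw [Nat.card_zpowers, hg, pow_one]))
    rw [Nat.card_zpowers, hg] at this
    omega
  have hsq : ¬ r ^ 2 ∣ Nat.card E := fun h => by
    obtain ⟨R, hR'⟩ := Sylow.exists_subgroup_card_pow_prime r h
    have := hR R (IsPGroup.of_card hR')
    rw [hR', ← hr1] at this
    nlinarith [hr.two_le]
  have h4 := mod_four_ne_three hr (h1 ▸ hg ▸ orderOf_dvd_natCard g) (h1 ▸ hsq)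
  have h5 := hr.eq_two_or_odd
  obtain ⟨rfl, rfl⟩ := eq_of_unique_primitive (p := p) (n := n) (by omega) (by omega) (by omega)
    (fun s hs hso => by
      obtain ⟨⟨a, ha⟩, h6⟩ := hel s hs hso
      rw [← hr1, ← ha, ← hg]
      exact hord _ _ (hc _ _ (hne _ _ hs ha.symm.dvd) (hne _ _ hr hg.symm.dvd)
        (singer hV hn (h6 a ha)).1 (singer hV hn (hirr g hg)).1))
    fun h => hsq (by rw [h2, hn, hr1]; exact h.mul_left _)
  subst hr1
  exact not_eighty_one hn htr fun a ha => (hord _ _ (hcj a ha)).symm.trans hg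

end Orbits

end Cfsg.Lib.Block.TwoGood
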