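import Cfsg.Agent.PrimeOne.BT
import Cfsg.Agent.PrimeOne.Good
import Cfsg.Agent.Block.DegPm2
import Cfsg.Agent.Block.PairCount
import Cfsg.Agent.Block.GaloisBlock
import Cfsg.Agent.S0944

/-!
# The principal block for a self-centralizing Sylow group of prime order with automizer three
-/

set_option autoImplicit false
set_option linter.unusedSectionVars false

namespace Cfsg.Lib.Block.Zh

open Cfsg Subgroup Cfsg.Lib.Char Cfsg.Lib.PrimeOne Princ
open scoped ComplexConjugate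

theorem sgn {δ : ℤ} (h : δ = 1 ∨ δ = -1) (a b c : ℂ) : a * b * δ / c = δ * a * (δ * b) / (δ * c) := by
  rcases h with rfl | rfl <;> simp [div_neg, neg_div]

theorem alg {a b N s t s' t' : ℂ} (ha : a ≠ 0) (hb : b ≠ 0) (hN : N ≠ 0) (e : N = 1 + a + b)
    (h : 1 + s * s' / a + t * t' / b - (1 + s + t) * (1 + s' + t') / N = 0) :
    b * (s - a) * (s' - a) + a * (t - b) * (t' - b) +
      (b * (s - a) - a * (t - b)) * (b * (s' - a) - a * (t' - b)) = 0 := by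
  field_simp at h
  subst e
  linear_combination h

variable {S : Type*} [Group S] [Fintype S] [IsSimpleGroup S] {p : ℕ} [hp : Fact p.Prime] {P : Sylow p S}

/-- The principal block has two nonprincipal nonexceptional characters. -/
structure T3 (P : Sylow p S) (M : Ideal AlgInt) (t : ℕ) (X Y : Finset (IrrCharacter S))
    (δ : IrrCharacter S → ℤ) (ε : ℤ) (χ ψ : IrrCharacter S) : Prop where
  hP : Nat.card P = p
  hC : centralizer ((P : Subgroup S) : Set S) ≤ P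
  hN : Nat.card (normalizer ((P : Subgroup S) : Set S)) = 3 * p
  b : B0 p M 3 t X Y δ ε
  mem : ∀ ξ, ξ ∈ X ↔ ξ = triv S ∨ ξ = χ ∨ ξ = ψ
  n1 : χ ≠ triv S
  n2 : ψ ≠ triv S
  ne : χ ≠ ψ

theorem exists_T3 (hP : Nat.card P = p) (hC : centralizer ((P : Subgroup S) : Set S) ≤ P)
    (he : (centralizer ((P : Subgroup S) : Set S)).relIndex (normalizer ((P : Subgroup S) : Set S)) = 3) :
    ∃ M t X Y δ ε χ ψ, T3 P M t X Y δ ε χ ψ := by
  classical
  obtain ⟨M, hM⟩ := exists_isPModular hp.out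
  obtain ⟨t, X, Y, δ, ε, h⟩ := exists_B0 hM P hP
  rw [he] at h
  obtain ⟨χ, ψ, h1, h2⟩ := Finset.card_eq_two.1 ((Finset.card_erase_of_mem h.triv_mem).trans (by rw [h.card_X]))
  have h3 := ((P : Subgroup S).subgroupOf (normalizer ((P : Subgroup S) : Set S))).index_mul_card
  rw [le_antisymm hC (le_centralizer_self hP)] at he
  rw [Nat.card_congr (subgroupOfEquivOfLe le_normalizer).toEquiv, hP, ← relIndex, he] at h3
  refine ⟨M, t, X, Y, δ, ε, χ, ψ, hP, hC, h3.symm, h, fun ξ => ?_, Finset.ne_of_mem_erase (h2.ge (by simp)),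
    Finset.ne_of_mem_erase (h2.ge (by simp)), h1⟩
  rw [← Finset.insert_erase h.triv_mem, h2]; simp

theorem sum_P [Fintype P] (hP : Nat.card P = p) {f : S → ℂ} {c : ℂ} (h : ∀ g, p ∣ orderOf g → f g = c) :
    ∑ y : P, f y = f 1 + (p - 1) * c := by
  classical
  rw [← Finset.add_sum_erase _ _ (Finset.mem_univ 1), Finset.sum_congr rfl fun (y : (P : Subgroup S)) hy =>
    h y (orderOf_of_mem hP y.2 fun e => Finset.ne_of_mem_erase hy (Subtype.ext e)).symm.dvd,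
    Finset.sum_const, Finset.card_erase_of_mem (Finset.mem_univ _), Finset.card_univ,
    ← Nat.card_eq_fintype_card, hP, nsmul_eq_mul, Nat.cast_pred hp.out.pos, OneMemClass.coe_one]

namespace T3

variable {M : Ideal AlgInt} {t : ℕ} {X Y : Finset (IrrCharacter S)} {δ : IrrCharacter S → ℤ} {ε : ℤ}
  {χ ψ θ ξ : IrrCharacter S} (h : T3 P M t X Y δ ε χ ψ)
include h

theorem swap : T3 P M t X Y δ ε ψ χ :=
  ⟨h.hP, h.hC, h.hN, h.b, fun ξ => (h.mem ξ).trans (or_congr_right or_comm), h.n2, h.n1, h.ne.symm⟩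

theorem m1 : χ ∈ X := (h.mem _).2 (.inr (.inl rfl))

theorem m2 : ψ ∈ X := h.swap.m1

theorem nc : ¬ IsMulCommutative S := fun hc => by
  have h1 := h.hN
  rw [normalizer_eq_top_iff.2 inferInstance, ← eq_top_iff.2 (le_trans (fun x _ => mem_centralizer_iff.2
    fun y _ => mul_comm' y x) h.hC), h.hP] at h1
  have := hp.out.pos
  omega

theorem faith (h1 : ξ ≠ triv S) {g : S} (e : (ξ : S → ℂ) g = (ξ : S → ℂ) 1) : g = 1 :=
  mem_bot.1 ((charKer_eq_bot h.nc h1).le (ξ.2.mem_charKer_iff.2 e))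

theorem sum_X {A : Type*} [AddCommMonoid A] (F : IrrCharacter S → A) :
    ∑ ξ ∈ X, F ξ = F (triv S) + F χ + F ψ := by
  classical
  rw [show X = {triv S, χ, ψ} from Finset.ext fun ξ => by simp [h.mem],
    Finset.sum_insert (by simp [h.n1.symm, h.n2.symm]), Finset.sum_pair h.ne, add_assoc]

theorem rel (hθ : θ ∈ Y) {g : S} (hg : ¬ p ∣ orderOf g) :
    (ε : ℂ) * (θ : S → ℂ) g = 1 + δ χ * (χ : S → ℂ) g + δ ψ * (ψ : S → ℂ) g := by
  rw [h.b.rel θ hθ g hg, h.sum_X, h.b.δ_triv, triv_apply]; simp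

theorem deg_rel (hθ : θ ∈ Y) : ε * deg θ = 1 + δ χ * deg χ + δ ψ * deg ψ := by
  rw [h.b.deg_rel hθ, h.sum_X, h.b.δ_triv, deg_triv]; simp

theorem split (F : IrrCharacter S → ℂ)
    (hF : ∀ ξ : IrrCharacter S, (∀ g, p ∣ orderOf g → (ξ : S → ℂ) g = 0) → F ξ = 0) :
    ∑ ξ, F ξ = F (triv S) + F χ + F ψ + ∑ θ ∈ Y, F θ := by
  rw [← h.sum_X, ← h.b.sum_princ]
  refine (Finset.sum_subset (Finset.subset_univ _) fun ξ _ h1 => hF ξ fun g hg =>
    apply_eq_zero_of_dvd_degree hp.out (not_sq_dvd h.hP) ξ (by_contra fun h2 => h1 ?_) hg).symm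
  exact mem_irrFin.2 (mem_principalBlock_of_not_dvd h.hP h.hC h.b.hM h2)

theorem odd : Odd p := hp.out.odd_of_ne_two fun e => by
  have h1 := h.b.card_eq
  have h2 := h.b.t_pos
  rw [factorization_eq_one h.hP, pow_one] at h1
  omega

theorem pair {τ τ' : S} (h1 : orderOf τ = 2) (h2 : orderOf τ' = 2) {v u v' u' : ℤ}
    (hv : (χ : S → ℂ) τ = v) (hu : (ψ : S → ℂ) τ = u) (hv' : (χ : S → ℂ) τ' = v')
    (hu' : (ψ : S → ℂ) τ' = u') {a b : ℤ} (ha : a = δ χ * deg χ) (hb : b = δ ψ * deg ψ) :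
    b * (δ χ * v - a) * (δ χ * v' - a) + a * (δ ψ * u - b) * (δ ψ * u' - b) +
      (b * (δ χ * v - a) - a * (δ ψ * u - b)) * (b * (δ χ * v' - a) - a * (δ ψ * u' - b)) = 0 := by
  obtain ⟨x, hx, hx1⟩ := exists_ne_one h.hP
  have hox := (orderOf_of_mem h.hP hx hx1).symm.dvd
  obtain ⟨θ, hθ⟩ := h.b.Y_nonempty
  have k : ∀ {τ g : S}, orderOf τ = 2 → IsConj τ g → orderOf g = 2 := fun h1 h2 => by
    obtain ⟨c, rfl⟩ := isConj_iff.1 h2
    rwa [← MulAut.conj_apply, MulEquiv.orderOf_eq]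
  have k' : ∀ {τ : S}, orderOf τ = 2 → ¬ p ∣ orderOf τ := fun h1 h2 =>
    Nat.not_even_iff_odd.2 h.odd (((Nat.prime_dvd_prime_iff_eq hp.out Nat.prime_two).1 (h1 ▸ h2)) ▸ even_two)
  have h3 := sum_irr_mul_mul_conj_div_eq_zero (a := τ) (b := τ') (u := x) fun g k₀ hg hk e => by
    have h4 : g ∈ normalizer ((P : Subgroup S) : Set S) := by
      rw [← zpowers_eq h.hP hx hx1]
      refine mem_normalizer_fintype ?_
      rintro _ ⟨n, rfl⟩
      have g2 : g * g = 1 := by rw [← sq, ← k h1 hg, pow_orderOf_eq_one]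
      have k2 : k₀ * k₀ = 1 := by rw [← sq, ← k h2 hk, pow_orderOf_eq_one]
      rw [← conj_zpow, show g * x * g⁻¹ = x⁻¹ by
        rw [← e, ← mul_assoc, g2, one_mul, mul_inv_rev, inv_eq_of_mul_eq_one_right k2]]
      exact zpow_mem (inv_mem (mem_zpowers x)) n
    have h5 := (normalizer ((P : Subgroup S) : Set S)).orderOf_dvd_natCard h4
    rw [k h1 hg, h.hN] at h5
    exact Nat.not_even_iff_odd.2 ((by decide : Odd 3).mul h.odd) (even_iff_two_dvd.2 h5)
  rw [h.split _ fun ξ e => by rw [e x hox, map_zero, mul_zero, zero_div], Finset.sum_congr rfl fun η hη => by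
      rw [h.b.agree_Y η hη θ hθ τ (k' h1), h.b.agree_Y η hη θ hθ τ' (k' h2),
        h.b.agree_Y η hη θ hθ 1 h.b.not_dvd_one], ← Finset.sum_div, ← Finset.mul_sum, ← map_sum,
    h.b.sum_Y x hox, h.b.val_X χ h.m1 x hox, h.b.val_X ψ h.m2 x hox, map_neg, map_intCast, map_intCast,
    map_intCast, mul_neg, neg_div, sgn (h.b.sign_X χ h.m1), sgn (h.b.sign_X ψ h.m2), sgn h.b.sign,
    h.rel hθ (k' h1), h.rel hθ (k' h2), hv, hu, hv', hu', ← deg_cast χ, ← deg_cast ψ, ← deg_cast θ] at h3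
  simp only [triv_apply, map_one, mul_one, div_one, ← sub_eq_add_neg] at h3
  have k3 : ∀ {d : ℤ} (ξ : IrrCharacter S), d = 1 ∨ d = -1 → (d : ℂ) * deg ξ ≠ 0 := fun ξ e => by
    rcases e with rfl | rfl <;> simp [(deg_pos ξ).ne']
  have h4 := alg (k3 χ (h.b.sign_X χ h.m1)) (k3 ψ (h.b.sign_X ψ h.m2)) (k3 θ h.b.sign)
    (by exact_mod_cast h.deg_rel hθ) h3
  subst ha hb
  exact_mod_cast h4

theorem isSquare (hθ : θ ∈ Y) : IsSquare (-(δ χ * deg χ * (δ ψ * deg ψ) * (ε * deg θ))) := by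
  obtain ⟨τ, h1⟩ := exists_prime_orderOf_dvd_card' 2 (even_iff_two_dvd.1 (even_card h.nc))
  obtain ⟨v, hv, -⟩ := Agent.S0944.result χ τ h1
  obtain ⟨u, hu, -⟩ := Agent.S0944.result ψ τ h1
  have h2 := h.pair h1 h1 hv hu hv hu rfl rfl
  have h3 : δ ψ * u - δ ψ * deg ψ ≠ 0 := fun e => by
    rw [← mul_sub, mul_eq_zero, sub_eq_zero] at e
    rcases e with e | e
    · have := h.b.sign_X ψ h.m2; omega
    · rw [h.faith h.n2 (g := τ) (by rw [hu, e, ← deg_cast, Int.cast_natCast]), orderOf_one] at h1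
      omega
  rw [h.deg_rel hθ, ← Rat.isSquare_intCast_iff]
  generalize δ χ * deg χ = a at *
  generalize δ ψ * deg ψ = b at *
  generalize δ χ * v - a = c at *
  generalize δ ψ * u - b = d at *
  refine ⟨(b * (1 + b) * c - a * b * d : ℤ) / d, ?_⟩
  rw [div_mul_div_comm, eq_div_iff (by simpa using h3)]
  exact_mod_cast (by linear_combination (-b * (1 + b)) * h2 :
    -(a * b * (1 + a + b)) * (d * d) = (b * (1 + b) * c - a * b * d) * (b * (1 + b) * c - a * b * d))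

theorem sum_Y_P [Fintype P] (hθ : θ ∈ Y) : ∑ y : P, (θ : S → ℂ) y = (θ : S → ℂ) 1 - 3 * ε := by
  classical
  obtain ⟨x, hx, hx1⟩ := exists_ne_one h.hP
  have h1 := (centralizer_singleton_eq h.hP hx hx1).trans (le_antisymm h.hC (le_centralizer_self h.hP))
  have h2 := SD.sum_vanish P (zpowers_eq h.hP hx hx1) (orderOf_of_mem h.hP hx hx1)
    (f := fun g => ε * (θ : S → ℂ) g - (1 + δ χ * (χ : S → ℂ) g + δ ψ * (ψ : S → ℂ) g))
    (fun a b => by simp only [θ.2.isClassFunction a b, χ.2.isClassFunction a b, ψ.2.isClassFunction a b])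
    fun g hg => by rw [h.rel hθ hg, sub_self]
  have h3 : ∀ ξ : IrrCharacter S, ξ ≠ triv S → ∑ g, (ξ : S → ℂ) g = 0 := fun ξ e => by
    simpa [classInner_irr, e] using (card_mul_classInner (ξ : S → ℂ) (triv S : S → ℂ)).symm
  rw [zpowers_eq h.hP hx hx1, h.hN, Fintype.sum_equiv (MulEquiv.subgroupCongr h1).toEquiv
    (fun y => ε * (θ : S → ℂ) y - (1 + δ χ * (χ : S → ℂ) y + δ ψ * (ψ : S → ℂ) y))
    (fun y : P => ε * (θ : S → ℂ) y - (1 + δ χ * (χ : S → ℂ) y + δ ψ * (ψ : S → ℂ) y)) fun _ => rfl] at h2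
  simp only [Finset.sum_sub_distrib, Finset.sum_add_distrib, ← Finset.mul_sum, h3 _ h.n1, h3 _ h.n2,
    h3 _ (h.b.ne_triv hθ), sum_P h.hP (h.b.val_X χ h.m1), sum_P h.hP (h.b.val_X ψ h.m2), Finset.sum_const,
    Finset.card_univ, ← Nat.card_eq_fintype_card, h.hP] at h2
  have h4 := h.rel hθ h.b.not_dvd_one
  have h5 : (δ χ : ℂ) * δ χ = 1 := by exact_mod_cast h.b.sign_X_mul_self h.m1
  have h6 : (δ ψ : ℂ) * δ ψ = 1 := by exact_mod_cast h.b.sign_X_mul_self h.m2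
  have h7 : (ε : ℂ) * ε = 1 := by exact_mod_cast h.b.sign_mul_self
  refine mul_left_cancel₀ (card_ne_zero S) ?_
  simp only [nsmul_eq_mul, Nat.cast_mul, Nat.cast_ofNat] at h2
  linear_combination (-ε) * h2 - Nat.card S * ε * h4 + Nat.card S * ε * (p - 1) * (h5 + h6) -
    Nat.card S * (∑ y : P, (θ : S → ℂ) y - (θ : S → ℂ) 1) * h7

theorem mult [Fintype P] {φ : S → ℂ} (hφ : IsCharacter S φ) (h2 : classInner φ (fun _ => 1) = 1) {d : ℕ}
    (h1 : φ 1 = d) (h3 : ∑ y : P, φ y = d + (3 * p - 9)) (hθ : θ ∈ Y) :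
    ∃ m n B : ℕ, classInner φ χ = m ∧ (3 * p - 9 : ℤ) = (p - 1) * (1 + m * δ χ + n * δ ψ) - 3 * ε * B ∧
      1 + m * deg χ + n * deg ψ + B * deg θ ≤ d := by
  classical
  obtain ⟨c, hc⟩ := hφ.exists_nat_coeff
  have h4 : ∀ ξ : IrrCharacter S, classInner φ ξ = c ξ := fun ξ => by rw [hc, classInner_sum_smul_irr]
  have h5 : c (triv S) = 1 := by exact_mod_cast (h4 (triv S)).symm.trans h2
  refine ⟨c χ, c ψ, ∑ η ∈ Y, c η, h4 χ, ?_, ?_⟩
  · have h6 := h.split (fun ξ => c ξ * (∑ y : P, (ξ : S → ℂ) y - (ξ : S → ℂ) 1)) fun ξ e => by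
      rw [sum_P h.hP e]; simp
    rw [Finset.sum_congr (s₁ := Y) rfl fun η hη => by rw [h.sum_Y_P hη, sub_sub_cancel_left], ← Finset.sum_mul,
      sum_P h.hP (h.b.val_X χ h.m1), sum_P h.hP (h.b.val_X ψ h.m2),
      sum_P h.hP (h.b.val_X _ h.b.triv_mem), h.b.δ_triv, h5] at h6
    have h7 : ∑ ξ, (c ξ : ℂ) * (∑ y : P, (ξ : S → ℂ) y - (ξ : S → ℂ) 1) = ∑ y : P, φ y - φ 1 := by
      simp only [hc, Finset.sum_apply, Pi.smul_apply, smul_eq_mul, mul_sub, Finset.sum_sub_distrib,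
        Finset.mul_sum]
      rw [Finset.sum_comm]
    rw [h7, h3, h1] at h6
    exact_mod_cast (by push_cast at h6 ⊢; linear_combination h6 : (3 * p - 9 : ℂ) =
      (p - 1) * (1 + c χ * δ χ + c ψ * δ ψ) - 3 * ε * (∑ η ∈ Y, c η : ℕ))
  · have h6 : d = ∑ ξ, c ξ * deg ξ := by
      have := congrFun hc 1
      rw [h1] at this
      simp only [Finset.sum_apply, Pi.smul_apply, smul_eq_mul, ← deg_cast] at this
      exact_mod_cast this
    have h7 := Finset.sum_le_sum_of_subset (f := fun ξ => c ξ * deg ξ)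
      (Finset.subset_univ (irrFin (principalBlock M S)))
    rwa [h.b.sum_princ, h.sum_X, h5, deg_triv, Finset.sum_congr rfl fun η hη => by rw [h.b.deg_Y_eq hη hθ],
      ← Finset.sum_mul, ← h6] at h7

theorem int (hθ : θ ∈ Y) (h1 : deg χ ≠ deg ψ) (h2 : deg χ ≠ deg θ) (g : S) :
    ∃ n : ℤ, (χ : S → ℂ) g = n := by
  refine exists_int_of_forall_ringEquiv (IsCharacter_isIntegral χ.2.isCharacter g) fun σ => ?_
  have h3 : deg (galoisPerm S σ χ) = deg χ := Nat.cast_injective (R := ℂ) (by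
    rw [deg_cast, galoisPerm_apply, ← deg_cast, map_natCast])
  rcases (h.b.union _).1 (galoisPerm_mem_principalBlock σ (h.b.mem_of_X h.m1)) with h4 | h4
  · rcases (h.mem _).1 h4 with h4 | h4 | h4
    · exact absurd ((h4 ▸ h3).symm.trans deg_triv) (one_lt_deg h.nc h.n1).ne'
    · rw [← galoisPerm_apply, h4]
    · exact absurd (h4 ▸ h3).symm h1
  · exact absurd (h3.symm.trans (h.b.deg_Y_eq h4 hθ)) h2

end T3

/-- The signs are determined. -/
theorem exists_signs [Fintype P] (hP : Nat.card P = p) (hC : centralizer ((P : Subgroup S) : Set S) ≤ P)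
    (he : (centralizer ((P : Subgroup S) : Set S)).relIndex (normalizer ((P : Subgroup S) : Set S)) = 3)
    {φ : S → ℂ} (hφ : IsCharacter S φ) (h2 : classInner φ (fun _ => 1) = 1) {d : ℕ}
    (h1 : φ 1 = d) (h3 : ∑ y : P, φ y = d + (3 * p - 9)) (hp4 : 4 ≤ p)
    (hd : (3 * d : ℤ) < (2 * p - 8) * (2 * p - 3)) :
    ∃ M t X Y δ χ ψ, T3 P M t X Y δ 1 χ ψ ∧ δ χ = 1 ∧ δ ψ = -1 := by
  obtain ⟨M, t, X, Y, δ, ε, χ, ψ, h⟩ := exists_T3 hP hC he
  obtain ⟨θ, hθ⟩ := h.b.Y_nonempty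
  have h4 := (h.isSquare hθ).nonneg
  have h5 := h.deg_rel hθ
  have h6 : (0 : ℤ) < deg χ * deg ψ * deg θ := by
    exact_mod_cast mul_pos (mul_pos (deg_pos χ) (deg_pos ψ)) (deg_pos θ)
  obtain ⟨m, n, B, -, h7, h8⟩ := h.mult hφ h2 h1 h3 hθ
  have h9 := h.b.deg_X_modEq' h.m1
  have h10 := h.b.deg_X_modEq' h.m2
  have := one_lt_deg h.nc h.n1
  rcases h.b.sign with rfl | rfl <;> rcases h.b.sign_X χ h.m1 with e | e <;>
    rcases h.b.sign_X ψ h.m2 with e' | e' <;> rw [e, e'] at h4 h5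
  any_goals first
    | exact ⟨M, t, X, Y, δ, χ, ψ, h, e, e'⟩
    | exact ⟨M, t, X, Y, δ, ψ, χ, h.swap, e', e⟩
    | omega
    | (exfalso; linarith)
  rw [e] at h7 h9
  rw [e'] at h7 h10
  have h11 := Int.le_of_dvd (by omega) h9.symm.dvd
  have h12 := Int.le_of_dvd (by omega) h10.symm.dvd
  have h13 : (0 : ℤ) ≤ (p - 1) * (m + n) := mul_nonneg (by omega) (by positivity)
  have h14 : (2 * p - 8 : ℤ) * (2 * p - 3) ≤ 3 * B * deg θ :=
    mul_le_mul (by linarith) (by omega) (by omega) (by positivity)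
  have h15 : (B * deg θ : ℤ) ≤ d := by exact_mod_cast (Nat.le_add_left _ _).trans h8
  exact absurd hd (by linarith)

end Cfsg.Lib.Block.Zh
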