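import Cfsg.Agent.Block.ZhB0

/-!
# The principal block with automizer three: the prime nineteen
-/

set_option autoImplicit false

namespace Cfsg.Lib.Block.Zh

open Cfsg Subgroup Cfsg.Lib.Char Cfsg.Lib.PrimeOne Princ

theorem sq_dvd_of_princ {G : Type*} [Group G] [Finite G] {q : ℕ} {M : Ideal AlgInt} (hM : IsPModular q M)
    {χ : IrrCharacter G} (hχ : χ ∈ principalBlock M G) {z : G} (hz : ¬ q ∣ (centralizer ({z} : Set G)).index)
    {u : ℤ} (hu : (χ : G → ℂ) z = u) (hd : q ∣ deg χ) : (q : ℤ) * q ∣ deg χ - u := by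
  have h0 : (deg χ : ℂ) ≠ 0 := Nat.cast_ne_zero.2 (deg_pos χ).ne'
  obtain ⟨c, hc⟩ := exists_int_of_isIntegral_of_rat (irr_isIntegral_index_mul_div χ.2 z)
    (q := (centralizer ({z} : Set G)).index * u / deg χ) (by rw [hu, ← deg_cast]; push_cast; rfl)
  have h1 := hχ z
  simp only [centralChar, hc, mul_one, div_one] at h1
  rw [hu, ← deg_cast, div_eq_iff h0] at hc
  obtain ⟨a, ha⟩ := (Loc.ideal_intCast_iff hM ((centralizer ({z} : Set G)).index - c)).1 (by
    simpa using h1)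
  obtain ⟨b, hb⟩ := Int.natCast_dvd_natCast.2 hd
  have h2 : ((centralizer ({z} : Set G)).index * u : ℤ) = c * deg χ := by exact_mod_cast hc
  have h3 := Nat.isCoprime_iff_coprime.2 ((Nat.Prime.coprime_iff_not_dvd hM.1).2 hz)
  exact (h3.mul_left h3).dvd_of_dvd_mul_left ⟨a * b, by linear_combination deg χ * ha - h2 + q * a * hb⟩

set_option synthInstance.maxSize 1000 in
theorem chk19 : ∀ b < (128 : ℕ), ∀ a ≤ b, b % 19 = 1 ∧ 1 < b ∧ a % 19 = 18 ∧ 2 * b + 2 * (1 + b - a) ≤ 255 →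
    IsSquare (b * a * (1 + b - a)) → b = 77 ∧ a = 56 := by decide +kernel

theorem b19 {S : Type*} [Group S] [Fintype S] [IsSimpleGroup S] [Fact (Nat.Prime 19)]
    (P : Sylow 19 S) [Fintype P] (hP : Nat.card P = 19)
    (hC : centralizer ((P : Subgroup S) : Set S) ≤ P)
    (he : (centralizer ((P : Subgroup S) : Set S)).relIndex
      (normalizer ((P : Subgroup S) : Set S)) = 3)
    {φ : S → ℂ} (hφ : IsCharacter S φ) (h1 : φ 1 = 256) (h2 : classInner φ (fun _ => 1) = 1)
    (h3 : ∑ y : P, φ y = 304) : False := by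
  classical
  replace h1 : φ 1 = (256 : ℕ) := by simpa using h1
  replace h3 : ∑ y : P, φ y = (256 : ℕ) + (3 * (19 : ℕ) - 9) := by rw [h3]; norm_num
  obtain ⟨M, t, X, Y, δ, χ, ψ, h, e1, e2⟩ := exists_signs hP hC he hφ h2 h1 h3 (by norm_num) (by norm_num)
  obtain ⟨θ, hθ⟩ := h.b.Y_nonempty
  obtain ⟨d1, d2, d3⟩ : deg χ = 77 ∧ deg ψ = 56 ∧ deg θ = 22 := by
    obtain ⟨m, n, B, -, h4, h5⟩ := h.mult hφ h2 h1 h3 hθ
    have h6 := h.isSquare hθ
    have h7 := h.deg_rel hθ
    have h8 := (h.b.deg_X_modEq' h.m1).dvd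
    have h9 := (h.b.deg_X_modEq' h.m2).dvd
    have h10 := one_lt_deg h.nc h.n1
    have h11 := deg_pos θ
    rw [e1, e2] at *
    have h12 := Nat.mul_le_mul_right (deg χ) (show 2 ≤ m by omega)
    have h13 := Nat.mul_le_mul_right (deg θ) (show 2 ≤ B by omega)
    rw [show -(1 * (deg χ : ℤ) * (-1 * deg ψ) * (1 * deg θ)) = (deg χ * deg ψ * (1 + deg χ - deg ψ) : ℕ) by
      rw [show 1 + deg χ - deg ψ = deg θ by omega]; push_cast; ring, Int.isSquare_natCast_iff] at h6
    have := chk19 (deg χ) (by omega) (deg ψ) (by omega) ⟨by omega, h10, by omega, by omega⟩ h6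
    omega
  have p7 : Fact (Nat.Prime 7) := ⟨by norm_num⟩
  obtain ⟨M', hM'⟩ := exists_isPModular p7.out
  have h7 : 7 ∣ Nat.card S := (d1 ▸ by norm_num : 7 ∣ deg χ).trans (deg_dvd_card χ)
  have hk := p7.out.factorization_pos_of_dvd Nat.card_pos.ne' h7
  have hpq : ∀ g : S, 7 ∣ orderOf g → ¬ 19 ∣ orderOf g := fun g e e' => by
    rw [orderOf_eq_of_dvd hP hC e'] at e; omega
  have bt := fun η hη => h.b.brauer_tuan (θ := η) p7.out hM' isPBlock_principalBlock hpq hη
  simp only [Finset.sum_filter, h.sum_X, triv_mem_principalBlock hM', if_true, h.b.δ_triv, deg_triv, e1, e2,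
    d1, d2] at bt
  have hY : ∀ η ∈ Y, η ∈ principalBlock M' S := fun η hη => by_contra fun e => by
    have := (dvd_pow_self _ hk.ne').trans (bt η hη)
    rw [if_neg e] at this
    split_ifs at this <;> omega
  by_cases h49 : 7 ^ 2 ∣ Nat.card S
  · have h4 := (pow_dvd_pow _ ((p7.out.pow_dvd_iff_le_factorization Nat.card_pos.ne').1 h49)).trans (bt θ hθ)
    rw [if_pos (hY θ hθ), d3] at h4
    obtain ⟨z, hz1, ⟨k, hz2⟩, hz⟩ := exists_pcentral p7.out h7
    obtain ⟨v, hv⟩ := h.int hθ (by omega) (by omega) z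
    obtain ⟨u, hu⟩ := h.swap.int hθ (by omega) (by omega) z
    have h5 := sq_dvd_of_princ hM' (χ := χ) (by_contra fun e => by
      rw [if_neg e] at h4; split_ifs at h4 <;> omega) hz hv (by omega)
    have h6 := sq_dvd_of_princ hM' (χ := ψ) (by_contra fun e => by
      rw [if_neg e] at h4; split_ifs at h4 <;> omega) hz hu (by omega)
    have h8 : (θ : S → ℂ) z = (1 + v - u : ℤ) := by
      have := h.rel hθ (hpq z (hz2 ▸ dvd_pow_self _ fun e => hz1 (by simpa [e] using hz2)))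
      rw [e1, e2, hv, hu] at this
      push_cast at this ⊢
      linear_combination this
    have h9 := IsCharacter_norm_le θ.2.isCharacter z
    rw [h8, ← deg_cast, d3, Complex.norm_intCast, Complex.norm_natCast] at h9
    have h10 : |1 + v - u| ≤ 22 := by exact_mod_cast h9
    rw [abs_le] at h10
    exact hz1 (h.faith (h.b.ne_triv hθ) (by rw [h8, ← deg_cast, d3, show 1 + v - u = 22 by omega]; simp))
  obtain ⟨Q⟩ : Nonempty (Sylow 7 S) := inferInstance
  have h4 : (Nat.card S).factorization 7 = 1 := by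
    rw [p7.out.pow_dvd_iff_le_factorization Nat.card_pos.ne'] at h49; omega
  obtain ⟨t', X', Y', δ', ε', b⟩ := exists_B0 hM' Q (by rw [Q.card_eq_multiplicity, h4, pow_one])
  generalize relIndex (G := S) _ _ = e' at b
  obtain ⟨y, hy⟩ := exists_prime_orderOf_dvd_card' 7 h7
  have h5 := b.card_eq
  have h6 := h.b.card_eq
  rw [h4] at h5
  rw [factorization_eq_one hP] at h6
  have h8 : insert (triv S) Y = X' ∪ Y' := Finset.eq_of_subset_of_card_le (fun η hη =>
    Finset.mem_union.2 ((b.union η).1 ((Finset.mem_insert.1 hη).elim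
      (fun e => e ▸ triv_mem_principalBlock hM') (hY η)))) ((Finset.card_union_le _ _).trans (by
    rw [Finset.card_insert_of_notMem fun e => h.b.ne_triv e rfl, b.card_X, b.card_Y, h.b.card_Y]
    have := Nat.le_of_dvd (by decide) (⟨t', by omega⟩ : e' ∣ 6)
    interval_cases e' <;> omega))
  have h9 : ∀ η ∈ X' ∪ Y', (η : S → ℂ) y = 1 := fun η hη => by
    rcases Finset.mem_insert.1 (h8.ge hη) with rfl | hη
    · rfl
    · simpa [apply_eq_zero_of_dvd_degree p7.out h49 χ (d1 ▸ by norm_num : 7 ∣ deg χ) hy.symm.dvd,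
        apply_eq_zero_of_dvd_degree p7.out h49 ψ (d2 ▸ by norm_num : 7 ∣ deg ψ) hy.symm.dvd]
        using h.rel hη (hpq y hy.symm.dvd)
  have h10 := b.sum_Y y hy.symm.dvd
  rw [Finset.sum_congr rfl fun η hη => h9 η (Finset.mem_union_right _ hη), Finset.sum_const, b.card_Y,
    nsmul_one] at h10
  obtain ⟨η, hη⟩ := b.Y_nonempty
  have h11 := b.deg_rel hη
  have h12 : 0 ≤ ∑ ξ ∈ X', δ' ξ * deg ξ := Finset.sum_nonneg fun ξ hξ => by
    rw [show δ' ξ = 1 by
      exact_mod_cast (b.val_X ξ hξ y hy.symm.dvd).symm.trans (h9 ξ (Finset.mem_union_left _ hξ))]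
    positivity
  have h13 : (t' : ℤ) = -ε' := by exact_mod_cast h10
  have := deg_pos η
  rcases b.sign with rfl | rfl <;> omega

end Cfsg.Lib.Block.Zh
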