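import Cfsg.Agent.Block.ZhB0
import Cfsg.Agent.S4504

/-!
# The principal block with automizer three: the prime seven
-/

set_option autoImplicit false

namespace Cfsg.Lib.Block.Zh

open Cfsg Subgroup Cfsg.Lib.Char Cfsg.Lib.PrimeOne Princ
open scoped MatrixGroups ComplexConjugate

theorem b7 {S : Type*} [Group S] [Fintype S] [IsSimpleGroup S] [Fact (Nat.Prime 7)]
    (P : Sylow 7 S) [Fintype P] (hP : Nat.card P = 7)
    (hC : centralizer ((P : Subgroup S) : Set S) ≤ P)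
    (he : (centralizer ((P : Subgroup S) : Set S)).relIndex
      (normalizer ((P : Subgroup S) : Set S)) = 3)
    {φ : S → ℂ} (hφ : IsCharacter S φ) (h1 : φ 1 = 16) (h2 : classInner φ (fun _ => 1) = 1)
    (h3 : ∑ y : P, φ y = 28) (hsq : ∀ τ : S, orderOf τ = 2 → ∃ k : ℤ, φ τ = (k : ℂ) ^ 2) :
    Nonempty (S ≃* PSL(2, ZMod 7)) ∨ (PRankLE 2 2 S ∧ 35 ∣ Nat.card S ∧
      ∃ χ : S → ℂ, IsIrrCharacter S χ ∧ charDegree χ = 6 ∧ ∀ g, ∃ n : ℤ, χ g = n) := by
  classical
  have h1' : φ 1 = (16 : ℕ) := by simpa using h1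
  replace h3 : ∑ y : P, φ y = (16 : ℕ) + (3 * (7 : ℕ) - 9) := by rw [h3]; norm_num
  obtain ⟨M, t, X, Y, δ, χ, ψ, h, e1, e2⟩ := exists_signs hP hC he hφ h2 h1' h3 (by norm_num) (by norm_num)
  obtain ⟨θ, hθ⟩ := h.b.Y_nonempty
  obtain ⟨m, n, B, hm, h4, h5⟩ := h.mult hφ h2 h1' h3 hθ
  have h7 := h.deg_rel hθ
  have h8 := (h.b.deg_X_modEq' h.m1).dvd
  have h9 := (h.b.deg_X_modEq' h.m2).dvd
  have h10 := one_lt_deg h.nc h.n1
  have h11 := deg_pos θ
  rw [e1, e2] at h4 h7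
  rw [e1] at h8
  rw [e2] at h9
  have h12 := Nat.mul_le_mul_right (deg χ) (show 1 ≤ m by omega)
  rcases (by omega : deg θ = 3 ∨ deg χ = 15 ∧ deg ψ = 6 ∧ deg θ = 10) with d | ⟨d1, d2, d3⟩
  · obtain ⟨e⟩ := Agent.S4504.result 7 (by norm_num) h.b.dvd_card (not_sq_dvd hP) (fun H hH e => by
      rcases hH.eq_bot_or_eq_top with rfl | rfl
      · simp at e
      · have := h.hN ▸ card_le_card_group (normalizer ((P : Subgroup S) : Set S))
        rw [card_top] at e
        omega) θ θ.2.isCharacter (fun _ => h.faith (h.b.ne_triv hθ)) (by rw [show charDegree _ = 3 from d])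
    exact .inl ⟨(((QuotientGroup.quotientMulEquivOfEq
      ((normal_of_characteristic (center S)).eq_bot_or_eq_top.resolve_right fun e =>
        h.nc ⟨⟨fun a b => mem_center_iff.1 (e.ge (mem_top b)) a⟩⟩)).trans
        QuotientGroup.quotientBot).symm).trans e⟩
  have h13 := SD.eq_sum_of_deg hφ {triv S, χ} (fun ξ hξ => by
    rcases Finset.mem_insert.1 hξ with rfl | hξ
    · exact h2.trans_ne one_ne_zero
    · rw [Finset.mem_singleton.1 hξ, hm]; exact Nat.cast_ne_zero.2 (by omega)) (by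
    rw [Finset.sum_pair h.n1.symm, ← deg_cast χ, d1, h1]; norm_num)
  rw [Finset.sum_pair h.n1.symm] at h13
  have d4 : (ψ : S → ℂ) 1 = 6 := by rw [← deg_cast, d2]; rfl
  have key : ∀ τ : S, orderOf τ = 2 → (χ : S → ℂ) τ = (-1 : ℤ) ∧
      ∃ u : ℤ, (ψ : S → ℂ) τ = u ∧ (u = 2 ∨ u = -2) := fun τ hτ => by
    obtain ⟨v, hv, -⟩ := Agent.S0944.result χ τ hτ
    obtain ⟨u, hu, k1⟩ := Agent.S0944.result ψ τ hτ
    obtain ⟨k, hk⟩ := hsq τ hτ
    rw [h13, Pi.add_apply, triv_apply, hv] at hk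
    have k2 : 1 + v = k ^ 2 := by exact_mod_cast hk
    have k3 := h.pair hτ hτ hv hu hv hu (a := 15) (b := -6) (by rw [e1, d1]; rfl) (by rw [e2, d2]; rfl)
    have k4 := IsCharacter_norm_le ψ.2.isCharacter τ
    rw [hu, ← deg_cast, d2, Complex.norm_intCast, Complex.norm_natCast] at k4
    have k5 : |u| ≤ 6 := by exact_mod_cast k4
    have k6 : u ≠ 6 := fun e => by
      rw [h.faith h.n2 (g := τ) (by rw [hu, e, d4]; rfl), orderOf_one] at hτ
      omega
    have k7 : u ≠ 0 := fun e => by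
      have k9 : Nat.card (zpowers τ) = 2 := by rw [Nat.card_zpowers, hτ]
      have k8 := detChar_of_regular (H := zpowers τ) (s := ⟨τ, mem_zpowers τ⟩) (m := 3)
        (χ := fun x => (ψ : S → ℂ) x) (fun ⟨_, n, e⟩ => ⟨n, Subtype.ext e⟩)
        (by rw [k9, OneMemClass.coe_one, d4]; norm_num) (fun x hx => by
          rw [((Nat.card_eq_two_iff' 1).1 k9).unique hx (y₂ := ⟨τ, mem_zpowers τ⟩) fun e => by
            simp [show τ = 1 from congrArg Subtype.val e] at hτ, hu, e, Int.cast_zero])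
        (k9 ▸ even_two)
      simp only [detChar_res ψ.2.isCharacter, detChar_eq_one (commutator_eq_top h.nc)] at k8
      norm_num at k8
    rw [e1, e2] at k3
    rw [show charDegree _ = 6 from d2] at k1
    rw [abs_le] at k5
    have k8 : (v - 2 * u - 3) * (v - 4 * u + 9) = 0 := by linarith
    have k9 : k ^ 2 < 4 ^ 2 := by rcases mul_eq_zero.1 k8 with e | e <;> omega
    obtain ⟨k10, k11⟩ := abs_lt.1 (abs_lt_of_sq_lt_sq k9 (by norm_num))
    have : v = -1 ∧ (u = 2 ∨ u = -2) := by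
      rcases mul_eq_zero.1 k8 with e | e <;> interval_cases k <;> omega
    exact ⟨this.1 ▸ hv, u, hu, this.2⟩
  refine .inr ⟨fun A _ hA => by_contra fun hc => ?_, Nat.Coprime.mul_dvd_of_dvd_of_dvd (m := 5) (n := 7)
    (by norm_num) ((d1 ▸ by norm_num : 5 ∣ deg χ).trans (deg_dvd_card χ)) h.b.dvd_card, ψ, ψ.2, d2,
    h.swap.int hθ (by omega) (by omega)⟩
  have k0 : ∀ a : A, a ≠ 1 → orderOf (a : S) = 2 := fun a e =>
    orderOf_eq_prime (hA a a.2) fun e' => e (Subtype.ext e')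
  have := Finite.one_lt_card_iff_nontrivial.1 (show 1 < Nat.card A by omega)
  obtain ⟨a, ha⟩ := exists_ne (1 : A)
  obtain ⟨k1, u, k2, k3⟩ := key a (k0 a ha)
  obtain ⟨l, hl⟩ := exists_nat_sum_conj_subgroup ψ.2.isCharacter A
  rw [← Finset.add_sum_erase _ _ (Finset.mem_univ 1), Finset.sum_congr rfl (g := fun _ => (u : ℂ)) fun b hb => by
      obtain ⟨k4, u', k5, k6⟩ := key b (k0 b (Finset.ne_of_mem_erase hb))
      have k7 := h.pair (k0 a ha) (k0 b (Finset.ne_of_mem_erase hb)) k1 k2 k4 k5 (a := 15) (b := -6)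
        (by rw [e1, d1]; rfl) (by rw [e2, d2]; rfl)
      rw [e1, e2] at k7
      rw [k5, map_intCast, show u' = u by rcases k3 with rfl | rfl <;> omega],
    Finset.sum_const, Finset.card_erase_of_mem (Finset.mem_univ _), Finset.card_univ,
    ← Nat.card_eq_fintype_card, nsmul_eq_mul, Nat.cast_pred Nat.card_pos, OneMemClass.coe_one, d4,
    map_ofNat] at hl
  have k4 : (6 + (Nat.card A - 1) * u : ℤ) = Nat.card A * l := by exact_mod_cast hl
  rcases k3 with rfl | rfl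
  · have := Int.le_of_dvd (by decide) (⟨l - 2, by linarith⟩ : (Nat.card A : ℤ) ∣ 4)
    omega
  · have : (0 : ℤ) ≤ Nat.card A * l := by positivity
    omega

end Cfsg.Lib.Block.Zh
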