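import Cfsg.Agent.Block.ZhTw
import Cfsg.Agent.Local.BaerSuzuki

/-!
# Feit's reduction, first part: eigenvalue multiplicities and trivial intersection
-/

set_option autoImplicit false

namespace Cfsg.Lib.Block.Zh

open Cfsg Subgroup Cfsg.Lib.Char
open scoped ComplexConjugate commutatorElement

universe u

/-- The reduction statement for degrees at most `d`. -/
def Red (p d : ℕ) : Prop :=
  ∀ (G : Type u) [Group G] [Finite G] (ζ : G → ℂ), IsIrrCharacter G ζ → charKer ζ = ⊥ →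
    charDegree ζ ≤ d → ¬ p ∣ Nat.card (center G) → NC p ζ → ¬ p ^ 2 ∣ Nat.card G

variable {p : ℕ} [hp : Fact p.Prime]

section

variable {G : Type*} [Group G] [Finite G] {θ : G → ℂ}

theorem exists_norm (hθ : IsIrrCharacter G θ) (hd : charDegree θ < p) :
    ∃ (K : Subgroup G) (_ : K.Normal) (θ' : G ⧸ K → ℂ) (κ : G →* ℂˣ), IsIrrCharacter _ θ' ∧
      charKer θ' = ⊥ ∧ (∀ g, θ' (QuotientGroup.mk' K g) = θ g * κ g) ∧
      (∃ k, ∀ g, κ g ^ p ^ k = 1) ∧ ¬ p ∣ Nat.card (center (G ⧸ K)) ∧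
      charCenter θ = (center (G ⧸ K)).comap (QuotientGroup.mk' K) := by
  obtain ⟨κ, h1, h2⟩ := exists_tw hθ hd
  have h3 := hθ.mul_monoidHom κ
  have := h3.charKer_normal
  have h4 : charCenter θ = (center _).comap (QuotientGroup.mk' (charKer _)) :=
    (Subgroup.ext fun g => by simp [hθ.mem_charCenter_iff, h3.mem_charCenter_iff,
      norm_monoidHom_apply]).trans h3.charCenter_eq_comap_center
  refine ⟨_, this, deflate _ _, κ, h3.deflate le_rfl, charKer_deflate_self h3.isCharacter,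
    h3.isCharacter.isClassFunction.deflate_mk le_rfl, h1, fun h => ?_, h4⟩
  obtain ⟨⟨z, hz⟩, hzp⟩ := exists_prime_orderOf_dvd_card' p h
  obtain ⟨z, rfl⟩ := QuotientGroup.mk'_surjective _ z
  obtain ⟨k, m, hm, hkm⟩ := Nat.exists_eq_pow_mul_and_not_dvd (orderOf_pos z).ne' p hp.out.ne_one
  have h5 := h2 (z ^ m) (pow_mem (h4.ge hz) m)
    ⟨k, by rw [← pow_mul, mul_comm, ← hkm, pow_orderOf_eq_one]⟩
  refine hm (hzp ▸ orderOf_dvd_of_pow_eq_one (Subtype.ext ?_))
  exact (map_pow _ z m).symm.trans ((QuotientGroup.eq_one_iff _).2 h5)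

omit hp in
theorem NC.map {H : Type*} [Group H] [Finite H] (h : NC p θ) (hθ : IsCharacter G θ) (f : G →* H)
    {θ' : H → ℂ} {κ : G →* ℂˣ} (h1 : ∀ g, θ' (f g) = θ g * κ g) : NC p θ' := by
  obtain ⟨a, b, ha, hb, h⟩ := h
  refine ⟨f a, f b, ha.imp fun k hk => by rw [← map_pow, hk, map_one],
    hb.imp fun k hk => by rw [← map_pow, hk, map_one], fun h2 => h (hθ.mem_charKer_iff.2 ?_)⟩
  have h3 := apply_of_mem_charKer h2
  rw [← map_commutatorElement, ← map_one f, h1, h1, map_commutatorElement κ,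
    commutatorElement_eq_one_iff_mul_comm.2 (mul_comm (κ a) (κ b)), map_one] at h3
  simpa using h3

end

theorem Red.facts {d : ℕ} (R : Red.{u} p d) (hd : d + 2 ≤ p) {Y : Type u} [Group Y] [Finite Y]
    {θ : Y → ℂ} (hθ : IsIrrCharacter Y θ) (hθd : charDegree θ ≤ d) (h : NC p θ) :
    p ≤ 2 * charDegree θ + 1 ∧ (∀ y, y ^ p = 1 → y ∉ charCenter θ → ∀ c, c ^ p = 1 →
      ml p θ y c ≤ 1) ∧ ¬ p ^ 2 ∣ (charCenter θ).index := by
  obtain ⟨K, hK, θ', κ, h1, h2, h3, -, h4, h5⟩ := exists_norm (p := p) hθ (by omega)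
  have h6 : charDegree θ' = charDegree θ := Deg.deg_congr (by simpa using h3 1)
  have h7 := h.map hθ.isCharacter _ h3
  have h8 := R _ θ' h1 h2 (h6 ▸ hθd) h4 h7
  have key := fun x => prime_case (x := x) h1 h2 (by omega) h8 h7
  refine ⟨?_, fun y hy hZ c hc => ?_, fun h => h8 (h.trans ?_)⟩
  · obtain ⟨a, b, ha, -, h⟩ := h7
    obtain ⟨k, hk⟩ := exists_order_p ha fun h' => h (by simp [h'])
    exact h6 ▸ (key _ hk).1
  · have h9 := (key (QuotientGroup.mk' K y) (orderOf_eq_prime (by rw [← map_pow, hy, map_one])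
      fun h' => hZ (h5.ge (by simp only [mem_comap, h', one_mem])))).2 (c * κ y) (by
        rw [mul_pow, hc, one_mul, ← Units.val_pow_eq_pow_val, ← map_pow, hy, map_one, Units.val_one])
    rwa [← ml_comp, show (fun g => θ' (QuotientGroup.mk' K g)) = θ * fun g => (κ g : ℂ) from
      funext h3, ml_mul] at h9
  rw [h5, index_comap_of_surjective _ (QuotientGroup.mk'_surjective K)]
  exact index_dvd_card _

/-- The inductive situation. -/
structure St (p : ℕ) {G : Type u} [Group G] (ζ : G → ℂ) : Prop where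
  irr : IsIrrCharacter G ζ
  ker : charKer ζ = ⊥
  deg : charDegree ζ + 2 ≤ p
  nc : NC p ζ
  ih : Red.{u} p (charDegree ζ - 1)

namespace St

variable {G : Type u} [Group G] [Finite G] {ζ : G → ℂ} (h : St p ζ) {y : G} {c : ℂ}
include h

theorem facts {Y : Subgroup G} {θ : Y → ℂ} (hθ : IsIrrCharacter Y θ)
    (hd : charDegree θ < charDegree ζ) (hn : NC p θ) :
    p ≤ 2 * charDegree θ + 1 ∧ (∀ y, y ^ p = 1 → y ∉ charCenter θ → ∀ c, c ^ p = 1 →
      ml p θ y c ≤ 1) ∧ ¬ p ^ 2 ∣ (charCenter θ).index :=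
  h.ih.facts (by have := h.deg; omega) hθ (by omega) hn

omit hp in
theorem cen : charCenter ζ = center G := h.irr.charCenter_eq_center_of_faithful h.ker

omit hp in
theorem exists_con (Y : Subgroup G) [Fintype Y] {a b : Y} (hab : (a : G) * b ≠ b * a) :
    ∃ θ, IsIrrCharacter Y θ ∧ classInner (fun g : Y => ζ g) θ ≠ 0 ∧ ⁅a, b⁆ ∉ charKer θ :=
  exists_constituent (h.irr.isCharacter.res Y) fun h1 => hab (by
    rw [h.irr.isCharacter.charKer_res, h.ker, mem_subgroupOf, mem_bot] at h1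
    exact commutatorElement_eq_one_iff_mul_comm.1 h1)

theorem irr_res {Y : Subgroup G} (hY : ∀ a : G, (∃ k, a ^ p ^ k = 1) → a ∈ Y) :
    IsIrrCharacter Y fun g => ζ g := by
  let K := normalClosure {a : G | ∃ k, a ^ p ^ k = 1}
  have hK : K ≤ Y := (closure_le _).2 fun a ha => by
    obtain ⟨b, ⟨k, hk⟩, hb⟩ := Group.mem_conjugatesOfSet_iff.1 ha
    obtain ⟨g, rfl⟩ := isConj_iff.1 hb
    exact hY _ ⟨k, by rw [conj_pow, hk, mul_one, mul_inv_cancel]⟩
  have := Fintype.ofFinite K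
  refine (h.irr.isCharacter.res Y).isIrrCharacter_of_comp (inclusion hK) ?_
  obtain ⟨a, b, ha, hb, h1⟩ := h.nc
  obtain ⟨θ, h2, h3, h4⟩ := h.exists_con K (a := ⟨a, subset_normalClosure ha⟩)
    (b := ⟨b, subset_normalClosure hb⟩)
    fun h' => h1 (commutatorElement_eq_one_iff_mul_comm.2 h' ▸ one_mem _)
  by_contra h5
  have h6 := Deg.deg_lt_of_classInner_ne_zero (h.irr.isCharacter.res K) h2 h3 fun h' => h5 (h' ▸ h2)
  rw [Deg.deg_res] at h6
  have h7 := (h.facts h2 h6 ⟨_, _, ha.imp fun _ => Subtype.ext, hb.imp fun _ => Subtype.ext, h4⟩).1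
  obtain ⟨m, hm⟩ := Deg.deg_dvd_of_lies_over h.irr h2 h3
  have := h.deg
  rcases m with _ | _ | m
  · have := Deg.deg_pos h.irr; omega
  · omega
  · rw [mul_add, mul_add] at hm; omega

theorem mem_center {g : G} (hg : ∀ a : G, (∃ k, a ^ p ^ k = 1) → a * g = g * a) :
    g ∈ center G := by
  have h1 := h.irr_res (Y := centralizer {g}) fun a ha => mem_centralizer_singleton_iff.2 (hg a ha)
  exact h.cen ▸ h.irr.mem_charCenter_iff.2 (h1.mem_charCenter_iff.1 (h1.center_le_charCenter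
    (x := ⟨g, mem_centralizer_singleton_iff.2 rfl⟩)
    (mem_center_iff.2 fun a => Subtype.ext (mem_centralizer_singleton_iff.1 a.2))))

theorem le_center {N : Subgroup G} [N.Normal] (hN : IsPGroup p N) : N ≤ center G :=
  fun g hg => h.mem_center fun a ha => comm_of_deg h.irr.isCharacter h.ker
    (by have := h.deg; omega) ((isPGroup_zpowers ha).to_sup_of_normal_right hN) _
      (mem_sup_left (mem_zpowers a)) _ (mem_sup_right hg)

theorem exists_conj (hy : y ^ p = 1) (hZ : y ∉ center G) :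
    ∃ g, y * (g * y * g⁻¹) ≠ g * y * g⁻¹ * y := by
  by_contra h1
  push Not at h1
  refine hZ (h.le_center (Local.baer_suzuki_elem (p := p) y fun g => ?_) (subset_normalClosure rfl))
  refine ((isPGroup_zpowers ⟨1, by rwa [pow_one]⟩).to_sup_of_normal_right' (isPGroup_zpowers
    (a := g * y * g⁻¹) ⟨1, by rw [pow_one, conj_pow, hy, mul_one, mul_inv_cancel]⟩)
    (zpowers_le.2 (centralizer_le_normalizer _ ?_))).to_le ((closure_le _).2 ?_)
  · rw [PS.centralizer_zpowers]; exact mem_centralizer_singleton_iff.2 (h1 g)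
  rintro _ (rfl | rfl)
  exacts [mem_sup_left (mem_zpowers _), mem_sup_right (mem_zpowers _)]

theorem big (hy : y ^ p = 1) (hZ : y ∉ center G) (hc : c ^ p = 1) (hm : p ≤ 2 * ml p ζ y c + 1) :
    charDegree ζ + 2 = p ∧ ∃ (Y : Subgroup G) (y' : Y) (θ R : Y → ℂ), y' = y ∧
      IsIrrCharacter Y θ ∧ IsCharacter Y R ∧ (fun g : Y => ζ g) = θ + R ∧ NC p θ ∧
      2 * charDegree θ + 1 = p ∧ y' ∉ charCenter θ ∧ ml p θ y' c = 1 ∧
      ml p R y' c = charDegree R ∧ charCenter R = ⊤ := by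
  obtain ⟨g, hg⟩ := h.exists_conj hy hZ
  have hχ := h.irr.isCharacter
  have hy' : (g * y * g⁻¹) ^ p = 1 := by rw [conj_pow, hy, mul_one, mul_inv_cancel]
  have hm' := ml_conj (p := p) (y := y) (c := c) hχ.isClassFunction g
  have hd := h.deg
  let Y := closure {y, g * y * g⁻¹}
  have := Fintype.ofFinite Y
  let a : Y := ⟨y, subset_closure (.inl rfl)⟩
  let b : Y := ⟨g * y * g⁻¹, subset_closure (.inr rfl)⟩
  have ha : a ^ p = 1 := Subtype.ext hy
  have hb : b ^ p = 1 := Subtype.ext hy'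
  obtain ⟨lam, hl⟩ := exists_lin hχ hy hc hy' hc (by omega)
  obtain ⟨θ, h1, h2, h3⟩ := h.exists_con Y (a := a) (b := b) hg
  have hn : NC p θ := ⟨a, b, ⟨1, by rwa [pow_one]⟩, ⟨1, by rwa [pow_one]⟩, h3⟩
  have h4 := Deg.deg_lt_of_classInner_ne_zero (hχ.res Y) h1 h2 fun h' => by
    have h5 := hn.one_lt h1
    rw [h1.eq_of_classInner_ne_zero (isIrrCharacter_monoidHom lam) (h' ▸ hl),
      Deg.deg_monoidHom] at h5
    exact h5.false
  rw [Deg.deg_res] at h4
  obtain ⟨h5, h6, -⟩ := h.facts h1 h4 hn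
  have hR := (hχ.res Y).sub_of_classInner_ne_zero h1 h2
  set R := (fun g : Y => ζ g) - θ with hR'
  have h7 : (fun g : Y => ζ g) = θ + R := by rw [hR', add_sub_cancel]
  have h8 : charDegree ζ = charDegree θ + charDegree R := by
    rw [← Deg.deg_add h1.isCharacter hR, ← h7, Deg.deg_res]
  have ha' : a ∉ charCenter θ := fun h' =>
    h3 (h1.isCharacter.isClassFunction.commutatorElement_mem_charKer h' b)
  have hb' : b ∉ charCenter θ := fun h' => h3 (by
    simpa using inv_mem (h1.isCharacter.isClassFunction.commutatorElement_mem_charKer h' a))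
  have ea := ml_add h1.isCharacter hR ha hc
  have eb := ml_add h1.isCharacter hR hb hc
  rw [← h7, ml_res] at ea eb
  have := h6 a ha ha' c hc
  have := h6 b hb hb' c hc
  have := ml_le hR ha hc
  have := ml_le hR hb hc
  change ml p ζ y c = _ at ea
  change ml p ζ (g * y * g⁻¹) c = _ at eb
  refine ⟨by omega, Y, a, θ, R, rfl, h1, hR, h7, hn, by omega, ha', by omega, by omega,
    eq_top_iff.2 fun z _ => ?_⟩
  have h9 : Y ≤ (charCenter R).map Y.subtype := (closure_le _).2 (by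
    rintro _ (rfl | rfl)
    exacts [⟨a, mem_center_of_ml hR ha hc (by omega), rfl⟩,
      ⟨b, mem_center_of_ml hR hb hc (by omega), rfl⟩])
  obtain ⟨w, hw, e⟩ := h9 z.2
  exact (Subtype.ext e : w = z) ▸ hw

theorem ml_le_one (hy : y ^ p = 1) (hZ : y ∉ center G) (hc : c ^ p = 1)
    (hm : p ≤ 2 * ml p ζ y c + 1) {c' : ℂ} (hc' : c' ^ p = 1) (hne : c ≠ c') :
    ml p ζ y c' ≤ 1 := by
  obtain ⟨h0, Y, y, θ, R, rfl, h1, hR, h2, hn, h3, h4, -, h5, -⟩ := h.big hy hZ hc hm
  have hy' : y ^ p = 1 := Subtype.ext hy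
  have h6 := ml_add_le hR hy' hc hc' hne
  have h7 := (h.facts h1 (by have := hn.one_lt h1; omega) hn).2.1 y hy' h4 c' hc'
  rw [← ml_res, h2, ml_add h1.isCharacter hR hy' hc']
  omega

variable (hZ : ¬ p ∣ Nat.card (center G)) (h7 : charDegree ζ + 3 ≤ p ∨ 7 ≤ p)
include hZ

omit h [Finite G] in
theorem not_mem (hy : y ^ p = 1) (h1 : y ≠ 1) : y ∉ center G := fun h' =>
  hZ (orderOf_eq_prime hy h1 ▸ orderOf_dvd_natCard _ h')

include h7

theorem small (hy : y ^ p = 1) (h1 : y ≠ 1) (hc : c ^ p = 1) : 2 * ml p ζ y c + 3 ≤ p := by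
  have := h.nc.one_lt h.irr
  have := h.deg
  obtain ⟨n, hn⟩ := hp.out.odd_of_ne_two (by omega)
  by_contra hm
  obtain ⟨h0, Y, y, θ, R, rfl, hθ, hR, h2, hn, h3, h4, h5, h6, h8⟩ :=
    h.big hy (not_mem hZ hy h1) hc (by omega)
  have hy' : y ^ p = 1 := Subtype.ext hy
  have h9 : charDegree ζ = charDegree θ + charDegree R := by
    rw [← Deg.deg_add hθ.isCharacter hR, ← h2, Deg.deg_res]
  by_cases hd : p ∣ Nat.card (charCenter θ)
  · obtain ⟨⟨z, hz⟩, hzp⟩ := exists_prime_orderOf_dvd_card' p hd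
    rw [orderOf_mk] at hzp
    have hz1 : z ^ p = 1 := hzp ▸ pow_orderOf_eq_one z
    have hz2 : (z : G) ^ p = 1 := congrArg Subtype.val hz1
    have hz3 := not_mem hZ hz2 fun h' => hp.out.ne_one (by rw [← hzp, ← orderOf_coe, h', orderOf_one])
    obtain ⟨α, hα, hα'⟩ := exists_ml_of_center hθ.isCharacter hz1 hz
    obtain ⟨β, hβ, hβ'⟩ := exists_ml_of_center hR hz1 (h8.ge (mem_top z))
    have e1 := ml_add hθ.isCharacter hR hz1 hα
    have e2 := ml_add hθ.isCharacter hR hz1 hβ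
    rw [← h2, ml_res] at e1 e2
    by_cases hab : α = β
    · subst hab
      exact hz3 (h.cen ▸ mem_center_of_ml h.irr.isCharacter hz2 hα (by omega))
    have := h.ml_le_one hz2 hz3 hα (by omega) hβ hab
    omega
  have hsq : ¬ p ^ 2 ∣ Nat.card Y := fun h' => (h.facts hθ (by omega) hn).2.2
    (((hp.out.coprime_iff_not_dvd.2 hd).pow_left 2).dvd_of_dvd_mul_left (by
      rwa [card_mul_index]))
  obtain ⟨e1, k, hk, e2⟩ := half_case hθ h3 (by omega) hsq
    (orderOf_eq_prime hy' fun h' => h1 (congrArg Subtype.val h')) h4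
  obtain ⟨g, hg⟩ := isConj_iff.1 e2
  have e3 := hR.isClassFunction y g
  rw [hg, ← pow_one y, ← pow_mul, one_mul, apply_of_ml hR hy' hc h6.ge,
    apply_of_ml hR hy' hc h6.ge, ← Deg.cast_deg hR] at e3
  have e4 := mul_right_cancel₀ (Nat.cast_ne_zero.2 (by omega)) e3
  obtain rfl : c = 1 := by
    by_contra h'
    have e5 := (isOfFinOrder_iff_pow_eq_one.2 ⟨p, hp.out.pos, hc⟩).pow_eq_pow_iff_modEq.1 e4
    rw [orderOf_eq_prime hc h'] at e5
    exact hk (by simpa using (ZMod.natCast_eq_natCast_iff _ _ _).2 e5)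
  omega

theorem ti (P Q : Sylow p G) (hne : Q ≠ P) : (P : Subgroup G) ⊓ Q = ⊥ := by
  by_contra h1
  obtain ⟨⟨w, hw⟩, hw1⟩ := ne_bot_iff_exists_ne_one.1 h1
  obtain ⟨k, hk⟩ := exists_order_p (pelt_of_mem P.isPGroup' hw.1) fun h' => hw1 (Subtype.ext h')
  have hy := pow_mem hw k
  generalize w ^ k = y at hk hy
  have hyp : y ^ p = 1 := hk ▸ pow_orderOf_eq_one y
  have hy1 : y ≠ 1 := fun h' => hp.out.ne_one (by rw [← hk, h', orderOf_one])
  have hd := h.deg
  have hc := fun P : Sylow p G => comm_of_deg h.irr.isCharacter h.ker (by omega) P.isPGroup'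
  obtain ⟨a, ha, b, hb, hab⟩ : ∃ a ∈ (P : Subgroup G), ∃ b ∈ (Q : Subgroup G), a * b ≠ b * a := by
    by_contra h2
    push Not at h2
    exact hne (Sylow.ext (Q.is_maximal' P.isPGroup' fun b hb =>
      mem_of_comm P (pelt_of_mem Q.isPGroup' hb) fun a ha => h2 a ha b hb).symm)
  let C := centralizer {y}
  have := Fintype.ofFinite C
  obtain ⟨θ, h2, h3, h4⟩ := h.exists_con C
    (a := ⟨a, mem_centralizer_singleton_iff.2 (hc P a ha y hy.1)⟩)
    (b := ⟨b, mem_centralizer_singleton_iff.2 (hc Q b hb y hy.2)⟩) hab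
  let z : C := ⟨y, mem_centralizer_singleton_iff.2 rfl⟩
  have hz : z ^ p = 1 := Subtype.ext hyp
  obtain ⟨c, hc1, hc2⟩ := exists_ml_of_center h2.isCharacter hz (h2.center_le_charCenter
    (mem_center_iff.2 fun a => Subtype.ext (mem_centralizer_singleton_iff.1 a.2)))
  have h5 := ml_add h2.isCharacter
    ((h.irr.isCharacter.res C).sub_of_classInner_ne_zero h2 h3) hz hc1
  rw [add_sub_cancel, ml_res] at h5
  change ml p ζ y c = _ at h5
  have h6 := h.small hZ h7 hyp hy1 hc1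
  have h8 : charDegree θ < charDegree ζ := by
    by_contra h'
    exact not_mem hZ hyp hy1 (h.cen ▸ mem_center_of_ml h.irr.isCharacter hyp hc1 (by omega))
  have := (h.facts h2 h8 ⟨_, _, (pelt_of_mem P.isPGroup' ha).imp fun _ => Subtype.ext,
    (pelt_of_mem Q.isPGroup' hb).imp fun _ => Subtype.ext, h4⟩).1
  omega

end St

end Cfsg.Lib.Block.Zh
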