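import Cfsg.Agent.Block.ZhTI
import Cfsg.Agent.Block.ZhRed
import Cfsg.Agent.S4485

/-!
# Feit's reduction: degree at most `p - 2` forces Sylow `p`-subgroups of order `p` modulo the centre
-/

set_option autoImplicit false

namespace Cfsg.Lib.Block.Zh

open Cfsg Subgroup Cfsg.Lib.Char Module Representation Matrix Cfsg.Lib.Block.Lat
open scoped ComplexConjugate commutatorElement

universe u

variable {p : ℕ} [hp : Fact p.Prime] {G : Type u} [Group G] [Finite G] {ζ : G → ℂ}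

theorem exists_dec {O : ValuationSubring ℂ} {ι : Type*} [Fintype ι] [DecidableEq ι]
    (A : G →* Matrix ι ι O) (hA : ∀ g, ((A g).trace : ℂ) = ζ g) (hζ : IsCharacter G ζ)
    (Q : Subgroup G) (hc : ∀ a b : Q, a * b = b * a) (hQ : ∀ q : Q, q ^ p = 1)
    (hQ2 : p ^ 2 ∣ Nat.card Q) {m : ℕ} (hd : charDegree ζ ≤ 2 * m + 1)
    (hs : ∀ y ∈ Q, y ≠ 1 → ∀ c, c ^ p = 1 → ml p ζ y c ≤ m) {π : O}
    (hπ : ∀ z w : O, z ^ p = 1 → w ^ p = 1 → z ≠ w → z - w ∣ π) :
    Dec ((mrep (RingHom.id O) A).comp Q.subtype) (π ^ m) := by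
  classical
  have := Fintype.ofFinite Q
  have := Fintype.ofFinite (Q →* ℂˣ)
  choose n hn using fun μ : Q →* ℂˣ =>
    (hζ.res Q).exists_nat_classInner (isIrrCharacter_monoidHom μ).isCharacter
  have h1 : ∀ q : Q, ζ q = ∑ μ, (n μ : ℂ) * μ q := fun q =>
    ((hζ.res Q).isClassFunction.apply_eq_sum_irr q).trans ((Princ.sum_linear_eq hc
      fun ψ => classInner (fun q : Q => ζ q) ψ * ψ q).trans (by simp only [hn]))
  let Λ := Finset.univ.filter fun μ => n μ ≠ 0
  have h2 : ∀ (r : (Q →* ℂˣ) → Prop) [DecidablePred r] (T : Finset (Q →* ℂˣ)),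
      (∀ μ ∈ T, μ ∈ Λ ∧ r μ) → T.card ≤ ∑ μ with r μ, n μ := fun r _ T h =>
    (Finset.card_eq_sum_ones T).trans_le ((Finset.sum_le_sum fun μ hμ => Nat.pos_of_ne_zero
      (Finset.mem_filter.1 (h μ hμ).1).2).trans (Finset.sum_le_sum_of_subset fun μ hμ =>
        Finset.mem_filter.2 ⟨Finset.mem_univ _, (h μ hμ).2⟩))
  have h3 : Λ.card ≤ charDegree ζ := by
    have := h2 (fun _ => True) Λ fun μ h => ⟨h, trivial⟩
    rwa [Finset.filter_true, ← Deg.deg_eq (χ := ζ) (n := ∑ μ, n μ) (by simpa using h1 1)] at this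
  have h4 : ∀ l : Q →* ℂˣ, ∃ F, ∀ μ ∈ Λ,
      Act (A.comp Q.subtype) F μ (if l = μ then (π : ℂ) ^ m else 0) := fun l => by
    by_cases hl : l ∈ Λ
    swap
    · exact ⟨0, fun μ hμ v _ => by rw [if_neg fun h : l = μ => hl (h ▸ hμ)]; simp⟩
    obtain ⟨F, h5, h6⟩ := exists_sep hQ (A.comp Q.subtype) hπ l m (Λ.erase l) (by simp)
      (by rw [Finset.card_erase_of_mem hl]; omega) fun K => by
        rcases ((Λ.erase l).filter fun μ => (μ / l).ker = K).eq_empty_or_nonempty with h | ⟨μ, h⟩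
        · simp [h]
        obtain rfl := (Finset.mem_filter.1 h).2
        obtain ⟨⟨y, hy⟩, hy1⟩ := ne_bot_iff_exists_ne_one.1 (show (μ / l).ker ≠ ⊥ from fun h => by
          have := isCyclic_of_injective_ringHom ((Units.coeHom ℂ).comp (μ / l))
            (Units.val_injective.comp ((MonoidHom.ker_eq_bot_iff _).1 h))
          have h5 := hQ2.trans (IsCyclic.exponent_eq_card (α := Q) ▸
            Monoid.exponent_dvd_of_forall_pow_eq_one hQ)
          exact (Nat.le_of_dvd hp.out.pos h5).not_gt (by nlinarith [hp.out.one_lt]))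
        refine le_trans ?_ (hs y y.2 (fun h => hy1 (Subtype.ext (Subtype.ext h))) _ (lin_pow hQ l y))
        rw [ml_eq (fun μ => (n μ : ℂ)) (fun μ => (μ y : ℂ)) (fun μ => lin_pow hQ μ y)
          (fun k _ => by simpa using h1 (y ^ k)) (lin_pow hQ l y) (Nat.cast_sum _ _).symm]
        refine h2 _ _ fun ν hν => ?_
        obtain ⟨h5, h6⟩ := Finset.mem_filter.1 hν
        have h7 : (ν / l) y = 1 := h6.ge hy
        exact ⟨Finset.mem_of_mem_erase h5, congrArg Units.val (div_eq_one.1 h7)⟩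
    refine ⟨F, fun μ hμ => ?_⟩
    split_ifs with h
    exacts [h ▸ h5, h6 μ (Finset.mem_erase.2 ⟨Ne.symm h, hμ⟩)]
  choose F hF using h4
  refine ⟨_, this, fun l => (lft hQ O l).toHomUnits, fun l => mlin (RingHom.id O) (F l), fun q => ?_⟩
  have h5 := eq_zero_of_act (A.comp Q.subtype) hc (F := π ^ m • A q - ∑ l, lft hQ O l q • F l)
    fun μ hμ v hv => by
      have h6 : μ ∈ Λ := Finset.mem_filter.2 ⟨Finset.mem_univ _, fun h => hμ (by
        rw [show (mrep O.subtype (A.comp Q.subtype)).character = fun q : Q => ζ q from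
          funext fun q => (trace_mrep _ _ q).trans (hA q), hn, h, Nat.cast_zero])⟩
      have h7 : ∀ l, mlin O.subtype (F l) v = _ := fun l => hF l μ h6 v hv
      have h8 : mlin O.subtype (A q) v = _ := hv q
      change mlin O.subtype _ v = _
      simp [map_sub, map_sum, mlin_smul, h7, h8, smul_smul, lft, mul_comm]
  have h6 := congrArg (mlin (RingHom.id O)) (sub_eq_zero.1 h5)
  simp only [map_sum, mlin_smul] at h6
  exact h6

theorem normal_of_ti (hζ : IsIrrCharacter G ζ) (hf : charKer ζ = ⊥) (P : Sylow p G)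
    (hc : ∀ a ∈ (P : Subgroup G), ∀ b ∈ (P : Subgroup G), a * b = b * a)
    (hti : ∀ Q : Sylow p G, Q ≠ P → (P : Subgroup G) ⊓ Q = ⊥) {Q : Subgroup G} (hQP : Q ≤ P)
    (hQ : ∀ q : Q, q ^ p = 1) (hQ2 : p ^ 2 ∣ Nat.card Q) {m : ℕ} (hm : p = 2 * m + 3)
    (hd : charDegree ζ + 2 ≤ p) (hs : ∀ y ∈ Q, y ≠ 1 → ∀ c, c ^ p = 1 → ml p ζ y c ≤ m) :
    (P : Subgroup G).Normal := by
  obtain ⟨M, hM⟩ := Princ.exists_isPModular hp.out
  obtain ⟨A, hA⟩ := exists_intRep (OM M) hζ (Deg.apply_one_eq hζ.isCharacter)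
  obtain ⟨π, h0, h1, ⟨u, hu⟩, h2⟩ := exists_pi (p := p) (OM M) fun h =>
    (vM_p_lt_one hM).ne (by simpa using isUnit_iff_vM.1 h)
  have := Fintype.ofFinite Q
  have := Fintype.ofFinite P
  have D := exists_dec A hA hζ.isCharacter Q (fun a b => Subtype.ext (hc _ (hQP a.2) _ (hQP b.2)))
    hQ hQ2 (by omega) hs h2
  set σ := mrep (RingHom.id (OM M)) A
  obtain ⟨Θ, h3⟩ := ((D.linHom D).linHom (D.linHom D)).sum
  obtain ⟨r, hr⟩ := hQ2
  have h4 : ∑ q : Q, linHom (linHom σ σ) (linHom σ σ) q = (π * (π ^ 3 * u ^ 2 * r)) • Θ :=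
    smul_right_injective _ (pow_ne_zero (4 * m) h0) (by
      rw [show π ^ (4 * m) = π ^ m * π ^ m * (π ^ m * π ^ m) by ring]
      refine h3.trans ?_
      beta_reduce
      rw [hr, Nat.cast_mul, Nat.cast_pow, hu, smul_smul, show p - 1 = 2 * m + 2 by omega]
      congr 1; ring)
  have h5 : ∀ a b, linHom σ σ a (σ b) = σ (a * b * a⁻¹) := fun a b => by
    rw [map_mul, map_mul]; rfl
  have h6 := fix_of_sum (linHom (linHom σ σ) (linHom σ σ)) (hQP.trans le_normalizer)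
    (fun g hg y hy => TI.free_of_ti P hti g hg y (hQP hy))
    (fun h => h1 (isUnit_of_mul_isUnit_left h)) h4 (a := ∑ y : P, linHom σ σ y) fun n hn => by
      rw [map_sum]
      exact Fintype.sum_equiv ((P : Subgroup G).normalizerMonoidHom ⟨n, hn⟩).toEquiv _ _ fun y =>
        (show linHom σ σ n * (linHom σ σ y * linHom σ σ n⁻¹) = _ by
          rw [← map_mul, ← map_mul, ← mul_assoc]; rfl)
  refine ⟨fun z hz g => mem_of_comm P ((pelt_of_mem P.isPGroup' hz).imp fun k hk => by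
    rw [conj_pow, hk, mul_one, mul_inv_cancel]) fun y hy => ?_⟩
  have h7 : ∑ x : P, σ (x * (g * z * g⁻¹) * x⁻¹) = (Nat.card P : OM M) • σ (g * z * g⁻¹) := by
    have := LinearMap.congr_fun (h6 g) (σ (g * z * g⁻¹))
    simp only [linHom_apply (linHom σ σ), LinearMap.comp_apply, LinearMap.sum_apply, h5, map_sum,
      inv_inv, inv_mul_cancel_left, mul_assoc g, inv_mul_cancel_right] at this
    rw [Finset.sum_congr rfl fun x _ => by rw [hc _ x.2 z hz, mul_inv_cancel_right]] at this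
    simpa [mul_assoc, Nat.cast_smul_eq_nsmul] using this.symm
  have h8 : σ (y * (g * z * g⁻¹) * y⁻¹) = σ (g * z * g⁻¹) :=
    smul_right_injective _ (Nat.cast_ne_zero.2 Nat.card_pos.ne' : (Nat.card P : OM M) ≠ 0) (by
      simp only [← h7, ← h5 y, ← map_smul, map_sum]
      exact Fintype.sum_equiv (Equiv.mulLeft (⟨y, hy⟩ : P)) _ _ fun x => by
        simp only [h5]; congr 1; simp [mul_assoc])
  have h9 : Function.Injective σ := (injective_iff_map_eq_one σ).2 fun a ha => hf.le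
    (hζ.mem_charKer_iff.2 (by
      rw [← hA, ← hA, map_one, show A a = 1 from toLin'.injective (ha.trans toLin'_one.symm)]))
  exact mul_inv_eq_iff_eq_mul.1 (h9 h8)

theorem St.not_sq (h : St p ζ) (hZ : ¬ p ∣ Nat.card (center G))
    (h7 : charDegree ζ + 3 ≤ p ∨ 7 ≤ p) : ¬ p ^ 2 ∣ Nat.card G := fun h2 => by
  obtain ⟨P⟩ : Nonempty (Sylow p G) := inferInstance
  have hd := h.deg
  have h1 := h.nc.one_lt h.irr
  have hc := comm_of_deg h.irr.isCharacter h.ker (by omega) P.isPGroup'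
  refine h.nc.not_normal h.irr.isCharacter h.ker (by omega) P ?_
  let Q : Subgroup G :=
    { carrier := {y | y ∈ (P : Subgroup G) ∧ y ^ p = 1}
      mul_mem' := fun ha hb => ⟨mul_mem ha.1 hb.1, by
        rw [Commute.mul_pow (hc _ ha.1 _ hb.1), ha.2, hb.2, one_mul]⟩
      one_mem' := ⟨one_mem _, one_pow _⟩
      inv_mem' := fun ha => ⟨inv_mem ha.1, by rw [inv_pow, ha.2, inv_one]⟩ }
  obtain ⟨m, hm⟩ := hp.out.odd_of_ne_two (by omega)
  by_cases hQ : p ^ 2 ∣ Nat.card Q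
  · exact normal_of_ti h.irr h.ker P hc (h.ti hZ h7 P) (Q := Q) (fun _ h => h.1)
      (fun q => Subtype.ext q.2.2) hQ (m := m - 1) (by omega) hd fun y hy hy1 c hc => by
        have := h.small hZ h7 hy.2 hy1 hc
        omega
  have h3 : ∀ y ∈ (P : Subgroup G), y ≠ 1 → Q ≤ zpowers y := fun y hy hy1 => by
    obtain ⟨k, hk⟩ := exists_order_p (pelt_of_mem P.isPGroup' hy) hy1
    obtain ⟨j, hj⟩ := IsPGroup.iff_card.1 (P.isPGroup'.to_le (show Q ≤ P from fun _ h => h.1))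
    refine (eq_of_le_of_card_ge (zpowers_le.2 (show y ^ k ∈ Q from
      ⟨pow_mem hy k, hk ▸ pow_orderOf_eq_one _⟩)) ?_).ge.trans (zpowers_le.2 (npow_mem_zpowers y k))
    rw [Nat.card_zpowers, hk, hj]
    exact (Nat.pow_le_pow_right hp.out.pos (show j ≤ 1 by
      by_contra h'
      exact hQ (hj ▸ pow_dvd_pow p (by omega)))).trans (pow_one p).le
  obtain ⟨n, hn⟩ := IsPGroup.iff_card.1 P.isPGroup'
  refine Agent.S4485.result p hp.out ((dvd_pow_self p two_ne_zero).trans h2) P (fun x hx hx1 =>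
    le_antisymm (fun g hg a ha => ?_) (centralizer_le (Set.singleton_subset_iff.2 hx))) n hn ζ
    h.irr.isCharacter (fun g hg => h.ker.le (h.irr.mem_charKer_iff.2 hg)) ?_
  swap
  · have h4 := Nat.le_of_dvd Nat.card_pos (P.pow_dvd_card_of_pow_dvd_card h2)
    nlinarith
  have hx' : g * x * g⁻¹ = x := mul_inv_eq_iff_eq_mul.2 (mem_centralizer_singleton_iff.1 hg)
  have hN : g ∈ normalizer ((P : Subgroup G) : Set G) := by
    by_contra h'
    exact hx1 (TI.free_of_ti P (h.ti hZ h7 P) g⁻¹ (mt inv_mem_iff.1 h') x hx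
      (by rw [inv_inv, hx']; exact le_normalizer hx))
  have hg' : ∀ b ∈ (P : Subgroup G), g * b * g⁻¹ ∈ (P : Subgroup G) := fun b hb =>
    (mem_normalizer_iff.1 hN b).1 hb
  by_contra hne
  have hw : g * a * g⁻¹ * a⁻¹ ∈ (P : Subgroup G) := mul_mem (hg' a ha) (inv_mem ha)
  obtain ⟨k, hk⟩ := exists_order_p (pelt_of_mem P.isPGroup' hw) fun h' => hne (by
    rw [mul_inv_eq_one, mul_inv_eq_iff_eq_mul] at h'; exact h'.symm)
  have h5 : g * a ^ k * g⁻¹ = (g * a * g⁻¹ * a⁻¹) ^ k * a ^ k := by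
    rw [← Commute.mul_pow (hc _ hw _ ha), inv_mul_cancel_right, conj_pow]
  have h6 : (g * a * g⁻¹ * a⁻¹) ^ k ∈ zpowers x := h3 x hx hx1 ⟨pow_mem hw k, hk ▸ pow_orderOf_eq_one _⟩
  generalize (g * a * g⁻¹ * a⁻¹) ^ k = w at hk h5 h6
  have h8 : g * w = w * g := by
    obtain ⟨j, rfl⟩ := h6
    exact (Commute.zpow_right (mem_centralizer_singleton_iff.1 hg) j).eq
  have h9 : ∀ j : ℕ, g ^ j * a ^ k = w ^ j * a ^ k * g ^ j := fun j => by
    induction j with
    | zero => simp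
    | succ j ih => rw [pow_succ', mul_assoc, ih, ← mul_assoc, ← mul_assoc,
        (Commute.pow_right h8 j).eq, mul_assoc _ g, mul_inv_eq_iff_eq_mul.1 h5, pow_succ w]; simp only [mul_assoc]
  have := P.normal_in_normalizer
  have e1 : g ^ _ ∈ (P : Subgroup G) := pow_index_mem ((P : Subgroup G).subgroupOf _) (⟨g, hN⟩ :
    normalizer ((P : Subgroup G) : Set G))
  have e2 := h9 _ ▸ hc _ e1 _ (pow_mem ha k)
  rw [mul_left_inj, mul_eq_right, ← orderOf_dvd_iff_pow_eq_one, hk] at e2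
  exact P.not_dvd_index (e2.trans (relIndex_dvd_index_of_le le_normalizer))

theorem red (d : ℕ) (hd : d + 2 ≤ p) (h7 : d + 3 ≤ p ∨ 7 ≤ p) : Red.{u} p d := by
  induction d with
  | zero => exact fun G _ _ ζ h _ h0 => absurd (Deg.deg_pos h) (by omega)
  | succ d ih => exact fun G _ _ ζ h1 h2 h3 h4 h5 => St.not_sq ⟨h1, h2, by omega, h5,
      fun G _ _ ζ a b c => ih (by omega) (by omega) G ζ a b (by omega)⟩ h4 (by omega)

end Cfsg.Lib.Block.Zh
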