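import Cfsg.Agent.Block.FeitMain
import Cfsg.Agent.Char.EigenChar
import Cfsg.Agent.Char.Blichfeldt

/-!
# Eigenvalue multiplicities of elements of order `p`
-/

set_option autoImplicit false

namespace Cfsg.Lib.Block.Zh

open Cfsg Subgroup Cfsg.Lib.Char Module
open scoped ComplexConjugate commutatorElement

variable {G : Type*} [Group G] {p : ℕ} {χ ψ : G → ℂ} {y : G} {c : ℂ}

/-- The multiplicity of the eigenvalue `c` of `y` (where `y ^ p = 1`). -/
noncomputable def ml (p : ℕ) (χ : G → ℂ) (y : G) (c : ℂ) : ℕ :=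
  ⌊((p : ℂ)⁻¹ * ∑ k ∈ Finset.range p, χ (y ^ k) * c⁻¹ ^ k).re⌋₊

theorem ml_comp {H : Type*} [Group H] (f : H →* G) (y : H) :
    ml p (fun h => χ (f h)) y c = ml p χ (f y) c := by simp only [ml, map_pow]

theorem ml_res {H : Subgroup G} (y : H) : ml p (fun h : H => χ h) y c = ml p χ y c :=
  ml_comp H.subtype y

theorem ml_conj (hχ : IsClassFunction G χ) (g : G) : ml p χ (g * y * g⁻¹) c = ml p χ y c := by
  simp only [ml, conj_pow, hχ _ g]

theorem ml_mul (κ : G →* ℂˣ) :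
    ml p (χ * fun g => (κ g : ℂ)) y (c * κ y) = ml p χ y c := by
  simp only [ml, Pi.mul_apply, map_pow, Units.val_pow_eq_pow_val]
  congr 3
  refine Finset.sum_congr rfl fun k _ => ?_
  rw [mul_assoc, ← mul_pow, mul_inv, mul_left_comm (κ y : ℂ), mul_inv_cancel₀ (κ y).ne_zero,
    mul_one]

variable [hp : Fact p.Prime]

theorem sum_eq_of_eig {J : Type*} [Fintype J] (a δ : J → ℂ) (hδ : ∀ j, δ j ^ p = 1)
    (h : ∀ k < p, χ (y ^ k) = ∑ j, a j * δ j ^ k) (hc : c ^ p = 1) :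
    (p : ℂ)⁻¹ * ∑ k ∈ Finset.range p, χ (y ^ k) * c⁻¹ ^ k =
      open Classical in ∑ j with δ j = c, a j := by
  rw [Finset.sum_congr rfl fun k hk => by rw [h k (Finset.mem_range.1 hk)],
    sum_sum_pow_mul_inv_pow hp.out.ne_zero a δ hδ hc,
    inv_mul_cancel_left₀ (Nat.cast_ne_zero.2 hp.out.ne_zero)]

theorem ml_eq {J : Type*} [Fintype J] (a δ : J → ℂ) (hδ : ∀ j, δ j ^ p = 1)
    (h : ∀ k < p, χ (y ^ k) = ∑ j, a j * δ j ^ k) (hc : c ^ p = 1) {n : ℕ}
    (hn : (open Classical in ∑ j with δ j = c, a j) = n) : ml p χ y c = n := by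
  rw [ml, sum_eq_of_eig a δ hδ h hc, hn]; simp

variable [Finite G]

open Classical in
theorem exists_eig (hχ : IsCharacter G χ) (hy : y ^ p = 1) :
    ∃ ε : Fin (charDegree χ) → ℂ, (∀ i, ε i ^ p = 1) ∧ (∀ k : ℕ, χ (y ^ k) = ∑ i, ε i ^ k) ∧
      ∀ c, c ^ p = 1 → ml p χ y c = (Finset.univ.filter fun i => ε i = c).card := by
  obtain ⟨d, ε, h1, h2, -, h3, -⟩ := IsCharacter_exists_sum hχ y hp.out.ne_zero hy
  obtain rfl : charDegree χ = d := Deg.deg_eq h1
  exact ⟨ε, h2, h3, fun c hc => ml_eq (fun _ => 1) ε h2 (fun k _ => by simp [h3]) hc (by simp)⟩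

theorem cast_ml (hχ : IsCharacter G χ) (hy : y ^ p = 1) (hc : c ^ p = 1) :
    (ml p χ y c : ℂ) = (p : ℂ)⁻¹ * ∑ k ∈ Finset.range p, χ (y ^ k) * c⁻¹ ^ k := by
  obtain ⟨ε, h1, h2, h3⟩ := exists_eig hχ hy
  rw [h3 c hc, sum_eq_of_eig (fun _ => 1) ε h1 (fun k _ => by simp [h2]) hc]; simp

theorem ml_add (hχ : IsCharacter G χ) (hψ : IsCharacter G ψ) (hy : y ^ p = 1) (hc : c ^ p = 1) :
    ml p (χ + ψ) y c = ml p χ y c + ml p ψ y c := by
  have : (ml p (χ + ψ) y c : ℂ) = ml p χ y c + ml p ψ y c := by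
    simp only [cast_ml (hχ.add hψ) hy hc, cast_ml hχ hy hc, cast_ml hψ hy hc, Pi.add_apply,
      add_mul, Finset.sum_add_distrib, mul_add]
  exact_mod_cast this

theorem ml_le (hχ : IsCharacter G χ) (hy : y ^ p = 1) (hc : c ^ p = 1) :
    ml p χ y c ≤ charDegree χ := by
  obtain ⟨ε, -, -, h3⟩ := exists_eig hχ hy
  rw [h3 c hc]
  exact (Finset.card_filter_le _ _).trans (by simp)

theorem ml_add_le (hχ : IsCharacter G χ) (hy : y ^ p = 1) (hc : c ^ p = 1) {c' : ℂ}
    (hc' : c' ^ p = 1) (h : c ≠ c') : ml p χ y c + ml p χ y c' ≤ charDegree χ := by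
  classical
  obtain ⟨ε, -, -, h3⟩ := exists_eig hχ hy
  rw [h3 c hc, h3 c' hc', ← Finset.card_union_of_disjoint (Finset.disjoint_filter.2
    fun i _ h1 h2 => h (h1.symm.trans h2))]
  exact (Finset.card_le_univ _).trans (by simp)

theorem apply_of_ml (hχ : IsCharacter G χ) (hy : y ^ p = 1) (hc : c ^ p = 1)
    (h : charDegree χ ≤ ml p χ y c) (k : ℕ) : χ (y ^ k) = c ^ k * χ 1 := by
  classical
  obtain ⟨ε, -, h2, h3⟩ := exists_eig hχ hy
  rw [h3 c hc] at h
  have h4 := Finset.eq_univ_of_card (Finset.univ.filter fun i => ε i = c)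
    (le_antisymm (Finset.card_le_univ _) (by simpa using h))
  have h5 : ∀ i, ε i = c := fun i => (Finset.mem_filter.1 (h4.ge (Finset.mem_univ i))).2
  rw [h2, ← Deg.cast_deg hχ]
  simp [h5, mul_comm]

theorem mem_center_of_ml (hχ : IsCharacter G χ) (hy : y ^ p = 1) (hc : c ^ p = 1)
    (h : charDegree χ ≤ ml p χ y c) : y ∈ charCenter χ := by
  have := apply_of_ml hχ hy hc h 1
  rw [pow_one, pow_one] at this
  rw [hχ.mem_charCenter_iff, this, norm_mul, norm_eq_one_of_pow_eq_one' hp.out.ne_zero hc, one_mul]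

theorem exists_ml_of_center (hχ : IsCharacter G χ) (hy : y ^ p = 1) (h : y ∈ charCenter χ) :
    ∃ c, c ^ p = 1 ∧ ml p χ y c = charDegree χ := by
  classical
  obtain ⟨ε, h1, h2, h3⟩ := exists_eig hχ hy
  rcases isEmpty_or_nonempty (Fin (charDegree χ)) with h0 | ⟨⟨i⟩⟩
  · exact ⟨1, one_pow _, by
      rw [h3 1 (one_pow _), Finset.eq_empty_of_isEmpty (Finset.filter _ _), ← Fintype.card_fin
        (charDegree χ), Fintype.card_eq_zero, Finset.card_empty]⟩
  have h4 := eq_of_norm_sum_eq_card ε (fun i => norm_eq_one_of_pow_eq_one' hp.out.ne_zero (h1 i))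
    (by
      have := h2 1
      simp only [pow_one] at this
      rw [← this, hχ.mem_charCenter_iff.1 h, Deg.norm_apply_one hχ]; simp)
  exact ⟨ε i, h1 i, by rw [h3 _ (h1 i), Finset.filter_true_of_mem fun j _ => h4 j i]; simp⟩

/-- Two large eigenspaces meet: a linear constituent of the generated group. -/
theorem exists_lin (hχ : IsCharacter G χ) (hy : y ^ p = 1) (hc : c ^ p = 1) {y' : G} {c' : ℂ}
    (hy' : y' ^ p = 1) (hc' : c' ^ p = 1) (h : charDegree χ < ml p χ y c + ml p χ y' c')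
    [Fintype (closure {y, y'})] : ∃ lam : closure {y, y'} →* ℂˣ,
      classInner (fun g : closure {y, y'} => χ g) (fun g => (lam g : ℂ)) ≠ 0 := by
  classical
  obtain ⟨n, ρ, rfl⟩ := hχ
  have key : ∀ {y : G} {c : ℂ}, y ^ p = 1 → c ^ p = 1 →
      ml p ρ.character y c ≤ finrank ℂ (End.eigenspace (ρ y) c) := fun {y c} hy hc => by
    obtain ⟨b, ε, h1, h2, h3, -⟩ := exists_eigenbasis_rep ρ y
      (Nat.cast_ne_zero.2 hp.out.ne_zero) hy
    rw [ml_eq (fun _ => 1) ε h1 (fun k _ => by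
      simp only [one_mul]; exact trace_eq_sum_of_eigenbasis b _ (h3 k)) hc
      (n := (Finset.univ.filter fun i => ε i = c).card) (by simp), ← Fintype.card_subtype]
    let v : {i // ε i = c} → End.eigenspace (ρ y) c := fun i =>
      ⟨b i, End.mem_eigenspace_iff.2 (by rw [h2, i.2])⟩
    exact (LinearIndependent.of_comp (v := v) (Submodule.subtype _)
      (b.linearIndependent.comp _ Subtype.val_injective)).fintype_card_le_finrank
  have h1 : ¬ Disjoint (End.eigenspace (ρ y) c) (End.eigenspace (ρ y') c') := fun h1 => by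
    have h2 := Submodule.finrank_add_finrank_le_of_disjoint h1
    have h3 := key hy hc
    have h4 := key hy' hc'
    have h5 : charDegree ρ.character = finrank ℂ (Fin n → ℂ) := Deg.deg_eq ρ.char_one
    omega
  obtain ⟨v, h2, h3⟩ := (Submodule.ne_bot_iff _).1 (disjoint_iff.not.1 h1)
  obtain ⟨lam, -, h4⟩ := exists_monoidHom_of_stable_line (ρ.comp (closure {y, y'}).subtype) h3
    (fun ⟨g, hg⟩ => by
      change ∃ c : ℂ, ρ g v = c • v
      induction hg using closure_induction with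
      | mem x hx =>
        rcases hx with rfl | rfl
        exacts [⟨_, End.mem_eigenspace_iff.1 h2.1⟩, ⟨_, End.mem_eigenspace_iff.1 h2.2⟩]
      | one => exact ⟨1, by simp⟩
      | mul a b _ _ ha hb =>
        obtain ⟨s, ha⟩ := ha
        obtain ⟨t, hb⟩ := hb
        exact ⟨t * s, by rw [map_mul, End.mul_apply, hb, map_smul, ha, smul_smul]⟩
      | inv a _ ha =>
        obtain ⟨s, ha⟩ := ha
        have h5 : v = s • ρ a⁻¹ v := by
          rw [← map_smul, ← ha, ← End.mul_apply, ← map_mul, inv_mul_cancel, map_one, End.one_apply]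
        have h6 : s ≠ 0 := fun h => h3 (by rw [h5, h, zero_smul])
        exact ⟨s⁻¹, (eq_inv_smul_iff₀ h6).2 h5.symm⟩)
  exact ⟨lam, h4⟩

end Cfsg.Lib.Block.Zh
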