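import Cfsg.Agent.Block.ZhMl
import Cfsg.Agent.Block.BlauExt
import Cfsg.Agent.Block.Column
import Cfsg.Agent.Char.TIDegree

/-!
# Feit's reduction, second part: abelian TI Sylow subgroups of rank at least two
-/

set_option autoImplicit false

namespace Cfsg.Lib.Block.Zh

open Cfsg Subgroup Cfsg.Lib.Char Module Representation Matrix Cfsg.Lib.Block.Lat
open scoped ComplexConjugate commutatorElement

universe u

section Dec

variable {O : Type*} [CommRing O] {Q : Type u} [Group Q] {X Y : Type*} [AddCommGroup X]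
  [Module O X] [AddCommGroup Y] [Module O Y]

/-- `t` times the eigenprojections are integral. -/
def Dec (σ : Representation O Q X) (t : O) : Prop :=
  ∃ (ι : Type u) (_ : Fintype ι) (l : ι → Q →* Oˣ) (F : ι → End O X),
    ∀ q, t • σ q = ∑ i, (l i q : O) • F i

theorem Dec.linHom {σ : Representation O Q X} {σ' : Representation O Q Y} {t t' : O}
    (h : Dec σ t) (h' : Dec σ' t') : Dec (linHom σ σ') (t * t') := by
  obtain ⟨ι, _, l, F, h⟩ := h
  obtain ⟨κ, _, l', F', h'⟩ := h'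
  refine ⟨ι × κ, inferInstance, fun i => (l i.1)⁻¹ * l' i.2, fun i =>
    LinearMap.llcomp O X Y Y (F' i.2) ∘ₗ LinearMap.lcomp O Y (F i.1), fun q => ?_⟩
  refine LinearMap.ext fun f => ?_
  have : ((t * t') • Representation.linHom σ σ' q) f = (t' • σ' q) ∘ₗ f ∘ₗ (t • σ q⁻¹) := by
    simp only [LinearMap.smul_apply, linHom_apply, LinearMap.smul_comp, LinearMap.comp_smul,
      smul_smul]
  rw [this, h, h']
  ext v
  simp [Fintype.sum_prod_type_right, Finset.smul_sum, smul_smul, mul_comm]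

theorem Dec.sum [IsDomain O] [Fintype Q] {σ : Representation O Q X} {t : O} (h : Dec σ t) :
    ∃ Θ : End O X, t • ∑ q, σ q = (Nat.card Q : O) • Θ := by
  classical
  obtain ⟨ι, _, l, F, h⟩ := h
  refine ⟨∑ i, if (Units.coeHom O).comp (l i) = 1 then F i else 0, ?_⟩
  simp only [Finset.smul_sum, h]
  rw [Finset.sum_comm]
  refine Finset.sum_congr rfl fun i _ => ?_
  rw [← Finset.sum_smul]
  refine (congrArg (· • F i) (sum_hom_units ((Units.coeHom O).comp (l i)))).trans ?_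
  split_ifs <;> simp

end Dec

theorem fix_of_sum {O : ValuationSubring ℂ} {W G : Type*} [AddCommGroup W] [Module O W]
    [Module.Free O W] [Module.Finite O W] [Group G] [Finite G] (σ : Representation O G W)
    {Q N : Subgroup G} [Fintype Q] (hQ : Q ≤ N) (hf : TI.Free Q N) {c : O} (hc : ¬ IsUnit c)
    {Θ : End O W} (h : ∑ q : Q, σ q = c • Θ) {a : W} (ha : ∀ n ∈ N, σ n a = a) (g : G) :
    σ g a = a := by
  classical
  have := Fintype.ofFinite G
  have key : ∀ w, (∀ n ∈ N, σ n w = w) → TI.trN σ N w = 0 → w = 0 := fun w h1 h2 => by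
    by_contra h0
    let b := Module.Free.chooseBasis O W
    obtain ⟨i, hi, h3⟩ := exists_scale_valuationSubring O (fun i => (b.repr w i : ℂ)) fun h =>
      h0 (b.ext_elem fun i => by simpa using congrFun h i)
    let w₀ := b.equivFun.symm fun j => ⟨_, h3 j⟩
    have hi' : b.repr w i ≠ 0 := fun h => hi (by simp [h])
    have h4 : b.repr w i • w₀ = w := b.ext_elem fun j => Subtype.ext (by
      simp only [w₀, map_smul, Finsupp.smul_apply, smul_eq_mul, ← b.equivFun_apply,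
        LinearEquiv.apply_symm_apply]
      exact mul_div_cancel₀ _ hi)
    have h5 : ∀ n ∈ N, σ n w₀ = w₀ := fun n hn =>
      smul_right_injective W hi' (by simp only [← map_smul, h4, h1 n hn])
    obtain ⟨u, hu⟩ := TI.trN_eq hQ hf h5
    rw [smul_right_injective W hi' (show _ • TI.trN σ N w₀ = _ • 0 by
      rw [← map_smul, h4, h2, smul_zero]), ← LinearMap.sum_apply, h, eq_comm,
      add_eq_zero_iff_eq_neg] at hu
    have h6 := congrArg (fun x => b.equivFun x i) hu
    simp only [w₀, LinearMap.smul_apply, map_neg, map_smul,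
      LinearEquiv.apply_symm_apply, div_self hi, Pi.neg_apply, Pi.smul_apply, smul_eq_mul] at h6
    exact hc (IsUnit.of_mul_eq_one (-b.equivFun (Θ u) i) (by rw [mul_neg, ← h6]; rfl))
  have h1 := key (TI.trN σ N a - (N.index : O) • a)
    (fun n hn => by rw [map_sub, map_smul, TI.apply_trN ha, ha n hn]) (by
      rw [map_sub, map_smul, TI.trN_apply (TI.trN σ N a)]
      simp only [TI.apply_trN ha, Finset.sum_const, Finset.card_univ, Nat.cast_smul_eq_nsmul,
        index_eq_card, Nat.card_eq_fintype_card, sub_self])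
  rw [sub_eq_zero] at h1
  refine smul_right_injective W (Nat.cast_ne_zero.2 N.index_ne_zero_of_finite : (N.index : O) ≠ 0) ?_
  simp only [← map_smul, ← h1, TI.apply_trN ha]

theorem exists_pair {α κ : Type*} [DecidableEq α] [DecidableEq κ] (cl : α → κ) {m : ℕ}
    {T : Finset α} (h0 : T.Nonempty) (hT : T.card ≤ 2 * (m + 1))
    (hc : ∀ k, (T.filter (cl · = k)).card ≤ m + 1) : ∃ a ∈ T, ∃ b ∈ T, (a = b ∨ cl a ≠ cl b) ∧
      ((T.erase a).erase b).card ≤ 2 * m ∧
      ∀ k, (((T.erase a).erase b).filter (cl · = k)).card ≤ m := by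
  let f : α → ℕ := fun a => (T.filter (cl · = cl a)).card
  obtain ⟨a, ha, h1⟩ := T.exists_max_image f h0
  rcases (T.filter (cl · ≠ cl a)).eq_empty_or_nonempty with h2 | h2
  · have h3 := hc (cl a)
    rw [Finset.filter_true_of_mem fun b hb => by simpa using Finset.filter_eq_empty_iff.1 h2 hb]
      at h3
    have h4 : ((T.erase a).erase a).card ≤ m := by
      rw [Finset.erase_idem, Finset.card_erase_of_mem ha]; omega
    exact ⟨a, ha, a, ha, .inl rfl, by omega, fun k => (Finset.card_filter_le _ _).trans h4⟩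
  obtain ⟨b, hb, h3⟩ := Finset.exists_max_image _ f h2
  obtain ⟨hb, hb'⟩ := Finset.mem_filter.1 hb
  refine ⟨a, ha, b, hb, .inr hb'.symm, ?_, fun k => ?_⟩
  · rw [Finset.card_erase_of_mem (Finset.mem_erase.2 ⟨fun h => hb' (congrArg cl h), hb⟩),
      Finset.card_erase_of_mem ha]
    omega
  have hs : ((T.erase a).erase b).filter (cl · = k) ⊆ T.filter (cl · = k) :=
    Finset.filter_subset_filter _ ((Finset.erase_subset _ _).trans (Finset.erase_subset _ _))
  by_contra h4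
  have h5 := Finset.eq_of_subset_of_card_le hs (by have := hc k; omega)
  obtain ⟨μ, hμ⟩ := Finset.card_pos.1 (Nat.zero_lt_of_lt (not_le.1 h4))
  replace hμ := Finset.mem_filter.1 (hs hμ)
  obtain ⟨hμ, rfl⟩ := hμ
  have e1 : cl μ ≠ cl a := fun h => by
    simpa using h5.ge (Finset.mem_filter.2 ⟨ha, h.symm⟩)
  have e2 : cl μ ≠ cl b := fun h => by
    simpa using h5.ge (Finset.mem_filter.2 ⟨hb, h.symm⟩)
  have e3 := h1 μ hμ
  have e4 := h3 μ (Finset.mem_filter.2 ⟨hμ, e1⟩)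
  have e5 : f μ + (f a + f b) ≤ T.card := by
    simp only [f, Finset.card_filter, ← Finset.sum_add_distrib]
    refine (Finset.sum_le_card_nsmul _ _ 1 fun x _ => ?_).trans (by simp)
    split_ifs <;> simp_all
  rw [h5] at h4
  change ¬ f μ ≤ m at h4
  omega

variable {p : ℕ} [hp : Fact p.Prime]

theorem exists_pow_eq {z w : ℂ} (hz : z ^ p = 1) (hz1 : z ≠ 1) (hw : w ^ p = 1) :
    ∃ k : ℕ, z ^ k = w :=
  ((orderOf_eq_prime hz hz1 ▸ IsPrimitiveRoot.orderOf z :
    IsPrimitiveRoot z p).eq_pow_of_pow_eq_one hw).imp fun _ h => h.2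

theorem exists_pi (O : ValuationSubring ℂ) (hO : ¬ IsUnit (p : O)) : ∃ π : O, π ≠ 0 ∧ ¬ IsUnit π ∧
    π ^ (p - 1) ∣ p ∧ ∀ z w : O, z ^ p = 1 → w ^ p = 1 → z ≠ w → z - w ∣ π := by
  have h0 := Complex.isPrimitiveRoot_exp p hp.out.ne_zero
  let ω : O := ⟨_, valuationSubring_mem_of_isIntegral O
    (isIntegral_of_pow_eq_one hp.out.ne_zero h0.pow_eq_one)⟩
  have h1 : IsPrimitiveRoot ω p := .of_map_of_injective (f := O.subtype) h0 Subtype.val_injective
  have h2 : ∀ z w : O, z ^ p = 1 → w ^ p = 1 → z ≠ w → z - w ∣ 1 - ω := fun z w hz hw h => by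
    have h3 : z * z ^ (p - 1) = 1 := by rw [← pow_succ', Nat.sub_add_cancel hp.out.pos, hz]
    obtain ⟨k, hk⟩ := exists_pow_eq (z := (w * z ^ (p - 1) : O)) (by
      rw [← SubmonoidClass.coe_pow, mul_pow, hw, ← pow_mul, mul_comm (p - 1), pow_mul, hz]; simp)
      (fun h4 => h (by
        rw [← mul_one z, ← (Subtype.ext h4 : w * z ^ (p - 1) = 1), mul_left_comm, h3, mul_one]))
      h0.pow_eq_one
    rw [show ω = (w * z ^ (p - 1)) ^ k from Subtype.ext hk.symm]
    exact Dvd.dvd.trans ⟨z ^ (p - 1), by rw [sub_mul, h3]⟩ (one_sub_dvd_one_sub_pow _ k)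
  obtain ⟨n, rfl⟩ : ∃ n, p = n + 1 := ⟨p - 1, (Nat.sub_add_cancel hp.out.pos).symm⟩
  have h3 := h1.prod_one_sub_pow_eq_order
  refine ⟨1 - ω, sub_ne_zero.2 (h1.ne_one hp.out.one_lt).symm, fun h => hO ?_, ?_, h2⟩
  · rw [Nat.cast_succ, ← h3]
    exact IsUnit.prod_iff.2 fun k hk => isUnit_of_dvd_unit (h2 _ _ (one_pow _)
      (by rw [← pow_mul, mul_comm, pow_mul, h1.pow_eq_one, one_pow])
      (h1.pow_ne_one_of_pos_of_lt k.succ_ne_zero (by simpa using hk)).symm) h
  rw [Nat.cast_succ, ← h3, Nat.add_sub_cancel, ← Finset.card_range n, ← Finset.prod_const,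
    Finset.card_range]
  exact Finset.prod_dvd_prod_of_dvd _ _ fun k _ => one_sub_dvd_one_sub_pow _ _

section Sep

variable {Q : Type u} [Group Q] (hQ : ∀ q : Q, q ^ p = 1)
include hQ

omit hp in
theorem lin_pow (α : Q →* ℂˣ) (q : Q) : (α q : ℂ) ^ p = 1 := by
  rw [← Units.val_pow_eq_pow_val, ← map_pow, hQ, map_one, Units.val_one]

theorem exists_q {α β : Q →* ℂˣ} (hα : α ≠ 1) (hβ : β ≠ 1) (h : α = β ∨ α.ker ≠ β.ker) :
    ∃ q, α q = β q ∧ α q ≠ 1 := by
  have key : ∀ {α β : Q →* ℂˣ}, β ≠ 1 → ∀ u, α u ≠ 1 → β u = 1 → ∃ q, α q = β q ∧ α q ≠ 1 := by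
    intro α β hβ u h1 h2
    obtain ⟨v, hv⟩ := DFunLike.ne_iff.1 hβ
    obtain ⟨k, hk⟩ := exists_pow_eq (lin_pow hQ α u) (by simpa using h1) (w := (β v / α v : ℂˣ))
      (by rw [Units.val_div_eq_div_val, div_pow, lin_pow hQ, lin_pow hQ, div_one])
    have h3 : α (v * u ^ k) = β v := by
      rw [map_mul, map_pow, show α u ^ k = β v / α v from Units.ext hk, mul_div_cancel]
    exact ⟨v * u ^ k, by simp [h3, h2], h3 ▸ hv⟩
  rcases h with rfl | h
  · exact (DFunLike.ne_iff.1 hα).imp fun q hq => ⟨rfl, hq⟩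
  obtain ⟨u, hu⟩ := not_forall.1 fun h' => h (Subgroup.ext h')
  by_cases h1 : α u = 1
  · obtain ⟨q, h2, h3⟩ := key (α := β) hα u (fun h2 => hu (iff_of_true h1 h2)) h1
    exact ⟨q, h2.symm, h2 ▸ h3⟩
  · exact key hβ u h1 (by_contra fun h2 => hu (iff_of_false h1 h2))

variable {O : ValuationSubring ℂ} {ι : Type*} [Fintype ι] [DecidableEq ι] (A : Q →* Matrix ι ι O)

/-- `F` acts as `c` on the `μ`-eigenspace. -/
def Act (F : Matrix ι ι O) (μ : Q →* ℂˣ) (c : ℂ) : Prop :=
  ∀ v, (∀ q, mrep O.subtype A q v = (μ q : ℂ) • v) → F.map O.subtype *ᵥ v = c • v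

/-- A linear character with values in `O`. -/
noncomputable def lft (O : ValuationSubring ℂ) (μ : Q →* ℂˣ) : Q →* O :=
  ((Units.coeHom ℂ).comp μ).codRestrict O fun q => valuationSubring_mem_of_isIntegral O
    (isIntegral_of_pow_eq_one hp.out.ne_zero (lin_pow hQ μ q))

open Classical in
theorem exists_sep {π : O} (hπ : ∀ z w : O, z ^ p = 1 → w ^ p = 1 → z ≠ w → z - w ∣ π)
    (l : Q →* ℂˣ) (m : ℕ) : ∀ T : Finset (Q →* ℂˣ), l ∉ T → T.card ≤ 2 * m →
      (∀ K, (T.filter fun μ => (μ / l).ker = K).card ≤ m) →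
      ∃ F, Act A F l ((π : ℂ) ^ m) ∧ ∀ μ ∈ T, Act A F μ 0 := by
  have h0 : ∀ m : ℕ, ∃ F, Act A F l ((π : ℂ) ^ m) ∧ ∀ μ ∈ (∅ : Finset _), Act A F μ 0 := fun m =>
    ⟨scalar ι (π ^ m), fun v _ => by ext i; simp [mulVec_diagonal], by simp⟩
  induction m with
  | zero => exact fun T _ h _ => (Finset.card_eq_zero.1 (by omega) : T = ∅) ▸ h0 0
  | succ m ih =>
  intro T hl hT hc
  rcases T.eq_empty_or_nonempty with rfl | hne
  · exact h0 _
  obtain ⟨a, ha, b, hb, h1, h2, h3⟩ := exists_pair _ hne hT hc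
  obtain ⟨F, h4, h5⟩ := ih _ (fun h => hl (Finset.mem_of_mem_erase (Finset.mem_of_mem_erase h)))
    h2 h3
  have e : ∀ a ∈ T, a / l ≠ 1 := fun a ha h => hl ((div_eq_one.1 h : a = l) ▸ ha)
  obtain ⟨q, h6, h7⟩ := exists_q hQ (e a ha) (e b hb) (h1.imp_left (congrArg (· / l)))
  simp only [MonoidHom.div_apply, div_left_inj, ne_eq, div_eq_one] at h6 h7
  obtain ⟨s, hs⟩ := hπ (lft hQ O l q) (lft hQ O a q) (by rw [← map_pow, hQ, map_one])
    (by rw [← map_pow, hQ, map_one]) fun h => h7 (Units.ext (congrArg Subtype.val h).symm)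
  have key : ∀ (μ : Q →* ℂˣ) v, (∀ q, mrep O.subtype A q v = (μ q : ℂ) • v) →
      (F * (scalar ι s * (A q - scalar ι (lft hQ O a q)))).map O.subtype *ᵥ v =
        (s * (μ q - a q) : ℂ) • F.map O.subtype *ᵥ v := fun μ v hv => by
    have := hv q
    rw [mrep_apply] at this
    rw [Matrix.map_mul, Matrix.map_mul, Matrix.map_sub _ (map_sub _), ← mulVec_mulVec,
      ← mulVec_mulVec, sub_mulVec, this, ← mulVec_smul]
    congr 1
    ext i
    simp [mulVec_diagonal, lft, mul_sub, sub_mul, mul_assoc]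
  refine ⟨_, fun v hv => (key l v hv).trans ?_, fun μ hμ v hv => (key μ v hv).trans ?_⟩
  · rw [h4 v hv, smul_smul, pow_succ', show (π : ℂ) = _ from congrArg Subtype.val hs, mul_comm (s : ℂ)]
    rfl
  by_cases h8 : μ = a
  · simp [h8]
  by_cases h9 : μ = b
  · simp [h9, h6]
  rw [h5 μ (by simp [h8, h9, hμ]) v hv]; simp

omit hQ hp in
theorem eq_zero_of_act [Fintype Q] (hc : ∀ a b : Q, a * b = b * a) {F : Matrix ι ι O}
    (h : ∀ μ : Q →* ℂˣ, classInner (mrep O.subtype A).character (fun q => (μ q : ℂ)) ≠ 0 →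
      Act A F μ 0) : F = 0 := by
  refine toLin'_map_injective ((eq_zero_of_irr (mrep O.subtype A) fun W hW _ w hw => ?_).trans
    (by simp))
  by_cases h0 : w = 0
  · simp [h0]
  obtain ⟨μ, h1, h2⟩ := exists_monoidHom_of_stable_line (mrep O.subtype A) h0 fun g => by
    obtain ⟨c, h1⟩ := exists_eq_smul_of_commute (subrepresentation _ W hW)
      (subrepresentation _ W hW g) fun a => by rw [← map_mul, ← map_mul, hc]
    exact ⟨c, congrArg Subtype.val (LinearMap.congr_fun h1 ⟨w, hw⟩)⟩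
  simpa using h μ h2 w h1

end Sep

end Cfsg.Lib.Block.Zh
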