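import Cfsg.Agent.Block.ZhMl
import Cfsg.Agent.Char.LinSylow

/-!
# Irreducible characters of degree at most `p - 2`: Sylow subgroups of order `p`, twisting
-/

set_option autoImplicit false

namespace Cfsg.Lib.Block.Zh

open Cfsg Subgroup Cfsg.Lib.Char Cfsg.Lib.Block.SD
open scoped ComplexConjugate commutatorElement

variable {G : Type*} [Group G] {p : ℕ} {χ θ ζ : G → ℂ} {x y : G} {c : ℂ}

/-- Two `p`-elements do not commute in the representation affording `χ`. -/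
def NC (p : ℕ) (χ : G → ℂ) : Prop :=
  ∃ a b : G, (∃ k, a ^ p ^ k = 1) ∧ (∃ k, b ^ p ^ k = 1) ∧ ⁅a, b⁆ ∉ charKer χ

theorem isPGroup_zpowers {a : G} (ha : ∃ k, a ^ p ^ k = 1) : IsPGroup p (zpowers a) := by
  rintro ⟨_, m, rfl⟩
  exact ha.imp fun k hk => Subtype.ext (by
    rw [coe_pow, ← zpow_natCast, ← zpow_mul, mul_comm, zpow_mul, zpow_natCast, hk, one_zpow]; rfl)

theorem pelt_of_mem {P : Subgroup G} (hP : IsPGroup p P) {a : G} (ha : a ∈ P) :
    ∃ k, a ^ p ^ k = 1 := (hP ⟨a, ha⟩).imp fun _ h => congrArg Subtype.val h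

variable [hp : Fact p.Prime]

theorem mem_of_comm (P : Sylow p G) {a : G} (ha : ∃ k, a ^ p ^ k = 1)
    (h : ∀ b ∈ (P : Subgroup G), b * a = a * b) : a ∈ (P : Subgroup G) := by
  have h3 := (isPGroup_zpowers ha).to_sup_of_normal_right' P.isPGroup'
    (zpowers_le.2 (centralizer_le_normalizer _ h))
  exact P.is_maximal' h3 le_sup_right ▸ mem_sup_left (mem_zpowers _)

theorem exists_order_p {a : G} (ha : ∃ k, a ^ p ^ k = 1) (h1 : a ≠ 1) :
    ∃ k : ℕ, orderOf (a ^ k) = p := by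
  obtain ⟨k, hk⟩ := ha
  obtain ⟨j, -, hj⟩ := (Nat.dvd_prime_pow hp.out).1 (orderOf_dvd_of_pow_eq_one hk)
  obtain _ | j := j
  · exact absurd (orderOf_eq_one_iff.1 hj) h1
  exact ⟨p ^ j, by
    rw [orderOf_pow_of_dvd (pow_ne_zero _ hp.out.ne_zero) (hj ▸ pow_dvd_pow p j.le_succ), hj,
      pow_succ, Nat.mul_div_cancel_left _ (pow_pos hp.out.pos _)]⟩

theorem psi_inj {ψ : AddChar (ZMod p) ℂ} (hψ : ψ ≠ 1) : Function.Injective ψ := fun a b h => by
  have h1 : ψ (a - b) = 1 := by rw [AddChar.map_sub_eq_div, h, div_self (ψ.val_isUnit b).ne_zero]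
  exact sub_eq_zero.1 (((AddChar.IsPrimitive.of_ne_one hψ).zmod_char_eq_one_iff p _).1 h1)

theorem psi_pow (ψ : AddChar (ZMod p) ℂ) (a : ZMod p) : ψ a ^ p = 1 := by
  rw [← AddChar.map_nsmul_eq_pow, nsmul_eq_mul, ZMod.natCast_self, zero_mul,
    AddChar.map_zero_eq_one]

open Classical in
theorem sum_eta (H : Subgroup (ZMod p)ˣ) {ψ : AddChar (ZMod p) ℂ} (hψ : ψ ≠ 1) {m : ℂ}
    (h : ∀ k < p, χ (x ^ k) = m * eta H ψ k) (hc : c ^ p = 1) : ∃ n : ℕ, n ≤ 1 ∧ (c = 1 → n = 0) ∧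
      (p : ℂ)⁻¹ * ∑ k ∈ Finset.range p, χ (x ^ k) * c⁻¹ ^ k = m * n := by
  have := Fintype.ofFinite H
  refine ⟨(Finset.univ.filter fun a : H => ψ (a : (ZMod p)ˣ) = c).card,
    Finset.card_le_one.2 fun a ha b hb => Subtype.ext (Units.ext (psi_inj hψ
      ((Finset.mem_filter.1 ha).2.trans (Finset.mem_filter.1 hb).2.symm))), ?_, ?_⟩
  · rintro rfl
    exact Finset.card_eq_zero.2 (Finset.filter_eq_empty_iff.2 fun a _ h => (a : (ZMod p)ˣ).ne_zero
      (psi_inj hψ (h.trans ψ.map_zero_eq_one.symm)))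
  rw [sum_eq_of_eig (fun _ => m) (fun a : H => ψ (a : (ZMod p)ˣ)) (fun a => psi_pow ψ _)
    (fun k hk => ?_) hc]
  · simp [mul_comm]
  simp only [h k hk, eta_eq, Finset.mul_sum, ← AddChar.map_nsmul_eq_pow, nsmul_eq_mul]

variable [Finite G]

theorem comm_of_deg (hχ : IsCharacter G χ) (hf : charKer χ = ⊥) (hd : charDegree χ < p)
    {P : Subgroup G} (hP : IsPGroup p P) : ∀ a ∈ P, ∀ b ∈ P, a * b = b * a :=
  (sepDeg_of_faithful hχ fun g hg => hf.le (hχ.mem_charKer_iff.2 hg)).comm_subgroup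
    fun q hq h => by
      obtain ⟨n, hn⟩ := IsPGroup.iff_card.1 hP
      rwa [(Nat.prime_dvd_prime_iff_eq hq hp.out).1 (hq.dvd_of_dvd_pow (hn ▸ h))]

theorem NC.not_normal (h : NC p χ) (hχ : IsCharacter G χ) (hf : charKer χ = ⊥)
    (hd : charDegree χ < p) (P : Sylow p G) : ¬ (P : Subgroup G).Normal := fun hn => by
  obtain ⟨a, b, ha, hb, h⟩ := h
  have h1 := (pCl_iff_normal P).2 hn
  exact h ((commutatorElement_eq_one_iff_mul_comm.2 (comm_of_deg hχ hf hd (Solv.pCore_isPGroup p G) a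
    (h1 a ha) b (h1 b hb))).symm ▸ one_mem _)

omit [Finite G] in
theorem nc_of_not_normal (hf : charKer χ = ⊥) (P : Sylow p G)
    (hn : ¬ (P : Subgroup G).Normal) : NC p χ := by
  by_contra h
  refine hn ⟨fun a ha g => ?_⟩
  have h1 : ∃ k, (g * a * g⁻¹) ^ p ^ k = 1 :=
    (pelt_of_mem P.isPGroup' ha).imp fun k hk => by rw [conj_pow, hk, mul_one, mul_inv_cancel]
  refine mem_of_comm P h1 fun b hb => commutatorElement_eq_one_iff_mul_comm.1 (hf.le ?_)
  by_contra h2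
  exact h ⟨_, _, pelt_of_mem P.isPGroup' hb, h1, h2⟩

omit hp in
theorem NC.one_lt (h : NC p θ) (hθ : IsIrrCharacter G θ) : 1 < charDegree θ := by
  obtain ⟨a, b, -, -, h⟩ := h
  by_contra h1
  exact h ((Deg.commutator_le_charKer_iff hθ).2 (by have := Deg.deg_pos hθ; omega)
    (commutator_mem_commutator (mem_top a) (mem_top b)))

omit hp in
theorem exists_constituent [Fintype G] (hχ : IsCharacter G χ) {g : G} (h : g ∉ charKer χ) :
    ∃ θ, IsIrrCharacter G θ ∧ classInner χ θ ≠ 0 ∧ g ∉ charKer θ := by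
  by_contra h1
  push Not at h1
  exact h (hχ.mem_charKer_iff_forall.2 h1)

theorem exists_sylow (hsq : ¬ p ^ 2 ∣ Nat.card G) (hx : orderOf x = p) :
    ∃ P : Sylow p G, zpowers x = P ∧ Nat.card P = p := by
  obtain ⟨P⟩ : Nonempty (Sylow p G) := inferInstance
  have h1 := PS.card_sylow_eq (hx ▸ orderOf_dvd_natCard x) hsq
  obtain ⟨Q, hQ⟩ := PS.exists_sylow_eq P (h1 P) ((Nat.card_zpowers x).trans hx)
  exact ⟨Q, hQ.symm, h1 Q⟩

theorem card_dvd (H : Subgroup (ZMod p)ˣ) : Nat.card H ∣ p - 1 := by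
  have := card_subgroup_dvd_card H
  rwa [Nat.card_eq_fintype_card (α := (ZMod p)ˣ), ZMod.card_units] at this

theorem prime_case (hζ : IsIrrCharacter G ζ) (hf : charKer ζ = ⊥) (hd : charDegree ζ + 2 ≤ p)
    (hsq : ¬ p ^ 2 ∣ Nat.card G) (h : NC p ζ) (hx : orderOf x = p) :
    p ≤ 2 * charDegree ζ + 1 ∧ ∀ c, c ^ p = 1 → ml p ζ x c ≤ 1 := by
  classical
  obtain ⟨P, hz, hP⟩ := exists_sylow hsq hx
  have hf' : ∀ g, ζ g = ζ 1 → g = 1 := fun g hg => hf.le (hζ.mem_charKer_iff.2 hg)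
  have hx1 : x ≠ 1 := fun h => hp.out.ne_one (by rw [← hx, h, orderOf_one])
  have hxp : x ^ p = 1 := hx ▸ pow_orderOf_eq_one x
  have hd' := Deg.apply_one_eq hζ.isCharacter
  obtain ⟨H, ψ, hψ, hH, -, h1⟩ := small_degree P hz hx ⟨ζ, hζ⟩ hd' hd fun h => hx1 (hf' x h)
  have hd1 := h.one_lt hζ
  rcases h1 with ⟨m, hm, h1⟩ | ⟨h1, h2, -⟩
  · have h2 : Nat.card H ≤ charDegree ζ := hm ▸ Nat.le_mul_of_pos_left _ (by
      rcases m with _ | m <;> omega)
    have h3 := Lat.two_mul_le_of_dvd (card_dvd H) (by omega)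
    have h4 := Lat.le_of_val hz hP (h.not_normal hζ.isCharacter hf (by omega) P) hζ hf' hd hψ h1
      (by omega)
    rw [← hz, ← hH] at h4
    refine ⟨by omega, fun c hc => ?_⟩
    obtain rfl : m = 1 := by
      rcases m with _ | _ | m
      · omega
      · rfl
      · rw [add_mul, add_mul] at hm; omega
    obtain ⟨n, h5, -, h6⟩ := sum_eta H hψ (χ := ζ) (fun k _ => xp_natCast hx k ▸ h1 k) hc
    rw [← cast_ml hζ.isCharacter hxp hc, Nat.cast_one, one_mul, Nat.cast_inj] at h6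
    omega
  have h3 := Lat.two_mul_le_of_dvd (card_dvd H) (by omega)
  refine ⟨by omega, fun c hc => ?_⟩
  obtain ⟨n, -, -, h6⟩ := sum_eta H hψ (x := x) (m := 1)
    (χ := fun g => (if g = 1 then (p : ℂ) else 0) - ζ g) (fun k hk => by
      rcases Nat.eq_zero_or_pos k with rfl | hk0
      · rw [pow_zero, if_pos rfl, hd', Nat.cast_zero, eta_zero, one_mul, sub_eq_iff_eq_add']
        exact_mod_cast h1.symm
      rw [if_neg (pow_ne_one_of_lt_orderOf hk0.ne' (hx ▸ hk)), ← xp_natCast hx]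
      have := h2 k fun h => absurd (Nat.le_of_dvd hk0 ((ZMod.natCast_eq_zero_iff _ _).1 h)) hk.not_ge
      rw [show ζ (xp x (k : ZMod p)) = _ from this]; ring) hc
  simp only [sub_mul, Finset.sum_sub_distrib, mul_sub, ← cast_ml hζ.isCharacter hxp hc] at h6
  rw [Finset.sum_eq_single 0 (fun k hk hk0 => by
    rw [if_neg (pow_ne_one_of_lt_orderOf hk0 (hx ▸ Finset.mem_range.1 hk)), zero_mul])
    (fun h => absurd (Finset.mem_range.2 hp.out.pos) h), pow_zero, if_pos rfl, pow_zero, mul_one,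
    inv_mul_cancel₀ (Nat.cast_ne_zero.2 hp.out.ne_zero), one_mul, sub_eq_iff_eq_add] at h6
  have : 1 = n + ml p ζ x c := by exact_mod_cast h6
  omega

theorem half_case (hθ : IsIrrCharacter G θ) (hd : 2 * charDegree θ + 1 = p) (h1 : 1 < charDegree θ)
    (hsq : ¬ p ^ 2 ∣ Nat.card G) (hx : orderOf x = p) (hZ : x ∉ charCenter θ) :
    ml p θ x 1 = 0 ∧ ∃ k : ℕ, (k : ZMod p) ≠ 1 ∧ IsConj x (x ^ k) := by
  obtain ⟨P, hz, hP⟩ := exists_sylow hsq hx
  have hxp : x ^ p = 1 := hx ▸ pow_orderOf_eq_one x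
  have hd' := Deg.apply_one_eq hθ.isCharacter
  obtain ⟨H, ψ, hψ, -, hc, h2⟩ := small_degree P hz hx ⟨θ, hθ⟩ hd' (by omega)
    fun h => hZ (charKer_le_charCenter (hθ.mem_charKer_iff.2 h))
  rcases h2 with ⟨m, hm, h2⟩ | ⟨h2, -⟩
  · refine ⟨?_, ?_⟩
    · obtain ⟨n, -, h3, h4⟩ := sum_eta H hψ (χ := θ) (fun k _ => xp_natCast hx k ▸ h2 k) (one_pow p)
      rwa [← cast_ml hθ.isCharacter hxp (one_pow p), h3 rfl, Nat.cast_zero, mul_zero,
        Nat.cast_eq_zero] at h4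
    by_contra h3
    push Not at h3
    obtain rfl : H = ⊥ := eq_bot_iff.2 fun a ha => Units.ext (by
      by_contra h4
      have := hc a ha 1
      rw [xp_one hx, one_mul] at this
      exact h3 _ (by simpa using h4) this)
    have h4 := h2 1
    rw [xp_one hx, eta_eq, Fintype.sum_unique] at h4
    refine hZ (hθ.mem_charCenter_iff.2 ?_)
    rw [show θ x = _ from h4, hd', hm, norm_mul,
      norm_eq_one_of_pow_eq_one' hp.out.ne_zero (psi_pow ψ _)]
    simp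
  have := Lat.two_mul_le_of_dvd (card_dvd H) (by omega)
  omega

/-- Twisting by a power of the determinant kills the central `p`-elements. -/
theorem exists_tw (hθ : IsIrrCharacter G θ) (hd : charDegree θ < p) : ∃ κ : G →* ℂˣ,
    (∃ k, ∀ g, κ g ^ p ^ k = 1) ∧ ∀ z ∈ charCenter θ, (∃ k, z ^ p ^ k = 1) →
      z ∈ charKer (θ * fun g => (κ g : ℂ)) := by
  obtain ⟨a, m, hm, hG⟩ := Nat.exists_eq_pow_mul_and_not_dvd (Nat.card_pos (α := G)).ne' p
    hp.out.ne_one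
  have h3 : (charDegree θ * m).Coprime (p ^ (a + 1)) := (Nat.Coprime.mul_left
    (Nat.coprime_of_lt_prime (Deg.deg_pos hθ).ne' hd hp.out).symm
    (hp.out.coprime_iff_not_dvd.2 hm).symm).pow_right _
  obtain ⟨s, -, hs⟩ := Nat.exists_mul_mod_eq_one_of_coprime h3
    (Nat.one_lt_pow a.succ_ne_zero hp.out.one_lt)
  refine ⟨(detHom θ ^ (m * s))⁻¹, ⟨a, fun g => ?_⟩, fun z ⟨c, hc⟩ ⟨k, hk⟩ g => ?_⟩
  · rw [MonoidHom.inv_apply, MonoidHom.pow_apply, inv_pow, ← pow_mul, mul_assoc, mul_comm s,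
      ← mul_assoc, mul_comm m, ← hG, pow_mul, ← map_pow, pow_card_eq_one', map_one, one_pow, inv_one]
  have h1 : detHom θ z = c ^ charDegree θ := Units.ext (by
    simpa using detChar_of_forall_mul_eq hθ.isCharacter (Deg.apply_one_eq hθ.isCharacter) hc)
  have h2 : ∀ k : ℕ, θ (z ^ k) = c ^ k * θ 1 := fun k => by
    induction k with
    | zero => simp
    | succ k ih => rw [pow_succ', hc, ih, pow_succ', mul_assoc]
  have h4 : z ^ p ^ (a + 1) = 1 := by
    obtain ⟨j, -, hj⟩ := (Nat.dvd_prime_pow hp.out).1 (orderOf_dvd_of_pow_eq_one hk)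
    refine orderOf_dvd_iff_pow_eq_one.1 (hj ▸ (Nat.Coprime.dvd_of_dvd_mul_right
      ((hp.out.coprime_iff_not_dvd.2 hm).pow_left j) ?_).trans (pow_dvd_pow p a.le_succ))
    exact hG ▸ hj ▸ orderOf_dvd_natCard z
  have h5 : c ^ p ^ (a + 1) = 1 := Units.ext (by
    have := h2 (p ^ (a + 1))
    rw [h4] at this
    simpa using (mul_eq_right₀ hθ.apply_one_ne_zero).1 this.symm)
  have h6 : (detHom θ ^ (m * s)) z = c := by
    rw [MonoidHom.pow_apply, h1, ← pow_mul, ← mul_assoc, pow_eq_pow_mod _ h5, hs, pow_one]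
  simp only [Pi.mul_apply, hc, map_mul, MonoidHom.inv_apply, h6, mul_inv, Units.val_mul]
  rw [mul_mul_mul_comm, Units.mul_inv, one_mul]

end Cfsg.Lib.Block.Zh
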